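import Groth.Agent.L08.ProfiniteImage
import Groth.Agent.L19.Limit.MaxPoints
import Groth.Agent.L25.Component
import Groth.Agent.L25.Actions
import Mathlib.AlgebraicGeometry.AlgClosed.Basic
import Mathlib.AlgebraicGeometry.Noetherian

/-!
# Surjective orbit maps pull dense opens back to dense opens
-/

set_option autoImplicit false
set_option backward.isDefEq.respectTransparency.types false

universe u

open CategoryTheory CategoryTheory.Limits AlgebraicGeometry MonoidalCategory MonObj CartesianMonoidalCategory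

noncomputable section

namespace Groth.L08.OrbitDense

open Groth.L19.Limit

/-- Maximal points of a locally Noetherian scheme lie in every dense open. -/
theorem isMaxPt_mem {X : Scheme.{u}} [IsLocallyNoetherian X] {U : Set X} (hU : IsOpen U) (hd : Dense U) {m : X}
    (hm : IsMaxPt m) : m ∈ U := by
  obtain ⟨_, ⟨V, hV, rfl⟩, hmV, -⟩ := X.isBasis_affineOpens.exists_subset_of_mem_open (Set.mem_univ m) isOpen_univ
  haveI : IsAffine (Scheme.Opens.toScheme V) := hV
  haveI : IsLocallyNoetherian (Scheme.Opens.toScheme V) := isLocallyNoetherian_of_isOpenImmersion (Scheme.Opens.ι V)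
  haveI : IsNoetherian (Scheme.Opens.toScheme V) := { }
  haveI : TopologicalSpace.NoetherianSpace (Scheme.Opens.toScheme V) := inferInstance
  have hfin : {x : (Scheme.Opens.toScheme V) | IsMaxPt x}.Finite := by
    refine Set.Finite.of_finite_image (f := fun x => closure {x}) ?_ ?_
    · refine TopologicalSpace.NoetherianSpace.finite_irreducibleComponents.subset ?_
      rintro _ ⟨x, hx, rfl⟩
      refine ⟨isIrreducible_singleton.closure, fun W hW hle => ?_⟩
      have hg := hW.isGenericPoint_genericPoint_closure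
      have e : hW.genericPoint = x := hx _ (hg.specializes (subset_closure (hle (subset_closure rfl))))
      intro w hw
      exact e ▸ (hg.specializes (subset_closure hw)).mem_closure
    · intro x _ y _ hxy
      exact (inseparable_iff_closure_eq.mpr hxy).eq
  obtain ⟨m', rfl⟩ : m ∈ Set.range (Scheme.Opens.ι V) := by rw [Scheme.Opens.range_ι]; exact hmV
  refine isMaxPt_mem_of_dense hfin (hU.preimage (Scheme.Opens.ι V).continuous)
    (hd.preimage (Scheme.Opens.ι V).isOpenEmbedding.isOpenMap) (fun z hz => ?_)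
  exact (Scheme.Opens.ι V).isOpenEmbedding.injective (hm _ (hz.map (Scheme.Opens.ι V).continuous))

variable {K : Type u} [Field K] [IsAlgClosed K] {G X : Over (Spec (CommRingCat.of K))} [GrpObj G]
  [LocallyOfFiniteType G.hom] [LocallyOfFiniteType X.hom]

/-- A rational translation maps one maximal point to any other. -/
theorem exists_translate {ξ ξ' : G.left} (hξ : IsMaxPt ξ) (hξ' : IsMaxPt ξ') :
    ∃ h : 𝟙_ (Over (Spec (CommRingCat.of K))) ⟶ G, (ProfiniteImage.lt h).left ξ = ξ' := by
  haveI := LocallyOfFiniteType.jacobsonSpace G.hom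
  have hrat : ∀ g : G.left, IsClosed ({g} : Set G.left) →
      ∃ s : 𝟙_ (Over (Spec (CommRingCat.of K))) ⟶ G, ProfiniteImage.pt s = g := fun g hg =>
    ⟨Over.homMk _ ((pointEquivClosedPoint G.hom).symm ⟨g, hg⟩).2,
      congrArg Subtype.val ((pointEquivClosedPoint G.hom).apply_symm_apply ⟨g, hg⟩)⟩
  obtain ⟨c, hcξ, hc⟩ := nonempty_inter_closedPoints (Z := closure ({ξ} : Set G.left)) ⟨ξ, subset_closure rfl⟩
    isClosed_closure.isLocallyClosed
  obtain ⟨c', hcξ', hc'⟩ := nonempty_inter_closedPoints (Z := closure ({ξ'} : Set G.left)) ⟨ξ', subset_closure rfl⟩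
    isClosed_closure.isLocallyClosed
  obtain ⟨s, rfl⟩ := hrat c hc
  obtain ⟨s', rfl⟩ := hrat c' hc'
  refine ⟨s' * s⁻¹, ?_⟩
  let φ := (ProfiniteImage.lt (s' * s⁻¹)).left
  have hmax : IsMaxPt (φ ξ) := fun z hz => by
    obtain ⟨z', rfl⟩ := φ.homeomorph.surjective z
    have h' : φ.homeomorph z' ⤳ φ.homeomorph ξ := hz
    exact congrArg φ (hξ z' (φ.homeomorph.isEmbedding.isInducing.specializes_iff.mp h'))
  have hsp : φ ξ ⤳ ProfiniteImage.pt s' := by
    have h' := (specializes_iff_mem_closure.mpr hcξ).map φ.continuous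
    rwa [ProfiniteImage.pt_lt, inv_mul_cancel_right] at h'
  have hcomp : ∀ {y : G.left}, IsMaxPt y → closure {y} ∈ irreducibleComponents ↥G.left := fun {y} hy =>
    ⟨isIrreducible_singleton.closure, fun W hW hle w hw => by
      have hg := hW.isGenericPoint_genericPoint_closure
      have e : hW.genericPoint = y := hy _ (hg.specializes (subset_closure (hle (subset_closure rfl))))
      exact e ▸ (hg.specializes (subset_closure hw)).mem_closure⟩
  exact (inseparable_iff_closure_eq.mpr (Groth.L25.Component.uniqueComp G _ _ (hcomp hmax) _ (hcomp hξ')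
    hsp.mem_closure hcξ')).eq

/-- A surjective orbit map pulls dense opens back to dense sets. -/
theorem dense_preimage (a : AlgGrp.Action G X) (x : 𝟙_ (Over (Spec (CommRingCat.of K))) ⟶ X)
    (hsur : Surjective (a.orbitMap x).left) {U : Set X.left} (hU : IsOpen U) (hd : Dense U) :
    Dense ((a.orbitMap x).left ⁻¹' U) := by
  let o := (a.orbitMap x).left
  haveI : IsLocallyNoetherian X.left := LocallyOfFiniteType.isLocallyNoetherian X.hom
  obtain ⟨m₀, hm₀, -⟩ := exists_isMaxPt_specializes (x.left (IsLocalRing.closedPoint K) : X.left)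
  obtain ⟨ξ₁, hξ₁⟩ := hsur.surj m₀
  obtain ⟨ξ₀, hξ₀, hsp⟩ := exists_isMaxPt_specializes ξ₁
  have hoξ₀ : o ξ₀ = m₀ := hm₀ _ (hξ₁ ▸ hsp.map o.continuous)
  refine dense_of_isMaxPt_mem fun ξ' hξ' => ?_
  obtain ⟨h, hh⟩ := exists_translate hξ₀ hξ'
  let A : ∀ (h : 𝟙_ (Over (Spec (CommRingCat.of K))) ⟶ G), X ⟶ X := fun h => lift (toUnit X ≫ h) (𝟙 X) ≫ a.act
  have key : ∀ {T : Over (Spec (CommRingCat.of K))} (y : T ⟶ X) (h : 𝟙_ (Over (Spec (CommRingCat.of K))) ⟶ G),
      y ≫ A h = lift (toUnit T ≫ h) y ≫ a.act := fun y h => by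
    simp only [A, comp_lift_assoc, Category.comp_id]
    rw [← Category.assoc y (toUnit X) h, toUnit_unique (y ≫ toUnit X) (toUnit _)]
  have hinv : ∀ h, A h ≫ A h⁻¹ = 𝟙 X := fun h => by
    rw [key, GrpObj.comp_inv]
    exact Groth.L25.Actions.inv_act a _ _
  haveI : IsIso (A h).left := ⟨(A h⁻¹).left, by rw [← Over.comp_left, hinv]; rfl,
    by rw [← Over.comp_left]; nth_rw 2 [← inv_inv h]; rw [hinv]; rfl⟩
  have e : ProfiniteImage.lt h ≫ a.orbitMap x = a.orbitMap x ≫ A h := by
    rw [key]
    simp only [AlgGrp.Action.orbitMap, comp_lift_assoc, Category.comp_id]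
    rw [← Category.assoc _ (toUnit G) x, toUnit_unique (ProfiniteImage.lt h ≫ toUnit G) (toUnit G), ProfiniteImage.lt]
    exact Groth.L25.Actions.mul_act a _ _ _
  have e' : o ξ' = (A h).left m₀ := by
    rw [← hh, ← hoξ₀]
    exact congr(($e).left ξ₀)
  show o ξ' ∈ U
  rw [e']
  refine isMaxPt_mem hU hd fun z hz => ?_
  obtain ⟨z', rfl⟩ := (A h).left.homeomorph.surjective z
  have h' : (A h).left.homeomorph z' ⤳ (A h).left.homeomorph m₀ := hz
  exact congrArg (A h).left (hm₀ z' ((A h).left.homeomorph.isEmbedding.isInducing.specializes_iff.mp h'))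

end Groth.L08.OrbitDense
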