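import Groth.Agent.L08.ActSep
import Groth.Agent.L08.OrbitDense
import Groth.Prelude.Def_ActBC

/-!
# Transitive actions: separatedness from separated opens dense in the fibres
-/

set_option autoImplicit false
set_option backward.isDefEq.respectTransparency.types false

universe u

open CategoryTheory CategoryTheory.Limits AlgebraicGeometry MonoidalCategory MonObj CartesianMonoidalCategory

noncomputable section

namespace Groth.L08.ActSep

variable {S : Scheme.{u}}

theorem he_fst {S' : Scheme.{u}} (t : S' ⟶ S) {T : Over S'} {X : Over S} (v : (Over.map t).obj T ⟶ X) :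
    ((Over.mapPullbackAdj t).homEquiv T X v).left ≫ pullback.fst X.hom t = v.left :=
  by
    simp [Adjunction.homEquiv_unit]
    rw [pullback.lift_fst, pullback.lift_fst_assoc]
    exact Category.id_comp _

theorem he_apply {S' : Scheme.{u}} (t : S' ⟶ S) {T : Over S'} {X : Over S} (v : (Over.map t).obj T ⟶ X)
    (c : T.left) : pullback.fst X.hom t (((Over.mapPullbackAdj t).homEquiv T X v).left c) = v.left c :=
  congr(($(he_fst t v)) c)

/-- Orbit maps of a transitive action are surjective over every field-valued point. -/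
theorem surjective_orbitMap {G X : Over S} [GrpObj G] (a : AlgGrp.Action G X)
    (hΦ : Surjective (lift a.act (snd G X)).left) {K : Type u} [Field K] (t : Spec (CommRingCat.of K) ⟶ S)
    (x : 𝟙_ (Over (Spec (CommRingCat.of K))) ⟶ Red.bc t X) : Surjective ((a.bc t).orbitMap x).left := by
  refine ⟨fun p => ?_⟩
  let T₂ := ptObj (Red.bc t X) p
  let y : T₂ ⟶ Red.bc t X := ptMor (Red.bc t X) p
  haveI : Subsingleton T₂.left := inferInstanceAs (Subsingleton (PrimeSpectrum _))
  let c₂ : T₂.left := IsLocalRing.closedPoint ((Red.bc t X).left.residueField p)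
  let eq := fun (T : Over (Spec (CommRingCat.of K))) => (Over.mapPullbackAdj t).homEquiv T X
  let y₀ : (Over.map t).obj T₂ ⟶ X := (eq T₂).symm y
  let x₀ : (Over.map t).obj T₂ ⟶ X := (eq T₂).symm (toUnit T₂ ≫ x)
  let z : (Over.map t).obj T₂ ⟶ X ⊗ X := lift y₀ x₀
  obtain ⟨w, hw⟩ := hΦ.surj (z.left c₂)
  obtain ⟨v, hv₁, hv₂⟩ := Scheme.Pullback.exists_preimage_pullback w c₂ hw
  let T₃ : Over S := ptObj (Over.mk (pullback.snd (lift a.act (snd G X)).left z.left ≫ ((Over.map t).obj T₂).hom)) v
  let r : T₃ ⟶ (Over.map t).obj T₂ :=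
    Over.homMk ((pullback (lift a.act (snd G X)).left z.left).fromSpecResidueField v ≫ pullback.snd _ _) (Category.assoc _ _ _)
  let l : T₃ ⟶ G ⊗ X :=
    Over.homMk ((pullback (lift a.act (snd G X)).left z.left).fromSpecResidueField v ≫ pullback.fst _ _) (by
      show (_ ≫ _) ≫ _ = _ ≫ _ ≫ _
      rw [Category.assoc, ← Over.w (lift a.act (snd G X)), pullback.condition_assoc, Over.w z]
      rfl)
  have hlr : l ≫ lift a.act (snd G X) = r ≫ z := Over.OverMorphism.ext (by
    simp only [l, r, Over.comp_left, Over.homMk_left, Category.assoc, pullback.condition])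
  let T₃' : Over (Spec (CommRingCat.of K)) := Over.mk (r.left ≫ T₂.hom)
  have hT₃ : r.left ≫ ((Over.map t).obj T₂).hom = T₃.hom := Over.w r
  let r' : T₃' ⟶ T₂ := Over.homMk r.left
  let j : (Over.map t).obj T₃' ⟶ T₃ := Over.homMk (𝟙 _) (by
    show 𝟙 _ ≫ T₃.hom = (r.left ≫ T₂.hom) ≫ t
    rw [Category.id_comp, ← hT₃, Category.assoc]; rfl)
  have hj : j ≫ r = (Over.map t).map r' := Over.OverMorphism.ext (Category.id_comp _)
  have e1 : j ≫ l ≫ a.act = (Over.map t).map r' ≫ y₀ := by
    have h' := congrArg (fun f => j ≫ f ≫ fst X X) hlr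
    simp only [z, Category.assoc, lift_fst] at h'
    rw [h', ← Category.assoc, hj]
  have e2 : j ≫ l ≫ snd G X = (Over.map t).map r' ≫ x₀ := by
    have h' := congrArg (fun f => j ≫ f ≫ snd X X) hlr
    simp only [z, Category.assoc, lift_snd] at h'
    rw [h', ← Category.assoc, hj]
  let γ : T₃' ⟶ Red.bc t G := (Over.mapPullbackAdj t).homEquiv T₃' G (j ≫ l ≫ fst G X)
  have hγ : γ ≫ (a.bc t).orbitMap x = r' ≫ y := by
    rw [AlgGrp.Action.orbitMap, comp_lift_assoc, Category.comp_id, ← Category.assoc, toUnit_unique (γ ≫ toUnit _) (r' ≫ toUnit T₂)]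
    rw [show (r' ≫ toUnit T₂) ≫ x = (Over.mapPullbackAdj t).homEquiv T₃' X ((Over.map t).map r' ≫ x₀) by
      rw [Adjunction.homEquiv_naturality_left, Equiv.apply_symm_apply, Category.assoc]]
    rw [AlgGrp.Action.lift_homEquiv_bc_act, ← e2]
    have e : lift (j ≫ l ≫ fst G X) (j ≫ l ≫ snd G X) = j ≫ l := by
      apply CartesianMonoidalCategory.hom_ext <;> simp
    rw [e, Category.assoc, e1, Adjunction.homEquiv_naturality_left, Equiv.apply_symm_apply]
  let c₃ : T₃'.left := IsLocalRing.closedPoint ((pullback (lift a.act (snd G X)).left z.left).residueField v)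
  refine ⟨γ.left c₃, ?_⟩
  rw [← comp_apply, hγ, comp_apply, ptMor_apply]

/-- A transitive action of an lfp group, universally open near the unit, on a scheme with separated opens dense in
all fibres: the scheme is separated. -/
theorem isSeparated_of_dense {G X : Over S} [GrpObj G] [LocallyOfFinitePresentation G.hom] (W : G.left.Opens)
    (hW : ∀ p : ↥(𝟙_ (Over S)).left, η[G].left p ∈ W) [UniversallyOpen (W.ι ≫ G.hom)]
    (a : AlgGrp.Action G X) (hΦ : Surjective (lift a.act (snd G X)).left)
    (hft : ∀ s : S, LocallyOfFiniteType (X.hom.fiberToSpecResidueField s))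
    (hU : ∀ s : S, (X.hom ⁻¹' {s}).Nonempty → ∃ U : X.left.Opens, IsSeparated (U.ι ≫ X.hom) ∧
      X.hom ⁻¹' {s} ⊆ closure ((U : Set X.left) ∩ X.hom ⁻¹' {s})) :
    IsSeparated X.hom := by
  refine isSeparated_of_translate a W fun T _ x₁ x₂ c => ?_
  let s := T.hom c
  have hne : (X.hom ⁻¹' {s}).Nonempty := ⟨x₁.left c, congr(($(Over.w x₁)) c)⟩
  obtain ⟨U, hUsep, hUd⟩ := hU s hne
  let K := AlgebraicClosure (T.left.residueField c)
  let qm : Spec (CommRingCat.of K) ⟶ T.left :=
    Spec.map (CommRingCat.ofHom (algebraMap (T.left.residueField c) K)) ≫ T.left.fromSpecResidueField c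
  let t : Spec (CommRingCat.of K) ⟶ S := qm ≫ T.hom
  let T' : Over S := (Over.map t).obj (𝟙_ (Over (Spec (CommRingCat.of K))))
  let q : T' ⟶ T := Over.homMk qm (by show qm ≫ T.hom = 𝟙 _ ≫ t; rw [Category.id_comp])
  let c' : T'.left := IsLocalRing.closedPoint K
  have hqc : q.left c' = c := Scheme.fromSpecResidueField_apply c _
  haveI : Subsingleton T'.left := inferInstanceAs (Subsingleton (PrimeSpectrum K))
  haveI : IsReduced T'.left := inferInstanceAs (IsReduced (Spec (CommRingCat.of K)))
  let GK : Over (Spec (CommRingCat.of K)) := Red.bc t G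
  let XK : Over (Spec (CommRingCat.of K)) := Red.bc t X
  letI : GrpObj GK := inferInstanceAs (GrpObj (Red.bc t G))
  haveI : LocallyOfFiniteType GK.hom := inferInstanceAs (LocallyOfFiniteType (pullback.snd G.hom t))
  -- `t` factors through the residue field of `s`
  let ψ : Spec (CommRingCat.of K) ⟶ Spec (S.residueField s) :=
    Spec.map (CommRingCat.ofHom (algebraMap (T.left.residueField c) K)) ≫ Spec.map (T.hom.residueFieldMap c)
  have hψ : ψ ≫ S.fromSpecResidueField s = t := by
    simp only [ψ, t, qm, s, Category.assoc, Scheme.Hom.SpecMap_residueFieldMap_fromSpecResidueField]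
  have hsq : IsPullback (pullback.map X.hom t X.hom (S.fromSpecResidueField s) (𝟙 _) ψ (𝟙 _) (by simp) (by simp [hψ]))
      (pullback.snd X.hom t) (X.hom.fiberToSpecResidueField s) ψ := by
    refine .of_right (h₁₂ := pullback.fst _ _) ?_ ?_ (IsPullback.of_hasPullback X.hom (S.fromSpecResidueField s))
    · rw [pullback.lift_fst, Category.comp_id, hψ]; exact IsPullback.of_hasPullback X.hom t
    · exact pullback.lift_snd _ _ _
  haveI : LocallyOfFiniteType XK.hom := MorphismProperty.of_isPullback hsq (hft s)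
  let φ := pullback.map X.hom t X.hom (S.fromSpecResidueField s) (𝟙 _) ψ (𝟙 _) (by simp) (by simp [hψ])
  haveI : UniversallyOpen ψ := inferInstance
  haveI : UniversallyOpen φ := MorphismProperty.of_isPullback hsq.flip ‹UniversallyOpen ψ›
  let UK : Set XK.left := pullback.fst X.hom t ⁻¹' (U : Set X.left)
  have hUKo : IsOpen UK := U.2.preimage (pullback.fst X.hom t).continuous
  have hUKd : Dense UK := by
    let ιF := pullback.fst X.hom (S.fromSpecResidueField s)
    have hd : Dense (ιF ⁻¹' (U : Set X.left)) := by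
      intro w
      rw [ιF.isEmbedding.isInducing.closure_eq_preimage_closure_image, Set.mem_preimage, Set.image_preimage_eq_inter_range,
        Scheme.Pullback.range_fst, Scheme.range_fromSpecResidueField]
      refine hUd ?_
      show X.hom (ιF w) = s
      exact (congr(($(pullback.condition (f := X.hom) (g := S.fromSpecResidueField s))) w)).trans (Scheme.fromSpecResidueField_apply s _)
    have he : UK = φ ⁻¹' (ιF ⁻¹' (U : Set X.left)) := by
      ext w
      show pullback.fst X.hom t w ∈ U ↔ (φ ≫ ιF) w ∈ U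
      rw [show φ ≫ ιF = pullback.fst X.hom t from (pullback.lift_fst _ _ _).trans (Category.comp_id _)]
    rw [he]
    exact hd.preimage φ.isOpenMap
  let eG := (Over.mapPullbackAdj t).homEquiv (𝟙_ (Over (Spec (CommRingCat.of K)))) G
  let eX := (Over.mapPullbackAdj t).homEquiv (𝟙_ (Over (Spec (CommRingCat.of K)))) X
  let WK : Set GK.left := pullback.fst G.hom t ⁻¹' (W : Set G.left)
  have hWKne : WK.Nonempty := by
    refine ⟨(eG 1).left c', ?_⟩
    show pullback.fst G.hom t ((eG 1).left c') ∈ W
    rw [he_apply]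
    exact hW _
  have hd₁ := OrbitDense.dense_preimage (a.bc t) (eX (q ≫ x₁)) (surjective_orbitMap a hΦ t _) hUKo hUKd
  have hd₂ := OrbitDense.dense_preimage (a.bc t) (eX (q ≫ x₂)) (surjective_orbitMap a hΦ t _) hUKo hUKd
  have ho₁ := hUKo.preimage ((a.bc t).orbitMap (eX (q ≫ x₁))).left.continuous
  have ho₂ := hUKo.preimage ((a.bc t).orbitMap (eX (q ≫ x₂))).left.continuous
  have hne' := (hd₁.inter_of_isOpen_left hd₂ ho₁).inter_open_nonempty WK (W.2.preimage (pullback.fst G.hom t).continuous) hWKne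
  haveI := LocallyOfFiniteType.jacobsonSpace GK.hom
  obtain ⟨g₀, ⟨hgW, hg₁, hg₂⟩, hg₀⟩ := nonempty_inter_closedPoints hne'
    (((W.2.preimage (pullback.fst G.hom t).continuous).inter (ho₁.inter ho₂)).isLocallyClosed)
  let sg : 𝟙_ (Over (Spec (CommRingCat.of K))) ⟶ GK :=
    Over.homMk _ ((pointEquivClosedPoint GK.hom).symm ⟨g₀, hg₀⟩).2
  have hsg : sg.left c' = g₀ :=
    congrArg Subtype.val ((pointEquivClosedPoint GK.hom).apply_symm_apply ⟨g₀, hg₀⟩)
  let γ : T' ⟶ G := eG.symm sg
  have hγ : eG γ = sg := eG.apply_symm_apply sg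
  have key : ∀ x : T' ⟶ X, ((a.bc t).orbitMap (eX x)).left g₀ ∈ UK → (lift γ x ≫ a.act).left c' ∈ U := by
    intro x hx
    rw [← hsg, ← comp_apply, AlgGrp.Action.orbitMap, comp_lift_assoc, Category.comp_id, ← Category.assoc,
      toUnit_unique (sg ≫ toUnit _) (𝟙 _), Category.id_comp, ← hγ, AlgGrp.Action.lift_homEquiv_bc_act] at hx
    rw [← he_apply t (lift γ x ≫ a.act) c']
    exact hx
  refine ⟨T', inferInstance, inferInstance, q, c', γ, U, hUsep, ?_, hqc, key _ hg₁, key _ hg₂⟩
  rw [← he_apply t γ c']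
  show pullback.fst G.hom t ((eG γ).left c') ∈ W
  rw [hγ, hsg]
  exact hgW

end Groth.L08.ActSep
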