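import Groth.Agent.L08.IsogenyFibres
import Groth.Prelude.Def_AlgGrp
import Mathlib.AlgebraicGeometry.Geometrically.Reduced
import Mathlib.AlgebraicGeometry.Morphisms.LocalFlatDescent

/-!
# Flat and smooth homomorphisms of group schemes
-/

set_option autoImplicit false
set_option backward.isDefEq.respectTransparency.types false

universe u

open CategoryTheory CategoryTheory.Limits AlgebraicGeometry MonoidalCategory MonObj CartesianMonoidalCategory
open scoped CategoryTheory.Obj

noncomputable section

namespace Groth.L08.FlatHom

open Groth.L08.IsogenyFibres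

theorem flat_of_surjective {k : Type u} [Field k] (G H : Over (Spec (CommRingCat.of k)))
    [GrpObj G] [GrpObj H] [IsReduced H.left] (φ : G ⟶ H) [IsMonHom φ] [Surjective φ.left] : Flat φ.left := by
  obtain ⟨Z, hZ, -⟩ := exists_mem_irreducibleComponents_subset_of_isIrreducible {Groth.L25.Component.one H}
    isIrreducible_singleton
  obtain ⟨ξ, -, hξ⟩ := Groth.L25.Component.maximal_of_mem_irreducibleComponents hZ
  obtain ⟨g, rfl⟩ := φ.left.surjective ξ
  exact Groth.L25.Translate.flat_of_maximal_mem φ g hξ

theorem smooth_iff_kernel {k : Type u} [Field k] (G H N : Over (Spec (CommRingCat.of k)))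
    [GrpObj G] [GrpObj H] [QuasiCompact G.hom] [LocallyOfFiniteType H.hom] [IsReduced H.left]
    (φ : G ⟶ H) [IsMonHom φ] [Surjective φ.left] (i : N ⟶ G) (hN : IsPullback i (toUnit N) φ η[H]) :
    Smooth φ.left ↔ Smooth N.hom := by
  haveI : Flat φ.left := flat_of_surjective G H φ
  haveI : QuasiCompact (φ.left ≫ H.hom) := (Over.w φ).symm ▸ ‹QuasiCompact G.hom›
  haveI : IsLocallyNoetherian H.left := LocallyOfFiniteType.isLocallyNoetherian H.hom
  haveI : QuasiSeparated H.hom := (HasAffineProperty.iff_of_isAffine (P := @QuasiSeparated)).2 inferInstance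
  haveI : QuasiCompact φ.left := QuasiCompact.of_comp φ.left H.hom
  constructor
  · intro h
    have hNl := hN.map (Over.forget _)
    haveI : IsIso (𝟙_ (Over (Spec (CommRingCat.of k)))).hom := inferInstanceAs (IsIso (𝟙 _))
    rw [← Over.w (toUnit N)]
    exact (MorphismProperty.cancel_right_of_respectsIso @Smooth _ (𝟙_ (Over (Spec (CommRingCat.of k)))).hom).2
      (MorphismProperty.of_isPullback hNl h)
  · intro h
    have h2 := (Groth.L15.KerFlat.isPullback_kernelPair hN).map (Over.forget _)
    have h3 : Smooth (fst G N).left := MorphismProperty.pullback_fst G.hom N.hom h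
    exact MorphismProperty.of_isPullback_of_descendsAlong (P := @Smooth)
      (Q := @Surjective ⊓ @Flat ⊓ @QuasiCompact) h2
      ⟨⟨‹Surjective φ.left›, ‹Flat φ.left›⟩, ‹QuasiCompact φ.left›⟩ h3

theorem flat_of_surjective_fibres {S : Scheme.{u}} (G H : Over S) [GrpObj G] [GrpObj H]
    [LocallyOfFinitePresentation G.hom] [Flat G.hom] [LocallyOfFiniteType H.hom] [GeometricallyReduced H.hom]
    (f : G ⟶ H) [IsMonHom f] [Surjective f.left] : Flat f.left ∧ Flat H.hom := by
  have hw : f.left ≫ H.hom = G.hom := Over.w f
  haveI : LocallyOfFinitePresentation (f.left ≫ H.hom) := hw ▸ inferInstance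
  haveI : Flat (f.left ≫ H.hom) := hw ▸ inferInstance
  haveI : Flat f.left := by
    refine Flat.of_stalkMap f.left fun x => Groth.L20.flat_stalkMap_of_fiberMap f.left H.hom x
      (Flat.stalkMap _ x) ?_
    haveI : Flat (MoreMor.fiberMap f.left H.hom (H.hom (f.left x))) := by
      let s := H.hom (f.left x)
      let G' : Over (Spec (CommRingCat.of (S.residueField s))) := Red.bc (S.fromSpecResidueField s) G
      let H' : Over (Spec (CommRingCat.of (S.residueField s))) := Red.bc (S.fromSpecResidueField s) H
      letI : GrpObj G' := inferInstanceAs (GrpObj (Red.bc (S.fromSpecResidueField s) G))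
      letI : GrpObj H' := inferInstanceAs (GrpObj (Red.bc (S.fromSpecResidueField s) H))
      let φ : G' ⟶ H' := (Over.pullback (S.fromSpecResidueField s)).map f
      haveI : IsMonHom φ := Functor.map.instIsMonHom (F := Over.pullback (S.fromSpecResidueField s)) (f := f)
      haveI : IsReduced H'.left := inferInstanceAs (IsReduced (H.hom.fiber s))
      haveI : Surjective φ.left := MorphismProperty.of_isPullback (isPullback_fibre G H f s) ‹Surjective f.left›
      have h := flat_of_surjective G' H' φ
      rw [← (Groth.L20.Thick.isPullback_fiberMap f.left H.hom _).isoPullback_hom_snd,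
        MorphismProperty.cancel_left_of_respectsIso @Flat]
      rw [← (isPullback_fibre G H f s).isoPullback_hom_snd] at h
      exact (MorphismProperty.cancel_left_of_respectsIso @Flat _ _).1 h
    exact Flat.stalkMap _ _
  exact ⟨inferInstance, Groth.L25.Translate.flat_of_comp f.left H.hom⟩

end Groth.L08.FlatHom
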