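import Groth.Agent.L08.MulEtale
import Mathlib.CategoryTheory.Monoidal.CommMon_
import Mathlib.AlgebraicGeometry.Group.Abelian
import Mathlib.AlgebraicGeometry.Group.Smooth
import Mathlib.AlgebraicGeometry.Geometrically.Connected

/-! Multiplication by an invertible integer is étale: arbitrary fields, and relative form. -/

set_option autoImplicit false

noncomputable section

universe u

open CategoryTheory AlgebraicGeometry Limits MonObj CartesianMonoidalCategory

namespace Groth.L08.MulEtale

/-- Base change of a morphism over the base is a base change along the projection. -/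
theorem isPullback_map {S S' : Scheme.{u}} (t : S' ⟶ S) {X Y : Over S} (f : X ⟶ Y) :
    IsPullback ((Over.pullback t).map f).left (pullback.fst X.hom t)
      (pullback.fst Y.hom t) f.left := by
  have hw : ((Over.pullback t).map f).left ≫ pullback.snd Y.hom t = pullback.snd X.hom t :=
    Over.w ((Over.pullback t).map f)
  have hf : ((Over.pullback t).map f).left ≫ pullback.fst Y.hom t =
      pullback.fst X.hom t ≫ f.left := pullback.lift_fst _ _ _
  refine IsPullback.of_right ?_ hf (IsPullback.of_hasPullback Y.hom t).flip
  rw [hw, Over.w]
  exact (IsPullback.of_hasPullback X.hom t).flip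

theorem map_pow_eq {S S' : Scheme.{u}} (t : S' ⟶ S) (X : Over S) [GrpObj X] (d : ℤ) :
    letI : GrpObj ((Over.pullback t).obj X) := Functor.grpObjObj
    (Over.pullback t).map (𝟙 X ^ d) = 𝟙 ((Over.pullback t).obj X) ^ d := by
  change (Over.pullback t).homMonoidHom (𝟙 X ^ d) = _
  rw [map_zpow]
  congr 1
  exact (Over.pullback t).map_id X

variable {K : Type u} [Field K]

theorem etale_pow (G : Over (Spec (CommRingCat.of K))) [GrpObj G] [IsCommMonObj G] [Smooth G.hom]
    (d : ℤ) (hd : (d : K) ≠ 0) : Etale (𝟙 G ^ d).left := by
  let L := AlgebraicClosure K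
  let t := Spec.map (CommRingCat.ofHom (algebraMap K L))
  let G' := (Over.pullback t).obj G
  letI : GrpObj G' := Functor.grpObjObj
  haveI : IsCommMonObj G' := inferInstanceAs (IsCommMonObj ((Over.pullback t).obj G))
  haveI : Smooth G'.hom := inferInstanceAs (Smooth (pullback.snd G.hom t))
  have hdL : (d : L) ≠ 0 := by
    rw [← map_intCast (algebraMap K L)]
    exact (map_ne_zero _).2 hd
  have hEt : Etale (𝟙 G' ^ d).left := etale_pow_of_isAlgClosed d hdL
  rw [← map_pow_eq t G d] at hEt
  refine MorphismProperty.of_isPullback_of_descendsAlong (P := @Etale)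
    (Q := @Surjective ⊓ @Flat ⊓ @QuasiCompact) (isPullback_map t (𝟙 G ^ d)) ?_ hEt
  exact ⟨⟨inferInstance, inferInstance⟩, inferInstance⟩

/-- Proper geometrically reduced and connected group schemes over a field: multiplication by an
invertible integer is étale. -/
theorem etale_pow_proper (G : Over (Spec (CommRingCat.of K))) [GrpObj G] [IsProper G.hom]
    [GeometricallyReduced G.hom] [GeometricallyConnected G.hom]
    (d : ℤ) (hd : (d : K) ≠ 0) : Etale (𝟙 G ^ d).left := by
  haveI : IsLocallyNoetherian G.left := LocallyOfFiniteType.isLocallyNoetherian G.hom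
  haveI : ConnectedSpace G.left := GeometricallyConnected.connectedSpace_of_subsingleton G.hom
  haveI : IrreducibleSpace G.left := Groth.L25.Component.irreducibleSpace G
  haveI := Groth.L25.Component.geometricallyIrreducible G
  haveI : GeometricallyIntegral G.hom :=
    GeometricallyIntegral.of_geometricallyReduced_of_geometricallyIrreducible G.hom
  haveI : IsCommMonObj G := isCommMonObj_of_isProper_of_geometricallyIntegral G
  haveI : Smooth G.hom :=
    haveI : GrpObj (Over.mk G.hom) := inferInstanceAs (GrpObj G)
    smooth_of_grpObj G.hom
  exact etale_pow G d hd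

end Groth.L08.MulEtale
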