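import Mathlib.CategoryTheory.Monoidal.Cartesian.Grp
import Mathlib.CategoryTheory.Monoidal.Cartesian.Over
import Mathlib.AlgebraicGeometry.Morphisms.ClosedImmersion

/-!
# Group structures on monomorphisms cut out by subgroups of points
-/

set_option autoImplicit false

universe v u

open CategoryTheory MonoidalCategory CartesianMonoidalCategory MonObj

namespace Groth.L08

variable {C : Type u} [Category.{v} C] [CartesianMonoidalCategory C] {G N : C} [GrpObj G] (j : N ⟶ G) [Mono j]

/-- If the points of `G` lying in a monomorphism `j : N ⟶ G` form subgroups, `N` is a group object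
and `j` is a homomorphism. -/
theorem exists_grpObj_of_mono (h1 : ∃ z : 𝟙_ C ⟶ N, z ≫ j = η[G])
    (hmul : ∃ z : N ⊗ N ⟶ N, z ≫ j = (fst N N ≫ j) * (snd N N ≫ j))
    (hinv : ∃ z : N ⟶ N, z ≫ j = j⁻¹) :
    ∃ _ : GrpObj N, IsMonHom j := by
  obtain ⟨e, he⟩ := h1
  obtain ⟨m, hm⟩ := hmul
  obtain ⟨ι', hi⟩ := hinv
  have hm' : ∀ {T : C} (a b : T ⟶ N), lift a b ≫ m ≫ j = (a ≫ j) * (b ≫ j) := fun a b => by
    rw [hm, MonObj.comp_mul, lift_fst_assoc, lift_snd_assoc]
  have he' : ∀ {T : C}, toUnit T ≫ e ≫ j = (1 : T ⟶ G) := fun {T} => by rw [he, Hom.one_def]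
  letI mon : MonObj N :=
    { one := e
      mul := m
      one_mul := by
        rw [← cancel_mono j, Category.assoc]
        rw [show e ▷ N = lift (fst (𝟙_ C) N ≫ e) (snd (𝟙_ C) N) by
          apply CartesianMonoidalCategory.hom_ext <;> simp, hm', Category.assoc, he,
          toUnit_unique (fst (𝟙_ C) N) (toUnit _), ← Hom.one_def, _root_.one_mul, leftUnitor_hom]
      mul_one := by
        rw [← cancel_mono j, Category.assoc]
        rw [show N ◁ e = lift (fst N (𝟙_ C)) (snd N (𝟙_ C) ≫ e) by
          apply CartesianMonoidalCategory.hom_ext <;> simp, hm', Category.assoc, he,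
          toUnit_unique (snd N (𝟙_ C)) (toUnit _), ← Hom.one_def, _root_.mul_one, rightUnitor_hom]
      mul_assoc := by
        rw [← cancel_mono j]
        simp only [Category.assoc]
        have h2 : m ▷ N = lift (fst (N ⊗ N) N ≫ m) (snd (N ⊗ N) N) := by
          apply CartesianMonoidalCategory.hom_ext <;> simp
        have h3 : N ◁ m = lift (fst N (N ⊗ N)) (snd N (N ⊗ N) ≫ m) := by
          apply CartesianMonoidalCategory.hom_ext <;> simp
        rw [h2, h3, hm', hm', Category.assoc, Category.assoc, hm]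
        simp only [MonObj.comp_mul, _root_.mul_assoc, associator_hom_fst_assoc,
          associator_hom_snd_fst_assoc, associator_hom_snd_snd_assoc] }
  refine ⟨{ toMonObj := mon, inv := ι', left_inv := ?_, right_inv := ?_ }, ⟨he, ?_⟩⟩
  · rw [← cancel_mono j]
    show (lift ι' (𝟙 N) ≫ m) ≫ j = (toUnit N ≫ e) ≫ j
    simp only [Category.assoc]
    rw [hm', he', hi, Category.id_comp, inv_mul_cancel]
  · rw [← cancel_mono j]
    show (lift (𝟙 N) ι' ≫ m) ≫ j = (toUnit N ≫ e) ≫ j
    simp only [Category.assoc]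
    rw [hm', he', hi, Category.id_comp, mul_inv_cancel]
  · show m ≫ j = (j ⊗ₘ j) ≫ μ
    rw [hm, Hom.mul_def]
    congr 1
    apply CartesianMonoidalCategory.hom_ext <;> simp

omit [GrpObj G] in
/-- A closed immersion in `Over S` is a monomorphism. -/
theorem mono_of_closedImmersion {S : AlgebraicGeometry.Scheme.{u}} {N' G' : Over S} (j' : N' ⟶ G')
    [AlgebraicGeometry.IsClosedImmersion j'.left] : Mono j' :=
  Over.mono_of_mono_left j'

end Groth.L08
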