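import Groth.Agent.L08.Flag
import Mathlib.RingTheory.HopfAlgebra.Convolution
import Mathlib.GroupTheory.Nilpotent
import Mathlib.GroupTheory.Solvable
import Mathlib.RingTheory.FiniteType
import Mathlib.Algebra.Group.Commutator

/-!
# Groups of points acting on flags with scalar steps
-/

universe u v w

open TensorProduct WithConv

noncomputable section

namespace Groth.L08

section Lower

variable {k : Type u} [Field k] {M : Type w} [AddCommGroup M] [Module k M]
  {G : Type v} [Group G] (ρ : G →* Module.End k M) (F : ℕ → Submodule k M)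
  (hinv : ∀ (g : G) (i : ℕ), ∀ x ∈ F i, ρ g x ∈ F i)

/-- Elements moving each step of the flag down by `n`. -/
def lowerBy (n : ℕ) : Subgroup G where
  carrier := {g | ∀ i, ∀ x ∈ F (i + n), ρ g x - x ∈ F i}
  one_mem' := fun i x _ => by simp
  mul_mem' := fun {g h} hg hh i x hx => by
    have : ρ (g * h) x - x = (ρ g (ρ h x) - ρ h x) + (ρ h x - x) := by
      rw [map_mul, Module.End.mul_apply]; abel
    rw [this]
    exact add_mem (hg i _ (hinv h _ x hx)) (hh i x hx)
  inv_mem' := fun {g} hg i x hx => by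
    have hx' : ρ g⁻¹ (ρ g x) = x := by
      rw [← Module.End.mul_apply, ← map_mul, inv_mul_cancel, map_one, Module.End.one_apply]
    have : ρ g⁻¹ x - x = -(ρ g⁻¹ (ρ g x - x)) := by rw [map_sub, hx', neg_sub]
    rw [this]
    exact neg_mem (hinv _ _ _ (hg i x hx))

theorem mem_lowerBy {n : ℕ} {g : G} :
    g ∈ lowerBy ρ F hinv n ↔ ∀ i, ∀ x ∈ F (i + n), ρ g x - x ∈ F i := Iff.rfl

theorem commutator_eval (x y : G) (v : M) :
    ρ (x * y * x⁻¹ * y⁻¹) v - v =
      ρ x (ρ y (ρ (x⁻¹ * y⁻¹) v)) - ρ y (ρ x (ρ (x⁻¹ * y⁻¹) v)) := by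
  simp only [← Module.End.mul_apply, ← map_mul]
  congr 1
  · rw [mul_assoc, mul_assoc]
  · rw [show y * (x * (x⁻¹ * y⁻¹)) = 1 by group, map_one, Module.End.one_apply]

/-- commutators add the amounts of lowering. -/
theorem commutator_mem_lowerBy {a b : ℕ} {x y : G} (hx : x ∈ lowerBy ρ F hinv a)
    (hy : y ∈ lowerBy ρ F hinv b) : x * y * x⁻¹ * y⁻¹ ∈ lowerBy ρ F hinv (a + b) := by
  intro i v hv
  rw [commutator_eval ρ]
  have hw := hinv (x⁻¹ * y⁻¹) _ v hv
  generalize ρ (x⁻¹ * y⁻¹) v = w at hw
  have h1 : ρ y w - w ∈ F (i + a) := hy _ _ (by rwa [add_assoc])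
  have h2 := hx _ _ h1
  have h3 : ρ x w - w ∈ F (i + b) := hx _ _ (by rwa [add_assoc, add_comm b])
  have h4 := hy _ _ h3
  have : ρ x (ρ y w) - ρ y (ρ x w) =
      (ρ x (ρ y w - w) - (ρ y w - w)) - (ρ y (ρ x w - w) - (ρ x w - w)) := by
    rw [map_sub, map_sub]; abel
  rw [this]
  exact sub_mem h2 h4

/-- If every element is scalar on each step then commutators lower the flag. -/
theorem commutator_le_lowerBy_one (χ : G → ℕ → k)
    (hχ : ∀ g i, ∀ x ∈ F (i + 1), ρ g x - χ g i • x ∈ F i) :
    commutator G ≤ lowerBy ρ F hinv 1 := by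
  rw [commutator_eq_closure, Subgroup.closure_le]
  rintro _ ⟨x, y, rfl⟩ i v hv
  rw [commutatorElement_def, commutator_eval ρ]
  have hw := hinv (x⁻¹ * y⁻¹) _ v hv
  generalize ρ (x⁻¹ * y⁻¹) v = w at hw
  have h1 := hinv x _ _ (hχ y i w hw)
  have h2 := hinv y _ _ (hχ x i w hw)
  have h3 := (F i).smul_mem (χ y i) (hχ x i w hw)
  have h4 := (F i).smul_mem (χ x i) (hχ y i w hw)
  have : ρ x (ρ y w) - ρ y (ρ x w) =
      ρ x (ρ y w - χ y i • w) - ρ y (ρ x w - χ x i • w) + χ y i • (ρ x w - χ x i • w)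
        - χ x i • (ρ y w - χ y i • w) := by
    rw [map_sub, map_sub, map_smul, map_smul, smul_sub, smul_sub, smul_smul, smul_smul,
      mul_comm (χ y i)]
    abel
  rw [this]
  exact sub_mem (add_mem (sub_mem h1 h2) h3) h4

theorem eq_one_of_mem_lowerBy (hρ : Function.Injective ρ) {m n : ℕ} (h0 : F 0 = ⊥)
    (hm : F m = ⊤) (hmono : Monotone F) (hn : m ≤ n) {g : G} (hg : g ∈ lowerBy ρ F hinv n) :
    g = 1 := by
  refine hρ (LinearMap.ext fun x => ?_)
  have := hg 0 x (hmono (by omega : m ≤ 0 + n) (hm ▸ Submodule.mem_top))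
  rw [h0, Submodule.mem_bot, sub_eq_zero] at this
  rw [this, map_one, Module.End.one_apply]

include hinv in
theorem isNilpotent_of_lowerBy (hρ : Function.Injective ρ) {m : ℕ} (h0 : F 0 = ⊥)
    (hm : F m = ⊤) (hmono : Monotone F) (htop : lowerBy ρ F hinv 1 = ⊤) :
    Group.IsNilpotent G := by
  rw [nilpotent_iff_finite_descending_central_series]
  refine ⟨m, fun n => lowerBy ρ F hinv (n + 1), ⟨htop, fun x n hx g => ?_⟩, ?_⟩
  · exact commutator_mem_lowerBy ρ F hinv hx (htop ▸ Subgroup.mem_top g)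
  · exact (Subgroup.eq_bot_iff_forall _).2 fun g hg =>
      eq_one_of_mem_lowerBy ρ F hinv hρ h0 hm hmono (by omega) hg

include hinv in
theorem isSolvable_of_lowerBy (hρ : Function.Injective ρ) {m : ℕ} (h0 : F 0 = ⊥)
    (hm : F m = ⊤) (hmono : Monotone F) (χ : G → ℕ → k)
    (hχ : ∀ g i, ∀ x ∈ F (i + 1), ρ g x - χ g i • x ∈ F i) :
    Group.IsSolvable G := by
  refine ⟨⟨m + 1, (Subgroup.eq_bot_iff_forall _).2 fun g hg =>
    eq_one_of_mem_lowerBy ρ F hinv hρ h0 hm hmono le_rfl ?_⟩⟩
  have key : ∀ n, derivedSeries G (n + 1) ≤ lowerBy ρ F hinv (n + 1) := by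
    intro n
    induction n with
    | zero => rw [derivedSeries_one]; exact commutator_le_lowerBy_one ρ F hinv χ hχ
    | succ n ih =>
      rw [derivedSeries_succ, Subgroup.commutator_le]
      intro a ha b hb
      have := commutator_mem_lowerBy ρ F hinv (ih ha) (ih hb)
      rw [← commutatorElement_def] at this
      intro i x hx
      exact this i x (hmono (by omega) hx)
  cases m with
  | zero =>
    have hg1 : g = 1 := hρ (LinearMap.ext fun x => by
      have hx : x = 0 := by
        rw [← Submodule.mem_bot k, ← h0, hm]; trivial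
      simp [hx])
    exact hg1 ▸ one_mem _
  | succ j => exact key j (derivedSeries_antitone G (Nat.le_succ _) hg)

end Lower

section Points

variable {k : Type u} [Field k] {A : Type v} [CommRing A] [HopfAlgebra k A]

variable (V : Type w) [AddCommGroup V] [Module k V] [HopfRep.Comod k A V]

theorem act_eq_fAct (g : A →ₐ[k] k) : HopfRep.Comod.act k A V g = fAct V g.toLinearMap := rfl

/-- Points act on a comodule. -/
def ptAct : WithConv (A →ₐ[k] k) →* Module.End k V where
  toFun g := HopfRep.Comod.act k A V g.ofConv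
  map_one' := by
    rw [act_eq_fAct]
    exact fAct_one (k := k) (A := A) (V := V)
  map_mul' g h := by
    rw [act_eq_fAct, act_eq_fAct, act_eq_fAct]
    exact fAct_mul (k := k) (A := A) (V := V) (toConv g.ofConv.toLinearMap) (toConv h.ofConv.toLinearMap)

theorem ptAct_apply (g : WithConv (A →ₐ[k] k)) (v : V) :
    ptAct (A := A) V g v = fAct V g.ofConv.toLinearMap v := rfl

omit V in
/-- A finitely generated Hopf algebra has a finite-dimensional faithful comodule inside itself. -/
theorem exists_faithful (k : Type u) [Field k] (A : Type v) [CommRing A] [HopfAlgebra k A]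
    [Algebra.FiniteType k A] :
    ∃ C : Submodule k A, Module.Finite k C ∧ ∃ hC : HopfRep.IsSubcomod (k := k) (A := A) C,
      letI := ComodSub.Comod.restr (HopfRep.Comod.regular k A) C hC
      Function.Injective (ptAct (k := k) (A := A) C) := by
  obtain ⟨s, hs⟩ := Algebra.FiniteType.out (R := k) (A := A)
  obtain ⟨C, h1, h2, h3⟩ := exists_finite_subcomod_of_finset (k := k) (A := A) (V := A) s
  refine ⟨C, h1, h3, ?_⟩
  letI := ComodSub.Comod.restr (HopfRep.Comod.regular k A) C h3
  intro g h hgh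
  refine WithConv.ofConv_injective (AlgHom.ext_of_adjoin_eq_top hs fun a ha => ?_)
  have h4 : ∀ p : WithConv (A →ₐ[k] k), p.ofConv a =
      Coalgebra.counit (R := k) ((ptAct (A := A) C p ⟨a, h2 ha⟩ : C) : A) := fun p => by
    rw [ptAct_apply, ← Submodule.subtype_apply,
      fAct_comm_of_isComodHom (ComodSub.isComodHom_subtype _ C h3)]
    refine ((apply_cf (A := A) p.ofConv.toLinearMap Coalgebra.counit a).symm.trans ?_).symm
    rw [show cf (k := k) (A := A) (V := A) Coalgebra.counit a = a from ?_]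
    · rfl
    · exact cf_counit_apply a
  rw [h4, h4, hgh]

end Points

end Groth.L08

namespace Groth.L08

open WithConv

/-- Points of an affine group with scalar flags: unipotent case. -/
theorem isNilpotent_points {k : Type u} [Field k] {A : Type v} [CommRing A] [HopfAlgebra k A]
    [Algebra.FiniteType k A] (hU : HopfRep.IsUnipotent k A) :
    Group.IsNilpotent (WithConv (A →ₐ[k] k)) := by
  obtain ⟨C, hfin, hC, hinj⟩ := exists_faithful k A
  letI := ComodSub.Comod.restr (HopfRep.Comod.regular k A) C hC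
  obtain ⟨F, hmono, h0, htop, hsub, hs⟩ := exists_flag_of_isUnipotent hU C
  refine isNilpotent_of_lowerBy (ptAct (A := A) C) F (fun g i x hx => fAct_mem_of_isSubcomod (hsub i) _ hx)
    hinj h0 htop hmono (eq_top_iff.2 fun g _ i x hx => ?_)
  obtain ⟨c, rfl, hst⟩ := hs i
  simpa [ptAct_apply] using hst x hx g.ofConv.toLinearMap

/-- Points of an affine group with scalar flags: trigonalizable case. -/
theorem isSolvable_points {k : Type u} [Field k] {A : Type v} [CommRing A] [HopfAlgebra k A]
    [Algebra.FiniteType k A] (hT : HopfRep.IsTrigonalizable k A) :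
    Group.IsSolvable (WithConv (A →ₐ[k] k)) := by
  obtain ⟨C, hfin, hC, hinj⟩ := exists_faithful k A
  letI := ComodSub.Comod.restr (HopfRep.Comod.regular k A) C hC
  obtain ⟨F, hmono, h0, htop, hsub, hs⟩ := exists_flag_of_isTrigonalizable hT C
  choose c hc hst using hs
  exact isSolvable_of_lowerBy (ptAct (A := A) C) F
    (fun g i x hx => fAct_mem_of_isSubcomod (hsub i) _ hx) hinj h0 htop hmono
    (fun g i => g.ofConv (c i)) fun g i x hx => hst i x hx g.ofConv.toLinearMap

end Groth.L08
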