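import Groth.Agent.L08.Basic
import Groth.Prelude.Def_Dyn
import Mathlib.RingTheory.HopfAlgebra.Quotient
import Mathlib.RingTheory.TensorProduct.Free
import Mathlib.RingTheory.TensorProduct.Finite
import Mathlib.LinearAlgebra.Charpoly.BaseChange

/-!
# Ring valued points acting on a comodule; Hopf ideals of subgroup functors
-/

universe u v w w'

open TensorProduct WithConv

noncomputable section

namespace Groth.L08

section Pt

variable {k : Type u} [Field k] {A : Type v} [CommRing A] [Bialgebra k A]
  {V : Type w} [AddCommGroup V] [Module k V] [HopfRep.Comod k A V]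
  {R : Type w'} [CommRing R] [Algebra k R]

local notation "ρ" => HopfRep.Comod.coact (k := k) (A := A)

variable (V) in
/-- image of a vector under an `R`-valued functional, in `R ⊗ V` -/
def ptVec (φ : A →ₗ[k] R) : V →ₗ[k] R ⊗[k] V :=
  (TensorProduct.comm k V R).toLinearMap ∘ₗ φ.lTensor V ∘ₗ ρ

variable (V) in
/-- the `R`-linear endomorphism of `R ⊗ V` of an `R`-valued functional -/
def ptEnd (φ : A →ₗ[k] R) : Module.End R (R ⊗[k] V) := (ptVec V φ).liftBaseChange R

@[simp] theorem ptEnd_tmul (φ : A →ₗ[k] R) (r : R) (v : V) :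
    ptEnd V φ (r ⊗ₜ v) = r • ptVec V φ v := by simp [ptEnd]

theorem ptEnd_one : ptEnd V ((Algebra.linearMap k R) ∘ₗ Coalgebra.counit (R := k) (A := A)) = 1 := by
  refine AlgebraTensorModule.ext fun r v => ?_
  rw [ptEnd_tmul, ptVec, LinearMap.comp_apply, LinearMap.comp_apply, LinearMap.lTensor_comp_apply,
    counit_apply]
  simp [smul_tmul']

theorem ptEnd_mul (φ ψ : A →ₗ[k] R) :
    ptEnd V (LinearMap.mul' k R ∘ₗ TensorProduct.map φ ψ ∘ₗ Coalgebra.comul) =
      ptEnd V φ * ptEnd V ψ := by
  refine AlgebraTensorModule.ext fun r v => ?_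
  rw [Module.End.mul_apply, ptEnd_tmul, ptEnd_tmul, map_smul]
  congr 1
  let L : V ⊗[k] (A ⊗[k] A) →ₗ[k] R ⊗[k] V :=
    (TensorProduct.comm k V R).toLinearMap ∘ₗ (LinearMap.mul' k R ∘ₗ TensorProduct.map φ ψ).lTensor V
  have h1 : ∀ y : V ⊗[k] A, ptEnd V φ (TensorProduct.comm k V R (ψ.lTensor V y)) =
      L (TensorProduct.assoc k V A A ((ρ : V →ₗ[k] V ⊗[k] A).rTensor A y)) := by
    intro y
    induction y with
    | zero => simp
    | add a b ha hb => simp only [map_add, ha, hb]
    | tmul x a =>
      simp only [LinearMap.lTensor_tmul, TensorProduct.comm_tmul, ptEnd_tmul,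
        LinearMap.rTensor_tmul, ptVec, LinearMap.comp_apply]
      induction (ρ x) with
      | zero => simp
      | add a b ha hb => simp only [map_add, smul_add, add_tmul, ha, hb]
      | tmul p q => simp [L, smul_tmul', mul_comm]
  change TensorProduct.comm k V R
      ((LinearMap.mul' k R ∘ₗ TensorProduct.map φ ψ ∘ₗ Coalgebra.comul).lTensor V (ρ v)) =
    ptEnd V φ (TensorProduct.comm k V R (ψ.lTensor V (ρ v)))
  rw [h1, coassoc_apply, ← LinearMap.comp_assoc, LinearMap.lTensor_comp_apply]
  rfl

variable (V R) in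
/-- points act as a monoid -/
def ptHom : WithConv (A →ₐ[k] R) →* Module.End R (R ⊗[k] V) where
  toFun g := ptEnd V g.ofConv.toLinearMap
  map_one' := by
    rw [show (1 : WithConv (A →ₐ[k] R)).ofConv.toLinearMap =
      Algebra.linearMap k R ∘ₗ Coalgebra.counit (R := k) (A := A) from by ext; simp, ptEnd_one]
  map_mul' g h := ptEnd_mul g.ofConv.toLinearMap h.ofConv.toLinearMap

theorem ptHom_one_tmul (g : WithConv (A →ₐ[k] R)) (v : V) :
    ptHom V R g (1 ⊗ₜ v) = ptVec V g.ofConv.toLinearMap v := by
  change ptEnd V g.ofConv.toLinearMap (1 ⊗ₜ v) = _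
  simp

end Pt

/-- An inverse of an endomorphism of a finite free module preserves invariant submodules. -/
theorem mem_of_inverse {R : Type*} [CommRing R] {M : Type*} [AddCommGroup M] [Module R M]
    [Module.Finite R M] [Module.Free R M] {f g : Module.End R M} (h : g * f = 1) {U : Submodule R M}
    (hf : ∀ x ∈ U, f x ∈ U) {x : M} (hx : x ∈ U) : g x ∈ U := by
  have hfg : f * g = 1 := by
    exact mul_eq_one_comm.1 h
  have hdet : IsUnit (LinearMap.det f) :=
    IsUnit.map (LinearMap.det (M := M)) ⟨⟨f, g, hfg, h⟩, rfl⟩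
  have hc : IsUnit ((LinearMap.charpoly f).coeff 0) := by
    rw [LinearMap.det_eq_sign_charpoly_coeff] at hdet
    exact isUnit_of_mul_isUnit_right hdet
  obtain ⟨c, hcc⟩ := hc
  let p := f.charpoly
  have hp : Polynomial.aeval f p = 0 := f.aeval_self_charpoly
  rw [← p.X_mul_divX_add, map_add, map_mul, Polynomial.aeval_X, Polynomial.aeval_C,
    ← hcc] at hp
  have hq : ∀ y ∈ U, Polynomial.aeval f p.divX y ∈ U := by
    induction p.divX using Polynomial.induction_on' with
    | add a b ha hb => intro y hy; rw [map_add]; exact add_mem (ha y hy) (hb y hy)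
    | monomial n a =>
      intro y hy
      rw [Polynomial.aeval_monomial, Algebra.algebraMap_eq_smul_one, smul_mul_assoc, one_mul,
        LinearMap.smul_apply]
      refine U.smul_mem a ?_
      induction n generalizing y with
      | zero => simpa using hy
      | succ n ih => rw [pow_succ, Module.End.mul_apply]; exact ih _ (hf y hy)
  have h2 : g * (f * Polynomial.aeval f p.divX + algebraMap R (Module.End R M) c) = 0 := by
    rw [hp, mul_zero]
  rw [mul_add, ← mul_assoc, h, one_mul] at h2
  have h3 := LinearMap.congr_fun h2 x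
  simp only [LinearMap.add_apply, Module.End.mul_apply, Module.algebraMap_end_apply, map_smul,
    LinearMap.zero_apply] at h3
  have : (c : R) • g x ∈ U := by
    rw [eq_neg_of_add_eq_zero_right h3]; exact neg_mem (hq x hx)
  simpa [← mul_smul] using U.smul_mem ((c⁻¹ : Rˣ) : R) this

section HopfIdeal

variable {k : Type u} [Field k] {A : Type u} [CommRing A] [HopfAlgebra k A]

/-- The inverse of a point. -/
def pinv {R : Type w'} [CommRing R] [Algebra k R] (g : WithConv (A →ₐ[k] R)) : WithConv (A →ₐ[k] R) :=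
  toConv (g.ofConv.comp (HopfAlgebra.antipodeAlgHom k A))

theorem comp_one {R : Type w'} [CommRing R] [Algebra k R] (g : A →ₐ[k] R) :
    toConv (g.comp (1 : WithConv (A →ₐ[k] A)).ofConv) = 1 := by
  refine WithConv.ofConv_injective (AlgHom.ext fun a => ?_)
  simp

theorem pinv_mul {R : Type w'} [CommRing R] [Algebra k R] (g : WithConv (A →ₐ[k] R)) :
    pinv g * g = 1 := by
  have h := AlgHom.comp_convMul_distrib g.ofConv (toConv (AlgHom.id k A))⁻¹ (toConv (AlgHom.id k A))
  rw [inv_mul_cancel] at h
  exact (congrArg toConv h).symm.trans (comp_one g.ofConv)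

theorem mul_pinv {R : Type w'} [CommRing R] [Algebra k R] (g : WithConv (A →ₐ[k] R)) :
    g * pinv g = 1 := by
  have h := AlgHom.comp_convMul_distrib g.ofConv (toConv (AlgHom.id k A)) (toConv (AlgHom.id k A))⁻¹
  rw [mul_inv_cancel] at h
  exact (congrArg toConv h).symm.trans (comp_one g.ofConv)

theorem mul_conj {R : Type w'} [CommRing R] [Algebra k R] (g h : WithConv (A →ₐ[k] R)) :
    g * (pinv g * h * g) = h * g := by
  rw [← mul_assoc, ← mul_assoc, mul_pinv, one_mul]

/-- An ideal representing a subgroup functor is a Hopf ideal. -/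
theorem isHopfIdeal_of_represents {J : Ideal A}
    {P : ∀ (R : Type u) [CommRing R] [Algebra k R], (A →ₐ[k] R) → Prop}
    (hJ : Dyn.Represents k A J P)
    (h1 : ∀ (R : Type u) [CommRing R] [Algebra k R], P R (1 : WithConv (A →ₐ[k] R)).ofConv)
    (hmul : ∀ (R : Type u) [CommRing R] [Algebra k R] (g h : WithConv (A →ₐ[k] R)),
      P R g.ofConv → P R h.ofConv → P R (g * h).ofConv)
    (hinv : ∀ (R : Type u) [CommRing R] [Algebra k R] (g : WithConv (A →ₐ[k] R)),
      P R g.ofConv → P R (pinv g).ofConv) :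
    J.IsHopfIdeal k := by
  refine { toIsCoideal := ⟨fun x hx => ?_, fun x hx => ?_⟩, antipode_mem := fun x hx => ?_ }
  · simpa using (hJ k (1 : WithConv (A →ₐ[k] k)).ofConv).2 (h1 k) x hx
  · let π := Ideal.Quotient.mkₐ k J
    let l : WithConv (A →ₐ[k] (A ⧸ J) ⊗[k] (A ⧸ J)) :=
      toConv (Algebra.TensorProduct.includeLeft.comp π)
    let r : WithConv (A →ₐ[k] (A ⧸ J) ⊗[k] (A ⧸ J)) :=
      toConv (Algebra.TensorProduct.includeRight.comp π)
    have hπ : ∀ a ∈ J, π a = 0 := fun a ha => Ideal.Quotient.eq_zero_iff_mem.2 ha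
    have hl : P _ l.ofConv := (hJ _ _).1 fun a ha => by simp [l, hπ a ha]
    have hr : P _ r.ofConv := (hJ _ _).1 fun a ha => by simp [r, hπ a ha]
    have h2 := (hJ _ _).2 (hmul _ l r hl hr) x hx
    have h3 : (l * r).ofConv.toLinearMap =
        TensorProduct.map π.toLinearMap π.toLinearMap ∘ₗ Coalgebra.comul := by
      refine LinearMap.ext fun a => ?_
      change (l * r).ofConv a = _
      rw [AlgHom.convMul_apply]
      simp only [LinearMap.comp_apply]
      induction Coalgebra.comul (R := k) a with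
      | zero => simp
      | add p q hp hq => simp only [map_add, hp, hq]
      | tmul p q => simp [l, r]
    exact (LinearMap.congr_fun h3 x).symm.trans h2
  · have h2 := (hJ _ _).2
      (hinv (A ⧸ J) (toConv (Ideal.Quotient.mkₐ k J))
        ((hJ _ _).1 fun a ha => Ideal.Quotient.eq_zero_iff_mem.2 ha)) x hx
    exact Ideal.Quotient.eq_zero_iff_mem.1 h2

theorem toConv_conv3 {C : Type u} [CommRing C] [Algebra k C] (f g h : A →ₐ[k] C) :
    toConv (Dyn.conv3 k A f g h) = toConv f * toConv g * toConv h := by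
  simp [AlgHom.convMul_def, Dyn.conv3, AlgHom.comp_assoc, Algebra.TensorProduct.map_comp]
  rw [← AlgHom.comp_assoc (Algebra.TensorProduct.map _ h), ← Algebra.TensorProduct.map_comp]
  rfl

end HopfIdeal

end Groth.L08
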