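import Groth.Agent.L08.AugGraded
import Groth.Agent.L12.CotTSmooth
import Groth.Agent.L21.CurvFib.DimExt
import Mathlib.RingTheory.HopfAlgebra.Convolution
import Mathlib.RingTheory.Bialgebra.Convolution
import Mathlib.RingTheory.HopfAlgebra.TensorProduct
import Mathlib.RingTheory.Smooth.Field
import Mathlib.RingTheory.Etale.Descent
import Mathlib.RingTheory.Spectrum.Prime.Jacobson
import Mathlib.RingTheory.Artinian.Ring
import Mathlib.RingTheory.LocalProperties.Reduced
import Mathlib.RingTheory.Ideal.Height
import Mathlib.FieldTheory.IsAlgClosed.AlgebraicClosure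

/-!
# Dimension, tangent space and regularity of affine algebraic groups
-/

universe u v

open TensorProduct WithConv IsLocalRing

noncomputable section

namespace Groth.L08.HopfDim

variable {k : Type u} [Field k]

/-- a finite type algebra has a model in the universe of the base -/
theorem exists_small (B : Type v) [CommRing B] [Algebra k B] [Algebra.FiniteType k B] :
    ∃ (B' : Type u) (_ : CommRing B') (_ : Algebra k B') (_ : Algebra.FiniteType k B'), Nonempty (B' ≃ₐ[k] B) := by
  obtain ⟨n, φ, hφ⟩ := Algebra.FiniteType.iff_quotient_mvPolynomial''.mp ‹Algebra.FiniteType k B›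
  exact ⟨MvPolynomial (Fin n) k ⧸ RingHom.ker φ, inferInstance, inferInstance,
    Algebra.FiniteType.of_surjective (Ideal.Quotient.mkₐ k _) Ideal.Quotient.mk_surjective,
    ⟨Ideal.quotientKerAlgEquivOfSurjective hφ⟩⟩

theorem regular_congr_equiv {B : Type v} [CommRing B] {B' : Type u} [CommRing B'] (e : B' ≃+* B)
    (m : Ideal B) [m.IsPrime] (m' : Ideal B') [m'.IsPrime] (h : m' = m.comap e.toRingHom)
    (hr : IsRegularLocalRing (Localization.AtPrime m')) : IsRegularLocalRing (Localization.AtPrime m) :=
  IsRegularLocalRing.of_ringEquiv (IsLocalization.ringEquivOfRingEquiv (M := m'.primeCompl) (T := m.primeCompl)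
    (Localization.AtPrime m') (Localization.AtPrime m) e (by
      subst h
      ext a
      simp only [Submonoid.mem_map]
      constructor
      · rintro ⟨b, hb, rfl⟩
        exact fun hc => hb hc
      · intro ha
        exact ⟨e.symm a, fun hc => ha (by simpa using hc), e.apply_symm_apply a⟩))

theorem exists_regular_maximal [IsAlgClosed k] (B : Type v) [CommRing B] [Algebra k B] [Algebra.FiniteType k B]
    [IsReduced B] [Nontrivial B] :
    ∃ (m : Ideal B) (_ : m.IsMaximal), IsRegularLocalRing (Localization.AtPrime m) := by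
  obtain ⟨B', i1, i2, i3, ⟨e⟩⟩ := exists_small (k := k) B
  haveI : IsReduced B' := isReduced_of_injective e.toRingEquiv e.injective
  haveI : Nontrivial B' := e.toEquiv.nontrivial
  haveI : Algebra.FinitePresentation k B' := Algebra.FinitePresentation.of_finiteType.1 ‹_›
  haveI : IsJacobsonRing B' := isJacobsonRing_of_finiteType (A := k)
  haveI : IsNoetherianRing B' := Algebra.FiniteType.isNoetherianRing k B'
  obtain ⟨p, hp⟩ := Ideal.nonempty_minimalPrimes (I := (⊥ : Ideal B')) bot_ne_top
  haveI : p.IsPrime := hp.1.1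
  let L := Localization.AtPrime p
  haveI : Ring.KrullDimLE 0 L := by
    refine Ring.krullDimLE_iff.2 ((IsLocalization.AtPrime.ringKrullDim_eq_height p L).trans_le ?_)
    rw [Ideal.height_eq_zero_iff.2 hp]
    rfl
  haveI : IsArtinianRing L := by
    haveI : IsNoetherianRing L := IsLocalization.isNoetherianRing p.primeCompl L ‹_›
    exact isArtinianRing_iff_isNoetherianRing_krullDimLE_zero.2 ⟨‹_›, ‹_›⟩
  letI : Field L := (IsArtinianRing.isField_of_isReduced_of_isLocalRing L).toField
  haveI : Algebra.EssFiniteType B' L := .of_isLocalization _ p.primeCompl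
  haveI : Algebra.EssFiniteType k L := .comp _ B' _
  have hmem : (⟨p, ‹_›⟩ : PrimeSpectrum B') ∈ Algebra.smoothLocus k B' :=
    (Algebra.FormallySmooth.of_perfectField : Algebra.FormallySmooth k L)
  obtain ⟨q, hq, hqc⟩ := nonempty_inter_closedPoints ⟨_, hmem⟩
    (Algebra.isOpen_smoothLocus (R := k) (A := B')).isLocallyClosed
  haveI hqm : q.asIdeal.IsMaximal := (PrimeSpectrum.isClosed_singleton_iff_isMaximal q).1 hqc
  haveI : Algebra.IsSmoothAt k q.asIdeal := hq
  haveI : (q.asIdeal.comap e.symm.toRingEquiv.toRingHom).IsMaximal :=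
    Ideal.comap_isMaximal_of_surjective _ e.symm.surjective
  refine ⟨q.asIdeal.comap e.symm.toRingEquiv.toRingHom, inferInstance, ?_⟩
  refine regular_congr_equiv e.toRingEquiv _ q.asIdeal ?_ (Groth.L12.CotTLib.regular_of_isSmoothAt (k := k) q.asIdeal)
  ext a
  simp

section Points

theorem exists_point [IsAlgClosed k] {B : Type v} [CommRing B] [Algebra k B] [Algebra.FiniteType k B]
    (m : Ideal B) [m.IsMaximal] : ∃ χ : B →ₐ[k] k, m = RingHom.ker χ := by
  letI := Ideal.Quotient.field m
  haveI : Module.Finite k (B ⧸ m) := finite_of_finite_type_of_isJacobsonRing k (B ⧸ m)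
  have h1 : Function.Bijective (Algebra.ofId k (B ⧸ m)) := IsAlgClosed.algebraMap_bijective_of_isIntegral
  refine ⟨(AlgEquiv.ofBijective _ h1).symm.toAlgHom.comp (Ideal.Quotient.mkₐ k m), ?_⟩
  ext x
  simp [Ideal.Quotient.eq_zero_iff_mem]

variable {A : Type v} [CommRing A] [HopfAlgebra k A]

/-- a point as a constant endomorphism -/
def cst (g : WithConv (A →ₐ[k] k)) : WithConv (A →ₐ[k] A) := toConv ((Algebra.ofId k A).comp g.ofConv)

/-- translation -/
def rt (g : WithConv (A →ₐ[k] k)) : A →ₐ[k] A := (toConv (AlgHom.id k A) * cst g).ofConv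

theorem cst_mul (g h : WithConv (A →ₐ[k] k)) : cst g * cst h = cst (g * h) :=
  WithConv.ext (AlgHom.comp_convMul_distrib (Algebra.ofId k A) g h).symm

theorem cst_one : cst (1 : WithConv (A →ₐ[k] k)) = 1 :=
  WithConv.ext (AlgHom.ext fun a => (Algebra.ofId k A).commutes _)

theorem comp_rt {R' : Type*} [CommRing R'] [Algebra k R'] (φ : A →ₐ[k] R') (g : WithConv (A →ₐ[k] k)) :
    φ.comp (rt g) = (toConv φ * toConv ((Algebra.ofId k R').comp g.ofConv)).ofConv := by
  rw [rt, AlgHom.comp_convMul_distrib,
    show φ.comp (cst g).ofConv = (Algebra.ofId k R').comp g.ofConv from AlgHom.ext fun a => φ.commutes _]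
  rfl

theorem point_rt (χ g : WithConv (A →ₐ[k] k)) : χ.ofConv.comp (rt g) = (χ * g).ofConv := by
  rw [comp_rt]
  rfl

theorem rt_rt (g h : WithConv (A →ₐ[k] k)) : (rt h).comp (rt g) = rt (h * g) := by
  rw [comp_rt]
  change (toConv (rt h) * cst g).ofConv = _
  rw [rt, WithConv.toConv_ofConv, mul_assoc, cst_mul]
  rfl

theorem rt_one : rt (1 : WithConv (A →ₐ[k] k)) = AlgHom.id k A := by
  rw [rt, cst_one]
  exact congrArg WithConv.ofConv (_root_.mul_one (toConv (AlgHom.id k A)))

/-- translation as an automorphism -/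
def rtEquiv (g : WithConv (A →ₐ[k] k)) : A ≃ₐ[k] A :=
  AlgEquiv.ofAlgHom (rt g) (rt g⁻¹) (by rw [rt_rt, mul_inv_cancel, rt_one]) (by rw [rt_rt, inv_mul_cancel, rt_one])

variable [IsAlgClosed k] [Algebra.FiniteType k A]

variable (k) in
theorem exists_equiv_comap (m n : Ideal A) [m.IsMaximal] [n.IsMaximal] :
    ∃ e : A ≃ₐ[k] A, n = m.comap (e : A →+* A) := by
  obtain ⟨χ, hχ⟩ := exists_point (k := k) m
  obtain ⟨ψ, hψ⟩ := exists_point (k := k) n
  let g : WithConv (A →ₐ[k] k) := (toConv χ)⁻¹ * toConv ψ
  refine ⟨rtEquiv g, Ideal.ext fun a => ?_⟩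
  have h := DFunLike.congr_fun (point_rt (toConv χ) g) a
  rw [show toConv χ * g = toConv ψ from mul_inv_cancel_left _ _] at h
  rw [Ideal.mem_comap, hχ, hψ, RingHom.mem_ker, RingHom.mem_ker]
  exact ⟨fun e => h.trans e, fun e => h.symm.trans e⟩

include k in
variable (k) in
theorem height_eq_ringKrullDim (m : Ideal A) [m.IsMaximal] :
    (m.height : WithBot ℕ∞) = ringKrullDim A := by
  refine le_antisymm (Ideal.height_le_ringKrullDim_of_ne_top (Ideal.IsMaximal.ne_top ‹_›)) ?_
  haveI : Nontrivial A := (Bialgebra.counitAlgHom k A).toRingHom.domain_nontrivial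
  rw [← Ideal.sup_isMaximal_height_eq_ringKrullDim, WithBot.coe_le_coe]
  refine iSup₂_le fun n hn => ?_
  obtain ⟨e, he⟩ := exists_equiv_comap k m n
  rw [he]
  exact (e.toRingEquiv.height_comap m).le

include k in
variable (k) in
theorem regular_atPrime {m n : Ideal A} [m.IsMaximal] [n.IsMaximal]
    (h : IsRegularLocalRing (Localization.AtPrime n)) : IsRegularLocalRing (Localization.AtPrime m) := by
  obtain ⟨e, he⟩ := exists_equiv_comap k m n
  exact regular_congr_equiv e.toRingEquiv m n he h

end Points

section Local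

variable {A : Type v} [CommRing A] [Bialgebra k A] [Algebra.FiniteType k A]

local notation "ε" => Bialgebra.counitAlgHom k A

instance isMaximal_ker_counit : (RingHom.ker (Bialgebra.counitAlgHom k A)).IsMaximal :=
  RingHom.ker_isMaximal_of_surjective _ (fun c => ⟨algebraMap k A c, (Bialgebra.counitAlgHom k A).commutes c⟩)

theorem spanFinrank_le :
    (maximalIdeal (Localization.AtPrime (RingHom.ker ε))).spanFinrank ≤
      Module.finrank k (Ideal.Cotangent (RingHom.ker ε)) := by
  classical
  haveI : IsNoetherianRing A := Algebra.FiniteType.isNoetherianRing k A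
  obtain ⟨x, w, hx, hw, hwx, hspan⟩ := AugGraded.exists_coords k A
  let L := Localization.AtPrime (RingHom.ker ε)
  let N : Ideal L := Ideal.span (Set.range fun i => algebraMap A L (x i))
  have hle : maximalIdeal L ≤ N ⊔ maximalIdeal L • maximalIdeal L := by
    rw [← Localization.AtPrime.map_eq_maximalIdeal, Ideal.map_le_iff_le_comap]
    intro b hb
    obtain ⟨c, hc⟩ := hspan b hb
    rw [Ideal.mem_comap, show b = ∑ i, c i • x i + (b - ∑ i, c i • x i) by ring, map_add]
    refine add_mem (Submodule.mem_sup_left ?_) (Submodule.mem_sup_right ?_)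
    · rw [map_sum]
      refine Ideal.sum_mem _ fun i _ => ?_
      rw [Algebra.smul_def, map_mul]
      exact Ideal.mul_mem_left _ _ (Ideal.subset_span ⟨i, rfl⟩)
    · rw [smul_eq_mul, ← Ideal.map_mul, ← pow_two]
      exact Ideal.mem_map_of_mem _ hc
  have hN : maximalIdeal L ≤ N :=
    Submodule.le_of_le_smul_of_le_jacobson_bot (IsNoetherian.noetherian _)
      (IsLocalRing.maximalIdeal_le_jacobson ⊥) hle
  have heq : maximalIdeal L = N := le_antisymm hN (Ideal.span_le.2 (by
    rintro _ ⟨i, rfl⟩
    exact (IsLocalization.AtPrime.to_map_mem_maximal_iff L _ (x i)).2 (hx i)))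
  rw [heq]
  refine (Submodule.spanFinrank_span_le_ncard_of_finite (Set.finite_range _)).trans ?_
  rw [← Nat.card_coe_set_eq]
  exact (Finite.card_range_le _).trans (by simp)

theorem finrank_le (J : Ideal A) (hJ : J ≤ RingHom.ker ε ^ 2) {P : Ideal (A ⧸ J)} [P.IsPrime]
    (hP : RingHom.ker ε = P.comap (Ideal.Quotient.mk J)) :
    Module.finrank k (Ideal.Cotangent (RingHom.ker ε)) ≤
      (maximalIdeal (Localization.AtPrime P)).spanFinrank := by
  classical
  haveI : IsNoetherianRing A := Algebra.FiniteType.isNoetherianRing k A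
  let L := Localization.AtPrime P
  obtain ⟨s, hs, hsp⟩ := (IsNoetherian.noetherian (R := L) (maximalIdeal L) : Submodule.FG _).exists_span_finset_card_eq_spanFinrank
  rw [← hs]
  have hg : ∀ z : s, ∃ g : RingHom.ker ε, ∃ t : (A ⧸ J), t ∉ P ∧
      (z : L) * algebraMap _ L t = algebraMap _ L (Ideal.Quotient.mk J (g : A)) := by
    intro z
    obtain ⟨⟨y, t⟩, ht⟩ := IsLocalization.surj P.primeCompl (z : L)
    obtain ⟨g, rfl⟩ := Ideal.Quotient.mk_surjective y
    refine ⟨⟨g, ?_⟩, t, t.2, ht⟩
    have hz : (z : L) ∈ maximalIdeal L := hsp ▸ Submodule.subset_span z.2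
    have hm : algebraMap _ L (Ideal.Quotient.mk J g) ∈ maximalIdeal L := ht ▸ Ideal.mul_mem_right _ _ hz
    rw [hP]
    exact (IsLocalization.AtPrime.to_map_mem_maximal_iff L P _).1 hm
  choose g t htP htg using hg
  have htop : Submodule.span k (Set.range fun z : s => (RingHom.ker ε).toCotangent (g z)) = ⊤ := by
    rw [eq_top_iff]
    intro c _
    obtain ⟨⟨b, hb⟩, rfl⟩ := Ideal.toCotangent_surjective _ c
    have hb' : algebraMap _ L (Ideal.Quotient.mk J b) ∈
        (Ideal.span (Set.range fun z : s => Ideal.Quotient.mk J (g z : A))).map (algebraMap _ L) := by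
      have h1 : algebraMap _ L (Ideal.Quotient.mk J b) ∈ maximalIdeal L :=
        (IsLocalization.AtPrime.to_map_mem_maximal_iff L P _).2 (by
          show b ∈ P.comap (Ideal.Quotient.mk J)
          rw [← hP]; exact hb)
      have h2 : maximalIdeal L ≤
          (Ideal.span (Set.range fun z : s => Ideal.Quotient.mk J (g z : A))).map (algebraMap _ L) := by
        rw [← hsp]
        refine Submodule.span_le.2 fun z hz => ?_
        have hu := IsLocalization.map_units L (⟨t ⟨z, hz⟩, htP ⟨z, hz⟩⟩ : P.primeCompl)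
        refine (Ideal.mul_unit_mem_iff_mem _ hu).1 ?_
        exact (htg ⟨z, hz⟩) ▸ Ideal.mem_map_of_mem _ (Ideal.subset_span ⟨_, rfl⟩)
      exact h2 h1
    obtain ⟨t', ht', htb⟩ := (IsLocalization.algebraMap_mem_map_algebraMap_iff P.primeCompl L _ _).1 hb'
    obtain ⟨t0, rfl⟩ := Ideal.Quotient.mk_surjective t'
    have ht0 : ε t0 ≠ 0 := fun h => ht' (by
      have : t0 ∈ P.comap (Ideal.Quotient.mk J) := hP ▸ RingHom.mem_ker.2 h
      exact this)
    rw [← map_mul, Set.range_comp' (Ideal.Quotient.mk J) (fun z : s => (g z : A)), ← Ideal.map_span,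
      Ideal.mem_quotient_iff_mem_sup] at htb
    obtain ⟨u, hu, j, hj, huj⟩ := Submodule.mem_sup.1 htb
    obtain ⟨cc, hcc⟩ := (Submodule.mem_span_range_iff_exists_fun A).1 hu
    have key : ε t0 • (RingHom.ker ε).toCotangent ⟨b, hb⟩ = ∑ z, ε (cc z) • (RingHom.ker ε).toCotangent (g z) := by
      simp only [← LinearMap.map_smul_of_tower, ← map_sum]
      rw [Ideal.toCotangent_eq]
      simp only [Submodule.coe_sum, Submodule.coe_smul_of_tower]
      have e : ε t0 • b - ∑ z, ε (cc z) • (g z : A) = j - (t0 - algebraMap k A (ε t0)) * b +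
          ∑ z, (cc z - algebraMap k A (ε (cc z))) * (g z : A) := by
        simp only [Algebra.smul_def, sub_mul, Finset.sum_sub_distrib]
        have hcc' : ∑ z, cc z * (g z : A) = u := hcc
        rw [hcc', ← huj]
        ring
      rw [e, pow_two]
      refine add_mem (sub_mem ((pow_two (RingHom.ker ε)).le (hJ hj)) (Ideal.mul_mem_mul (AugGraded.sub_mem t0) hb))
        (Ideal.sum_mem _ fun z _ => Ideal.mul_mem_mul (AugGraded.sub_mem _) (g z).2)
    have h3 := Submodule.sum_mem (Submodule.span k (Set.range fun z : s => (RingHom.ker ε).toCotangent (g z)))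
      (t := Finset.univ) (f := fun z => ε (cc z) • (RingHom.ker ε).toCotangent (g z))
      fun z _ => Submodule.smul_mem _ _ (Submodule.subset_span ⟨z, rfl⟩)
    rw [← key] at h3
    exact (Submodule.smul_mem_iff _ ht0).1 h3
  have := finrank_range_le_card (R := k) (fun z : s => (RingHom.ker ε).toCotangent (g z))
  rw [Set.finrank, htop, finrank_top] at this
  simpa using this

end Local

section Main

variable [IsAlgClosed k] {A : Type v} [CommRing A] [HopfAlgebra k A] [Algebra.FiniteType k A]

variable (k A) in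
theorem ringKrullDim_le :
    ringKrullDim A ≤ (Module.finrank k (Ideal.Cotangent (RingHom.ker (Bialgebra.counitAlgHom k A))) : WithBot ℕ∞) := by
  haveI : IsNoetherianRing A := Algebra.FiniteType.isNoetherianRing k A
  rw [← height_eq_ringKrullDim k (RingHom.ker (Bialgebra.counitAlgHom k A)),
    ← IsLocalization.AtPrime.ringKrullDim_eq_height _ (Localization.AtPrime (RingHom.ker (Bialgebra.counitAlgHom k A)))]
  exact (ringKrullDim_le_spanFinrank_maximalIdeal _).trans (by exact_mod_cast spanFinrank_le)

theorem regular_iff :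
    IsRegularLocalRing (Localization.AtPrime (RingHom.ker (Bialgebra.counitAlgHom k A))) ↔
    ringKrullDim A = (Module.finrank k (Ideal.Cotangent (RingHom.ker (Bialgebra.counitAlgHom k A))) : WithBot ℕ∞) := by
  haveI : IsNoetherianRing A := Algebra.FiniteType.isNoetherianRing k A
  rw [isRegularLocalRing_iff, IsLocalization.AtPrime.ringKrullDim_eq_height (RingHom.ker (Bialgebra.counitAlgHom k A)),
    height_eq_ringKrullDim k]
  have h1 := spanFinrank_le (k := k) (A := A)
  constructor
  · intro h
    refine le_antisymm (ringKrullDim_le k A) ?_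
    rw [← h]
    refine Nat.cast_le.2 ?_
    let π := Ideal.Quotient.mk (⊥ : Ideal A)
    let e : A ≃+* A ⧸ (⊥ : Ideal A) := (RingEquiv.quotientBot A).symm
    let P : Ideal (A ⧸ (⊥ : Ideal A)) := (RingHom.ker (Bialgebra.counitAlgHom k A)).comap e.symm.toRingHom
    haveI : P.IsPrime := Ideal.comap_isPrime _ _
    have hP : RingHom.ker (Bialgebra.counitAlgHom k A) = P.comap π := by
      ext a; simp [P, e, π]
    refine (finrank_le ⊥ bot_le hP).trans (le_of_eq ?_)
    let f := IsLocalization.ringEquivOfRingEquiv (M := (RingHom.ker (Bialgebra.counitAlgHom k A)).primeCompl) (T := P.primeCompl)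
      (Localization.AtPrime (RingHom.ker (Bialgebra.counitAlgHom k A))) (Localization.AtPrime P) e (by
        ext a
        simp only [Submonoid.mem_map]
        constructor
        · rintro ⟨b, hb, rfl⟩
          exact fun hc => hb (by simpa [P] using hc)
        · intro ha
          exact ⟨e.symm a, fun hc => ha (by simpa [P] using hc), e.apply_symm_apply a⟩)
    rw [← map_ringEquiv_maximalIdeal f, Ideal.spanFinrank_map_eq_of_ringEquiv]
  · intro h
    refine le_antisymm ?_ ?_
    · rw [h]; exact_mod_cast h1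
    · have h2 := ringKrullDim_le_spanFinrank_maximalIdeal (Localization.AtPrime (RingHom.ker (Bialgebra.counitAlgHom k A)))
      rwa [IsLocalization.AtPrime.ringKrullDim_eq_height (RingHom.ker (Bialgebra.counitAlgHom k A)),
        height_eq_ringKrullDim k] at h2

theorem isReduced_of_le (h : nilradical A ≤ RingHom.ker (Bialgebra.counitAlgHom k A) ^ 2) : IsReduced A := by
  classical
  haveI : IsNoetherianRing A := Algebra.FiniteType.isNoetherianRing k A
  haveI : Nontrivial A := (Bialgebra.counitAlgHom k A).toRingHom.domain_nontrivial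
  let I0 : Ideal A := RingHom.ker (Bialgebra.counitAlgHom k A)
  let B := A ⧸ nilradical A
  haveI : IsReduced B := (Ideal.isRadical_iff_quotient_reduced _).1 (Ideal.radical_isRadical _)
  haveI : Nontrivial B := Ideal.Quotient.nontrivial_iff.2 fun e => (RingHom.ker_ne_top (Bialgebra.counitAlgHom k A).toRingHom)
    (eq_top_iff.2 (e.ge.trans (h.trans (Ideal.pow_le_self two_ne_zero))))
  let π := Ideal.Quotient.mk (nilradical A)
  let P0 : Ideal B := I0.map π
  haveI : P0.IsMaximal := Ideal.IsMaximal.map_of_surjective_of_ker_le (f := π) Ideal.Quotient.mk_surjective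
    (by rw [Ideal.mk_ker]; exact nilradical_le_prime I0)
  have hP0 : I0 = P0.comap π := by
    rw [Ideal.comap_map_of_surjective _ Ideal.Quotient.mk_surjective, ← RingHom.ker_eq_comap_bot, Ideal.mk_ker]
    exact (sup_eq_left.2 (nilradical_le_prime I0)).symm
  obtain ⟨n, hn, hreg⟩ := exists_regular_maximal (k := k) B
  haveI : (n.comap π).IsMaximal := Ideal.comap_isMaximal_of_surjective π Ideal.Quotient.mk_surjective
  obtain ⟨e, he⟩ := exists_equiv_comap k I0 (n.comap π)
  have hmapnil : nilradical A = (nilradical A).map (e.toRingEquiv : A →+* A) := by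
    refine le_antisymm (fun a ha => ?_) (Ideal.map_le_iff_le_comap.2 fun a ha => ?_)
    · rw [mem_nilradical] at ha
      have h1 : e.symm a ∈ nilradical A := mem_nilradical.2 (ha.map e.symm)
      have h2 := Ideal.mem_map_of_mem (e.toRingEquiv : A →+* A) h1
      rwa [show (e.toRingEquiv : A →+* A) (e.symm a) = a from e.apply_symm_apply a] at h2
    · exact mem_nilradical.2 ((mem_nilradical.1 ha).map e)
  let eB : B ≃+* B := Ideal.quotientEquiv (nilradical A) (nilradical A) e.toRingEquiv hmapnil
  have hregP : IsRegularLocalRing (Localization.AtPrime P0) := by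
    refine regular_congr_equiv eB P0 n ?_ hreg
    ext b
    obtain ⟨a, rfl⟩ := Ideal.Quotient.mk_surjective b
    have : a ∈ n.comap π ↔ e a ∈ P0.comap π := by rw [← hP0, he]; rfl
    change π a ∈ n ↔ eB (π a) ∈ P0
    rw [show eB (π a) = π (e a) from rfl]
    exact this
  -- dimension
  have h1 : ((Module.finrank k (Ideal.Cotangent I0) : ℕ) : WithBot ℕ∞) ≤ ringKrullDim A := by
    refine (Nat.cast_le.2 (finrank_le (nilradical A) h hP0)).trans ?_
    rw [IsRegularLocalRing.spanFinrank_maximalIdeal, IsLocalization.AtPrime.ringKrullDim_eq_height P0]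
    exact (Ideal.height_le_ringKrullDim_of_ne_top (Ideal.IsMaximal.ne_top ‹_›)).trans
      (ringKrullDim_le_of_surjective π Ideal.Quotient.mk_surjective)
  have hr : IsRegularLocalRing (Localization.AtPrime I0) := regular_iff.2 (le_antisymm (ringKrullDim_le k A) h1)
  refine isReduced_ofLocalizationMaximal A fun m hm => ?_
  haveI := regular_atPrime k (m := m) hr
  haveI := Groth.L01.isDomain_of_regular (Localization.AtPrime m)
  infer_instance

end Main

end Groth.L08.HopfDim
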