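import Groth.Agent.L25.DerReduced
import Mathlib.RingTheory.HopfAlgebra.Basic
import Mathlib.RingTheory.HopfAlgebra.Convolution
import Mathlib.RingTheory.Coalgebra.Convolution
import Mathlib.RingTheory.Bialgebra.Convolution
import Mathlib.RingTheory.TensorProduct.Basic
import Mathlib.RingTheory.Jacobson.Ring
import Mathlib.FieldTheory.IsAlgClosed.Basic
import Mathlib.FieldTheory.IsAlgClosed.AlgebraicClosure
import Mathlib.RingTheory.HopfAlgebra.TensorProduct
import Mathlib.RingTheory.Flat.Basic
import Mathlib.RingTheory.FiniteStability
import Mathlib.RingTheory.Derivation.Basic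
import Mathlib.RingTheory.FiniteType

/-!
# Cartier's theorem for commutative Hopf algebras, in characteristic zero
-/

universe u v

open TensorProduct WithConv

noncomputable section

namespace Groth.L08.CartierRed

variable {k : Type u} [Field k] {A : Type v} [CommRing A] [HopfAlgebra k A]

/-- tangent vectors extend to invariant derivations -/
theorem exists_derivation_lift (χ : A →ₐ[k] k) (w : A →ₗ[k] k)
    (hw : ∀ a b, w (a * b) = χ a * w b + χ b * w a) :
    ∃ D : Derivation k A A, ∀ a, χ (D a) = w a := by
  classical
  let Q : A →ₐ[k] k := χ.comp (HopfAlgebra.antipodeAlgHom k A)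
  let w' : WithConv (A →ₗ[k] k) := toConv Q.toLinearMap * toConv w
  have hQ : toConv Q.toLinearMap * toConv χ.toLinearMap = 1 := by
    refine WithConv.ext (LinearMap.ext fun a => ?_)
    have h1 := congrArg χ
      (LinearMap.congr_fun (HopfAlgebra.mul_antipode_rTensor_comul (R := k) (A := A)) a)
    simp only [LinearMap.comp_apply, Algebra.linearMap_apply, AlgHom.commutes] at h1
    simp only [LinearMap.convMul_def, LinearMap.convOne_def, WithConv.ofConv_toConv, LinearMap.comp_apply]
    refine Eq.trans ?_ (h1.trans (by simp))
    generalize Coalgebra.comul (R := k) a = t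
    induction t using TensorProduct.induction_on with
    | zero => simp
    | add x y hx hy => simp only [map_add, hx, hy]
    | tmul x y => simp [Q]
  have hQ' : toConv χ.toLinearMap * toConv Q.toLinearMap = 1 := by
    refine WithConv.ext (LinearMap.ext fun a => ?_)
    have h1 := congrArg χ
      (LinearMap.congr_fun (HopfAlgebra.mul_antipode_lTensor_comul (R := k) (A := A)) a)
    simp only [LinearMap.comp_apply, Algebra.linearMap_apply, AlgHom.commutes] at h1
    simp only [LinearMap.convMul_def, LinearMap.convOne_def, WithConv.ofConv_toConv, LinearMap.comp_apply]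
    refine Eq.trans ?_ (h1.trans (by simp))
    generalize Coalgebra.comul (R := k) a = t
    induction t using TensorProduct.induction_on with
    | zero => simp
    | add x y hx hy => simp only [map_add, hx, hy]
    | tmul x y => simp [Q]
  have hw' : ∀ a b, w'.ofConv (a * b) =
      Coalgebra.counit (R := k) a * w'.ofConv b + Coalgebra.counit (R := k) b * w'.ofConv a := by
    intro a b
    have e : ∀ c, Coalgebra.counit (R := k) c = (toConv Q.toLinearMap * toConv χ.toLinearMap).ofConv c :=
      fun c => by rw [hQ]; simp [LinearMap.convOne_def]
    rw [e a, e b]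
    simp only [w', LinearMap.convMul_def, WithConv.ofConv_toConv, LinearMap.comp_apply, Bialgebra.comul_mul]
    generalize Coalgebra.comul (R := k) a = s
    generalize Coalgebra.comul (R := k) b = t
    induction s using TensorProduct.induction_on with
    | zero => simp
    | add x y hx hy => simp only [add_mul, map_add, hx, hy]; ring
    | tmul x y =>
      induction t using TensorProduct.induction_on with
      | zero => simp
      | add x' y' hx hy => simp only [mul_add, map_add, hx, hy]; ring
      | tmul x' y' => simp [hw]; ring
  let D₀ : A →ₗ[k] A :=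
    (TensorProduct.rid k A).toLinearMap ∘ₗ TensorProduct.map LinearMap.id w'.ofConv ∘ₗ Coalgebra.comul
  have hleib : ∀ a b, D₀ (a * b) = a • D₀ b + b • D₀ a := by
    intro a b
    have e : ∀ c : A, c = TensorProduct.rid k A (TensorProduct.map LinearMap.id (Coalgebra.counit (R := k))
        (Coalgebra.comul (R := k) c)) := by
      intro c
      have h := congrArg (TensorProduct.rid k A)
        (LinearMap.congr_fun (Coalgebra.lTensor_counit_comp_comul (R := k) (A := A)) c)
      simp only [LinearMap.comp_apply, LinearMap.flip_apply, TensorProduct.mk_apply, TensorProduct.rid_tmul,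
        one_smul] at h
      exact h.symm
    conv_rhs => arg 1; rw [e a]
    conv_rhs => arg 2; rw [e b]
    simp only [D₀, LinearMap.comp_apply, LinearEquiv.coe_coe, Bialgebra.comul_mul, smul_eq_mul]
    generalize Coalgebra.comul (R := k) a = s
    generalize Coalgebra.comul (R := k) b = t
    induction s using TensorProduct.induction_on with
    | zero => simp
    | add x y hx hy => simp only [add_mul, map_add, hx, hy, mul_add]; ring
    | tmul x y =>
      induction t using TensorProduct.induction_on with
      | zero => simp
      | add x' y' hx hy => simp only [mul_add, map_add, hx, hy, add_mul]; ring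
      | tmul x' y' =>
        simp only [Algebra.TensorProduct.tmul_mul_tmul, TensorProduct.map_tmul, LinearMap.id_apply,
          TensorProduct.rid_tmul, hw', Algebra.smul_def, map_add, map_mul]
        ring
  refine ⟨{ toLinearMap := D₀
            map_one_eq_zero' := ?_
            leibniz' := hleib }, fun a => ?_⟩
  · have := hleib 1 1
    simpa using this
  · have h2 : (toConv χ.toLinearMap * w').ofConv a = w a := by
      simp only [w', ← mul_assoc, hQ', one_mul, WithConv.ofConv_toConv]
    rw [← h2]
    show χ (D₀ a) = _
    simp only [D₀, LinearMap.comp_apply, LinearEquiv.coe_coe, LinearMap.convMul_def, WithConv.ofConv_toConv]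
    generalize Coalgebra.comul (R := k) a = s
    induction s using TensorProduct.induction_on with
    | zero => simp
    | add x y hx hy => simp only [map_add, hx, hy]
    | tmul x y => simp [mul_comm]

/-- a point through a maximal ideal -/
theorem exists_point_of_isMaximal [IsAlgClosed k] [Algebra.FiniteType k A] (m : Ideal A) [m.IsMaximal] :
    ∃ χ : A →ₐ[k] k, ∀ a, a - algebraMap k A (χ a) ∈ m := by
  letI := Ideal.Quotient.field m
  haveI : Algebra.FiniteType k (A ⧸ m) :=
    Algebra.FiniteType.of_surjective (Ideal.Quotient.mkₐ k m) Ideal.Quotient.mk_surjective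
  haveI : Module.Finite k (A ⧸ m) := finite_of_finite_type_of_isJacobsonRing k (A ⧸ m)
  let e := AlgEquiv.ofBijective (Algebra.ofId k (A ⧸ m)) IsAlgClosed.algebraMap_bijective_of_isIntegral
  refine ⟨e.symm.toAlgHom.comp (Ideal.Quotient.mkₐ k m), fun a => ?_⟩
  rw [← Ideal.Quotient.eq, Ideal.Quotient.mk_algebraMap]
  exact (e.apply_symm_apply _).symm

theorem isReduced [IsAlgClosed k] [CharZero k] [Algebra.FiniteType k A] : IsReduced A := by
  haveI : IsNoetherianRing A := Algebra.FiniteType.isNoetherianRing k A
  exact Groth.L25.DerReduced.isReduced (fun m hm => by haveI := hm; exact exists_point_of_isMaximal (k := k) m)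
    fun χ w _ hw => exists_derivation_lift χ w hw

/-- in characteristic zero a function vanishing at every rational point is zero -/
theorem eq_zero_of_forall_point [IsAlgClosed k] [CharZero k] [Algebra.FiniteType k A] {a : A}
    (h : ∀ χ : A →ₐ[k] k, χ a = 0) : a = 0 := by
  haveI := isReduced (k := k) (A := A)
  haveI : IsJacobsonRing A := isJacobsonRing_of_finiteType (A := k) (B := A)
  have hmem : a ∈ (⊥ : Ideal A).jacobson := by
    rw [Ideal.jacobson, Submodule.mem_sInf]
    rintro m ⟨-, hm⟩
    haveI := hm
    obtain ⟨χ, hχ⟩ := exists_point_of_isMaximal (k := k) m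
    simpa [h χ] using hχ a
  rw [← Ideal.radical_eq_jacobson, (Ideal.isRadical_bot (R := A)).radical] at hmem
  exact hmem

/-- Cartier: over any field of characteristic zero -/
theorem isReduced_of_charZero [CharZero k] [Algebra.FiniteType k A] : IsReduced A := by
  haveI : CharZero (AlgebraicClosure k) := charZero_of_injective_algebraMap (algebraMap k (AlgebraicClosure k)).injective
  haveI : IsReduced (AlgebraicClosure k ⊗[k] A) :=
    isReduced (k := AlgebraicClosure k) (A := AlgebraicClosure k ⊗[k] A)
  exact isReduced_of_injective (Algebra.TensorProduct.includeRight : A →ₐ[k] AlgebraicClosure k ⊗[k] A)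
    (Algebra.TensorProduct.includeRight_injective (algebraMap k (AlgebraicClosure k)).injective)

omit [Field k] [CommRing A] [HopfAlgebra k A] in
/-- points in the algebraic closure separate a reduced algebra of finite type -/
theorem eq_zero_of_forall_closure_point {k : Type u} [Field k] {B : Type v} [CommRing B] [Algebra k B]
    [Algebra.FiniteType k B] [IsReduced B] {b : B}
    (h : ∀ g : B →ₐ[k] AlgebraicClosure k, g b = 0) : b = 0 := by
  haveI : IsJacobsonRing B := isJacobsonRing_of_finiteType (A := k) (B := B)
  have hmem : b ∈ (⊥ : Ideal B).jacobson := by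
    rw [Ideal.jacobson, Submodule.mem_sInf]
    rintro m ⟨-, hm⟩
    letI := Ideal.Quotient.field m
    haveI : Algebra.FiniteType k (B ⧸ m) :=
      Algebra.FiniteType.of_surjective (Ideal.Quotient.mkₐ k m) Ideal.Quotient.mk_surjective
    haveI : Module.Finite k (B ⧸ m) := finite_of_finite_type_of_isJacobsonRing k (B ⧸ m)
    let ι : B ⧸ m →ₐ[k] AlgebraicClosure k := IsAlgClosed.lift
    have h1 : ι (Ideal.Quotient.mkₐ k m b) = 0 := h (ι.comp (Ideal.Quotient.mkₐ k m))
    rw [map_eq_zero] at h1
    exact Ideal.Quotient.eq_zero_iff_mem.1 h1
  rw [← Ideal.radical_eq_jacobson, (Ideal.isRadical_bot (R := B)).radical] at hmem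
  exact hmem

end Groth.L08.CartierRed
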