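import Groth.Agent.L08.Basic
import Groth.Prelude.Def_W4c1tameactTame
import Mathlib.RingTheory.HopfAlgebra.Convolution
import Mathlib.RingTheory.Spectrum.Prime.Basic

/-!
# Total integrals and relative Hopf modules
-/

universe u v w w' w''

open TensorProduct WithConv

noncomputable section

namespace Groth.L08

/-- A coaction-algebra is a relative Hopf module over itself. -/
instance isHopfMod_self {k : Type u} [CommRing k] {A : Type v} [CommRing A] [Bialgebra k A]
    {B : Type w} [CommRing B] [Algebra k B] [HopfRep.Comod k A B] [GLin.IsCoactAlg k A B] :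
    TameAct.IsHopfMod k A B B := ⟨fun b m => by
  rw [smul_eq_mul, GLin.IsCoactAlg.coact_mul]
  induction HopfRep.Comod.coact (k := k) (A := A) b with
  | zero => simp
  | add x y hx hy => simp only [add_mul, map_add, LinearMap.add_apply, hx, hy]
  | tmul b' a =>
    induction HopfRep.Comod.coact (k := k) (A := A) m with
    | zero => simp
    | add x y hx hy => simp only [mul_add, map_add, hx, hy]
    | tmul m' a' => simp⟩

section Antipode

variable (k : Type u) [CommRing k] (A : Type v) [CommRing A] [HopfAlgebra k A]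

/-- `d ⊗ c ↦ (1 ⊗ d) * Δ (S c)`. -/
def twist : A ⊗[k] A →ₗ[k] A ⊗[k] A :=
  LinearMap.mul' k (A ⊗[k] A) ∘ₗ TensorProduct.map
    (Algebra.TensorProduct.includeRight : A →ₐ[k] A ⊗[k] A).toLinearMap
    (Coalgebra.comul ∘ₗ HopfAlgebraStruct.antipode (R := k) (A := A))

theorem twist_tmul (d c : A) :
    twist k A (d ⊗ₜ c) = ((1 : A) ⊗ₜ[k] d) *
      Coalgebra.comul (R := k) (HopfAlgebraStruct.antipode (R := k) c) := by
  simp [twist]

variable {k A}

theorem twist_comul (c : A) :
    twist k A (Coalgebra.comul (R := k) c) =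
      HopfAlgebraStruct.antipode (R := k) c ⊗ₜ[k] (1 : A) := by
  let inl : A →ₐ[k] A ⊗[k] A := Algebra.TensorProduct.includeLeft
  let inr : A →ₐ[k] A ⊗[k] A := Algebra.TensorProduct.includeRight
  let D : A →ₐ[k] A ⊗[k] A := Bialgebra.comulAlgHom k A
  let S : A →ₗ[k] A := HopfAlgebraStruct.antipode (R := k)
  have hinv : ∀ f : A →ₐ[k] A ⊗[k] A,
      toConv f.toLinearMap * toConv (f.toLinearMap ∘ₗ S) = 1 ∧
        toConv (f.toLinearMap ∘ₗ S) * toConv f.toLinearMap = 1 := by
    intro f
    constructor <;>
    · refine WithConv.ofConv_injective (LinearMap.ext fun a => ?_)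
      rw [LinearMap.convOne_apply, LinearMap.convMul_apply]
      first
        | (rw [← AlgHom.commutes f, ← LinearMap.convOne_apply (C := A), ← LinearMap.id_mul_antipode,
            LinearMap.convMul_apply]
           induction Coalgebra.comul (R := k) a with
           | zero => simp
           | add x y hx hy => simp only [map_add, hx, hy]
           | tmul x y => simp [S, map_mul])
        | (rw [← AlgHom.commutes f, ← LinearMap.convOne_apply (C := A), ← LinearMap.antipode_mul_id,
            LinearMap.convMul_apply]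
           induction Coalgebra.comul (R := k) a with
           | zero => simp
           | add x y hx hy => simp only [map_add, hx, hy]
           | tmul x y => simp [S, map_mul])
  have hD : toConv inl.toLinearMap * toConv inr.toLinearMap = toConv D.toLinearMap := by
    refine WithConv.ofConv_injective (LinearMap.ext fun a => ?_)
    rw [LinearMap.convMul_apply]
    change _ = Coalgebra.comul (R := k) a
    induction Coalgebra.comul (R := k) a with
    | zero => simp
    | add x y hx hy => simp only [map_add, hx, hy]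
    | tmul x y => simp [inl, inr]
  have h : toConv inr.toLinearMap * toConv (D.toLinearMap ∘ₗ S) = toConv (inl.toLinearMap ∘ₗ S) :=
    calc toConv inr.toLinearMap * toConv (D.toLinearMap ∘ₗ S)
        = (toConv (inl.toLinearMap ∘ₗ S) * toConv inl.toLinearMap) * toConv inr.toLinearMap *
            toConv (D.toLinearMap ∘ₗ S) := by rw [(hinv inl).2, one_mul]
      _ = toConv (inl.toLinearMap ∘ₗ S) *
            (toConv D.toLinearMap * toConv (D.toLinearMap ∘ₗ S)) := by
          rw [← hD]; simp only [mul_assoc]
      _ = _ := by rw [(hinv D).1, mul_one]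
  have h' := congrArg (fun F : WithConv (A →ₗ[k] A ⊗[k] A) => F.ofConv c) h
  simp only [LinearMap.convMul_apply] at h'
  exact h'

end Antipode

section Lam

variable {k : Type u} [CommRing k] {A : Type v} [CommRing A] [HopfAlgebra k A]
  {B : Type w} [CommRing B] [Algebra k B]
  {M : Type w'} [AddCommGroup M] [Module k M] [Module B M] [IsScalarTower k B M]

variable (M) in
/-- `(n ⊗ c) ⊗ a ↦ α (S c * a) • n`. -/
def hm (α : A →ₗ[k] B) : (M ⊗[k] A) ⊗[k] A →ₗ[k] M :=
  TensorProduct.lift (Algebra.lsmul k k M : B →ₐ[k] Module.End k M).toLinearMap.flip ∘ₗ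
    (α ∘ₗ LinearMap.mul' k A ∘ₗ (HopfAlgebraStruct.antipode (R := k) (A := A)).rTensor A).lTensor M ∘ₗ
    (TensorProduct.assoc k M A A).toLinearMap

omit [IsScalarTower k B M] in
@[simp] theorem hm_tmul [IsScalarTower k B M] (α : A →ₗ[k] B) (n : M) (c a : A) :
    hm M α ((n ⊗ₜ c) ⊗ₜ a) = α (HopfAlgebraStruct.antipode (R := k) c * a) • n := by
  simp [hm]

variable [HopfRep.Comod k A M]

variable (M) in
/-- The retraction `m ⊗ a ↦ Σ α (S m₁ * a) • m₀` of the coaction. -/
def lam (α : A →ₗ[k] B) : M ⊗[k] A →ₗ[k] M :=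
  hm M α ∘ₗ (HopfRep.Comod.coact (k := k) (A := A)).rTensor A

theorem lam_tmul (α : A →ₗ[k] B) (m : M) (a : A) :
    lam M α (m ⊗ₜ a) = hm M α (HopfRep.Comod.coact (k := k) (A := A) m ⊗ₜ a) := rfl

theorem reynolds_eq (α : A →ₗ[k] B) (m : M) :
    TameAct.reynolds k A B M α m = lam M α (m ⊗ₜ 1) := by
  rw [lam_tmul, TameAct.reynolds]
  simp only [LinearMap.comp_apply]
  induction HopfRep.Comod.coact (k := k) (A := A) m with
  | zero => simp
  | add x y hx hy => simp only [map_add, add_tmul, hx, hy]
  | tmul n c => simp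

variable {α : A →ₗ[k] B}

theorem lam_coact (h1 : α 1 = 1) (m : M) :
    lam M α (HopfRep.Comod.coact (k := k) (A := A) m) = m := by
  let H : M ⊗[k] (A ⊗[k] A) →ₗ[k] M := hm M α ∘ₗ (TensorProduct.assoc k M A A).symm.toLinearMap
  have h : lam M α (HopfRep.Comod.coact (k := k) (A := A) m) =
      H (TensorProduct.assoc k M A A
        ((HopfRep.Comod.coact (k := k) (A := A) (V := M)).rTensor A
          (HopfRep.Comod.coact (k := k) (A := A) m))) := by
    simp [H, lam]
  rw [h, coassoc_apply]
  have h' : ∀ y : M ⊗[k] A, H ((Coalgebra.comul (R := k) (A := A)).lTensor M y) =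
      TensorProduct.rid k M ((Coalgebra.counit (R := k) (A := A)).lTensor M y) := by
    intro y
    induction y with
    | zero => simp
    | add x y hx hy => simp only [map_add, hx, hy]
    | tmul n c =>
      simp only [LinearMap.lTensor_tmul, TensorProduct.rid_tmul]
      have : ∀ z : A ⊗[k] A, H (n ⊗ₜ z) =
          α (LinearMap.mul' k A ((HopfAlgebraStruct.antipode (R := k)).rTensor A z)) • n := by
        intro z
        induction z with
        | zero => simp
        | add x y hx hy => simp only [tmul_add, map_add, add_smul, hx, hy]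
        | tmul d e => simp [H]
      rw [this, HopfAlgebra.mul_antipode_rTensor_comul_apply, Algebra.algebraMap_eq_smul_one,
        map_smul, h1, smul_assoc, one_smul]
  rw [h', counit_apply]
  simp

variable [HopfRep.Comod k A B] [GLin.IsCoactAlg k A B] [TameAct.IsHopfMod k A B M]

omit [GLin.IsCoactAlg k A B] in
/-- The key identity, asking comodule compatibility of `α` only where it is needed. -/
theorem coact_lam_of (D : Submodule k A) (m : M) (a : A)
    (hmem : HopfRep.Comod.coact (k := k) (A := A) m ∈ LinearMap.range (D.subtype.lTensor M))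
    (hD : ∀ c ∈ D, HopfRep.Comod.coact (k := k) (A := A)
        (α (HopfAlgebraStruct.antipode (R := k) c * a)) =
      α.rTensor A (Coalgebra.comul (R := k) (HopfAlgebraStruct.antipode (R := k) c * a))) :
    HopfRep.Comod.coact (k := k) (A := A) (lam M α (m ⊗ₜ a)) =
      (lam M α).rTensor A ((TensorProduct.assoc k M A A).symm (m ⊗ₜ Coalgebra.comul (R := k) a)) := by
  let act : M →ₗ[k] A →ₗ[k] M :=
    (LinearMap.lcomp k M α) ∘ₗ (Algebra.lsmul k k M : B →ₐ[k] Module.End k M).toLinearMap.flip
  have hact : ∀ n x, act n x = α x • n := fun n x => rfl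
  let Φ : M →ₗ[k] A ⊗[k] A →ₗ[k] M ⊗[k] A := LinearMap.rTensorHom A ∘ₗ act
  have hΦ : ∀ n x y, Φ n (x ⊗ₜ y) = (α x • n) ⊗ₜ[k] y := fun n x y => rfl
  let Da : A ⊗[k] A := Coalgebra.comul (R := k) a
  let E : A ⊗[k] A →ₗ[k] A ⊗[k] A := LinearMap.mulRight k Da ∘ₗ twist k A
  let F : M ⊗[k] (A ⊗[k] A) →ₗ[k] M ⊗[k] A :=
    TensorProduct.lift (LinearMap.lcomp k (M ⊗[k] A) E ∘ₗ Φ)
  have hF : ∀ n z, F (n ⊗ₜ z) = Φ n (twist k A z * Da) := fun n z => rfl
  have key : ∀ (X : A ⊗[k] A) (n : M) (d : A),
      TameAct.hmSMul k A B M (α.rTensor A X) (n ⊗ₜ d) = Φ n (((1 : A) ⊗ₜ d) * X) := by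
    intro X n d
    induction X with
    | zero => simp
    | add x y hx hy => simp only [map_add, LinearMap.add_apply, mul_add, hx, hy]
    | tmul x y => simp [hΦ, mul_comm d]
  have step1 : ∀ (n : M), ∀ c ∈ D,
      HopfRep.Comod.coact (k := k) (A := A) (hm M α ((n ⊗ₜ c) ⊗ₜ a)) =
        F (TensorProduct.assoc k M A A (HopfRep.Comod.coact (k := k) (A := A) n ⊗ₜ c)) := by
    intro n c hc
    rw [hm_tmul, TameAct.IsHopfMod.coact_smul (k := k) (A := A) (B := B)]
    rw [hD c hc, Bialgebra.comul_mul]
    induction HopfRep.Comod.coact (k := k) (A := A) n with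
    | zero => simp
    | add x y hx hy => simp only [map_add, add_tmul, hx, hy]
    | tmul n₀ d => rw [key, TensorProduct.assoc_tmul, hF, twist_tmul, mul_assoc]
  have e1 : HopfRep.Comod.coact (k := k) (A := A) (lam M α (m ⊗ₜ a)) =
      F (TensorProduct.assoc k M A A
        ((HopfRep.Comod.coact (k := k) (A := A) (V := M)).rTensor A
          (HopfRep.Comod.coact (k := k) (A := A) m))) := by
    rw [lam_tmul]
    obtain ⟨y, hy⟩ := hmem
    rw [← hy]
    clear hy
    induction y with
    | zero => simp
    | add x y hx hy => simp only [map_add, add_tmul, hx, hy]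
    | tmul n c => rw [LinearMap.lTensor_tmul, LinearMap.rTensor_tmul, Submodule.subtype_apply, step1 n _ c.2]
  rw [e1, coassoc_apply]
  change _ = (lam M α).rTensor A ((TensorProduct.assoc k M A A).symm (m ⊗ₜ Da))
  have e2 : ∀ z : A ⊗[k] A, (lam M α).rTensor A ((TensorProduct.assoc k M A A).symm (m ⊗ₜ z)) =
      TensorProduct.lift (LinearMap.lcomp k (M ⊗[k] A) (LinearMap.mulRight k z ∘ₗ
        (TensorProduct.mk k A A).flip 1 ∘ₗ HopfAlgebraStruct.antipode (R := k)) ∘ₗ Φ)
        (HopfRep.Comod.coact (k := k) (A := A) m) := by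
    intro z
    induction z with
    | zero =>
      induction HopfRep.Comod.coact (k := k) (A := A) m with
      | zero => simp
      | add u w hu hw => rw [map_add, ← hu, ← hw]; simp
      | tmul n c => simp
    | add x y hx hy =>
      simp only [tmul_add, map_add, hx, hy]
      induction HopfRep.Comod.coact (k := k) (A := A) m with
      | zero => simp
      | add u w hu hw => simp only [map_add, ← hu, ← hw]; abel
      | tmul n c => simp [mul_add]
    | tmul x y =>
      rw [TensorProduct.assoc_symm_tmul, LinearMap.rTensor_tmul, lam_tmul]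
      induction HopfRep.Comod.coact (k := k) (A := A) m with
      | zero => simp
      | add u w hu hw => simp only [map_add, add_tmul, hu, hw]
      | tmul n c => simp [hΦ]
  rw [e2]
  induction HopfRep.Comod.coact (k := k) (A := A) m with
  | zero => simp
  | add x y hx hy => simp only [map_add, hx, hy]
  | tmul n c =>
    rw [LinearMap.lTensor_tmul, hF, twist_comul]
    rfl

omit [GLin.IsCoactAlg k A B] in
theorem coact_lam (hα : Hoch.IsComodHom A α) (m : M) (a : A) :
    HopfRep.Comod.coact (k := k) (A := A) (lam M α (m ⊗ₜ a)) =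
      (lam M α).rTensor A ((TensorProduct.assoc k M A A).symm (m ⊗ₜ Coalgebra.comul (R := k) a)) :=
  coact_lam_of ⊤ m a
    (LinearMap.lTensor_surjective M (g := (⊤ : Submodule k A).subtype)
      (fun x => ⟨⟨x, trivial⟩, rfl⟩) _)
    fun _ _ => LinearMap.congr_fun hα _

variable (M α) in
/-- `lam` as a map out of the induced comodule. -/
def lamInd : Hoch.Ind k A M →ₗ[k] M := lam M α ∘ₗ (Hoch.Ind.equiv k A M).symm.toLinearMap

omit [HopfRep.Comod k A B] [GLin.IsCoactAlg k A B] [TameAct.IsHopfMod k A B M] in
theorem lamInd_comp_toInd (h1 : α 1 = 1) :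
    lamInd M α ∘ₗ Hoch.toInd k A M = LinearMap.id :=
  LinearMap.ext fun m => lam_coact h1 m

theorem isComodHom_lamInd (hα : Hoch.IsComodHom A α) : Hoch.IsComodHom A (lamInd M α) := by
  refine LinearMap.ext fun x => ?_
  obtain ⟨y, rfl⟩ := (Hoch.Ind.equiv k A M).surjective x
  induction y with
  | zero => simp
  | add a b ha hb => simp only [map_add, ha, hb]
  | tmul m a => exact coact_lam hα m a

theorem reynolds_mem_fixedPts (hα : Hoch.IsComodHom A α) (m : M) :
    TameAct.reynolds k A B M α m ∈ HopfRep.fixedPts k A M := by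
  change _ = _
  rw [reynolds_eq, coact_lam hα, Bialgebra.comul_one, Algebra.TensorProduct.one_def]
  simp

omit [HopfRep.Comod k A B] [GLin.IsCoactAlg k A B] [TameAct.IsHopfMod k A B M] in
theorem reynolds_of_mem_fixedPts (h1 : α 1 = 1) {m : M} (hm : m ∈ HopfRep.fixedPts k A M) :
    TameAct.reynolds k A B M α m = m := by
  have hm' : HopfRep.Comod.coact (k := k) (A := A) m = m ⊗ₜ[k] (1 : A) := hm
  rw [reynolds_eq, ← hm', lam_coact h1]

theorem coact_smul_of_mem_invariants {c : B} (hc : c ∈ GLin.invariants k A B) (m : M) :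
    HopfRep.Comod.coact (k := k) (A := A) (c • m) =
      ((Algebra.lsmul k k M : B →ₐ[k] Module.End k M) c).rTensor A
        (HopfRep.Comod.coact (k := k) (A := A) m) := by
  have hc' : HopfRep.Comod.coact (k := k) (A := A) c = c ⊗ₜ[k] (1 : A) := hc
  rw [TameAct.IsHopfMod.coact_smul (k := k) (A := A) (B := B), hc']
  induction HopfRep.Comod.coact (k := k) (A := A) m with
  | zero => simp
  | add x y hx hy => simp only [map_add, hx, hy]
  | tmul n a => simp

theorem reynolds_smul {c : B} (hc : c ∈ GLin.invariants k A B) (m : M) :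
    TameAct.reynolds k A B M α (c • m) = c • TameAct.reynolds k A B M α m := by
  rw [reynolds_eq, reynolds_eq, lam_tmul, lam_tmul, coact_smul_of_mem_invariants hc]
  induction HopfRep.Comod.coact (k := k) (A := A) m with
  | zero => simp
  | add x y hx hy => simp only [map_add, add_tmul, smul_add, hx, hy]
  | tmul n a => simp [smul_comm c]

omit [HopfRep.Comod k A B] [GLin.IsCoactAlg k A B] [TameAct.IsHopfMod k A B M] in
theorem reynolds_mem_of_isSubcomod {N : Submodule B M}
    (hN : HopfRep.IsSubcomod (k := k) (A := A) (N.restrictScalars k)) {m : M} (hm' : m ∈ N) :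
    TameAct.reynolds k A B M α m ∈ N := by
  obtain ⟨y, hy⟩ := hN m hm'
  rw [reynolds_eq, lam_tmul, ← hy]
  clear hy
  induction y with
  | zero => simp
  | add a b ha hb => simpa only [map_add, add_tmul] using add_mem ha hb
  | tmul n a => simpa using N.smul_mem _ n.2

omit [HopfRep.Comod k A B] [GLin.IsCoactAlg k A B] [TameAct.IsHopfMod k A B M] in
theorem reynolds_natural {N : Type w''} [AddCommGroup N] [Module k N] [Module B N]
    [IsScalarTower k B N] [HopfRep.Comod k A N] (f : M →ₗ[B] N)
    (hf : Hoch.IsComodHom A (f.restrictScalars k)) (m : M) :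
    f (TameAct.reynolds k A B M α m) = TameAct.reynolds k A B N α (f m) := by
  have h : HopfRep.Comod.coact (k := k) (A := A) (f m) =
      (f.restrictScalars k).rTensor A (HopfRep.Comod.coact (k := k) (A := A) m) :=
    LinearMap.congr_fun hf m
  rw [reynolds_eq, reynolds_eq, lam_tmul, lam_tmul, h]
  induction HopfRep.Comod.coact (k := k) (A := A) m with
  | zero => simp
  | add x y hx hy => simp only [map_add, add_tmul, hx, hy]
  | tmul n a => simp

end Lam

section Ideals

variable {k : Type u} [CommRing k] {A : Type v} [CommRing A] [HopfAlgebra k A]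
  {B : Type w} [CommRing B] [Algebra k B] [HopfRep.Comod k A B] [GLin.IsCoactAlg k A B]
  {α : A →ₗ[k] B}

/-- The Reynolds operator as a linear retraction of `B` onto the invariants. -/
def reynoldsInv (hα : Hoch.IsComodHom A α) : B →ₗ[GLin.invariants k A B] GLin.invariants k A B where
  toFun b := ⟨TameAct.reynolds k A B B α b, reynolds_mem_fixedPts hα b⟩
  map_add' x y := Subtype.ext (map_add (TameAct.reynolds k A B B α) x y)
  map_smul' c b := Subtype.ext (reynolds_smul (α := α) c.2 b)

theorem reynoldsInv_algebraMap (hα : Hoch.IsComodHom A α) (h1 : α 1 = 1)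
    (c : GLin.invariants k A B) :
    reynoldsInv hα (algebraMap (GLin.invariants k A B) B c) = c :=
  Subtype.ext (reynolds_of_mem_fixedPts h1 c.2)

theorem reynoldsInv_mem_of_mem_map (hα : Hoch.IsComodHom A α)
    (c : Ideal (GLin.invariants k A B)) {x : B}
    (hx : x ∈ c.map (algebraMap (GLin.invariants k A B) B)) : reynoldsInv hα x ∈ c := by
  suffices h : ∀ b : B, reynoldsInv hα (b * x) ∈ c by simpa using h 1
  unfold Ideal.map at hx
  induction hx using Submodule.span_induction with
  | mem y hy =>
    obtain ⟨i, hi, rfl⟩ := hy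
    intro b
    have e : b * algebraMap (GLin.invariants k A B) B i = i • b := by
      rw [Algebra.smul_def, mul_comm]
    rw [e, map_smul, smul_eq_mul]
    exact c.mul_mem_right _ hi
  | zero => intro b; simp
  | add y z _ _ hy hz => intro b; rw [mul_add, map_add]; exact add_mem (hy b) (hz b)
  | smul r y _ hy => intro b; rw [smul_eq_mul, ← mul_assoc]; exact hy (b * r)

theorem comap_map_invariants (hα : Hoch.IsComodHom A α) (h1 : α 1 = 1)
    (c : Ideal (GLin.invariants k A B)) :
    (c.map (algebraMap (GLin.invariants k A B) B)).comap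
      (algebraMap (GLin.invariants k A B) B) = c := by
  refine le_antisymm (fun x hx => ?_) Ideal.le_comap_map
  have := reynoldsInv_mem_of_mem_map hα c hx
  rwa [reynoldsInv_algebraMap hα h1] at this

end Ideals

end Groth.L08
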