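import Groth.Agent.L08.Basic
import Groth.Agent.L08.Integral
import Groth.Prelude.Def_ComodDual
import Groth.Prelude.Def_ComodSub
import Mathlib.RingTheory.Flat.EquationalCriterion
import Mathlib.LinearAlgebra.Contraction

/-!
# Left and right comodules, duals
-/

universe u v w w'

open TensorProduct WithConv

noncomputable section

namespace Groth.L08

/-- `dualTensorHom` is bijective for a finitely presented module into a flat module. -/
theorem dualTensorHom_bijective_of_flat {k : Type u} [CommRing k] (M : Type v) [AddCommGroup M]
    [Module k M] [Module.FinitePresentation k M] (N : Type w) [AddCommGroup N] [Module k N]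
    [Module.Flat k N] : Function.Bijective (dualTensorHom k M N) := by
  constructor
  · rw [injective_iff_map_eq_zero]
    intro z hz
    obtain ⟨n, φ, m, rfl⟩ : ∃ (n : ℕ) (φ : Fin n → Module.Dual k M) (m : Fin n → N),
        z = ∑ i, φ i ⊗ₜ[k] m i := by
      obtain ⟨s, rfl⟩ := TensorProduct.exists_finset z
      exact ⟨s.card, fun i => (s.equivFin.symm i).1.1, fun i => (s.equivFin.symm i).1.2, by
        rw [← Finset.sum_attach s, ← Finset.univ_eq_attach]
        exact (s.equivFin.symm.sum_comp (fun x : s => x.1.1 ⊗ₜ[k] x.1.2)).symm⟩
    let y : (Fin n → k) →ₗ[k] N := Fintype.linearCombination k m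
    let f : M →ₗ[k] (Fin n → k) := LinearMap.pi φ
    have hyf : y ∘ₗ f = 0 := by
      ext x
      have := LinearMap.congr_fun hz x
      simpa [y, f, Fintype.linearCombination_apply] using this
    obtain ⟨l, a, y', hy, haf⟩ := Module.Flat.exists_factorization_of_comp_eq_zero_of_free hyf
    classical
    have hm : ∀ i, m i = ∑ j, a (Pi.single i 1) j • y' (Finsupp.single j 1) := fun i => by
      have : y (Pi.single i 1) = m i := by simp [y]
      rw [← this, hy, LinearMap.comp_apply]
      conv_lhs => rw [← Finsupp.univ_sum_single (a (Pi.single i 1))]
      rw [map_sum]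
      exact Finset.sum_congr rfl fun j _ => by rw [← map_smul]; simp
    have hz' : ∀ j, ∑ i, a (Pi.single i 1) j • φ i = 0 := fun j => by
      ext x
      have h := congrArg (fun w => w j) (LinearMap.congr_fun haf x)
      simp only [LinearMap.comp_apply, LinearMap.zero_apply, Finsupp.coe_zero, Pi.zero_apply] at h
      rw [show f x = ∑ i, f x i • (Pi.single i 1 : Fin n → k) from pi_eq_sum_univ' _] at h
      simpa [f, Finsupp.finsetSum_apply, mul_comm] using h
    simp_rw [hm, TensorProduct.tmul_sum]
    rw [Finset.sum_comm]
    refine Finset.sum_eq_zero fun j _ => ?_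
    have := congrArg (fun w => w ⊗ₜ[k] y' (Finsupp.single j 1)) (hz' j)
    simp only [TensorProduct.sum_tmul, TensorProduct.zero_tmul] at this
    simpa [TensorProduct.smul_tmul] using this
  · intro h
    obtain ⟨l, a, y, hh⟩ := Module.Flat.exists_factorization_of_finitePresentation h
    refine ⟨∑ j, (Finsupp.lapply j ∘ₗ a) ⊗ₜ[k] y (Finsupp.single j 1), ?_⟩
    ext x
    rw [hh, LinearMap.comp_apply]
    conv_rhs => rw [← Finsupp.univ_sum_single (a x)]
    rw [map_sum, LinearMap.sum_apply, map_sum]
    refine Finset.sum_congr rfl fun j _ => ?_
    rw [dualTensorHom_apply, ← map_smul]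
    simp

section Antipode

variable (k : Type u) [CommRing k] (A : Type v) [CommRing A] [HopfAlgebra k A]

/-- The antipode is a coalgebra anti-map. -/
theorem comul_antipode (a : A) :
    Coalgebra.comul (R := k) (HopfAlgebraStruct.antipode (R := k) a) =
      TensorProduct.map (HopfAlgebraStruct.antipode (R := k)) (HopfAlgebraStruct.antipode (R := k))
        (TensorProduct.comm k A A (Coalgebra.comul (R := k) a)) := by
  let S : A →ₗ[k] A := HopfAlgebraStruct.antipode (R := k)
  have key : ∀ c : A, Coalgebra.comul (R := k) (S c) =
      TensorProduct.map S S (TensorProduct.comm k A A (Coalgebra.comul (R := k) c)) := by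
    intro c
    let inl : A →ₐ[k] A ⊗[k] A := Algebra.TensorProduct.includeLeft
    let inr : A →ₐ[k] A ⊗[k] A := Algebra.TensorProduct.includeRight
    let D : A →ₐ[k] A ⊗[k] A := Bialgebra.comulAlgHom k A
    have hinv : ∀ f : A →ₐ[k] A ⊗[k] A,
        toConv f.toLinearMap * toConv (f.toLinearMap ∘ₗ S) = 1 ∧
          toConv (f.toLinearMap ∘ₗ S) * toConv f.toLinearMap = 1 := by
      intro f
      constructor <;>
      · refine WithConv.ofConv_injective (LinearMap.ext fun a => ?_)
        rw [LinearMap.convOne_apply, LinearMap.convMul_apply]
        first
          | (rw [← AlgHom.commutes f, ← LinearMap.convOne_apply (C := A),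
              ← LinearMap.id_mul_antipode, LinearMap.convMul_apply]
             induction Coalgebra.comul (R := k) a with
             | zero => simp
             | add x y hx hy => simp only [map_add, hx, hy]
             | tmul x y => simp [S, map_mul])
          | (rw [← AlgHom.commutes f, ← LinearMap.convOne_apply (C := A),
              ← LinearMap.antipode_mul_id, LinearMap.convMul_apply]
             induction Coalgebra.comul (R := k) a with
             | zero => simp
             | add x y hx hy => simp only [map_add, hx, hy]
             | tmul x y => simp [S, map_mul])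
    have hD : toConv inl.toLinearMap * toConv inr.toLinearMap = toConv D.toLinearMap := by
      refine WithConv.ofConv_injective (LinearMap.ext fun a => ?_)
      rw [LinearMap.convMul_apply]
      change _ = Coalgebra.comul (R := k) a
      induction Coalgebra.comul (R := k) a with
      | zero => simp
      | add x y hx hy => simp only [map_add, hx, hy]
      | tmul x y => simp [inl, inr]
    have h1 : (toConv (inr.toLinearMap ∘ₗ S) * toConv (inl.toLinearMap ∘ₗ S)) *
        toConv D.toLinearMap = 1 := by
      rw [← hD, mul_assoc, ← mul_assoc (toConv (inl.toLinearMap ∘ₗ S)), (hinv inl).2, one_mul,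
        (hinv inr).2]
    have h2 : toConv (inr.toLinearMap ∘ₗ S) * toConv (inl.toLinearMap ∘ₗ S) =
        toConv (D.toLinearMap ∘ₗ S) := left_inv_eq_right_inv h1 (hinv D).1
    have h' := congrArg (fun F : WithConv (A →ₗ[k] A ⊗[k] A) => F.ofConv c) h2
    simp only [LinearMap.convMul_apply] at h'
    refine Eq.trans h'.symm ?_
    induction Coalgebra.comul (R := k) c with
    | zero => simp
    | add x y hx hy => simp only [map_add, hx, hy]
    | tmul x y => simp [inl, inr]
  exact key a

variable {k A} {M : Type w} [AddCommGroup M] [Module k M]

/-- The left comodule attached to a right one. -/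
def lOfRight (c : HopfRep.Comod k A M) : ComodSub.LComod k A M where
  coact := ComodSub.lcoactOfRight c
  coassoc := by
    letI := c
    refine LinearMap.ext fun v => ?_
    let S : A →ₗ[k] A := HopfAlgebraStruct.antipode (R := k)
    let Q : M ⊗[k] (A ⊗[k] A) →ₗ[k] A ⊗[k] (A ⊗[k] M) :=
      (TensorProduct.assoc k A A M).toLinearMap ∘ₗ (TensorProduct.comm k M (A ⊗[k] A)).toLinearMap ∘ₗ
        (TensorProduct.map S S ∘ₗ (TensorProduct.comm k A A).toLinearMap).lTensor M
    have h1 : ∀ y : M ⊗[k] A,
        (ComodSub.lcoactOfRight c).lTensor A (TensorProduct.comm k M A (S.lTensor M y)) =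
          Q (TensorProduct.assoc k M A A (c.coact.rTensor A y)) := by
      intro y
      induction y with
      | zero => simp
      | add x y hx hy => simp only [map_add, hx, hy]
      | tmul n b =>
        simp only [LinearMap.lTensor_tmul, TensorProduct.comm_tmul, ComodSub.lcoactOfRight_apply,
          LinearMap.rTensor_tmul]
        induction c.coact n with
        | zero => simp
        | add x y hx hy => simp only [map_add, tmul_add, add_tmul, hx, hy]
        | tmul x d => simp [Q, S]
    have h2 : ∀ y : M ⊗[k] A,
        TensorProduct.assoc k A A M ((Coalgebra.comul (R := k) (A := A)).rTensor M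
          (TensorProduct.comm k M A (S.lTensor M y))) =
          Q ((Coalgebra.comul (R := k) (A := A)).lTensor M y) := by
      intro y
      induction y with
      | zero => simp
      | add x y hx hy => simp only [map_add, hx, hy]
      | tmul n b =>
        simp only [LinearMap.lTensor_tmul, TensorProduct.comm_tmul, LinearMap.rTensor_tmul, S,
          comul_antipode]
        induction Coalgebra.comul (R := k) b with
        | zero => simp
        | add x y hx hy => simp only [map_add, tmul_add, add_tmul, hx, hy]
        | tmul x d => simp [Q, S]
    simp only [LinearMap.comp_apply, LinearEquiv.coe_coe, ComodSub.lcoactOfRight_apply]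
    rw [h1, h2, coassoc_apply]
  counit_comp := by
    letI := c
    refine LinearMap.ext fun v => ?_
    have h : ∀ y : M ⊗[k] A, (Coalgebra.counit (R := k) (A := A)).rTensor M
        (TensorProduct.comm k M A ((HopfAlgebraStruct.antipode (R := k)).lTensor M y)) =
        TensorProduct.comm k M k ((Coalgebra.counit (R := k) (A := A)).lTensor M y) := by
      intro y
      induction y with
      | zero => simp
      | add x y hx hy => simp only [map_add, hx, hy]
      | tmul n b => simp
    simp only [LinearMap.comp_apply, ComodSub.lcoactOfRight_apply, h, counit_apply]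
    simp

/-- The right comodule attached to a left one. -/
@[reducible] def rOfLeft (l : ComodSub.LComod k A M) : HopfRep.Comod k A M where
  coact := ComodSub.rcoactOfLeft l
  coassoc := by
    refine LinearMap.ext fun v => ?_
    let S : A →ₗ[k] A := HopfAlgebraStruct.antipode (R := k)
    let Q : A ⊗[k] (A ⊗[k] M) →ₗ[k] M ⊗[k] (A ⊗[k] A) :=
      (TensorProduct.map S S ∘ₗ (TensorProduct.comm k A A).toLinearMap).lTensor M ∘ₗ
        (TensorProduct.comm k (A ⊗[k] A) M).toLinearMap ∘ₗ (TensorProduct.assoc k A A M).symm.toLinearMap
    have h1 : ∀ y : A ⊗[k] M,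
        TensorProduct.assoc k M A A ((ComodSub.rcoactOfLeft l).rTensor A
          (TensorProduct.comm k A M (S.rTensor M y))) = Q (l.coact.lTensor A y) := by
      intro y
      induction y with
      | zero => simp
      | add x y hx hy => simp only [map_add, hx, hy]
      | tmul b n =>
        simp only [LinearMap.rTensor_tmul, TensorProduct.comm_tmul, ComodSub.rcoactOfLeft_apply,
          LinearMap.lTensor_tmul]
        induction l.coact n with
        | zero => simp
        | add x y hx hy => simp only [map_add, tmul_add, add_tmul, hx, hy]
        | tmul d x => simp [Q, S]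
    have h2 : ∀ y : A ⊗[k] M,
        (Coalgebra.comul (R := k) (A := A)).lTensor M (TensorProduct.comm k A M (S.rTensor M y)) =
          Q (TensorProduct.assoc k A A M ((Coalgebra.comul (R := k) (A := A)).rTensor M y)) := by
      intro y
      induction y with
      | zero => simp
      | add x y hx hy => simp only [map_add, hx, hy]
      | tmul b n =>
        simp only [LinearMap.rTensor_tmul, TensorProduct.comm_tmul, LinearMap.lTensor_tmul, S,
          comul_antipode]
        induction Coalgebra.comul (R := k) b with
        | zero => simp
        | add x y hx hy => simp only [map_add, tmul_add, add_tmul, hx, hy]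
        | tmul x d => simp [Q, S]
    simp only [LinearMap.comp_apply, LinearEquiv.coe_coe, ComodSub.rcoactOfLeft_apply]
    rw [h1, h2]
    exact congrArg Q (LinearMap.congr_fun l.coassoc v)
  counit_comp := by
    refine LinearMap.ext fun v => ?_
    have h : ∀ y : A ⊗[k] M, (Coalgebra.counit (R := k) (A := A)).lTensor M
        (TensorProduct.comm k A M ((HopfAlgebraStruct.antipode (R := k)).rTensor M y)) =
        TensorProduct.comm k k M ((Coalgebra.counit (R := k) (A := A)).rTensor M y) := by
      intro y
      induction y with
      | zero => simp
      | add x y hx hy => simp only [map_add, hx, hy]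
      | tmul b n => simp
    have hc := LinearMap.congr_fun l.counit_comp v
    simp only [LinearMap.comp_apply, TensorProduct.mk_apply] at hc
    simp only [LinearMap.comp_apply, ComodSub.rcoactOfLeft_apply, h, hc]
    simp

end Antipode

section LDual

variable {k : Type u} [CommRing k] {A : Type v} [AddCommGroup A] [Module k A] [Coalgebra k A]
  [Module.Flat k A] {M : Type w} [AddCommGroup M] [Module k M] [Module.FinitePresentation k M]

/-- `g ↦ ldualFun c g`, linearly. -/
def ldualFunL (c : HopfRep.Comod k A M) : Module.Dual k M →ₗ[k] M →ₗ[k] A where
  toFun := ComodSub.ldualFun c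
  map_add' f g := by ext; simp [ComodSub.ldualFun_apply, LinearMap.rTensor_add]
  map_smul' r f := by ext; simp [ComodSub.ldualFun_apply, LinearMap.rTensor_smul]

/-- The dual left coaction. -/
def ldualCoact (c : HopfRep.Comod k A M) : Module.Dual k M →ₗ[k] A ⊗[k] Module.Dual k M :=
  (TensorProduct.comm k (Module.Dual k M) A).toLinearMap ∘ₗ
    (LinearEquiv.ofBijective _ (dualTensorHom_bijective_of_flat M A)).symm.toLinearMap ∘ₗ ldualFunL c

theorem ldualCoact_spec (c : HopfRep.Comod k A M) (g : Module.Dual k M) :
    dualTensorHom k M A (TensorProduct.comm k A (Module.Dual k M) (ldualCoact c g)) =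
      ComodSub.ldualFun c g := by
  simp only [ldualCoact, LinearMap.comp_apply, LinearEquiv.coe_coe]
  rw [show (TensorProduct.comm k A (Module.Dual k M))
    (TensorProduct.comm k (Module.Dual k M) A _) = _ from
      (TensorProduct.comm k (Module.Dual k M) A).symm_apply_apply _]
  exact (LinearEquiv.ofBijective _ (dualTensorHom_bijective_of_flat M A)).apply_symm_apply _

/-- The left dual of a comodule. -/
def ldual (c : HopfRep.Comod k A M) : ComodSub.LComod k A (Module.Dual k M) where
  coact := ldualCoact c
  coassoc := by
    letI := c
    refine LinearMap.ext fun g => ?_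
    let J : A ⊗[k] (A ⊗[k] Module.Dual k M) →ₗ[k] M →ₗ[k] A ⊗[k] A :=
      dualTensorHom k M (A ⊗[k] A) ∘ₗ (TensorProduct.comm k (A ⊗[k] A) (Module.Dual k M)).toLinearMap ∘ₗ
        (TensorProduct.assoc k A A (Module.Dual k M)).symm.toLinearMap
    have hJ : Function.Injective J :=
      (dualTensorHom_bijective_of_flat M (A ⊗[k] A)).1.comp
        ((TensorProduct.comm k (A ⊗[k] A) (Module.Dual k M)).injective.comp
          (TensorProduct.assoc k A A (Module.Dual k M)).symm.injective)
    apply hJ
    refine LinearMap.ext fun m => ?_
    let e : A ⊗[k] Module.Dual k M →ₗ[k] M →ₗ[k] A :=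
      dualTensorHom k M A ∘ₗ (TensorProduct.comm k A (Module.Dual k M)).toLinearMap
    have he : ∀ g, e (ldualCoact c g) = ComodSub.ldualFun c g := ldualCoact_spec c
    have h1 : ∀ z : A ⊗[k] Module.Dual k M,
        J ((ldualCoact c).lTensor A z) m = (e z).rTensor A (c.coact m) := by
      intro z
      induction z with
      | zero => simp
      | add x y hx hy => simp only [map_add, LinearMap.add_apply, LinearMap.rTensor_add, hx, hy]
      | tmul a g' =>
        rw [LinearMap.lTensor_tmul]
        have hj : ∀ w : A ⊗[k] Module.Dual k M, J (a ⊗ₜ w) m = a ⊗ₜ e w m := by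
          intro w
          induction w with
          | zero => simp
          | add x y hx hy => simp only [tmul_add, map_add, LinearMap.add_apply, hx, hy]
          | tmul b φ => simp [J, e, TensorProduct.tmul_smul]
        rw [hj, he, ComodSub.ldualFun_apply]
        induction c.coact m with
        | zero => simp
        | add x y hx hy => simp only [map_add, tmul_add, hx, hy]
        | tmul x b => simp [e, TensorProduct.smul_tmul']
    have h2 : ∀ z : A ⊗[k] Module.Dual k M,
        J (TensorProduct.assoc k A A (Module.Dual k M)
          ((Coalgebra.comul (R := k) (A := A)).rTensor (Module.Dual k M) z)) m =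
          Coalgebra.comul (R := k) (e z m) := by
      intro z
      induction z with
      | zero => simp
      | add x y hx hy => simp only [map_add, LinearMap.add_apply, hx, hy]
      | tmul a φ => simp [J, e]
    simp only [LinearMap.comp_apply, LinearEquiv.coe_coe, h1, h2, he]
    exact (LinearMap.congr_fun (isComodHom_cf (k := k) (A := A) g) m).symm
  counit_comp := by
    letI := c
    refine LinearMap.ext fun g => ?_
    apply (TensorProduct.lid k (Module.Dual k M)).injective
    refine LinearMap.ext fun m => ?_
    have h : ∀ z : A ⊗[k] Module.Dual k M,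
        TensorProduct.lid k (Module.Dual k M)
          ((Coalgebra.counit (R := k) (A := A)).rTensor (Module.Dual k M) z) m =
          Coalgebra.counit (R := k)
            (dualTensorHom k M A (TensorProduct.comm k A (Module.Dual k M) z) m) := by
      intro z
      induction z with
      | zero => simp
      | add x y hx hy => simp only [map_add, LinearMap.add_apply, hx, hy]
      | tmul a φ => simp [mul_comm]
    simp only [LinearMap.comp_apply, h, ldualCoact_spec]
    change Coalgebra.counit (R := k) (cf (A := A) g m) = _
    rw [apply_cf, fAct_counit]
    simp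

theorem isLDual_ldual (c : HopfRep.Comod k A M) : ComodSub.LComod.IsLDual c (ldual c) :=
  ldualCoact_spec c

end LDual

/-- The contragredient comodule. -/
@[reducible] def dual {k : Type u} [CommRing k] {A : Type v} [CommRing A] [HopfAlgebra k A]
    [Module.Flat k A] {M : Type w} [AddCommGroup M] [Module k M] [Module.FinitePresentation k M]
    (c : HopfRep.Comod k A M) : HopfRep.Comod k A (Module.Dual k M) := rOfLeft (ldual c)

theorem isDual_dual {k : Type u} [CommRing k] {A : Type v} [CommRing A] [HopfAlgebra k A]
    [Module.Flat k A] {M : Type w} [AddCommGroup M] [Module k M] [Module.FinitePresentation k M]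
    (c : HopfRep.Comod k A M) : ComodTens.Comod.IsDual c (dual c) := by
  intro g
  refine LinearMap.ext fun m => ?_
  have h : ∀ z : A ⊗[k] Module.Dual k M,
      dualTensorHom k M A (TensorProduct.comm k A (Module.Dual k M)
        ((HopfAlgebraStruct.antipode (R := k)).rTensor (Module.Dual k M) z)) m =
        HopfAlgebraStruct.antipode (R := k)
          (dualTensorHom k M A (TensorProduct.comm k A (Module.Dual k M) z) m) := by
    intro z
    induction z with
    | zero => simp
    | add x y hx hy => simp only [map_add, LinearMap.add_apply, hx, hy]
    | tmul a φ => simp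
  change dualTensorHom k M A (ComodSub.rcoactOfLeft (ldual c) g) m = _
  rw [ComodSub.rcoactOfLeft_apply, h]
  change HopfAlgebraStruct.antipode (R := k)
    (dualTensorHom k M A (TensorProduct.comm k A (Module.Dual k M) (ldualCoact c g)) m) = _
  rw [ldualCoact_spec, ComodSub.ldualFun_apply, ComodTens.dualCoactFun_apply]
  induction c.coact m with
  | zero => simp
  | add x y hx hy => simp only [map_add, hx, hy]
  | tmul x b => simp

end Groth.L08
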