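import Groth.Agent.L08.Subcoalg
import Groth.Prelude.Def_ComodSub

/-!
# Semisimple comodules
-/

universe u v w w'

open TensorProduct

noncomputable section

namespace Groth.L08

variable {k : Type u} [Field k] {A : Type v} [AddCommGroup A] [Module k A] [Coalgebra k A]
  {V : Type w} [AddCommGroup V] [Module k V] [HopfRep.Comod k A V]

/-- the property of being a simple subcomodule -/
def IsSimpleSub (W : Submodule k V) : Prop :=
  W ≠ ⊥ ∧ ∀ W' : Submodule k V, HopfRep.IsSubcomod (k := k) (A := A) W' → W' ≤ W → W' = ⊥ ∨ W' = W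

theorem isSimpleModule_toSub_iff {W : Submodule k V} (hW : HopfRep.IsSubcomod (k := k) (A := A) W) :
    IsSimpleModule (Dl k A) (toSub hW) ↔ IsSimpleSub (A := A) W := by
  rw [isSimpleModule_iff_isAtom, isAtom_iff_le_of_ge]
  constructor
  · rintro ⟨h0, h⟩
    refine ⟨fun e => h0 (Submodule.restrictScalars_injective k _ _ (by simpa using e)), fun W' hW' hle => ?_⟩
    rcases eq_or_ne W' ⊥ with e | e
    · exact Or.inl e
    · exact Or.inr (le_antisymm hle (h (toSub hW') (fun e' => e
        (by simpa using congrArg (Submodule.restrictScalars k) e')) hle))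
  · rintro ⟨h0, h⟩
    refine ⟨fun e => h0 (by simpa using congrArg (Submodule.restrictScalars k) e), fun M hM hle => ?_⟩
    rcases h _ (isSubcomod_restrictScalars M) hle with e | e
    · exact absurd (Submodule.restrictScalars_injective k _ _ (by simpa using e)) hM
    · exact fun x hx => e.ge hx

theorem isSemisimpleComod_of_injective {U : Type w'} [AddCommGroup U] [Module k U]
    [HopfRep.Comod k A U] (f : U →ₗ[k] V) (hf : Hoch.IsComodHom A f) (hi : Function.Injective f)
    (hV : HopfRep.IsSemisimpleComod k A V) : HopfRep.IsSemisimpleComod k A U := by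
  rw [isSemisimpleComod_iff] at hV ⊢
  exact IsSemisimpleModule.of_injective (homToMod hf) hi

theorem isSemisimpleComod_of_surjective {U : Type w'} [AddCommGroup U] [Module k U]
    [HopfRep.Comod k A U] (f : V →ₗ[k] U) (hf : Hoch.IsComodHom A f) (hs : Function.Surjective f)
    (hV : HopfRep.IsSemisimpleComod k A V) : HopfRep.IsSemisimpleComod k A U := by
  rw [isSemisimpleComod_iff] at hV ⊢
  exact IsSemisimpleModule.congr ((homToMod hf).quotKerEquivOfSurjective hs).symm

theorem isSemisimpleComod_restr {W : Submodule k V} (hW : HopfRep.IsSubcomod (k := k) (A := A) W)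
    (hV : HopfRep.IsSemisimpleComod k A V) :
    @HopfRep.IsSemisimpleComod k A _ _ _ _ ↥W _ _ (ComodSub.Comod.restr ‹HopfRep.Comod k A V› W hW) := by
  letI := ComodSub.Comod.restr ‹HopfRep.Comod k A V› W hW
  exact isSemisimpleComod_of_injective W.subtype (ComodSub.isComodHom_subtype _ W hW)
    W.injective_subtype hV

/-- a sum of simple subcomodules is semisimple -/
theorem isSemisimpleComod_of_iSup_simple {ι : Type*} {S : ι → Submodule k V}
    (hS : ∀ i, HopfRep.IsSubcomod (k := k) (A := A) (S i)) (hs : ∀ i, IsSimpleSub (A := A) (S i))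
    (htop : ⨆ i, S i = ⊤) : HopfRep.IsSemisimpleComod k A V := by
  rw [isSemisimpleComod_iff]
  refine IsSemisimpleModule.of_sSup_simples_eq_top (eq_top_iff.2 ?_)
  have : (⨆ i, toSub (hS i)) = ⊤ :=
    Submodule.restrictScalars_injective k _ _ (by simpa [Submodule.restrictScalars_iSup] using htop)
  rw [← this]
  exact iSup_le fun i => le_sSup ((isSimpleModule_toSub_iff (hS i)).2 (hs i))

theorem iSupIndep_toSub_iff {ι : Type*} {S : ι → Submodule k V}
    (hS : ∀ i, HopfRep.IsSubcomod (k := k) (A := A) (S i)) :
    iSupIndep (fun i => toSub (hS i)) ↔ iSupIndep S := by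
  simp only [iSupIndep_def]
  refine forall_congr' fun i => ?_
  rw [disjoint_iff, disjoint_iff, ← Submodule.restrictScalars_inj k, Submodule.restrictScalars_inf,
    Submodule.restrictScalars_iSup]
  simp [Submodule.restrictScalars_iSup]

theorem iSupIndep_restrictScalars_iff {ι : Type*} {S : ι → Submodule (Dl k A) V} :
    iSupIndep (fun i => (S i).restrictScalars k) ↔ iSupIndep S :=
  (iSupIndep_toSub_iff fun i => isSubcomod_restrictScalars (S i)).symm

end Groth.L08
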