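import Groth.Agent.L08.Isotypic

/-!
# Simple subcoalgebras and simple subcomodules of the regular comodule
-/

universe u v w w'
set_option linter.style.haveILetI false

open TensorProduct

noncomputable section

namespace Groth.L08

variable {k : Type u} [Field k] {A : Type v} [AddCommGroup A] [Module k A] [Coalgebra k A]

section restr

variable {V : Type w} [AddCommGroup V] [Module k V] [HopfRep.Comod k A V]

/-- the restricted comodule as a module over the dual algebra -/
def toSubEquiv {W : Submodule k V} (hW : HopfRep.IsSubcomod (k := k) (A := A) W) :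
    letI := ComodSub.Comod.restr ‹HopfRep.Comod k A V› W hW
    W ≃ₗ[Dl k A] toSub hW :=
  letI := ComodSub.Comod.restr ‹HopfRep.Comod k A V› W hW
  { toFun := fun x => ⟨x.1, x.2⟩
    invFun := fun x => ⟨x.1, x.2⟩
    map_add' := fun _ _ => rfl
    map_smul' := fun φ x => Subtype.ext
      (fAct_comm_of_isComodHom (ComodSub.isComodHom_subtype _ W hW) φ.fn x)
    left_inv := fun _ => rfl
    right_inv := fun _ => rfl }

theorem coeff_restr {W : Submodule k V} (hW : HopfRep.IsSubcomod (k := k) (A := A) W) :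
    letI := ComodSub.Comod.restr ‹HopfRep.Comod k A V› W hW
    coeff k A (⊤ : Submodule k W) = coeff k A W := by
  letI := ComodSub.Comod.restr ‹HopfRep.Comod k A V› W hW
  have key : ∀ (f : Module.Dual k V) (w : W), cf (A := A) (f ∘ₗ W.subtype) w = cf f (w : V) := fun f w => by
    refine (Module.forall_dual_apply_eq_zero_iff k _).1 (fun θ => ?_) |> sub_eq_zero.1
    rw [map_sub, sub_eq_zero, apply_cf, apply_cf]
    exact congrArg f (fAct_comm_of_isComodHom (ComodSub.isComodHom_subtype _ W hW) θ w)
  refine le_antisymm (iSup_le fun f => ?_) (iSup_le fun f => ?_)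
  · rintro _ ⟨w, -, rfl⟩
    obtain ⟨g, rfl⟩ := LinearMap.exists_extend f
    rw [key]
    exact cf_mem_coeff g w.2
  · rintro _ ⟨v, hv, rfl⟩
    rw [← key f ⟨v, hv⟩]
    exact cf_mem_coeff _ trivial

/-- coefficient spaces of isomorphic subcomodules agree -/
theorem coeff_le_of_equiv {U : Type w'} [AddCommGroup U] [Module k U] [HopfRep.Comod k A U]
    {S : Submodule (Dl k A) V} {T : Submodule (Dl k A) U} (e : S ≃ₗ[Dl k A] T) :
    coeff k A (S.restrictScalars k) ≤ coeff k A (T.restrictScalars k) := by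
  refine iSup_le fun f => ?_
  rintro _ ⟨v, hv, rfl⟩
  obtain ⟨g, hg⟩ := LinearMap.exists_extend (p := T.restrictScalars k)
    (f ∘ₗ ((S.subtype).restrictScalars k) ∘ₗ ((e.symm.toLinearMap).restrictScalars k))
  have : cf (A := A) f v = cf g (e ⟨v, hv⟩ : U) := by
    refine (Module.forall_dual_apply_eq_zero_iff k _).1 (fun θ => ?_) |> sub_eq_zero.1
    rw [map_sub, sub_eq_zero, apply_cf, apply_cf]
    change f (Dl.of θ • v) = g ((Dl.of θ • e ⟨v, hv⟩ : T) : U)
    have h1 := LinearMap.congr_fun hg (Dl.of θ • e ⟨v, hv⟩ : T)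
    refine Eq.trans ?_ h1.symm
    change f (Dl.of θ • v) = f ((e.symm (Dl.of θ • e ⟨v, hv⟩) : S) : V)
    have h2 : e.symm (Dl.of θ • e (⟨v, hv⟩ : S)) = Dl.of θ • (⟨v, hv⟩ : S) := by
      rw [e.symm.map_smul, e.symm_apply_apply]
    exact congrArg f (congrArg Subtype.val h2).symm
  rw [this]
  exact cf_mem_coeff g (e ⟨v, hv⟩).2

end restr

theorem isSimpleComod_restr {V : Type w} [AddCommGroup V] [Module k V] [HopfRep.Comod k A V]
    {W : Submodule k V} (hW : HopfRep.IsSubcomod (k := k) (A := A) W)
    (hs : IsSimpleModule (Dl k A) (toSub hW)) :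
    @HopfRep.IsSimpleComod k A _ _ _ _ ↥W _ _ (ComodSub.Comod.restr ‹HopfRep.Comod k A V› W hW) := by
  letI := ComodSub.Comod.restr ‹HopfRep.Comod k A V› W hW
  rw [isSimpleComod_iff]
  exact IsSimpleModule.congr (toSubEquiv hW)

theorem isSimpleSubcoalg_coeff {V : Type w} [AddCommGroup V] [Module k V] [HopfRep.Comod k A V]
    {S : Submodule (Dl k A) V} [hS : IsSimpleModule (Dl k A) S] :
    IsSimpleSubcoalg (coeff k A (S.restrictScalars k)) := by
  have hW := isSubcomod_restrictScalars S
  letI := ComodSub.Comod.restr ‹HopfRep.Comod k A V› _ hW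
  have := isSimpleSubcoalg_coeff_top (k := k) (A := A) (isSimpleComod_restr hW hS)
  rwa [coeff_restr hW] at this

theorem IsSimpleSubcoalg.exists_eq_coeff {D : Submodule k A} (hD : IsSimpleSubcoalg D) :
    ∃ S : Submodule (Dl k A) A, IsSimpleModule (Dl k A) S ∧
      S.restrictScalars k ≤ D ∧ coeff k A (V := A) (S.restrictScalars k) = D := by
  obtain ⟨h0, hc, hmin⟩ := hD
  obtain ⟨S, hle, hS⟩ := exists_simple_subcomod (W := toSub (isSubcoalg_iff.1 hc).1)
    (fun e => h0 (by simpa using congrArg (Submodule.restrictScalars k) e))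
  refine ⟨S, hS, hle, (hmin _ (coeff_le_self hc hle) (isSubcoalg_coeff
    (isSubcomod_restrictScalars S))).resolve_left fun e => ?_⟩
  have := le_coeff_self (k := k) (A := A) (S.restrictScalars k)
  rw [e, le_bot_iff] at this
  exact (isSimpleModule_iff_isAtom.1 hS).1 (Submodule.restrictScalars_injective k _ _ (by simpa using this))

theorem coeff_restrictScalars_le (S : Submodule (Dl k A) A) :
    coeff k A (V := A) (S.restrictScalars k) ≤
      (⨆ f : S →ₗ[Dl k A] A, LinearMap.range f).restrictScalars k := by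
  refine iSup_le fun f => ?_
  rintro _ ⟨v, hv, rfl⟩
  exact Submodule.mem_iSup_of_mem ((homToMod (isComodHom_cf f)) ∘ₗ S.subtype) ⟨⟨v, hv⟩, rfl⟩

/-- distinct simple subcoalgebras are independent -/
theorem iSupIndep_simpleSubcoalg :
    iSupIndep (fun D : {D : Submodule k A // IsSimpleSubcoalg D} => D.1) := by
  intro D
  rw [disjoint_iff]
  by_contra hne
  let T := {D' : {D : Submodule k A // IsSimpleSubcoalg D} // D' ≠ D}
  choose S hS hSle hScoeff using fun D' : T => D'.1.2.exists_eq_coeff
  have hsub : HopfRep.IsSubcomod (k := k) (A := A) (⨆ D' : T, D'.1.1) :=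
    isSubcomod_iSup fun D' => (isSubcoalg_iff.1 D'.1.2.2.1).1
  have hinf := isSubcomod_inf (isSubcoalg_iff.1 D.2.2.1).1 hsub
  have hne' : (D.1 ⊓ ⨆ D' : T, D'.1.1) ≠ ⊥ := by
    refine fun h => hne (eq_bot_iff.2 (le_trans (inf_le_inf_left _ ?_) h.le))
    exact iSup₂_le fun D' h' => le_iSup_of_le (⟨D', h'⟩ : T) le_rfl
  obtain ⟨m, hm, hms⟩ := exists_simple_subcomod (W := toSub hinf)
    (fun e => hne' (by simpa using congrArg (Submodule.restrictScalars k) e))
  haveI := hms
  haveI : ∀ D' : T, IsSimpleModule (Dl k A) (S D') := hS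
  obtain ⟨D', ⟨e⟩⟩ := exists_equiv_of_le_iSup_range (S := fun D' : T => S D') m (fun x hx => by
    refine (iSup_le fun D' => ?_ : (⨆ D' : T, D'.1.1) ≤
      (⨆ (D' : T) (f : S D' →ₗ[Dl k A] A), LinearMap.range f).restrictScalars k) (hm hx).2
    rw [← hScoeff D']
    exact (coeff_restrictScalars_le (S D')).trans
      (fun y hy => Submodule.mem_iSup_of_mem D' hy))
  refine D'.2 (Subtype.ext ?_)
  have h1 : coeff k A (V := A) (m.restrictScalars k) = D.1 := by
    refine (D.2.2.2 _ (coeff_le_self D.2.2.1 fun x hx => (hm hx).1)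
      (isSubcoalg_coeff (isSubcomod_restrictScalars m))).resolve_left ?_
    exact (isSimpleSubcoalg_coeff (S := m)).1
  rw [← h1, ← hScoeff D']
  exact le_antisymm (coeff_le_of_equiv e.symm) (coeff_le_of_equiv e)

/-- a simple subcoalgebra is semisimple as a right comodule -/
theorem IsSimpleSubcoalg.isSemisimple {D : Submodule k A} (hD : IsSimpleSubcoalg D) :
    IsSemisimpleModule (Dl k A) (toSub (isSubcoalg_iff.1 hD.2.1).1) := by
  obtain ⟨S, hS, -, hc⟩ := hD.exists_eq_coeff
  haveI := hS
  have hle : toSub (isSubcoalg_iff.1 hD.2.1).1 ≤ ⨆ f : S →ₗ[Dl k A] A, LinearMap.range f := by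
    intro x hx
    rw [mem_toSub, ← hc] at hx
    exact coeff_restrictScalars_le S hx
  haveI : IsSemisimpleModule (Dl k A) (⨆ f : S →ₗ[Dl k A] A, LinearMap.range f : Submodule (Dl k A) A) :=
    iSup_univ (f := fun f : S →ₗ[Dl k A] A => LinearMap.range f) ▸
      isSemisimpleModule_biSup_of_isSemisimpleModule_submodule fun f _ => IsSemisimpleModule.range f
  exact IsSemisimpleModule.of_injective (Submodule.inclusion hle) (Submodule.inclusion_injective hle)

/-- if the regular comodule is semisimple then every comodule is -/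
theorem isSemisimpleComod_of_regular [IsSemisimpleModule (Dl k A) A]
    (V : Type w) [AddCommGroup V] [Module k V] [HopfRep.Comod k A V] :
    HopfRep.IsSemisimpleComod k A V := by
  classical
  rw [isSemisimpleComod_iff]
  let b := Module.Basis.ofVectorSpace k V
  let g : V →ₗ[k] (Module.Basis.ofVectorSpaceIndex k V) →₀ A :=
    (TensorProduct.equivFinsuppOfBasisLeft b).toLinearMap ∘ₗ HopfRep.Comod.coact (k := k) (A := A)
  have hg : ∀ v i, g v i = cf (A := A) (b.coord i) v := fun v i => by
    simp only [g, LinearMap.comp_apply, LinearEquiv.coe_coe,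
      TensorProduct.equivFinsuppOfBasisLeft_apply, cf_apply]
  let g' : V →ₗ[Dl k A] (Module.Basis.ofVectorSpaceIndex k V) →₀ A :=
    { toFun := g
      map_add' := g.map_add
      map_smul' := fun φ v => Finsupp.ext fun i => by
        rw [hg, RingHom.id_apply, Finsupp.smul_apply, hg]
        exact fAct_comm_of_isComodHom (isComodHom_cf _) φ.fn v }
  refine IsSemisimpleModule.of_injective g' fun x y h => ?_
  exact coact_injective ((TensorProduct.equivFinsuppOfBasisLeft b).injective h)

end Groth.L08
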