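import Groth.Agent.L08.Dual
import Groth.Agent.L08.SimpleSubcoalg
import Groth.Agent.L08.Semisimple

/-!
# Linearly reductive Hopf algebras and invariant integrals
-/

universe u v w w'

open TensorProduct

noncomputable section

namespace Groth.L08

section Triv

variable {k : Type u} [CommRing k] {A : Type v} [CommRing A] [HopfAlgebra k A]

/-- An invariant integral: a comodule map to the trivial comodule sending `1` to `1`. -/
def IsIntegral (α : A →ₗ[k] k) : Prop :=
  (∀ a : A, α.rTensor A (Coalgebra.comul (R := k) a) = α a ⊗ₜ[k] (1 : A)) ∧ α 1 = 1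

theorem trivCoactAlg : @GLin.IsCoactAlg k _ A _ _ k _ _ (HopfRep.Comod.trivial k A k) := by
  letI := HopfRep.Comod.trivial k A k
  refine ⟨rfl, fun f g => ?_⟩
  change (f * g) ⊗ₜ[k] (1 : A) = (f ⊗ₜ[k] (1 : A)) * (g ⊗ₜ[k] (1 : A))
  simp

theorem trivHopfMod (V : Type w) [AddCommGroup V] [Module k V] [HopfRep.Comod k A V] :
    @TameAct.IsHopfMod k _ A _ _ k _ _ V _ _ _ _ (HopfRep.Comod.trivial k A k) _ := by
  letI := HopfRep.Comod.trivial k A k
  refine ⟨fun b m => ?_⟩
  change _ = TameAct.hmSMul k A k V (b ⊗ₜ[k] (1 : A)) _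
  rw [map_smul]
  induction HopfRep.Comod.coact (k := k) (A := A) m with
  | zero => simp
  | add x y hx hy => simp only [smul_add, map_add, hx, hy]
  | tmul x y => simp [TensorProduct.smul_tmul']

theorem isIntegral_iff {α : A →ₗ[k] k} :
    IsIntegral α ↔
      @Hoch.IsComodHom k _ A _ _ _ A _ _ _ k _ _ (HopfRep.Comod.trivial k A k) α ∧ α 1 = 1 :=
  and_congr_left' ⟨fun h => LinearMap.ext fun a => (h a).symm,
    fun h a => (LinearMap.congr_fun h a).symm⟩

variable {α : A →ₗ[k] k} {V : Type w} [AddCommGroup V] [Module k V] [HopfRep.Comod k A V]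

theorem IsIntegral.coact_lam (hα : IsIntegral α) (m : V) (a : A) :
    HopfRep.Comod.coact (k := k) (A := A) (lam V α (m ⊗ₜ a)) =
      (lam V α).rTensor A ((TensorProduct.assoc k V A A).symm (m ⊗ₜ Coalgebra.comul (R := k) a)) := by
  letI := HopfRep.Comod.trivial k A k
  haveI := trivHopfMod (k := k) (A := A) V
  exact Groth.L08.coact_lam (isIntegral_iff.1 hα).1 m a

theorem IsIntegral.lam_coact (hα : IsIntegral α) (m : V) :
    lam V α (HopfRep.Comod.coact (k := k) (A := A) m) = m :=
  Groth.L08.lam_coact hα.2 m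

theorem IsIntegral.isComodHom_lamInd (hα : IsIntegral α) : Hoch.IsComodHom A (lamInd V α) := by
  refine LinearMap.ext fun x => ?_
  obtain ⟨y, rfl⟩ := (Hoch.Ind.equiv k A V).surjective x
  induction y with
  | zero => simp
  | add a b ha hb => simp only [map_add, ha, hb]
  | tmul m a => exact hα.coact_lam m a

/-- The Reynolds projection attached to a functional. -/
def rey (V : Type w) [AddCommGroup V] [Module k V] [HopfRep.Comod k A V] (α : A →ₗ[k] k) :
    V →ₗ[k] V := TameAct.reynolds k A k V α

theorem IsIntegral.rey_mem (hα : IsIntegral α) (m : V) : rey V α m ∈ HopfRep.fixedPts k A V := by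
  letI := HopfRep.Comod.trivial k A k
  haveI := trivCoactAlg (k := k) (A := A)
  haveI := trivHopfMod (k := k) (A := A) V
  exact reynolds_mem_fixedPts (isIntegral_iff.1 hα).1 m

theorem IsIntegral.rey_eq (hα : IsIntegral α) {m : V} (hm : m ∈ HopfRep.fixedPts k A V) :
    rey V α m = m := reynolds_of_mem_fixedPts hα.2 hm

theorem rey_natural {W : Type w'} [AddCommGroup W] [Module k W] [HopfRep.Comod k A W]
    {f : V →ₗ[k] W} (hf : Hoch.IsComodHom A f) (α : A →ₗ[k] k) (m : V) :
    f (rey V α m) = rey W α (f m) :=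
  reynolds_natural (α := α) f hf m

theorem rey_apply (α : A →ₗ[k] k) (m : V) :
    rey V α m = TensorProduct.rid k V
      ((α ∘ₗ HopfAlgebraStruct.antipode (R := k)).lTensor V (HopfRep.Comod.coact (k := k) (A := A) m)) := by
  rw [rey, TameAct.reynolds, LinearMap.comp_apply]
  induction HopfRep.Comod.coact (k := k) (A := A) m with
  | zero => simp
  | add x y hx hy => simp only [map_add, hx, hy]
  | tmul x y => simp

/-- The Reynolds projection preserves subcomodules. -/
theorem rey_mem_of_isSubcomod {W : Submodule k V} (hW : HopfRep.IsSubcomod (k := k) (A := A) W)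
    (α : A →ₗ[k] k) {m : V} (hm : m ∈ W) : rey V α m ∈ W := by
  rw [rey_apply]
  exact fAct_mem_of_isSubcomod hW _ hm

/-- Fixed points lift along surjective comodule maps. -/
theorem IsIntegral.exists_fixed_lift (hα : IsIntegral α) {W : Type w'} [AddCommGroup W] [Module k W]
    [HopfRep.Comod k A W] {f : V →ₗ[k] W} (hf : Hoch.IsComodHom A f) (hs : Function.Surjective f)
    {w : W} (hw : w ∈ HopfRep.fixedPts k A W) :
    ∃ v ∈ HopfRep.fixedPts k A V, f v = w := by
  obtain ⟨v, rfl⟩ := hs w
  exact ⟨rey V α v, hα.rey_mem v, by rw [rey_natural hf, hα.rey_eq hw]⟩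

theorem antipode_antipode_apply (a : A) :
    HopfAlgebraStruct.antipode (R := k) (HopfAlgebraStruct.antipode (R := k) a) = a := by
  let S : A →ₗ[k] A := HopfAlgebraStruct.antipode (R := k)
  have h : WithConv.toConv (S ∘ₗ S) * WithConv.toConv S = 1 := by
    refine WithConv.ofConv_injective (LinearMap.ext fun x => ?_)
    rw [LinearMap.convOne_apply, LinearMap.convMul_apply,
      ← AlgHom.commutes (HopfAlgebra.antipodeAlgHom k A), ← LinearMap.convOne_apply (C := A),
      ← LinearMap.antipode_mul_id, LinearMap.convMul_apply]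
    induction Coalgebra.comul (R := k) x with
    | zero => simp
    | add x y hx hy => simp only [map_add, hx, hy]
    | tmul x y => simp [S]; rw [HopfAlgebra.antipode_mul_distrib]
  have := left_inv_eq_right_inv h LinearMap.antipode_mul_id
  exact congrArg (fun F : WithConv (A →ₗ[k] A) => F.ofConv a) this

end Triv

variable {k : Type u} [Field k] {A : Type v} [CommRing A] [HopfAlgebra k A]

theorem isSemisimpleComod_of_isLinearlyReductive (h : HopfRep.IsLinearlyReductive k A)
    (V : Type w) [AddCommGroup V] [Module k V] [HopfRep.Comod k A V] :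
    HopfRep.IsSemisimpleComod k A V := by
  haveI : IsSemisimpleModule (Dl k A) A := by
    let ι := {C : Submodule k A // Module.Finite k C ∧ HopfRep.IsSubcomod (k := k) (A := A) C}
    have hs : ∀ C : ι, IsSemisimpleModule (Dl k A) (toSub C.2.2) := fun C => by
      letI := ComodSub.Comod.restr (HopfRep.Comod.regular k A) C.1 C.2.2
      haveI := isSemisimpleComod_iff.1 (h C.1 C.2.1)
      exact IsSemisimpleModule.congr (toSubEquiv C.2.2).symm
    refine isSemisimpleModule_of_isSemisimpleModule_submodule' hs (eq_top_iff.2 fun a _ => ?_)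
    obtain ⟨C, h1, h2, h3⟩ := exists_finite_subcomod (k := k) (A := A) a
    exact Submodule.mem_iSup_of_mem (⟨C, h1, h3⟩ : ι) h2
  exact isSemisimpleComod_of_regular V

theorem exists_isIntegral (h : HopfRep.IsLinearlyReductive k A) :
    ∃ α : A →ₗ[k] k, IsIntegral α := by
  have hP : HopfRep.IsSubcomod (k := k) (A := A) (Submodule.span k {(1 : A)}) := by
    intro x hx
    obtain ⟨c, rfl⟩ := Submodule.mem_span_singleton.1 hx
    refine ⟨(⟨c • 1, hx⟩ : Submodule.span k {(1 : A)}) ⊗ₜ[k] 1, ?_⟩
    change (c • (1 : A)) ⊗ₜ[k] (1 : A) = Coalgebra.comul (R := k) (c • (1 : A))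
    rw [map_smul, Bialgebra.comul_one, Algebra.TensorProduct.one_def, TensorProduct.smul_tmul']
  obtain ⟨H, hH, hc⟩ := isSemisimpleComod_of_isLinearlyReductive h A _ hP
  have hc' := hc
  classical
  let P : Submodule k A := Submodule.span k {(1 : A)}
  let α : A →ₗ[k] k := Coalgebra.counit ∘ₗ P.subtype ∘ₗ P.projectionOnto H hc'
  have hα1 : α 1 = 1 := by
    simp only [α, LinearMap.comp_apply]
    rw [show P.projectionOnto H hc' (1 : A) = ⟨1, Submodule.mem_span_singleton_self _⟩ from
      Submodule.projectionOnto_apply_left hc' (⟨1, Submodule.mem_span_singleton_self _⟩ : P)]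
    simp
  have hαH : α ∘ₗ H.subtype = 0 := by
    ext h
    simp [α]
  refine ⟨α, fun a => ?_, hα1⟩
  have hmem : a ∈ P ⊔ H := by rw [hc.sup_eq_top]; trivial
  obtain ⟨p, hp, x, hx, rfl⟩ := Submodule.mem_sup.1 hmem
  obtain ⟨c, rfl⟩ := Submodule.mem_span_singleton.1 hp
  obtain ⟨y, hy⟩ := hH x hx
  have hy' : Coalgebra.comul (R := k) x = H.subtype.rTensor A y := hy.symm
  have hαx : α x = 0 := LinearMap.congr_fun hαH ⟨x, hx⟩
  rw [map_add, map_add, map_add, hy', ← LinearMap.rTensor_comp_apply, hαH, hαx]
  simp [hα1, Algebra.TensorProduct.one_def, TensorProduct.smul_tmul']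

/-- Lifting of fixed points along trivial quotients gives linear reductivity. -/
theorem isLinearlyReductive_of_lift
    (hfix : ∀ (V : Type v) [AddCommGroup V] [Module k V] [HopfRep.Comod k A V], Module.Finite k V →
      ∀ π : V →ₗ[k] k, Function.Surjective π →
        (∀ v, π.rTensor A (HopfRep.Comod.coact (k := k) (A := A) v) = π v ⊗ₜ[k] (1 : A)) →
        ∃ v ∈ HopfRep.fixedPts k A V, π v ≠ 0) :
    HopfRep.IsLinearlyReductive k A := by
  classical
  intro V _ _ _ _ W hW
  letI := ComodSub.Comod.restr ‹HopfRep.Comod k A V› W hW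
  have hι : Hoch.IsComodHom A W.subtype := ComodSub.isComodHom_subtype _ W hW
  let D : Submodule k A := coeff k A (⊤ : Submodule k W)
  let E : Submodule k A := coeff k A (⊤ : Submodule k V)
  haveI : Module.Finite k D := finite_coeff (k := k) (A := A)
  haveI : Module.Finite k E := finite_coeff (k := k) (A := A)
  obtain ⟨s, hs⟩ := ((Module.Finite.iff_fg.1 (inferInstance : Module.Finite k D)).map
    (HopfAlgebraStruct.antipode (R := k) (A := A))).mul (Module.Finite.iff_fg.1
      (inferInstance : Module.Finite k E))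
  obtain ⟨C, hCfin, hsC, hC⟩ :=
    exists_finite_subcomod_of_finset (k := k) (A := A) (V := A) (insert 1 s)
  have h1C : (1 : A) ∈ C := hsC (by simp)
  have hprod : ∀ c ∈ D, ∀ a ∈ E, HopfAlgebraStruct.antipode (R := k) c * a ∈ C := by
    intro c hc a ha
    have : HopfAlgebraStruct.antipode (R := k) c * a ∈
        D.map (HopfAlgebraStruct.antipode (R := k) (A := A)) * E :=
      Submodule.mul_mem_mul (Submodule.mem_map_of_mem hc) ha
    rw [← hs] at this
    exact Submodule.span_le.2 (fun x hx => hsC (by simp [hx])) this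
  -- the invariant functional on `C`, from the contragredient
  obtain ⟨g, hg, hg1⟩ : ∃ g : A →ₗ[k] k,
      (∀ x ∈ C, g.rTensor A (Coalgebra.comul (R := k) x) = g x ⊗ₜ[k] (1 : A)) ∧ g 1 = 1 := by
    haveI : Module.FinitePresentation k C := Module.finitePresentation_of_finite k C
    letI cC := ComodSub.Comod.restr (HopfRep.Comod.regular k A) C hC
    have hιC : Hoch.IsComodHom A C.subtype := ComodSub.isComodHom_subtype _ C hC
    let e : Module.Dual k C ≃ₗ[k] C := (Module.Free.chooseBasis k C).toDualEquiv.symm
    letI cD := dual cC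
    have hdual : ComodTens.Comod.IsDual cC cD := isDual_dual cC
    let π' : Module.Dual k C →ₗ[k] k := LinearMap.applyₗ (⟨1, h1C⟩ : C)
    have hπ' : ∀ f, π'.rTensor A (cD.coact f) = π' f ⊗ₜ[k] (1 : A) := by
      intro f
      apply (TensorProduct.lid k A).injective
      have h : ∀ y : Module.Dual k C ⊗[k] A, TensorProduct.lid k A (π'.rTensor A y) =
          dualTensorHom k C A y ⟨1, h1C⟩ := by
        intro y
        induction y with
        | zero => simp
        | add a b ha hb => simp only [map_add, LinearMap.add_apply, ha, hb]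
        | tmul φ a => simp [π']
      rw [h, hdual f, ComodTens.dualCoactFun_apply, TensorProduct.lid_tmul]
      have hco : cC.coact ⟨1, h1C⟩ = (⟨1, h1C⟩ : C) ⊗ₜ[k] (1 : A) := by
        apply ComodSub.rTensor_subtype_injective C
        rw [LinearMap.rTensor_tmul]
        exact (LinearMap.congr_fun hιC ⟨1, h1C⟩).symm.trans
          (by change Coalgebra.comul (R := k) (1 : A) = _
              rw [Bialgebra.comul_one, Algebra.TensorProduct.one_def]; rfl)
      rw [hco]
      simp [π']
    letI cC' := ComodTens.Comod.ofEquiv e cD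
    obtain ⟨ξ₀, hξ₀⟩ := exists_extend_inj C.ker_subtype
      (Coalgebra.counit (R := k) (A := A) ∘ₗ C.subtype)
    have hsurj : Function.Surjective (π' ∘ₗ e.symm.toLinearMap) := fun t =>
      ⟨e (t • (Coalgebra.counit (R := k) (A := A) ∘ₗ C.subtype)), by simp [π']⟩
    obtain ⟨x, hx, hx0⟩ := @hfix C _ _ cC' inferInstance (π' ∘ₗ e.symm.toLinearMap) hsurj
      (fun v => by
        obtain ⟨f, rfl⟩ := e.surjective v
        rw [ComodTens.ofEquiv_coact_apply]
        simp only [LinearMap.comp_apply, LinearEquiv.coe_coe, e.symm_apply_apply, ← hπ' f]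
        rw [← LinearMap.rTensor_comp_apply]
        congr 1
        ext f'
        simp)
    obtain ⟨f, rfl⟩ := e.surjective x
    have hf1 : f ⟨1, h1C⟩ ≠ 0 := by simpa [π'] using hx0
    have hf : cD.coact f = f ⊗ₜ[k] (1 : A) := by
      have h : cC'.coact (e f) = e f ⊗ₜ[k] (1 : A) := hx
      rw [ComodTens.ofEquiv_coact_apply] at h
      have := congrArg (LinearMap.rTensor A (e.symm : C →ₗ[k] Module.Dual k C)) h
      rw [← LinearMap.rTensor_comp_apply] at this
      simpa using this
    obtain ⟨g, hgf⟩ := LinearMap.exists_extend ((f ⟨1, h1C⟩)⁻¹ • f)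
    refine ⟨g, fun x hx => ?_, ?_⟩
    · apply (TensorProduct.lid k A).injective
      rw [TensorProduct.lid_tmul]
      have h := LinearMap.congr_fun (hdual f) ⟨x, hx⟩
      rw [hf, dualTensorHom_apply, ComodTens.dualCoactFun_apply] at h
      have hS : ∀ y : C ⊗[k] A, TensorProduct.lid k A
          (TensorProduct.map f (HopfAlgebraStruct.antipode (R := k) (A := A)) y) =
          HopfAlgebraStruct.antipode (R := k) (TensorProduct.lid k A (f.rTensor A y)) := by
        intro y
        induction y with
        | zero => simp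
        | add a b ha hb => simp only [map_add, ha, hb]
        | tmul a b => simp
      rw [hS] at h
      have h' := congrArg (HopfAlgebraStruct.antipode (R := k) (A := A)) h
      rw [antipode_antipode_apply, map_smul, HopfAlgebra.antipode_one] at h'
      have hcoact : Coalgebra.comul (R := k) x = C.subtype.rTensor A (cC.coact ⟨x, hx⟩) :=
        LinearMap.congr_fun hιC ⟨x, hx⟩
      have hgx : g x = (f ⟨1, h1C⟩)⁻¹ * f ⟨x, hx⟩ := LinearMap.congr_fun hgf ⟨x, hx⟩
      rw [hcoact, ← LinearMap.rTensor_comp_apply, hgf, LinearMap.rTensor_smul, LinearMap.smul_apply,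
        map_smul, ← h', hgx, mul_smul]
    · have := LinearMap.congr_fun hgf ⟨1, h1C⟩
      simpa [inv_mul_cancel₀ hf1] using this
  letI := HopfRep.Comod.trivial k A k
  haveI := trivHopfMod (k := k) (A := A) W
  obtain ⟨p, hp⟩ := W.subtype.exists_leftInverse_of_injective W.ker_subtype
  let r : V →ₗ[k] W := lam W g ∘ₗ p.rTensor A ∘ₗ HopfRep.Comod.coact (k := k) (A := A)
  have hr : ∀ w : W, r (w : V) = w := fun w => by
    have h : HopfRep.Comod.coact (k := k) (A := A) (w : V) =
        W.subtype.rTensor A (HopfRep.Comod.coact (k := k) (A := A) w) := LinearMap.congr_fun hι w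
    simp only [r, LinearMap.comp_apply, h, ← LinearMap.rTensor_comp_apply, hp, LinearMap.rTensor_id,
      LinearMap.id_coe, id_eq]
    exact lam_coact hg1 w
  have e0 : ∀ y ∈ LinearMap.range (E.subtype.lTensor W),
      HopfRep.Comod.coact (k := k) (A := A) (lam W g y) =
        (lam W g).rTensor A (Hoch.Ind.coactAux k A W y) := by
    rintro _ ⟨y, rfl⟩
    induction y with
    | zero => simp
    | add a b ha hb => simp only [map_add, ha, hb]
    | tmul x a =>
      rw [LinearMap.lTensor_tmul, Hoch.Ind.coactAux_tmul]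
      exact coact_lam_of D x _ (coeff_le_iff.1 le_rfl x trivial)
        fun c hc => (hg _ (hprod c hc _ a.2)).symm
  have hrhom : Hoch.IsComodHom A r := by
    refine LinearMap.ext fun v => ?_
    have hv : p.rTensor A (HopfRep.Comod.coact (k := k) (A := A) v) ∈
        LinearMap.range (E.subtype.lTensor W) := by
      obtain ⟨y, hy⟩ := coeff_le_iff.1 (le_refl E) v trivial
      refine ⟨p.rTensor E y, ?_⟩
      rw [← hy, ← LinearMap.comp_apply, ← LinearMap.comp_apply, LinearMap.lTensor_comp_rTensor,
        LinearMap.rTensor_comp_lTensor]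
    simp only [r, LinearMap.comp_apply, e0 _ hv]
    have e : ∀ y : V ⊗[k] A, Hoch.Ind.coactAux k A W (p.rTensor A y) =
        (TensorProduct.assoc k W A A).symm
          (p.rTensor (A ⊗[k] A) ((Coalgebra.comul (R := k) (A := A)).lTensor V y)) := by
      intro y
      induction y with
      | zero => simp
      | add x y hx hy => simp only [map_add, hx, hy]
      | tmul x y => simp
    rw [e, ← coassoc_apply]
    rw [LinearMap.rTensor_comp_apply, LinearMap.rTensor_comp_apply]
    congr 1
    induction (HopfRep.Comod.coact (k := k) (A := A) (V := V)).rTensor A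
        (HopfRep.Comod.coact (k := k) (A := A) v) with
    | zero => simp
    | add x y hx hy => simp only [map_add, hx, hy]
    | tmul x y =>
      induction x with
      | zero => simp
      | add u v hu hv => simp only [map_add, add_tmul, hu, hv]
      | tmul u v => simp
  exact ⟨LinearMap.ker r, isSubcomod_ker hrhom, LinearMap.isCompl_of_proj hr⟩

end Groth.L08
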