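import Groth.Agent.L08.Basic
import Mathlib.RingTheory.SimpleModule.Isotypic
import Mathlib.LinearAlgebra.Dual.Lemmas
import Mathlib.RingTheory.Artinian.Module

/-!
# Subcoalgebras and coefficient spaces
-/

universe u v w w'

open TensorProduct WithConv

noncomputable section

namespace Groth.L08

variable {k : Type u} [Field k] {A : Type v} [AddCommGroup A] [Module k A] [Coalgebra k A]

/-- Left translation by a functional. -/
def lTr (ψ : A →ₗ[k] k) : A →ₗ[k] A := cf (k := k) (A := A) (V := A) ψ

/-- A subcoalgebra. -/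
def IsSubcoalg (B : Submodule k A) : Prop :=
  ∀ b ∈ B, Coalgebra.comul (R := k) b ∈ LinearMap.range (TensorProduct.map B.subtype B.subtype)

/-- A simple subcoalgebra. -/
def IsSimpleSubcoalg (D : Submodule k A) : Prop :=
  D ≠ ⊥ ∧ IsSubcoalg D ∧ ∀ B : Submodule k A, B ≤ D → IsSubcoalg B → B = ⊥ ∨ B = D

theorem mem_range_map_subtype_iff {V : Type w} [AddCommGroup V] [Module k V] (W : Submodule k V)
    (D : Submodule k A) (x : V ⊗[k] A) :
    x ∈ LinearMap.range (TensorProduct.map W.subtype D.subtype) ↔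
      x ∈ LinearMap.range (W.subtype.rTensor A) ∧ x ∈ LinearMap.range (D.subtype.lTensor V) := by
  constructor
  · rintro ⟨y, rfl⟩
    constructor
    · rw [← LinearMap.rTensor_comp_lTensor]
      exact ⟨_, rfl⟩
    · rw [← LinearMap.lTensor_comp_rTensor]
      exact ⟨_, rfl⟩
  · rintro ⟨⟨y, rfl⟩, h⟩
    have : y ∈ LinearMap.range (D.subtype.lTensor W) := by
      refine (mem_range_lTensor_subtype_iff D y).2 fun f => ?_
      obtain ⟨g, rfl⟩ := LinearMap.exists_extend f
      have := (mem_range_lTensor_subtype_iff D _).1 h g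
      rwa [← LinearMap.comp_apply (g.rTensor A), ← LinearMap.rTensor_comp] at this
    obtain ⟨z, rfl⟩ := this
    exact ⟨z, by rw [← LinearMap.comp_apply, LinearMap.rTensor_comp_lTensor]⟩

theorem isSubcoalg_iff {B : Submodule k A} :
    IsSubcoalg B ↔
      HopfRep.IsSubcomod (k := k) (A := A) B ∧ ∀ ψ : A →ₗ[k] k, ∀ b ∈ B, lTr ψ b ∈ B := by
  simp only [IsSubcoalg, mem_range_map_subtype_iff, mem_range_lTensor_subtype_iff,
    HopfRep.IsSubcomod, forall_and]
  exact and_congr Iff.rfl ⟨fun h ψ b hb => h b hb ψ, fun h b hb ψ => h ψ b hb⟩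

theorem isSubcoalg_inf {B B' : Submodule k A} (h : IsSubcoalg B) (h' : IsSubcoalg B') :
    IsSubcoalg (B ⊓ B') := by
  rw [isSubcoalg_iff] at h h' ⊢
  exact ⟨isSubcomod_inf h.1 h'.1, fun ψ b hb => ⟨h.2 ψ b hb.1, h'.2 ψ b hb.2⟩⟩

theorem isSubcoalg_top : IsSubcoalg (⊤ : Submodule k A) :=
  isSubcoalg_iff.2 ⟨isSubcomod_top, fun _ _ _ => trivial⟩

section coeff

variable (k A) {V : Type w} [AddCommGroup V] [Module k V] [HopfRep.Comod k A V]

/-- The coefficient space of a subspace. -/
def coeff (W : Submodule k V) : Submodule k A :=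
  ⨆ f : Module.Dual k V, W.map (cf (A := A) f)

variable {k A}

theorem cf_mem_coeff {W : Submodule k V} (f : Module.Dual k V) {v : V} (hv : v ∈ W) :
    cf (A := A) f v ∈ coeff k A W :=
  Submodule.mem_iSup_of_mem f (Submodule.mem_map_of_mem hv)

theorem coeff_le_iff {W : Submodule k V} {D : Submodule k A} :
    coeff k A W ≤ D ↔
      ∀ v ∈ W, HopfRep.Comod.coact (k := k) (A := A) v ∈ LinearMap.range (D.subtype.lTensor V) := by
  simp only [coeff, iSup_le_iff, Submodule.map_le_iff_le_comap, mem_range_lTensor_subtype_iff]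
  exact ⟨fun h v hv f => h f hv, fun h f v hv => h v hv f⟩

theorem eq_coeff_of_isLeast {D : Submodule k A}
    (hD : IsLeast {D' : Submodule k A | ∀ e : V, HopfRep.Comod.coact (k := k) (A := A) e ∈
      LinearMap.range (LinearMap.lTensor V D'.subtype)} D) :
    D = coeff k A (⊤ : Submodule k V) :=
  le_antisymm (hD.2 fun e => coeff_le_iff.1 le_rfl e trivial)
    (coeff_le_iff.2 fun e _ => hD.1 e)

theorem cf_fAct (φ : A →ₗ[k] k) (f : Module.Dual k V) (v : V) :
    fAct A φ (cf f v) = cf f (fAct V φ v) :=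
  (fAct_comm_of_isComodHom (isComodHom_cf f) φ v).symm

theorem lTr_comp_cf (ψ : A →ₗ[k] k) (f : Module.Dual k V) (v : V) :
    lTr ψ (cf f v) = cf (A := A) (f ∘ₗ fAct V ψ) v := by
  refine LinearMap.congr_fun (?_ : lTr ψ ∘ₗ cf f = cf (f ∘ₗ fAct V ψ)) v
  ext x
  refine (Module.forall_dual_apply_eq_zero_iff k _).1 (fun θ => ?_) |> sub_eq_zero.1
  rw [map_sub, sub_eq_zero]
  simp only [LinearMap.comp_apply, lTr, apply_cf, cf_fAct]

theorem isSubcoalg_coeff {W : Submodule k V} (hW : HopfRep.IsSubcomod (k := k) (A := A) W) :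
    IsSubcoalg (coeff k A W) := by
  rw [isSubcoalg_iff, isSubcomod_iff]
  refine ⟨fun φ => ?_, fun ψ => ?_⟩
  · suffices coeff k A W ≤ (coeff k A W).comap (fAct A φ) from fun b hb => this hb
    refine iSup_le fun f => Submodule.map_le_iff_le_comap.2 fun v hv => ?_
    simpa only [Submodule.mem_comap, cf_fAct] using
      cf_mem_coeff f (fAct_mem_of_isSubcomod hW φ hv)
  · suffices coeff k A W ≤ (coeff k A W).comap (lTr ψ) from fun b hb => this hb
    refine iSup_le fun f => Submodule.map_le_iff_le_comap.2 fun v hv => ?_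
    simpa only [Submodule.mem_comap, lTr_comp_cf] using cf_mem_coeff _ hv

theorem cf_counit_apply (a : A) : cf (k := k) (A := A) (V := A) Coalgebra.counit a = a := by
  rw [cf_apply]
  exact (congrArg (TensorProduct.lid k A) (Coalgebra.rTensor_counit_comul (R := k) a)).trans
    (by simp)

theorem le_coeff_self (W : Submodule k A) : W ≤ coeff k A (V := A) W := fun a ha => by
  simpa [cf_counit_apply] using cf_mem_coeff (A := A) Coalgebra.counit ha

theorem coeff_le_self {D : Submodule k A} (hD : IsSubcoalg D) {W : Submodule k A} (h : W ≤ D) :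
    coeff k A (V := A) W ≤ D :=
  coeff_le_iff.2 fun v hv => ((mem_range_map_subtype_iff D D _).1 (hD v (h hv))).2

theorem finite_coeff {W : Submodule k V} [Module.Finite k W] : Module.Finite k (coeff k A W) := by
  classical
  obtain ⟨s, hs⟩ := (Module.Finite.iff_fg.1 (inferInstance : Module.Finite k W))
  choose S hS using fun v : V => TensorProduct.exists_finset (HopfRep.Comod.coact (k := k) (A := A) v)
  let G : Submodule k A := Submodule.span k (↑(s.biUnion fun v => (S v).image Prod.snd) : Set A)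
  have : coeff k A W ≤ G := by
    refine coeff_le_iff.2 fun v hv => ?_
    rw [← hs] at hv
    refine (Submodule.span_le (p := (LinearMap.range (G.subtype.lTensor V)).comap
      (HopfRep.Comod.coact (k := k) (A := A)))).2 ?_ hv
    intro x hx
    simp only [SetLike.mem_coe, Submodule.mem_comap, hS x]
    exact sum_mem fun i hi => ⟨i.1 ⊗ₜ[k] ⟨i.2, Submodule.subset_span
      (Finset.mem_biUnion.2 ⟨x, hx, Finset.mem_image_of_mem _ hi⟩)⟩, rfl⟩
  exact Submodule.finiteDimensional_of_le this

end coeff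

theorem exists_finite_subcoalg (s : Finset A) :
    ∃ B : Submodule k A, Module.Finite k B ∧ (s : Set A) ⊆ B ∧ IsSubcoalg B := by
  obtain ⟨W, hW, hs, hsub⟩ := exists_finite_subcomod_of_finset (k := k) (A := A) s
  exact ⟨coeff k A (V := A) W, finite_coeff, hs.trans (SetLike.coe_subset_coe.2 (le_coeff_self W)),
    isSubcoalg_coeff hsub⟩

/-- every comodule map into the regular comodule is a matrix coefficient -/
theorem eq_cf_of_isComodHom {V : Type w} [AddCommGroup V] [Module k V] [HopfRep.Comod k A V]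
    {g : V →ₗ[k] A} (hg : Hoch.IsComodHom A g) : g = cf ((Coalgebra.counit (R := k)) ∘ₗ g) := by
  ext v
  refine (Module.forall_dual_apply_eq_zero_iff k _).1 (fun θ => ?_) |> sub_eq_zero.1
  rw [map_sub, sub_eq_zero, apply_cf, LinearMap.comp_apply, fAct_comm_of_isComodHom hg,
    ← apply_cf θ (Coalgebra.counit (R := k) (A := A)) (g v), cf_counit_apply]

section Simple

variable {E : Type w} [AddCommGroup E] [Module k E] [HopfRep.Comod k A E]

/-- the coefficient space as a submodule over the dual algebra -/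
def coeffSub : Submodule (Dl k A) A :=
  toSub (isSubcoalg_iff.1 (isSubcoalg_coeff (isSubcomod_top (k := k) (A := A) (V := E)))).1

theorem coeffSub_eq_iSup :
    coeffSub (k := k) (A := A) (E := E) =
      ⨆ f : Module.Dual k E, LinearMap.range (homToMod (isComodHom_cf (A := A) f)) := by
  apply Submodule.restrictScalars_injective k
  simp [coeffSub, coeff, Submodule.restrictScalars_iSup, Submodule.map_top]

/-- A non-zero submodule of the coefficient space of a simple comodule contains a copy of it. -/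
theorem exists_injective_of_le_coeff (hE : HopfRep.IsSimpleComod k A E)
    {W : Submodule (Dl k A) A} (hW : W ≤ coeffSub (k := k) (A := A) (E := E))
    (h0 : W ≠ ⊥) :
    ∃ g : E →ₗ[Dl k A] A, Function.Injective g ∧ LinearMap.range g ≤ W := by
  haveI := isSimpleComod_iff.1 hE
  haveI : ∀ f : Module.Dual k E,
      IsSemisimpleModule (Dl k A) (LinearMap.range (homToMod (isComodHom_cf (A := A) f))) :=
    fun f => IsSemisimpleModule.range _
  haveI : IsSemisimpleModule (Dl k A) (coeffSub (k := k) (A := A) (E := E)) := by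
    rw [coeffSub_eq_iSup]
    rw [show (⨆ f : Module.Dual k E, LinearMap.range (homToMod (isComodHom_cf (A := A) f))) =
      ⨆ f ∈ (Set.univ : Set (Module.Dual k E)), LinearMap.range (homToMod (isComodHom_cf (A := A) f))
        from iSup_univ.symm]
    exact isSemisimpleModule_biSup_of_isSemisimpleModule_submodule fun f _ => inferInstance
  obtain ⟨c, hc⟩ := ((isSemisimpleModule_iff _ _).1 ‹IsSemisimpleModule (Dl k A) (coeffSub (k := k) (A := A) (E := E))›).exists_isCompl (W.submoduleOf (coeffSub (k := k) (A := A) (E := E)))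
  let π := (coeffSub (k := k) (A := A) (E := E)).subtype ∘ₗ
    (Submodule.submoduleOf W (coeffSub (k := k) (A := A) (E := E))).subtype ∘ₗ Submodule.projectionOnto (W.submoduleOf (coeffSub (k := k) (A := A) (E := E))) c hc
  have hmem : ∀ f : Module.Dual k E, ∀ e : E, homToMod (isComodHom_cf (A := A) f) e ∈
      coeffSub (k := k) (A := A) (E := E) := fun f e => cf_mem_coeff f trivial
  by_cases hall : ∀ f : Module.Dual k E,
      π ∘ₗ (homToMod (isComodHom_cf (A := A) f)).codRestrict _ (hmem f) = 0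
  · exfalso
    apply h0
    rw [eq_bot_iff]
    intro x hx
    have key : ∀ y : coeffSub (k := k) (A := A) (E := E), π y = 0 := by
      intro y
      have hy : (y : A) ∈ (LinearMap.ker π).map (coeffSub (k := k) (A := A) (E := E)).subtype := by
        have h2 : (y : A) ∈ ⨆ f : Module.Dual k E, LinearMap.range (homToMod (isComodHom_cf (A := A) f)) :=
          coeffSub_eq_iSup (k := k) (A := A) (E := E) ▸ y.2
        refine (iSup_le fun f => ?_ : (⨆ f : Module.Dual k E, LinearMap.range (homToMod (isComodHom_cf (A := A) f))) ≤ _) h2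
        rintro _ ⟨e, rfl⟩
        exact ⟨⟨_, hmem f e⟩, LinearMap.congr_fun (hall f) e, rfl⟩
      obtain ⟨z, hz, hzy⟩ := hy
      rwa [show z = y from Subtype.ext hzy] at hz
    have hp := Submodule.projectionOnto_apply_left hc ⟨⟨x, hW hx⟩, hx⟩
    have e : π ⟨x, hW hx⟩ = x := congrArg (fun z => Subtype.val (Subtype.val z)) hp
    rw [key ⟨x, hW hx⟩] at e
    exact (Submodule.mem_bot _).2 e.symm
  · push Not at hall
    obtain ⟨f, hf⟩ := hall
    refine ⟨π ∘ₗ (homToMod (isComodHom_cf (A := A) f)).codRestrict _ (hmem f),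
      (LinearMap.injective_or_eq_zero _).resolve_right hf, ?_⟩
    rintro _ ⟨e, rfl⟩
    exact (Submodule.projectionOnto _ _ hc _).2

theorem isSimpleSubcoalg_coeff_top (hE : HopfRep.IsSimpleComod k A E) :
    IsSimpleSubcoalg (coeff k A (⊤ : Submodule k E)) := by
  obtain ⟨hn, -⟩ := id hE
  refine ⟨?_, isSubcoalg_coeff isSubcomod_top, fun B hB hBc => ?_⟩
  · obtain ⟨e, he⟩ := exists_ne (0 : E)
    obtain ⟨f, hf⟩ : ∃ f : Module.Dual k E, f e ≠ 0 := by
      by_contra! h
      exact he ((Module.forall_dual_apply_eq_zero_iff k e).1 h)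
    intro h0
    have h1 := cf_mem_coeff (A := A) (W := (⊤ : Submodule k E)) f (v := e) trivial
    rw [h0, Submodule.mem_bot] at h1
    exact hf (by simpa [apply_cf] using congrArg (Coalgebra.counit (R := k)) h1)
  · rcases eq_or_ne B ⊥ with h0 | h0
    · exact Or.inl h0
    right
    let W := toSub (isSubcoalg_iff.1 hBc).1
    obtain ⟨g, hg, hgW⟩ := exists_injective_of_le_coeff hE (W := W) hB
      (fun h => h0 (by simpa [W] using congrArg (Submodule.restrictScalars k) h))
    refine le_antisymm hB (iSup_le fun f => Submodule.map_le_iff_le_comap.2 fun e _ => ?_)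
    obtain ⟨f', hf'⟩ : ∃ f' : Module.Dual k A, f' ∘ₗ g.restrictScalars k = f := by
      obtain ⟨l, hl⟩ := (g.restrictScalars k).exists_leftInverse_of_injective (LinearMap.ker_eq_bot.2 hg)
      exact ⟨f ∘ₗ l, by rw [LinearMap.comp_assoc, hl, LinearMap.comp_id]⟩
    have : cf (A := A) f e = cf (A := A) f' (g e) := by
      refine (Module.forall_dual_apply_eq_zero_iff k _).1 (fun θ => ?_) |> sub_eq_zero.1
      rw [map_sub, sub_eq_zero, apply_cf, apply_cf, ← hf']
      exact congrArg f' (g.map_smul (Dl.of θ) e)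
    rw [Submodule.mem_comap, this]
    exact (isSubcoalg_iff.1 hBc).2 f' _ (hgW ⟨e, rfl⟩)

end Simple

theorem exists_simple_subcomod {V : Type w} [AddCommGroup V] [Module k V] [HopfRep.Comod k A V]
    {W : Submodule (Dl k A) V} (h : W ≠ ⊥) :
    ∃ S ≤ W, IsSimpleModule (Dl k A) S := by
  obtain ⟨v, hv, hv0⟩ := W.ne_bot_iff.1 h
  obtain ⟨U, hfin, hvU, hU⟩ := exists_finite_subcomod (k := k) (A := A) v
  haveI : Module.Finite k (toSub hU ⊓ W : Submodule (Dl k A) V) :=
    Submodule.finiteDimensional_of_le (S₁ := ((toSub hU ⊓ W).restrictScalars k)) (S₂ := U) fun _ hx => hx.1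
  haveI : Module.Finite k ((toSub hU ⊓ W).restrictScalars k) :=
    Submodule.finiteDimensional_of_le (S₁ := ((toSub hU ⊓ W).restrictScalars k)) (S₂ := U) fun _ hx => hx.1
  haveI : IsArtinian (Dl k A) (toSub hU ⊓ W : Submodule (Dl k A) V) :=
    isArtinian_of_tower k (inferInstanceAs (IsArtinian k ((toSub hU ⊓ W).restrictScalars k)))
  have hne : (toSub hU ⊓ W : Submodule (Dl k A) V) ≠ ⊥ :=
    (Submodule.ne_bot_iff _).2 ⟨v, ⟨hvU, hv⟩, hv0⟩
  haveI := Submodule.nontrivial_iff_ne_bot.2 hne
  haveI := isAtomic_of_orderBot_wellFounded_lt (α := Submodule (Dl k A)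
    (toSub hU ⊓ W : Submodule (Dl k A) V)) wellFounded_lt
  obtain ⟨S, hS⟩ := IsAtomic.exists_atom (Submodule (Dl k A)
    (toSub hU ⊓ W : Submodule (Dl k A) V))
  haveI : IsSimpleModule (Dl k A) (↥S) := isSimpleModule_iff_isAtom.2 hS
  refine ⟨S.map (toSub hU ⊓ W).subtype, fun x hx => ?_, IsSimpleModule.congr (Submodule.equivMapOfInjective _ (Submodule.injective_subtype _) S).symm⟩
  obtain ⟨y, -, rfl⟩ := hx
  exact y.2.2

end Groth.L08
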