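import Groth.Agent.L08.Basic
import Groth.Agent.L08.Semisimple
import Mathlib.RingTheory.Flat.Basic

/-!
# Comodules along a map of coalgebras
-/

universe u v v' w

open TensorProduct

noncomputable section

namespace Groth.L08

section Push

variable {k : Type u} [CommRing k] {C : Type v} [AddCommGroup C] [Module k C] [Coalgebra k C]
  {D : Type v'} [AddCommGroup D] [Module k D] [Coalgebra k D]
  {V : Type w} [AddCommGroup V] [Module k V]

/-- Push a comodule forward along a coalgebra map. -/
@[reducible] def push (i : C →ₗc[k] D) (c : HopfRep.Comod k C V) : HopfRep.Comod k D V where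
  coact := i.toLinearMap.lTensor V ∘ₗ c.coact
  coassoc := by
    letI := c
    refine LinearMap.ext fun v => ?_
    have hi : TensorProduct.map i.toLinearMap i.toLinearMap ∘ₗ Coalgebra.comul =
        Coalgebra.comul ∘ₗ i.toLinearMap := i.map_comp_comul
    have h1 : ∀ y : V ⊗[k] C, TensorProduct.assoc k V D D
        ((i.toLinearMap.lTensor V ∘ₗ c.coact).rTensor D (i.toLinearMap.lTensor V y)) =
        (TensorProduct.map i.toLinearMap i.toLinearMap).lTensor V
          (TensorProduct.assoc k V C C (c.coact.rTensor C y)) := by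
      intro y
      induction y with
      | zero => simp
      | add a b ha hb => simp only [map_add, ha, hb]
      | tmul x e =>
        simp only [LinearMap.lTensor_tmul, LinearMap.rTensor_tmul, LinearMap.comp_apply]
        induction c.coact x with
        | zero => simp
        | add a b ha hb => simp only [map_add, add_tmul, ha, hb]
        | tmul a b => simp
    simp only [LinearMap.comp_apply, LinearEquiv.coe_coe, h1, coassoc_apply]
    simp only [← LinearMap.lTensor_comp_apply, hi]
  counit_comp := by
    letI := c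
    refine LinearMap.ext fun v => ?_
    have hi : Coalgebra.counit ∘ₗ i.toLinearMap = Coalgebra.counit (R := k) (A := C) := i.counit_comp
    simp only [LinearMap.comp_apply, ← LinearMap.lTensor_comp_apply, hi]
    exact counit_apply v

theorem fAct_push (i : C →ₗc[k] D) (c : HopfRep.Comod k C V) (φ : D →ₗ[k] k) :
    @fAct k _ D _ _ _ V _ _ (push i c) φ = @fAct k _ C _ _ _ V _ _ c (φ ∘ₗ i.toLinearMap) := by
  refine LinearMap.ext fun v => ?_
  change TensorProduct.rid k V (φ.lTensor V (i.toLinearMap.lTensor V (c.coact v))) = _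
  rw [← LinearMap.lTensor_comp_apply]
  rfl

end Push

section Field

variable {k : Type u} [Field k] {C : Type v} [AddCommGroup C] [Module k C] [Coalgebra k C]
  {D : Type v'} [AddCommGroup D] [Module k D] [Coalgebra k D]
  {V : Type w} [AddCommGroup V] [Module k V]

theorem isSubcomod_push_iff (i : C →ₗc[k] D) (hi : Function.Injective i)
    (c : HopfRep.Comod k C V) (W : Submodule k V) :
    @HopfRep.IsSubcomod k D _ _ _ _ V _ _ (push i c) W ↔ @HopfRep.IsSubcomod k C _ _ _ _ V _ _ c W := by
  letI := c
  constructor
  · intro h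
    refine isSubcomod_iff.2 fun φ v hv => ?_
    obtain ⟨ψ, hψ⟩ := exists_extend_inj (f := i.toLinearMap) (LinearMap.ker_eq_bot.2 hi) φ
    have := @fAct_mem_of_isSubcomod k _ D _ _ _ V _ _ (push i c) W h ψ v hv
    rwa [fAct_push, hψ] at this
  · intro h w hw
    obtain ⟨y, hy⟩ := h w hw
    refine ⟨i.toLinearMap.lTensor W y, ?_⟩
    change _ = i.toLinearMap.lTensor V (c.coact w)
    rw [← hy, ← LinearMap.comp_apply, ← LinearMap.comp_apply, LinearMap.rTensor_comp_lTensor,
      LinearMap.lTensor_comp_rTensor]

theorem isSemisimpleComod_of_push (i : C →ₗc[k] D) (hi : Function.Injective i)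
    (c : HopfRep.Comod k C V) (h : @HopfRep.IsSemisimpleComod k D _ _ _ _ V _ _ (push i c)) :
    @HopfRep.IsSemisimpleComod k C _ _ _ _ V _ _ c := by
  intro W hW
  obtain ⟨W', h1, h2⟩ := h W ((isSubcomod_push_iff i hi c W).2 hW)
  exact ⟨W', (isSubcomod_push_iff i hi c W').1 h1, h2⟩

theorem isSimpleComod_push (i : C →ₗc[k] D) (hi : Function.Injective i)
    (c : HopfRep.Comod k C V) (h : @HopfRep.IsSimpleComod k C _ _ _ _ V _ _ c) :
    @HopfRep.IsSimpleComod k D _ _ _ _ V _ _ (push i c) :=
  ⟨h.1, fun W hW => h.2 W ((isSubcomod_push_iff i hi c W).1 hW)⟩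

/-- A comodule whose coaction factors through an injective coalgebra map comes from a comodule. -/
theorem exists_pull (i : C →ₗc[k] D) (hi : Function.Injective i) (d : HopfRep.Comod k D V)
    (h : ∀ v : V, d.coact v ∈ LinearMap.range (i.toLinearMap.lTensor V)) :
    ∃ c : HopfRep.Comod k C V, i.toLinearMap.lTensor V ∘ₗ c.coact = d.coact := by
  letI := d
  have hinj : Function.Injective (i.toLinearMap.lTensor V) :=
    Module.Flat.lTensor_preserves_injective_linearMap _ hi
  let ρ : V →ₗ[k] V ⊗[k] C := (LinearEquiv.ofInjective _ hinj).symm.toLinearMap ∘ₗ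
    d.coact.codRestrict _ h
  have hρ : ∀ v, i.toLinearMap.lTensor V (ρ v) = d.coact v := fun v => by
    exact (LinearEquiv.ofInjective_apply (h := hinj) _ _).symm.trans
      (congrArg Subtype.val ((LinearEquiv.ofInjective _ hinj).apply_symm_apply ⟨d.coact v, h v⟩))
  have hinj2 : Function.Injective ((TensorProduct.map i.toLinearMap i.toLinearMap).lTensor V) := by
    refine Module.Flat.lTensor_preserves_injective_linearMap _ ?_
    rw [← LinearMap.rTensor_comp_lTensor]
    exact (Module.Flat.rTensor_preserves_injective_linearMap _ hi).comp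
      (Module.Flat.lTensor_preserves_injective_linearMap _ hi)
  have hi2 : TensorProduct.map i.toLinearMap i.toLinearMap ∘ₗ Coalgebra.comul =
      Coalgebra.comul ∘ₗ i.toLinearMap := i.map_comp_comul
  refine ⟨{ coact := ρ, coassoc := ?_, counit_comp := ?_ }, LinearMap.ext hρ⟩
  · refine LinearMap.ext fun v => hinj2 ?_
    have h1 : ∀ y : V ⊗[k] C, (TensorProduct.map i.toLinearMap i.toLinearMap).lTensor V
        (TensorProduct.assoc k V C C (ρ.rTensor C y)) =
        TensorProduct.assoc k V D D (d.coact.rTensor D (i.toLinearMap.lTensor V y)) := by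
      intro y
      induction y with
      | zero => simp
      | add a b ha hb => simp only [map_add, ha, hb]
      | tmul x e =>
        simp only [LinearMap.lTensor_tmul, LinearMap.rTensor_tmul, ← hρ x]
        induction ρ x with
        | zero => simp
        | add a b ha hb => simp only [map_add, add_tmul, ha, hb]
        | tmul a b => simp
    simp only [LinearMap.comp_apply, LinearEquiv.coe_coe, h1, hρ, coassoc_apply,
      ← LinearMap.lTensor_comp_apply, hi2]
    rw [LinearMap.lTensor_comp_apply, hρ]
  · refine LinearMap.ext fun v => ?_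
    have hi3 : Coalgebra.counit ∘ₗ i.toLinearMap = Coalgebra.counit (R := k) (A := C) := i.counit_comp
    simp only [LinearMap.comp_apply, LinearMap.flip_apply, TensorProduct.mk_apply]
    rw [← hi3, LinearMap.lTensor_comp_apply, hρ]
    exact counit_apply v

/-- The quotient condition of S18808. -/
theorem rTensor_mkQ_mem_range_iff [HopfRep.Comod k D V] (i : C →ₗc[k] D) (K : Submodule k V) :
    (∀ v : V, K.mkQ.rTensor D (HopfRep.Comod.coact (k := k) (A := D) v) ∈
      LinearMap.range (i.toLinearMap.lTensor (V ⧸ K))) ↔
      ∀ φ : D →ₗ[k] k, φ ∘ₗ i.toLinearMap = 0 → ∀ v : V, fAct V φ v ∈ K := by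
  classical
  have key : ∀ (φ : D →ₗ[k] k) (v : V), TensorProduct.rid k (V ⧸ K)
      (φ.lTensor (V ⧸ K) (K.mkQ.rTensor D (HopfRep.Comod.coact (k := k) (A := D) v))) =
      K.mkQ (fAct V φ v) := by
    intro φ v
    rw [fAct_apply]
    induction HopfRep.Comod.coact (k := k) (A := D) v with
    | zero => simp
    | add a b ha hb => simp only [map_add, ha, hb]
    | tmul a b => simp
  constructor
  · intro h φ hφ v
    obtain ⟨y, hy⟩ := h v
    rw [← Submodule.Quotient.mk_eq_zero, ← Submodule.mkQ_apply, ← key, ← hy,
      ← LinearMap.lTensor_comp_apply, hφ]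
    simp
  · intro h v
    let R : Submodule k D := LinearMap.range i.toLinearMap
    have hmem : K.mkQ.rTensor D (HopfRep.Comod.coact (k := k) (A := D) v) ∈
        LinearMap.range (R.subtype.lTensor (V ⧸ K)) := by
      rw [mem_range_lTensor_subtype_iff]
      intro f
      rw [← Submodule.Quotient.mk_eq_zero R, ← Module.forall_dual_apply_eq_zero_iff k]
      intro g
      have hg : (g ∘ₗ R.mkQ) ∘ₗ i.toLinearMap = 0 := LinearMap.ext fun c => by
        change g (Submodule.Quotient.mk (i.toLinearMap c)) = 0
        rw [(Submodule.Quotient.mk_eq_zero R).2 (LinearMap.mem_range_self i.toLinearMap c), map_zero]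
      have e : ∀ z : (V ⧸ K) ⊗[k] D, g (Submodule.Quotient.mk (TensorProduct.lid k D (f.rTensor D z))) =
          f (TensorProduct.rid k (V ⧸ K) ((g ∘ₗ R.mkQ).lTensor (V ⧸ K) z)) := by
        intro z
        induction z with
        | zero => simp
        | add a b ha hb => simp only [map_add, Submodule.Quotient.mk_add, ha, hb]
        | tmul a b => simp [mul_comm]
      rw [e, key, Submodule.mkQ_apply, (Submodule.Quotient.mk_eq_zero K).2 (h _ hg v), map_zero]
    obtain ⟨y, hy⟩ := hmem
    obtain ⟨z, rfl⟩ := LinearMap.lTensor_surjective (V ⧸ K)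
      i.toLinearMap.surjective_rangeRestrict y
    refine ⟨z, ?_⟩
    rw [← hy, ← LinearMap.lTensor_comp_apply]
    rfl

end Field

end Groth.L08
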