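import Groth.Agent.L08.Diag
import Groth.Agent.L08.Pullback
import Groth.Agent.L08.Subcoalg
import Mathlib.RingTheory.HopfAlgebra.TensorProduct

/-!
# Flags with scalar steps: unipotent and trigonalizable Hopf algebras
-/

universe u v v' w w'

open TensorProduct

noncomputable section

namespace Groth.L08

section Step

variable {k : Type u} [Field k] {A : Type v} [AddCommGroup A] [Module k A] [Coalgebra k A]
  {V : Type w} [AddCommGroup V] [Module k V] [HopfRep.Comod k A V]

/-- The coaction on `W'` is `· ⊗ g` modulo `W`. -/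
def Step (g : A) (W W' : Submodule k V) : Prop :=
  ∀ v ∈ W', ∀ φ : A →ₗ[k] k, fAct V φ v - φ g • v ∈ W

theorem step_iff_range {g : A} {W W' : Submodule k V} :
    Step g W W' ↔ ∀ v ∈ W', HopfRep.Comod.coact (k := k) (A := A) v - v ⊗ₜ[k] g ∈
      LinearMap.range (W.subtype.rTensor A) := by
  constructor
  · intro h v hv
    rw [mem_range_rTensor_subtype_iff]
    intro φ
    rw [map_sub, map_sub, LinearMap.lTensor_tmul, TensorProduct.rid_tmul, ← fAct_apply]
    exact h v hv φ
  · intro h v hv φ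
    have := (mem_range_rTensor_subtype_iff W _).1 (h v hv) φ
    rwa [map_sub, map_sub, LinearMap.lTensor_tmul, TensorProduct.rid_tmul, ← fAct_apply] at this

theorem Step.isSubcomod {g : A} {W W' : Submodule k V} (h : Step g W W') (hle : W ≤ W') :
    HopfRep.IsSubcomod (k := k) (A := A) W' :=
  isSubcomod_iff.2 fun φ v hv => by
    have := add_mem (hle (h v hv φ)) (W'.smul_mem (φ g) hv)
    simpa using this

/-- `v` lies in the top of a flag whose steps are scalar with characters satisfying `P`. -/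
def HasFlag (k : Type u) [Field k] (A : Type v) [AddCommGroup A] [Module k A] [Coalgebra k A]
    {V : Type w} [AddCommGroup V] [Module k V] [HopfRep.Comod k A V] (P : A → Prop) (v : V) : Prop :=
  ∃ (m : ℕ) (F : ℕ → Submodule k V), F 0 = ⊥ ∧ v ∈ F m ∧ ∀ i, ∃ g, P g ∧ Step g (F i) (F (i + 1))

theorem HasFlag.map {P : A → Prop} {v : V} (h : HasFlag k A P v) {U : Type w'} [AddCommGroup U]
    [Module k U] [HopfRep.Comod k A U] {f : V →ₗ[k] U} (hf : Hoch.IsComodHom A f) :
    HasFlag k A P (f v) := by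
  obtain ⟨m, F, h0, hv, hs⟩ := h
  refine ⟨m, fun i => (F i).map f, by simp [h0], ⟨v, hv, rfl⟩, fun i => ?_⟩
  obtain ⟨g, hg, hst⟩ := hs i
  refine ⟨g, hg, ?_⟩
  rintro _ ⟨x, hx, rfl⟩ φ
  exact ⟨_, hst x hx φ, by rw [map_sub, map_smul, fAct_comm_of_isComodHom hf]⟩

theorem HasFlag.push {D : Type v'} [AddCommGroup D] [Module k D] [Coalgebra k D] {P : A → Prop}
    {Q : D → Prop} (i : A →ₗc[k] D) (hPQ : ∀ g, P g → Q (i g)) {v : V} (h : HasFlag k A P v) :
    @HasFlag k _ D _ _ _ V _ _ (push i ‹HopfRep.Comod k A V›) Q v := by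
  obtain ⟨m, F, h0, hv, hs⟩ := h
  refine ⟨m, F, h0, hv, fun j => ?_⟩
  obtain ⟨g, hg, hst⟩ := hs j
  refine ⟨i g, hPQ g hg, fun x hx φ => ?_⟩
  rw [fAct_push]
  exact hst x hx (φ ∘ₗ i.toLinearMap)

end Step

section Hopf

variable {k : Type u} [Field k] {A : Type v} [AddCommGroup A] [Module k A] [Coalgebra k A]
  {V : Type w} [AddCommGroup V] [Module k V] [HopfRep.Comod k A V]

/-- A simple comodule is scalar with a character allowed by `P` as soon as the regular comodule has
flags allowed by `P`. -/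
theorem exists_scalar_of_hasFlag {P : A → Prop} (h : ∀ a : A, HasFlag k A P a)
    (hV : HopfRep.IsSimpleComod k A V) :
    ∃ g, P g ∧ ∃ s : V, s ≠ 0 ∧ ∀ φ : A →ₗ[k] k, fAct V φ s = φ g • s := by
  classical
  obtain ⟨hnt, hs⟩ := hV
  obtain ⟨v, hv⟩ := exists_ne (0 : V)
  obtain ⟨f, hf⟩ : ∃ f : Module.Dual k V, f v ≠ 0 := by
    by_contra! h0
    exact hv ((Module.forall_dual_apply_eq_zero_iff k v).1 h0)
  let c : V →ₗ[k] A := cf f
  have hc : Hoch.IsComodHom A c := isComodHom_cf f
  have hcv : c v ≠ 0 := fun h0 => hf (by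
    have := apply_cf (A := A) Coalgebra.counit f v
    rw [show cf f v = c v from rfl, h0, map_zero, fAct_counit] at this
    exact this.symm)
  have hinj : LinearMap.ker c = ⊥ :=
    (hs _ (isSubcomod_ker hc)).resolve_right fun ht => hcv (LinearMap.mem_ker.1 (ht ▸ trivial))
  obtain ⟨m, F, h0, hm, hst⟩ := h (c v)
  have hex : ∃ i, ∃ s : V, s ≠ 0 ∧ c s ∈ F i := ⟨m, v, hv, hm⟩
  obtain ⟨s, hs0, hsmem⟩ := Nat.find_spec hex
  cases hi : Nat.find hex with
  | zero =>
    rw [hi, h0, Submodule.mem_bot] at hsmem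
    exact absurd (LinearMap.ker_eq_bot'.1 hinj s hsmem) hs0
  | succ j =>
    rw [hi] at hsmem
    obtain ⟨g, hg, hstep⟩ := hst j
    refine ⟨g, hg, s, hs0, fun φ => ?_⟩
    by_contra hne
    refine Nat.find_min hex (m := j) (by omega) ⟨fAct V φ s - φ g • s, sub_ne_zero.2 hne, ?_⟩
    rw [map_sub, map_smul, fAct_comm_of_isComodHom hc]
    exact hstep _ hsmem φ

omit [HopfRep.Comod k A V] in
theorem finrank_eq_one_of_scalar [HopfRep.Comod k A V] (hV : HopfRep.IsSimpleComod k A V) {g : A}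
    {s : V} (hs : s ≠ 0) (h : ∀ φ : A →ₗ[k] k, fAct V φ s = φ g • s) :
    Module.finrank k V = 1 := by
  have hsub : HopfRep.IsSubcomod (k := k) (A := A) (Submodule.span k {s}) := by
    refine isSubcomod_iff.2 fun φ w hw => ?_
    obtain ⟨c, rfl⟩ := Submodule.mem_span_singleton.1 hw
    rw [map_smul, h]
    exact Submodule.smul_mem _ _ (Submodule.smul_mem _ _ (Submodule.mem_span_singleton_self s))
  rcases hV.2 _ hsub with hb | ht
  · exact absurd hb (by simp [hs])
  · rw [← finrank_top k V, ← ht, finrank_span_singleton hs]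

end Hopf

section Classes

variable {k : Type u} [Field k] {A : Type v} [CommRing A] [Bialgebra k A]

theorem mem_fixedPts_iff_fAct {V : Type w} [AddCommGroup V] [Module k V] [HopfRep.Comod k A V] {v : V} :
    v ∈ HopfRep.fixedPts k A V ↔ ∀ φ : A →ₗ[k] k, fAct V φ v = φ 1 • v := by
  constructor
  · intro hv φ
    have hv' : HopfRep.Comod.coact (k := k) (A := A) v = v ⊗ₜ[k] (1 : A) := hv
    simp [fAct_apply, hv']
  · intro h
    classical
    let b := Module.Basis.ofVectorSpace k A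
    refine (TensorProduct.equivFinsuppOfBasisRight b).injective (Finsupp.ext fun i => ?_)
    rw [TensorProduct.equivFinsuppOfBasisRight_apply, TensorProduct.equivFinsuppOfBasisRight_apply,
      ← fAct_apply, h]
    simp

theorem isUnipotent_of_hasFlag (h : ∀ a : A, HasFlag k A (fun g => g = 1) a) :
    HopfRep.IsUnipotent k A := by
  intro V _ _ _ _ hnt
  obtain ⟨v, hv⟩ := exists_ne (0 : V)
  obtain ⟨S, hS⟩ : ∃ S : Submodule k V, HopfRep.IsSubcomod (k := k) (A := A) S ∧ IsSimpleSub (A := A) S := by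
    obtain ⟨M, -, hM⟩ := exists_simple_subcomod (k := k) (A := A) (W := (⊤ : Submodule (Dl k A) V))
      (fun htb => hv ((Submodule.mem_bot _).1 (htb ▸ Submodule.mem_top)))
    refine ⟨M.restrictScalars k, isSubcomod_restrictScalars M, ?_⟩
    exact (isSimpleModule_toSub_iff (isSubcomod_restrictScalars M)).1 hM
  letI := ComodSub.Comod.restr ‹HopfRep.Comod k A V› S hS.1
  have hsimp : HopfRep.IsSimpleComod k A S :=
    isSimpleComod_restr hS.1 ((isSimpleModule_toSub_iff hS.1).2 hS.2)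
  obtain ⟨g, rfl, s, hs0, hs⟩ := exists_scalar_of_hasFlag h hsimp
  intro hbot
  apply hs0
  have : (s : V) ∈ HopfRep.fixedPts k A V := mem_fixedPts_iff_fAct.2 fun φ => by
    exact (fAct_comm_of_isComodHom (ComodSub.isComodHom_subtype _ S hS.1) φ s).symm.trans
      (congrArg S.subtype (hs φ))
  rw [hbot, Submodule.mem_bot] at this
  exact Subtype.ext this

theorem isTrigonalizable_of_hasFlag (h : ∀ a : A, HasFlag k A (fun _ => True) a) :
    HopfRep.IsTrigonalizable k A := by
  intro V _ _ _ _ hs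
  obtain ⟨g, -, s, hs0, hss⟩ := exists_scalar_of_hasFlag h hs
  exact finrank_eq_one_of_scalar hs hs0 hss

/-- Iterated enlargement of subcomodules by a step rule gives a flag. -/
theorem exists_flag_of_rule {V : Type w} [AddCommGroup V] [Module k V] [HopfRep.Comod k A V]
    [Module.Finite k V] {P : A → Prop} (hP : ∃ g, P g)
    (hrule : ∀ W : Submodule k V, HopfRep.IsSubcomod (k := k) (A := A) W → W ≠ ⊤ →
      ∃ (g : A) (W' : Submodule k V), P g ∧ W < W' ∧ Step g W W') :
    ∃ F : ℕ → Submodule k V, Monotone F ∧ F 0 = ⊥ ∧ F (Module.finrank k V) = ⊤ ∧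
      (∀ i, HopfRep.IsSubcomod (k := k) (A := A) (F i)) ∧ ∀ i, ∃ g, P g ∧ Step g (F i) (F (i + 1)) := by
  classical
  obtain ⟨g₀, hg₀⟩ := hP
  let T := {W : Submodule k V // HopfRep.IsSubcomod (k := k) (A := A) W}
  have hnext : ∀ W : T, ∃ W' : T, W.1 ≤ W'.1 ∧ (W.1 ≠ ⊤ → W.1 < W'.1) ∧ ∃ g, P g ∧ Step g W.1 W'.1 := by
    intro W
    by_cases hW : W.1 = ⊤
    · exact ⟨W, le_rfl, fun h => absurd hW h, g₀, hg₀, fun v _ φ => hW ▸ trivial⟩
    · obtain ⟨g, W', hg, hlt, hst⟩ := hrule W.1 W.2 hW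
      exact ⟨⟨W', hst.isSubcomod hlt.le⟩, hlt.le, fun _ => hlt, g, hg, hst⟩
  choose nx h1 h2 h3 using hnext
  let F : ℕ → T := fun n => nx^[n] ⟨⊥, isSubcomod_bot⟩
  have hF : ∀ n, F (n + 1) = nx (F n) := fun n => Function.iterate_succ_apply' nx n _
  have hdim : ∀ n, (F n).1 = ⊤ ∨ n ≤ Module.finrank k (F n).1 := by
    intro n
    induction n with
    | zero => exact Or.inr (Nat.zero_le _)
    | succ n ih =>
      by_cases hW : (F n).1 = ⊤
      · exact Or.inl (eq_top_iff.2 (hW ▸ hF n ▸ h1 (F n)))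
      · have := Submodule.finrank_lt_finrank_of_lt (h2 (F n) hW)
        rw [← hF n] at this
        exact Or.inr (by have := ih.resolve_left hW; omega)
  refine ⟨fun n => (F n).1, monotone_nat_of_le_succ fun n => hF n ▸ h1 (F n), rfl, ?_, fun n => (F n).2,
    fun n => (congrArg (fun W : T => ∃ g, P g ∧ Step g (F n).1 W.1) (hF n)).mpr (h3 (F n))⟩
  rcases hdim (Module.finrank k V) with h | h
  · exact h
  · exact Submodule.eq_top_of_finrank_eq (le_antisymm (Submodule.finrank_le _) h)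

theorem exists_flag_of_isUnipotent (h : HopfRep.IsUnipotent k A) (V : Type v) [AddCommGroup V]
    [Module k V] [HopfRep.Comod k A V] [Module.Finite k V] :
    ∃ F : ℕ → Submodule k V, Monotone F ∧ F 0 = ⊥ ∧ F (Module.finrank k V) = ⊤ ∧
      (∀ i, HopfRep.IsSubcomod (k := k) (A := A) (F i)) ∧
      ∀ i, ∃ g, g = (1 : A) ∧ Step g (F i) (F (i + 1)) := by
  refine exists_flag_of_rule (P := fun g => g = (1 : A)) ⟨1, rfl⟩ fun W hW htop => ?_
  letI := ComodSub.Comod.quot ‹HopfRep.Comod k A V› W hW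
  haveI : Nontrivial (V ⧸ W) := Submodule.Quotient.nontrivial_iff.2 htop
  have hne := h (V ⧸ W) inferInstance inferInstance
  obtain ⟨q, hq, hq0⟩ := Submodule.exists_mem_ne_zero_of_ne_bot hne
  obtain ⟨v, rfl⟩ := W.mkQ_surjective q
  refine ⟨1, (HopfRep.fixedPts k A (V ⧸ W)).comap W.mkQ, rfl, ?_, fun x hx φ => ?_⟩
  · refine lt_of_le_of_ne (fun x hx => ?_) fun e => hq0 ?_
    · rw [Submodule.mem_comap, Submodule.mkQ_apply, (Submodule.Quotient.mk_eq_zero W).2 hx]
      exact zero_mem _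
    · have hmem : v ∈ (HopfRep.fixedPts k A (V ⧸ W)).comap W.mkQ := hq
      rw [← e] at hmem
      exact (Submodule.Quotient.mk_eq_zero W).2 hmem
  · rw [← Submodule.Quotient.mk_eq_zero, ← Submodule.mkQ_apply, map_sub, map_smul,
      fAct_comm_of_isComodHom (ComodSub.isComodHom_mkQ _ W hW), mem_fixedPts_iff_fAct.1 hx φ, sub_self]

theorem exists_scalar_of_isTrigonalizable (h : HopfRep.IsTrigonalizable k A) (U : Type v)
    [AddCommGroup U] [Module k U] [HopfRep.Comod k A U] [Module.Finite k U] [Nontrivial U] :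
    ∃ (g : A) (q : U), q ≠ 0 ∧ ∀ φ : A →ₗ[k] k, fAct U φ q = φ g • q := by
  obtain ⟨q₀, hq₀⟩ := exists_ne (0 : U)
  obtain ⟨M, -, hM⟩ := exists_simple_subcomod (k := k) (A := A) (W := (⊤ : Submodule (Dl k A) U))
    (fun htb => hq₀ ((Submodule.mem_bot _).1 (htb ▸ Submodule.mem_top)))
  let S : Submodule k U := M.restrictScalars k
  have hS : HopfRep.IsSubcomod (k := k) (A := A) S := isSubcomod_restrictScalars M
  letI := ComodSub.Comod.restr ‹HopfRep.Comod k A U› S hS
  have h1 := h S inferInstance (isSimpleComod_restr hS hM)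
  obtain ⟨s, hs0, -⟩ := finrank_eq_one_iff'.1 h1
  have hsp := (finrank_eq_one_iff_of_nonzero s hs0).1 h1
  obtain ⟨θ, hθ⟩ : ∃ θ : Module.Dual k S, θ s = 1 := by
    obtain ⟨θ, hθ⟩ := exists_extend_inj (f := LinearMap.toSpanSingleton k S s)
      (LinearMap.ker_eq_bot'.2 fun c hc => (smul_eq_zero.1 hc).resolve_right hs0) (LinearMap.id : k →ₗ[k] k)
    exact ⟨θ, by simpa using LinearMap.congr_fun hθ 1⟩
  refine ⟨cf θ s, S.subtype s, fun e => hs0 (Subtype.ext e), fun φ => ?_⟩
  obtain ⟨c, hc⟩ := Submodule.mem_span_singleton.1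
    (hsp ▸ Submodule.mem_top : fAct S φ s ∈ Submodule.span k {s})
  rw [← fAct_comm_of_isComodHom (ComodSub.isComodHom_subtype _ S hS) φ s, apply_cf, ← hc, map_smul,
    map_smul, hθ, smul_eq_mul, mul_one]

theorem exists_flag_of_isTrigonalizable (h : HopfRep.IsTrigonalizable k A) (V : Type v) [AddCommGroup V]
    [Module k V] [HopfRep.Comod k A V] [Module.Finite k V] :
    ∃ F : ℕ → Submodule k V, Monotone F ∧ F 0 = ⊥ ∧ F (Module.finrank k V) = ⊤ ∧
      (∀ i, HopfRep.IsSubcomod (k := k) (A := A) (F i)) ∧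
      ∀ i, ∃ g : A, True ∧ Step g (F i) (F (i + 1)) := by
  refine exists_flag_of_rule (P := fun _ : A => True) ⟨0, trivial⟩ fun W hW htop => ?_
  letI := ComodSub.Comod.quot ‹HopfRep.Comod k A V› W hW
  haveI : Nontrivial (V ⧸ W) := Submodule.Quotient.nontrivial_iff.2 htop
  obtain ⟨g, q, hq0, hq⟩ := exists_scalar_of_isTrigonalizable h (V ⧸ W)
  refine ⟨g, (Submodule.span k {q}).comap W.mkQ, trivial, ?_, fun x hx φ => ?_⟩
  · refine lt_of_le_of_ne (fun x hx => ?_) fun e => hq0 ?_
    · rw [Submodule.mem_comap, Submodule.mkQ_apply, (Submodule.Quotient.mk_eq_zero W).2 hx]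
      exact zero_mem _
    · obtain ⟨v, hv⟩ := W.mkQ_surjective q
      have hmem : v ∈ (Submodule.span k {q}).comap W.mkQ := by
        rw [Submodule.mem_comap, hv]; exact Submodule.mem_span_singleton_self q
      rw [← e] at hmem
      exact hv.symm.trans ((Submodule.Quotient.mk_eq_zero W).2 hmem)
  · obtain ⟨c, hc⟩ := Submodule.mem_span_singleton.1 hx
    rw [← Submodule.Quotient.mk_eq_zero, ← Submodule.mkQ_apply, map_sub, map_smul,
      fAct_comm_of_isComodHom (ComodSub.isComodHom_mkQ _ W hW) φ x, ← hc, map_smul, hq,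
      smul_comm, sub_self]

/-- Regular flags for a unipotent Hopf algebra. -/
theorem hasFlag_of_isUnipotent (h : HopfRep.IsUnipotent k A) (a : A) :
    HasFlag k A (fun g => g = 1) a := by
  obtain ⟨C, h1, h2, h3⟩ := exists_finite_subcomod (k := k) (A := A) a
  letI := ComodSub.Comod.restr (HopfRep.Comod.regular k A) C h3
  obtain ⟨F, -, h0, htop, -, hs⟩ := exists_flag_of_isUnipotent h C
  have : HasFlag k A (fun g => g = 1) (⟨a, h2⟩ : C) :=
    ⟨_, F, h0, htop ▸ Submodule.mem_top, hs⟩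
  exact this.map (ComodSub.isComodHom_subtype _ C h3)

/-- Regular flags for a trigonalizable Hopf algebra. -/
theorem hasFlag_of_isTrigonalizable (h : HopfRep.IsTrigonalizable k A) (a : A) :
    HasFlag k A (fun _ => True) a := by
  obtain ⟨C, h1, h2, h3⟩ := exists_finite_subcomod (k := k) (A := A) a
  letI := ComodSub.Comod.restr (HopfRep.Comod.regular k A) C h3
  obtain ⟨F, -, h0, htop, -, hs⟩ := exists_flag_of_isTrigonalizable h C
  have : HasFlag k A (fun _ => True) (⟨a, h2⟩ : C) :=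
    ⟨_, F, h0, htop ▸ Submodule.mem_top, hs⟩
  exact this.map (ComodSub.isComodHom_subtype _ C h3)

/-- Flags of the regular comodule pass to quotients. -/
theorem hasFlag_of_surjective {B : Type v'} [CommRing B] [Bialgebra k B] (π : A →ₗc[k] B)
    (hπ : Function.Surjective π) {P : A → Prop} {Q : B → Prop} (hPQ : ∀ g, P g → Q (π g))
    (h : ∀ a : A, HasFlag k A P a) (b : B) : HasFlag k B Q b := by
  obtain ⟨a, rfl⟩ := hπ b
  letI := push π (HopfRep.Comod.regular k A)
  have h1 : HasFlag k B Q a := (h a).push π hPQ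
  refine h1.map (f := π.toLinearMap) (LinearMap.ext fun x => ?_)
  change Coalgebra.comul (R := k) (π x) = π.toLinearMap.rTensor B (π.toLinearMap.lTensor A (Coalgebra.comul (R := k) x))
  rw [← LinearMap.comp_apply, LinearMap.rTensor_comp_lTensor]
  exact (LinearMap.congr_fun π.map_comp_comul x).symm

end Classes

end Groth.L08
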