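import Groth.Agent.L08.HopfDim
import Mathlib.RingTheory.Ideal.AssociatedPrime.Finiteness
import Mathlib.RingTheory.Filtration
import Mathlib.RingTheory.Spectrum.Prime.Topology

/-!
# Connected affine algebraic groups: the nilradical is the only associated prime
-/

universe u v

open TensorProduct WithConv

noncomputable section

namespace Groth.L08.KrullHopf

open Groth.L08.HopfDim

variable (k : Type u) [Field k] [IsAlgClosed k]

theorem exists_point_notMem {B : Type v} [CommRing B] [Algebra k B] [Algebra.FiniteType k B]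
    (P : Ideal B) [P.IsPrime] {a : B} (ha : a ∉ P) : ∃ χ : B →ₐ[k] k, P ≤ RingHom.ker χ ∧ χ a ≠ 0 := by
  haveI : IsJacobsonRing B := isJacobsonRing_of_finiteType (A := k)
  have h : a ∉ P.jacobson := by rwa [isJacobsonRing_iff_prime_eq.1 ‹_› P ‹_›]
  simp only [Ideal.jacobson, Submodule.mem_sInf, not_forall] at h
  obtain ⟨m, ⟨hPm, hm⟩, ham⟩ := h
  haveI := hm
  obtain ⟨χ, rfl⟩ := exists_point (k := k) m
  exact ⟨χ, hPm, ham⟩

variable {A : Type v} [CommRing A]

theorem comap_equiv_mem_minimalPrimes {B : Type v} [CommRing B] (e : A ≃+* B) {P : Ideal B}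
    (hP : P ∈ minimalPrimes B) : P.comap (e : A →+* B) ∈ minimalPrimes A := by
  haveI := hP.1.1
  refine ⟨⟨Ideal.comap_isPrime _ _, bot_le⟩, fun Q hQ hle => ?_⟩
  haveI := hQ.1
  intro x hx
  have h1 : Q.comap (e.symm : B →+* A) ≤ P := fun y hy => by
    have h2 : e (e.symm y) ∈ P := hle hy
    rwa [e.apply_symm_apply] at h2
  have h3 : e.symm (e x) ∈ Q := hP.2 ⟨Ideal.comap_isPrime _ _, bot_le⟩ h1 hx
  rwa [e.symm_apply_apply] at h3

variable [HopfAlgebra k A] [Algebra.FiniteType k A]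

include k in
theorem nilradical_isPrime (hconn : ∀ e : A, IsIdempotentElem e → e = 0 ∨ e = 1) :
    (nilradical A).IsPrime := by
  classical
  haveI : IsNoetherianRing A := Algebra.FiniteType.isNoetherianRing k A
  haveI : Nontrivial A := (Bialgebra.counitAlgHom k A).toRingHom.domain_nontrivial
  have hfin : (minimalPrimes A).Finite := minimalPrimes.finite_of_isNoetherianRing A
  obtain ⟨P, hP⟩ := Ideal.nonempty_minimalPrimes (I := (⊥ : Ideal A)) bot_ne_top
  haveI : P.IsPrime := hP.1.1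
  have hother : ∀ Q ∈ minimalPrimes A, Q ≠ P → ∃ a ∈ Q, a ∉ P := fun Q hQ hne => by
    by_contra! h
    exact hne (le_antisymm h (hP.2 hQ.1 h))
  choose! a haQ haP using hother
  let T := hfin.toFinset.erase P
  have hprod : ∏ Q ∈ T, a Q ∉ P := fun h => by
    obtain ⟨Q, hQ, h⟩ := (Ideal.IsPrime.prod_mem_iff).1 h
    simp only [T, Finset.mem_erase, Set.Finite.mem_toFinset] at hQ
    exact haP Q hQ.2 hQ.1 h
  obtain ⟨χ, hPn, hχ⟩ := exists_point_notMem k P hprod
  let n : Ideal A := RingHom.ker χ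
  haveI : n.IsMaximal := RingHom.ker_isMaximal_of_surjective _ (fun c => ⟨algebraMap k A c, χ.commutes c⟩)
  have hn : ∀ Q ∈ minimalPrimes A, Q ≤ n → Q = P := fun Q hQ hle => by
    by_contra hne
    refine hχ (hle (Ideal.mem_of_dvd _ (Finset.dvd_prod_of_mem a ?_) (haQ Q hQ hne)))
    simp [T, hne, hQ]
  -- every maximal ideal contains a unique minimal prime
  have huniq : ∀ (m : Ideal A), m.IsMaximal → ∀ Q ∈ minimalPrimes A, ∀ Q' ∈ minimalPrimes A,
      Q ≤ m → Q' ≤ m → Q = Q' := by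
    intro m hm Q hQ Q' hQ' h h'
    haveI := hm
    obtain ⟨e, he⟩ := exists_equiv_comap k m n
    have key : ∀ R ∈ minimalPrimes A, R ≤ m → R.comap (e.toRingEquiv : A →+* A) = P := fun R hR hle =>
      hn _ (comap_equiv_mem_minimalPrimes e.toRingEquiv hR) (he ▸ Ideal.comap_mono hle)
    exact Ideal.comap_injective_of_surjective _ e.toRingEquiv.surjective ((key Q hQ h).trans (key Q' hQ' h').symm)
  have hall : ∀ Q ∈ minimalPrimes A, Q = P := by
    by_contra! hne
    obtain ⟨Q, hQ, hQP⟩ := hne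
    let s : Set (PrimeSpectrum A) := PrimeSpectrum.zeroLocus P
    have hcompl : sᶜ = ⋃ R ∈ (minimalPrimes A \ {P}), PrimeSpectrum.zeroLocus (R : Set A) := by
      ext x
      simp only [s, Set.mem_compl_iff, PrimeSpectrum.mem_zeroLocus, SetLike.coe_subset_coe, Set.mem_iUnion,
        Set.mem_diff, Set.mem_singleton_iff, exists_prop]
      refine ⟨fun hx => ?_, fun ⟨R, ⟨hR, hRP⟩, hx⟩ hPx => ?_⟩
      · obtain ⟨R, hR, hRx⟩ := Ideal.exists_minimalPrimes_le (J := x.asIdeal) (I := ⊥) bot_le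
        exact ⟨R, ⟨hR, fun e => hx (e ▸ hRx)⟩, hRx⟩
      · obtain ⟨m, hm, hxm⟩ := Ideal.exists_le_maximal x.asIdeal x.isPrime.ne_top
        exact hRP (huniq m hm R hR P hP (hx.trans hxm) (hPx.trans hxm))
    have hs : IsClopen s := ⟨PrimeSpectrum.isClosed_zeroLocus _, isClosed_compl_iff.1 (hcompl ▸
      (hfin.subset Set.diff_subset).isClosed_biUnion fun R _ => PrimeSpectrum.isClosed_zeroLocus _)⟩
    obtain ⟨e, f, hef, hef1, hse⟩ := PrimeSpectrum.isClopen_iff_mul_add.1 hs
    rcases hconn e (IsIdempotentElem.of_mul_add hef hef1).1 with rfl | rfl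
    · have : (⟨P, hP.1.1⟩ : PrimeSpectrum A) ∈ s := subset_refl (P : Set A)
      rw [hse] at this
      simp at this
    · haveI := hQ.1.1
      have : (⟨Q, hQ.1.1⟩ : PrimeSpectrum A) ∈ s := by rw [hse]; simp
      exact hQP (le_antisymm (hQ.2 hP.1 this) this)
  have hnil : nilradical A = P := by
    refine le_antisymm (nilradical_le_prime P) ?_
    rw [nilradical, Ideal.zero_eq_bot, ← Ideal.sInf_minimalPrimes]
    exact le_sInf fun Q hQ => (hall Q hQ).ge
  rw [hnil]
  infer_instance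

theorem comap_equiv_mem_associatedPrimes [IsNoetherianRing A] (e : A ≃+* A) {P : Ideal A}
    (hP : P ∈ associatedPrimes A A) : P.comap (e : A →+* A) ∈ associatedPrimes A A := by
  obtain ⟨hp, x, hx⟩ := isAssociatedPrime_iff.1 hP
  refine isAssociatedPrime_iff.2 ⟨Ideal.comap_isPrime _ _, e.symm x, ?_⟩
  ext a
  rw [Ideal.mem_comap, hx, Submodule.mem_colon_singleton, Submodule.mem_colon_singleton,
    Submodule.mem_bot, Submodule.mem_bot, smul_eq_mul, smul_eq_mul]
  constructor
  · intro h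
    simpa using congrArg e.symm h
  · intro h
    simpa using congrArg e h

omit [IsAlgClosed k] [Algebra.FiniteType k A] in
theorem apply_rt (φ : A →ₗ[k] k) (g : WithConv (A →ₐ[k] k)) (a : A) :
    φ (rt g a) = g.ofConv (TensorProduct.lid k A (φ.rTensor A (Coalgebra.comul a))) := by
  rw [rt, AlgHom.convMul_apply]
  induction Coalgebra.comul (R := k) a with
  | zero => simp
  | add x y hx hy => simp only [map_add, hx, hy]
  | tmul x y =>
    simp only [Algebra.TensorProduct.lift_tmul, LinearMap.rTensor_tmul,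
      TensorProduct.lid_tmul, map_smul, smul_eq_mul]
    rw [show (cst g).ofConv y = algebraMap k A (g.ofConv y) from rfl, AlgHom.id_apply, mul_comm, ← Algebra.smul_def,
      map_smul, smul_eq_mul, mul_comm]

include k in
theorem eq_nilradical_of_associated (hconn : ∀ e : A, IsIdempotentElem e → e = 0 ∨ e = 1)
    {p : Ideal A} (hp : p ∈ associatedPrimes A A) : p = nilradical A := by
  classical
  haveI : IsNoetherianRing A := Algebra.FiniteType.isNoetherianRing k A
  haveI hN := nilradical_isPrime k hconn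
  haveI hpp : p.IsPrime := hp.1
  by_contra hne
  have hfin : (associatedPrimes A A).Finite := associatedPrimes.finite A A
  let Φ : Set (A →ₗ[k] k) := {φ | ∀ x ∈ p, φ x = 0}
  let J : Ideal A → Ideal A := fun q => Ideal.span
    {y | ∃ φ ∈ Φ, ∃ a ∈ q, y = TensorProduct.lid k A (φ.rTensor A (Coalgebra.comul a))}
  have hJ : ∀ (q : Ideal A) (g : WithConv (A →ₐ[k] k)), J q ≤ RingHom.ker g.ofConv →
      ∀ a ∈ q, rt g a ∈ p := by
    intro q g hle a ha
    by_contra h
    obtain ⟨φ, hφ1, hφ2⟩ := Submodule.exists_dual_map_eq_bot_of_notMem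
      (p := p.restrictScalars k) h inferInstance
    refine hφ1 ?_
    rw [apply_rt]
    refine hle (Ideal.subset_span ⟨φ, fun x hx => ?_, a, ha, rfl⟩)
    have := Submodule.mem_map_of_mem (f := φ) (p := p.restrictScalars k) hx
    rw [hφ2] at this
    exact this
  let T := hfin.toFinset.filter (fun q => q ≠ nilradical A)
  have hcover : ∀ g : WithConv (A →ₐ[k] k), ∃ q ∈ T, J q ≤ RingHom.ker g.ofConv := by
    intro g
    let q : Ideal A := p.comap ((rtEquiv g).toRingEquiv : A →+* A)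
    have hqA : q ∈ associatedPrimes A A := comap_equiv_mem_associatedPrimes _ hp
    refine ⟨q, ?_, Ideal.span_le.2 ?_⟩
    · refine Finset.mem_filter.2 ⟨hfin.mem_toFinset.2 hqA, fun hq => hne (le_antisymm (fun x hx => ?_)
        (nilradical_le_prime p))⟩
      obtain ⟨y, rfl⟩ := (rtEquiv g).surjective x
      exact mem_nilradical.2 ((mem_nilradical.1 (hq ▸ (hx : y ∈ q))).map (rtEquiv g))
    · rintro _ ⟨φ, hφ, a, ha, rfl⟩
      show g.ofConv _ = 0
      rw [← apply_rt]
      exact hφ _ ha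
  have hprod : ∏ q ∈ T, J q ≤ nilradical A := by
    intro x hx
    by_contra hxN
    obtain ⟨χ, -, hχ⟩ := exists_point_notMem k (nilradical A) hxN
    obtain ⟨q, hqT, hq⟩ := hcover (toConv χ)
    exact hχ (hq (Ideal.prod_le_inf.trans (Finset.inf_le hqT) hx))
  obtain ⟨q, hqT, hqJ⟩ := (hN.prod_le).1 hprod
  obtain ⟨hqA, hqN⟩ := Finset.mem_filter.1 hqT
  haveI := (hfin.mem_toFinset.1 hqA).1
  have hsub : ¬ q ≤ nilradical A := fun h => hqN (le_antisymm h (nilradical_le_prime q))
  obtain ⟨a, haq, haN⟩ := SetLike.not_le_iff_exists.1 hsub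
  obtain ⟨ψ, -, hψ⟩ := exists_point_notMem k (nilradical A) haN
  obtain ⟨π, hπ, -⟩ := exists_point_notMem k p (fun h1 : (1 : A) ∈ p => hpp.ne_top ((Ideal.eq_top_iff_one _).2 h1))
  let g : WithConv (A →ₐ[k] k) := (toConv π)⁻¹ * toConv ψ
  have hg : J q ≤ RingHom.ker g.ofConv := hqJ.trans (by
    haveI : (RingHom.ker g.ofConv).IsPrime := RingHom.ker_isPrime _
    exact nilradical_le_prime _)
  have h := DFunLike.congr_fun (point_rt (toConv π) g) a
  rw [show toConv π * g = toConv ψ from mul_inv_cancel_left _ _] at h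
  exact hψ (h.symm.trans (hπ (hJ q g hg a haq)))

include k in
theorem iInf_pow_eq_bot (hconn : ∀ e : A, IsIdempotentElem e → e = 0 ∨ e = 1) (I : Ideal A) (hI : I ≠ ⊤) :
    (⨅ n : ℕ, I ^ n) = ⊥ := by
  haveI : IsNoetherianRing A := Algebra.FiniteType.isNoetherianRing k A
  rw [eq_bot_iff]
  intro b hb
  have hb' : b ∈ (⨅ i : ℕ, I ^ i • ⊤ : Submodule A A) := by
    rw [Submodule.mem_iInf] at hb ⊢
    intro i
    rw [smul_eq_mul, Ideal.mul_top]
    exact hb i
  obtain ⟨r, hr⟩ := (I.mem_iInf_smul_pow_eq_bot_iff b).1 hb'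
  by_contra hb0
  have h1 : (1 - (r : A)) ∈ ⋃ p ∈ associatedPrimes A A, (p : Set A) := by
    rw [biUnion_associatedPrimes_eq_zero_divisors]
    exact ⟨b, hb0, by rw [sub_smul, one_smul, hr, sub_self]⟩
  obtain ⟨p, hp, h1p⟩ := Set.mem_iUnion₂.1 h1
  rw [eq_nilradical_of_associated k hconn hp] at h1p
  refine hI ((Ideal.eq_top_iff_one _).2 ?_)
  obtain ⟨N, hN⟩ := mem_nilradical.1 h1p
  have hu : IsUnit (r : A) := by
    rw [show (r : A) = 1 - (1 - (r : A)) by ring]
    exact IsNilpotent.isUnit_one_sub ⟨N, hN⟩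
  rw [Ideal.eq_top_of_isUnit_mem _ r.2 hu]
  trivial

end Groth.L08.KrullHopf
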