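import Groth.Agent.L08.Flag
import Groth.Prelude.Def_CoactBr2
import Mathlib.RingTheory.Flat.Equalizer
import Mathlib.RingTheory.TensorProduct.Finite

/-!
# Base change of comodules along field extensions
-/

universe u v w

open TensorProduct

noncomputable section

namespace Groth.L08

variable {k : Type u} [Field k] {K : Type w} [Field K] [Algebra k K]
  {A : Type v} [CommRing A] [Bialgebra k A]

theorem fixedPts_baseChange_general (V : Type*) [AddCommGroup V] [Module k V] [HopfRep.Comod k A V] :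
    @HopfRep.fixedPts K (K ⊗[k] A) _ _ _ (K ⊗[k] V) _ _ (CoactBr.Comod.baseChange k K A V) =
      (HopfRep.fixedPts k A V).baseChange K := by
  letI := CoactBr.Comod.baseChange k K A V
  let f : V →ₗ[k] V ⊗[k] A := HopfRep.Comod.coact (k := k) (A := A)
  let g : V →ₗ[k] V ⊗[k] A := (TensorProduct.mk k V A).flip 1
  have hd : LinearMap.eqLocus f g = HopfRep.fixedPts k A V := rfl
  let c : K ⊗[k] V →ₗ[K] (K ⊗[k] V) ⊗[K] (K ⊗[k] A) := (CoactBr.Comod.baseChange k K A V).coact
  let Θ := AlgebraTensorModule.distribBaseChange k K V A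
  have hc : c = Θ.toLinearMap ∘ₗ AlgebraTensorModule.lTensor K K f := by
    refine AlgebraTensorModule.ext fun s v => ?_
    change (CoactBr.Comod.baseChange k K A V).coact (s ⊗ₜ[k] v) =
      Θ (s ⊗ₜ[k] HopfRep.Comod.coact (k := k) (A := A) v)
    rw [CoactBr.baseChange_coact_tmul]
    induction HopfRep.Comod.coact (k := k) (A := A) v with
    | zero => simp
    | add a b ha hb => simp only [tmul_add, map_add, ha, hb]
    | tmul x a =>
      change ((1 : K) ⊗ₜ[k] x) ⊗ₜ[K] (s ⊗ₜ[k] a) = (s ⊗ₜ[k] x) ⊗ₜ[K] ((1 : K) ⊗ₜ[k] a)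
      rw [show s ⊗ₜ[k] a = s • ((1 : K) ⊗ₜ[k] a) by rw [smul_tmul', smul_eq_mul, mul_one],
        show s ⊗ₜ[k] x = s • ((1 : K) ⊗ₜ[k] x) by rw [smul_tmul', smul_eq_mul, mul_one],
        ← smul_tmul]
  have hg : ∀ x : K ⊗[k] V, x ⊗ₜ[K] (1 : K ⊗[k] A) = Θ (AlgebraTensorModule.lTensor K K g x) := by
    intro x
    induction x with
    | zero => simp
    | add a b ha hb => simp only [map_add, add_tmul, ha, hb]
    | tmul s v => rfl
  have h1 : HopfRep.fixedPts K (K ⊗[k] A) (K ⊗[k] V) =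
      LinearMap.eqLocus (AlgebraTensorModule.lTensor K K f) (AlgebraTensorModule.lTensor K K g) := by
    ext x
    change c x = x ⊗ₜ[K] (1 : K ⊗[k] A) ↔ _
    rw [hc, hg, LinearMap.comp_apply, LinearEquiv.coe_coe, Θ.injective.eq_iff]
    rfl
  rw [h1, Module.Flat.eqLocus_lTensor_eq, hd]
  rfl

theorem fAct_tmul_mem {g : A} {W W' : Submodule k A} (h : Step g W W') {x : K ⊗[k] A}
    (hx : x ∈ W'.baseChange K) (φ : K ⊗[k] A →ₗ[K] K) :
    fAct (K ⊗[k] A) φ x - φ ((1 : K) ⊗ₜ[k] g) • x ∈ W.baseChange K := by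
  rw [Submodule.baseChange_eq_span] at hx
  induction hx using Submodule.span_induction with
  | zero => simp
  | add a b _ _ ha hb =>
    rw [map_add, smul_add, add_sub_add_comm]; exact add_mem ha hb
  | smul c a _ ha =>
    rw [map_smul, smul_comm, ← smul_sub]; exact Submodule.smul_mem _ _ ha
  | mem x hx =>
    obtain ⟨m, hm, rfl⟩ := hx
    let T : A ⊗[k] A →ₗ[k] K ⊗[k] A := TensorProduct.lift
      (LinearMap.mk₂ k (fun a b => φ ((1 : K) ⊗ₜ[k] b) • ((1 : K) ⊗ₜ[k] a))
        (fun a a' b => by rw [tmul_add, smul_add])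
        (fun c a b => by rw [tmul_smul, smul_comm])
        (fun a b b' => by rw [tmul_add, map_add, add_smul])
        (fun c a b => by
          rw [tmul_smul, ← algebraMap_smul K c ((1 : K) ⊗ₜ[k] b), map_smul, smul_eq_mul, mul_smul,
            algebraMap_smul]))
    have h1 : fAct (K ⊗[k] A) φ ((1 : K) ⊗ₜ[k] m) = T (Coalgebra.comul (R := k) m) := by
      rw [fAct_apply]
      change TensorProduct.rid K (K ⊗[k] A) (φ.lTensor (K ⊗[k] A)
        (AlgebraTensorModule.tensorTensorTensorComm k K k K K K A A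
          (CoalgebraStruct.comul (R := K) (A := K) 1 ⊗ₜ[k] Coalgebra.comul (R := k) m))) = _
      rw [CoactBr.comul_self_apply]
      induction Coalgebra.comul (R := k) m with
      | zero => simp
      | add a b ha hb => simp only [tmul_add, map_add, ha, hb]
      | tmul a b => simp [T]
    have h2 : φ ((1 : K) ⊗ₜ[k] g) • ((1 : K) ⊗ₜ[k] m) = T (m ⊗ₜ[k] g) := by simp [T]
    rw [show (TensorProduct.mk k K A 1) m = (1 : K) ⊗ₜ[k] m from rfl, h1, h2, ← map_sub]
    obtain ⟨y, hy⟩ := step_iff_range.1 h m hm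
    change T (HopfRep.Comod.coact (k := k) (A := A) m - m ⊗ₜ[k] g) ∈ _
    rw [← hy]
    clear hy
    induction y with
    | zero => simp
    | add a b ha hb => rw [map_add, map_add]; exact add_mem ha hb
    | tmul w a =>
      change φ ((1 : K) ⊗ₜ[k] a) • ((1 : K) ⊗ₜ[k] (w : A)) ∈ _
      exact Submodule.smul_mem _ _ (Submodule.tmul_mem_baseChange_of_mem _ w.2)

/-- Regular flags survive extension of the ground field. -/
theorem hasFlag_baseChange {P : A → Prop} {Q : K ⊗[k] A → Prop}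
    (hPQ : ∀ g, P g → Q ((1 : K) ⊗ₜ[k] g))
    (h : ∀ (C : Submodule k A), Module.Finite k C →
      ∀ hC : HopfRep.IsSubcomod (k := k) (A := A) C,
        letI := ComodSub.Comod.restr (HopfRep.Comod.regular k A) C hC
        ∃ F : ℕ → Submodule k C, Monotone F ∧ F 0 = ⊥ ∧ F (Module.finrank k C) = ⊤ ∧
          (∀ i, HopfRep.IsSubcomod (k := k) (A := A) (F i)) ∧ ∀ i, ∃ g, P g ∧ Step g (F i) (F (i + 1)))
    (b : K ⊗[k] A) : HasFlag K (K ⊗[k] A) Q b := by
  classical
  obtain ⟨s, hs⟩ := TensorProduct.exists_finset b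
  obtain ⟨C, h1, h2, h3⟩ :=
    exists_finite_subcomod_of_finset (k := k) (A := A) (V := A) (s.image Prod.snd)
  letI := ComodSub.Comod.restr (HopfRep.Comod.regular k A) C h3
  obtain ⟨F, -, h0, htop, -, hF⟩ := h C h1 h3
  refine ⟨Module.finrank k C, fun i => ((F i).map C.subtype).baseChange K, by simp [h0], ?_, fun i => ?_⟩
  · change b ∈ ((F (Module.finrank k C)).map C.subtype).baseChange K
    rw [htop, Submodule.map_top, Submodule.range_subtype, hs]
    exact sum_mem fun i hi => Submodule.tmul_mem_baseChange_of_mem _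
      (h2 (Finset.mem_coe.2 (Finset.mem_image_of_mem _ hi)))
  · obtain ⟨g, hg, hst⟩ := hF i
    refine ⟨(1 : K) ⊗ₜ[k] g, hPQ g hg, fun x hx φ => fAct_tmul_mem ?_ hx φ⟩
    rintro _ ⟨m, hm, rfl⟩ ψ
    exact ⟨_, hst m hm ψ, by rw [map_sub, map_smul,
      fAct_comm_of_isComodHom (ComodSub.isComodHom_subtype _ C h3)]⟩

end Groth.L08
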