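import Groth.Agent.L08.LinRed
import Groth.Agent.S18812
import Mathlib.RingTheory.HopfAlgebra.MonoidAlgebra

/-!
# Complements of split subcomodules; integral of a monoid algebra
-/

universe u v w

open TensorProduct

noncomputable section

namespace Groth.L08

variable {k : Type u} [CommRing k] {A : Type v} [CommRing A] [HopfAlgebra k A]
  {V : Type w} [AddCommGroup V] [Module k V] [HopfRep.Comod k A V]

local notation "ρ" => HopfRep.Comod.coact (k := k) (A := A)

/-- A subcomodule which splits as a module splits as a comodule when there is an integral. -/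
theorem exists_isCompl_of_integral {α : A →ₗ[k] k} (hα : IsIntegral α) (W : Submodule k V)
    (hW : HopfRep.IsSubcomod (k := k) (A := A) W) {W' : Submodule k V} (hc : IsCompl W W') :
    ∃ W'' : Submodule k V, HopfRep.IsSubcomod (k := k) (A := A) W'' ∧ IsCompl W W'' := by
  classical
  let p : V →ₗ[k] W := W.projectionOnto W' hc
  have hp : p ∘ₗ W.subtype = LinearMap.id := LinearMap.ext fun w => Submodule.projectionOnto_apply_left hc w
  let e : V →ₗ[k] V := W.subtype ∘ₗ p
  let r : V →ₗ[k] V := lam V α ∘ₗ e.rTensor A ∘ₗ ρ
  have hWlam : ∀ (w : W) (a : A), lam V α ((w : V) ⊗ₜ a) ∈ W := by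
    intro w a
    rw [lam_tmul]
    obtain ⟨y, hy⟩ := hW w w.2
    rw [← hy]
    clear hy
    induction y with
    | zero => simp
    | add u v hu hv => simpa only [map_add, add_tmul] using add_mem hu hv
    | tmul x c => simpa using W.smul_mem _ x.2
  have hrW : ∀ v, r v ∈ W := by
    intro v
    simp only [r, LinearMap.comp_apply]
    induction ρ v with
    | zero => simp
    | add u v hu hv => simpa only [map_add] using add_mem hu hv
    | tmul x c => simpa [e] using hWlam (p x) c
  have hr : ∀ w : W, r (w : V) = w := by
    intro w
    obtain ⟨y, hy⟩ := hW w w.2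
    simp only [r, e, LinearMap.comp_apply]
    rw [← hy, ← LinearMap.rTensor_comp_apply, LinearMap.comp_assoc, hp, LinearMap.comp_id, hy]
    exact hα.lam_coact (w : V)
  have hrhom : Hoch.IsComodHom A r := by
    refine LinearMap.ext fun v => ?_
    have e0 : ∀ y : V ⊗[k] A, ρ (lam V α y) =
        (lam V α).rTensor A (Hoch.Ind.coactAux k A V y) := by
      intro y
      induction y with
      | zero => simp
      | add a b ha hb => simp only [map_add, ha, hb]
      | tmul x a => rw [hα.coact_lam, Hoch.Ind.coactAux_tmul]
    have e1 : ∀ y : V ⊗[k] A, Hoch.Ind.coactAux k A V (e.rTensor A y) =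
        (TensorProduct.assoc k V A A).symm
          (e.rTensor (A ⊗[k] A) ((Coalgebra.comul (R := k) (A := A)).lTensor V y)) := by
      intro y
      induction y with
      | zero => simp
      | add x y hx hy => simp only [map_add, hx, hy]
      | tmul x y => simp
    simp only [r, LinearMap.comp_apply, e0]
    rw [e1, ← coassoc_apply]
    simp only [LinearMap.rTensor_comp_apply]
    congr 1
    induction (HopfRep.Comod.coact (k := k) (A := A) (V := V)).rTensor A (ρ v) with
    | zero => simp
    | add x y hx hy => simp only [map_add, hx, hy]
    | tmul x y =>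
      induction x with
      | zero => simp
      | add u v hu hv => simp only [map_add, add_tmul, hu, hv]
      | tmul u v => simp
  refine ⟨LinearMap.ker r, fun v hv => ?_, ?_⟩
  · have hq : ∀ x, x - r x ∈ LinearMap.ker r := fun x => by
      rw [LinearMap.mem_ker, map_sub, sub_eq_zero]
      exact (hr ⟨r x, hrW x⟩).symm
    let q : V →ₗ[k] LinearMap.ker r := (LinearMap.id - r).codRestrict _ hq
    refine ⟨q.rTensor A (ρ v), ?_⟩
    rw [← LinearMap.rTensor_comp_apply, LinearMap.subtype_comp_codRestrict, LinearMap.rTensor_sub,
      LinearMap.sub_apply, LinearMap.rTensor_id, LinearMap.id_apply]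
    have h0 : r.rTensor A (ρ v) = 0 := by
      have := LinearMap.congr_fun hrhom v
      simp only [LinearMap.comp_apply, LinearMap.mem_ker.1 hv, map_zero] at this
      exact this.symm
    rw [h0, sub_zero]
  · let rW : V →ₗ[k] W := r.codRestrict W hrW
    have hker : LinearMap.ker r = LinearMap.ker rW := (LinearMap.ker_codRestrict W r hrW).symm
    rw [hker]
    exact LinearMap.isCompl_of_proj fun w => Subtype.ext (hr w)

end Groth.L08

namespace Groth.L08

theorem exists_isIntegral_monoidAlgebra (k : Type u) [CommRing k] (M : Type v) [CommGroup M] :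
    ∃ α : MonoidAlgebra k M →ₗ[k] k, IsIntegral α := by
  classical
  let b := MonoidAlgebra.basis M k
  refine ⟨b.coord 1, fun a => ?_, ?_⟩
  · induction a using MonoidAlgebra.induction_linear with
    | zero => simp
    | add f g hf hg => simp only [map_add, add_tmul, hf, hg]
    | single m r =>
      have hcoord : ∀ (x : M) (c : k), b.coord 1 (MonoidAlgebra.single x c) = if x = 1 then c else 0 := by
        intro x c
        change (MonoidAlgebra.single x c).coeff 1 = _
        rw [MonoidAlgebra.coeff_single, Finsupp.single_apply]
      rw [MonoidAlgebra.comul_single, CommSemiring.comul_apply]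
      simp only [TensorProduct.map_tmul, LinearMap.rTensor_tmul, MonoidAlgebra.lsingle_apply, hcoord]
      split_ifs with h
      · subst h
        rw [show MonoidAlgebra.single (1 : M) r = r • (1 : MonoidAlgebra k M) by
          simp [MonoidAlgebra.one_def], ← TensorProduct.smul_tmul]
        simp
      · simp
  · change (1 : MonoidAlgebra k M).coeff 1 = 1
    simp [MonoidAlgebra.one_def, MonoidAlgebra.coeff_single]

/-- An integral makes every comodule semisimple. -/
theorem isLinearlyReductive_of_isIntegral {k : Type u} [Field k] {A : Type v} [CommRing A]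
    [HopfAlgebra k A] {α : A →ₗ[k] k} (hα : IsIntegral α) : HopfRep.IsLinearlyReductive k A :=
  fun V _ _ _ _ => Groth.Agent.S18812.result k A α (isIntegral_iff.1 hα).1 hα.2 V

end Groth.L08
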