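import Groth.Agent.L08.LinRed
import Groth.Agent.L08.Retract
import Mathlib.RingTheory.Coalgebra.GroupLike
import Mathlib.LinearAlgebra.Eigenspace.Triangularizable

/-!
# Diagonalizable Hopf algebras
-/

universe u v w

open TensorProduct

noncomputable section

namespace Groth.L08

variable {k : Type u} [Field k] {A : Type v} [CommRing A] [HopfAlgebra k A]

/-- Group-like elements of a diagonalizable Hopf algebra form a basis. -/
def glBasis (h : HopfRep.IsDiagonalizable k A) : Module.Basis (GroupLike k A) k A :=
  Module.Basis.mk (v := GroupLike.val) linearIndep_groupLikeVal (by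
    rw [← h, Submodule.span_le]
    intro a ha
    exact Submodule.subset_span ⟨⟨a, ha⟩, rfl⟩)

@[simp] theorem glBasis_apply (h : HopfRep.IsDiagonalizable k A) (g : GroupLike k A) :
    glBasis h g = g.val := Module.Basis.mk_apply _ _ _

variable {V : Type w} [AddCommGroup V] [Module k V] [HopfRep.Comod k A V]

theorem coord_glBasis_val [DecidableEq (GroupLike k A)] (h : HopfRep.IsDiagonalizable k A)
    (g i : GroupLike k A) : (glBasis h).coord g i.val = if i = g then 1 else 0 := by
  rw [← glBasis_apply h i, Module.Basis.coord_apply, Module.Basis.repr_self, Finsupp.single_apply]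

theorem coact_fAct_coord (h : HopfRep.IsDiagonalizable k A) (g : GroupLike k A) (v : V) :
    HopfRep.Comod.coact (k := k) (A := A) (fAct V ((glBasis h).coord g) v) =
      fAct V ((glBasis h).coord g) v ⊗ₜ[k] g.val := by
  classical
  let b := glBasis h
  let T : (V ⊗[k] A) ⊗[k] A →ₗ[k] V ⊗[k] A :=
    (TensorProduct.rid k (V ⊗[k] A)).toLinearMap ∘ₗ (b.coord g).lTensor (V ⊗[k] A)
  have h1 : ∀ y : V ⊗[k] A, T ((HopfRep.Comod.coact (k := k) (A := A) (V := V)).rTensor A y) =
      HopfRep.Comod.coact (k := k) (A := A) (TensorProduct.rid k V ((b.coord g).lTensor V y)) := by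
    intro y
    induction y with
    | zero => simp
    | add p q hp hq => simp only [map_add, hp, hq]
    | tmul p q => simp [T]
  have h2 : ∀ y : V ⊗[k] A,
      T ((TensorProduct.assoc k V A A).symm ((Coalgebra.comul (R := k) (A := A)).lTensor V y)) =
        TensorProduct.rid k V ((b.coord g).lTensor V y) ⊗ₜ[k] g.val := by
    intro y
    induction y with
    | zero => simp
    | add p q hp hq => simp only [map_add, add_tmul, hp, hq]
    | tmul p q =>
      have : ∀ z : A, Coalgebra.comul (R := k) z =
          ∑ i ∈ (b.repr z).support, b.repr z i • ((i.val : A) ⊗ₜ[k] (i.val : A)) := by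
        intro z
        conv_lhs => rw [← b.linearCombination_repr z]
        rw [Finsupp.linearCombination_apply, Finsupp.sum, map_sum]
        exact Finset.sum_congr rfl fun i _ => by
          rw [map_smul, glBasis_apply, i.isGroupLikeElem_val.comul_eq_tmul_self]
      rw [LinearMap.lTensor_tmul, this, TensorProduct.tmul_sum, map_sum, map_sum]
      simp only [TensorProduct.tmul_smul, map_smul, TensorProduct.assoc_symm_tmul, T,
        LinearMap.comp_apply, LinearEquiv.coe_coe, LinearMap.lTensor_tmul, TensorProduct.rid_tmul]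
      simp only [b, coord_glBasis_val, ite_smul, one_smul, zero_smul, smul_ite, smul_zero]
      rw [Finset.sum_eq_single g]
      · simp only [if_true, Module.Basis.coord_apply, TensorProduct.smul_tmul', TensorProduct.tmul_smul]
      · intro i _ hi
        simp [hi]
      · intro hg
        simp [Finsupp.notMem_support_iff.1 hg]
  rw [fAct_apply, ← h1, ← h2, ← coassoc_apply, LinearEquiv.symm_apply_apply]

/-- Comodules over a diagonalizable Hopf algebra are spanned by eigenvectors. -/
theorem span_eigenvectors_eq_top (h : HopfRep.IsDiagonalizable k A) :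
    Submodule.span k {v : V | ∃ a : A, IsGroupLikeElem k a ∧
      HopfRep.Comod.coact (k := k) (A := A) v = v ⊗ₜ[k] a} = ⊤ := by
  classical
  refine eq_top_iff.2 fun v _ => ?_
  obtain ⟨c, hc⟩ := TensorProduct.eq_repr_basis_right (glBasis h) (HopfRep.Comod.coact (k := k) (A := A) v)
  have hc' : TensorProduct.equivFinsuppOfBasisRight (glBasis h)
      (HopfRep.Comod.coact (k := k) (A := A) v) = c := by
    rw [← hc, ← TensorProduct.equivFinsuppOfBasisRight_symm_apply, LinearEquiv.apply_symm_apply]
  have hci : ∀ g, c g = fAct V ((glBasis h).coord g) v := fun g => by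
    rw [← hc', TensorProduct.equivFinsuppOfBasisRight_apply, fAct_apply]
  have hv : v = ∑ g ∈ c.support, c g := by
    conv_lhs => rw [← LinearMap.id_apply (R := k) v, ← fAct_counit (k := k) (A := A) (V := V),
      fAct_apply, ← hc]
    rw [Finsupp.sum, map_sum, map_sum]
    exact Finset.sum_congr rfl fun g _ => by
      rw [LinearMap.lTensor_tmul, glBasis_apply, g.isGroupLikeElem_val.counit_eq_one,
        TensorProduct.rid_tmul, one_smul]
  rw [hv]
  exact sum_mem fun g _ => Submodule.subset_span
    ⟨g.val, g.isGroupLikeElem_val, by rw [hci]; exact coact_fAct_coord h g v⟩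

/-- An eigenvector of the regular comodule is a multiple of a group-like element. -/
theorem mem_span_groupLike_of_comul_eq {x a : A} (h : Coalgebra.comul (R := k) x = x ⊗ₜ[k] a) :
    x ∈ Submodule.span k {b : A | IsGroupLikeElem k b} := by
  rcases eq_or_ne x 0 with rfl | hx
  · exact zero_mem _
  have e : x = Coalgebra.counit (R := k) x • a := by
    conv_lhs => rw [← one_smul k x, ← TensorProduct.lid_tmul x (1 : k), ← Coalgebra.rTensor_counit_comul, h]
    simp
  have hc0 : Coalgebra.counit (R := k) x ≠ 0 := fun h0 => hx (by rw [e, h0, zero_smul])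
  have ha1 : Coalgebra.counit (R := k) a = 1 := by
    have h' := congrArg (Coalgebra.counit (R := k) (A := A)) e
    rw [map_smul, smul_eq_mul] at h'
    exact (mul_eq_left₀ hc0).1 h'.symm
  have ha : IsGroupLikeElem k a := by
    refine ⟨ha1, ?_⟩
    rw [e, map_smul, ← TensorProduct.smul_tmul'] at h
    exact smul_right_injective _ hc0 h
  rw [e]
  exact Submodule.smul_mem _ _ (Submodule.subset_span ha)

/-- A Hopf algebra all whose finite subcomodules are spanned by eigenvectors is diagonalizable. -/
theorem isDiagonalizable_of_span_eigenvectors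
    (h : ∀ C : Submodule k A, Module.Finite k C → HopfRep.IsSubcomod (k := k) (A := A) C →
      C ≤ Submodule.span k {x : A | ∃ a : A, Coalgebra.comul (R := k) x = x ⊗ₜ[k] a}) :
    HopfRep.IsDiagonalizable k A := by
  refine eq_top_iff.2 fun x _ => ?_
  obtain ⟨C, h1, h2, h3⟩ := exists_finite_subcomod (k := k) (A := A) x
  exact Submodule.span_le.2 (fun y hy => mem_span_groupLike_of_comul_eq hy.choose_spec) (h C h1 h3 h2)

/-- A diagonalizable Hopf algebra has an integral. -/
theorem exists_isIntegral_of_isDiagonalizable (h : HopfRep.IsDiagonalizable k A) :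
    ∃ α : A →ₗ[k] k, IsIntegral α := by
  classical
  let b := glBasis h
  let o : GroupLike k A := ⟨1, IsGroupLikeElem.one⟩
  have ho : b o = (1 : A) := glBasis_apply h o
  refine ⟨b.coord o, fun a => ?_, by rw [← ho]; simp⟩
  refine LinearMap.congr_fun (b.ext (f₁ := (b.coord o).rTensor A ∘ₗ Coalgebra.comul)
    (f₂ := (TensorProduct.mk k k A).flip 1 ∘ₗ b.coord o) fun i => ?_) a
  simp only [LinearMap.comp_apply, LinearMap.flip_apply, TensorProduct.mk_apply]
  rw [glBasis_apply, i.isGroupLikeElem_val.comul_eq_tmul_self, LinearMap.rTensor_tmul]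
  simp only [b, coord_glBasis_val]
  rcases eq_or_ne i o with rfl | hne
  · rfl
  · simp [hne]

/-- Over an algebraically closed field, simple comodules over a cocommutative Hopf algebra are
one-dimensional. -/
theorem finrank_eq_one_of_isSimpleComod [IsAlgClosed k] [Coalgebra.IsCocomm k A]
    (h : HopfRep.IsSimpleComod k A V) : Module.finrank k V = 1 := by
  classical
  haveI := finite_of_isSimpleComod h
  haveI := h.1
  have hscalar : ∀ (φ : A →ₗ[k] k), ∃ c : k, ∀ v : V, fAct V φ v = c • v := by
    intro φ
    obtain ⟨c, hc⟩ := Module.End.exists_eigenvalue (fAct V φ : Module.End k V)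
    refine ⟨c, fun v => ?_⟩
    let f : V →ₗ[k] V := fAct V φ - c • LinearMap.id
    have hcomm : ∀ ψ : A →ₗ[k] k, fAct V φ ∘ₗ fAct V ψ = fAct V ψ ∘ₗ fAct V φ := by
      intro ψ
      rw [← fAct_comp, ← fAct_comp]
      congr 1
      refine LinearMap.ext fun a => ?_
      simp only [LinearMap.comp_apply]
      conv_rhs => rw [← Coalgebra.comm_comul k a]
      induction Coalgebra.comul (R := k) a with
      | zero => simp
      | add x y hx hy => simp only [map_add, hx, hy]
      | tmul x y => simp [mul_comm]
    have hf : Hoch.IsComodHom A f := isComodHom_iff.2 fun ψ w => by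
      have := LinearMap.congr_fun (hcomm ψ) w
      simp only [LinearMap.comp_apply] at this
      simp [f, this]
    have hker : LinearMap.ker f = ⊤ := by
      refine (h.2 _ (isSubcomod_ker hf)).resolve_left fun hbot => hc ?_
      rw [Module.End.genEigenspace_one]
      exact hbot
    have := LinearMap.mem_ker.1 (hker ▸ Submodule.mem_top : v ∈ LinearMap.ker f)
    simpa [f, sub_eq_zero] using this
  obtain ⟨v, hv⟩ := exists_ne (0 : V)
  have hsub : HopfRep.IsSubcomod (k := k) (A := A) (Submodule.span k {v}) := by
    refine isSubcomod_iff.2 fun φ w hw => ?_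
    obtain ⟨c, hc⟩ := hscalar φ
    rw [hc]
    exact Submodule.smul_mem _ c hw
  rcases h.2 _ hsub with hb | ht
  · exact absurd hb (by simp [hv])
  · rw [← finrank_top k V, ← ht, finrank_span_singleton hv]

/-- An eigenvector spans when the span of `v` is stable. -/
theorem exists_coact_eq_tmul_of_finrank_one (h : Module.finrank k V = 1) (v : V) :
    ∃ a : A, HopfRep.Comod.coact (k := k) (A := A) v = v ⊗ₜ[k] a := by
  rcases eq_or_ne v 0 with rfl | hv
  · exact ⟨0, by simp⟩
  have hsp := (finrank_eq_one_iff_of_nonzero v hv).1 h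
  induction HopfRep.Comod.coact (k := k) (A := A) v with
  | zero => exact ⟨0, by simp⟩
  | add x y hx hy =>
    obtain ⟨a, rfl⟩ := hx
    obtain ⟨b, rfl⟩ := hy
    exact ⟨a + b, by rw [tmul_add]⟩
  | tmul x y =>
    obtain ⟨c, rfl⟩ := Submodule.mem_span_singleton.1 (hsp ▸ Submodule.mem_top : x ∈ Submodule.span k {v})
    exact ⟨c • y, by rw [TensorProduct.smul_tmul]⟩

/-- Linearly reductive cocommutative over an algebraically closed field implies diagonalizable. -/
theorem isDiagonalizable_of_isLinearlyReductive [IsAlgClosed k] [Coalgebra.IsCocomm k A]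
    (h : HopfRep.IsLinearlyReductive k A) : HopfRep.IsDiagonalizable k A := by
  refine isDiagonalizable_of_span_eigenvectors fun C hCf hC x hx => ?_
  haveI := isSemisimpleComod_iff.1 (isSemisimpleComod_of_isLinearlyReductive h A)
  have htop := congrArg (Submodule.restrictScalars k)
    (IsSemisimpleModule.sSup_simples_eq_top (Dl k A) A)
  rw [sSup_eq_iSup', Submodule.restrictScalars_iSup, Submodule.restrictScalars_top] at htop
  have hx' : x ∈ (⊤ : Submodule k A) := trivial
  rw [← htop] at hx'
  refine (iSup_le fun m => ?_ : _ ≤ Submodule.span k {x : A | ∃ a : A,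
    Coalgebra.comul (R := k) x = x ⊗ₜ[k] a}) hx'
  intro y hy
  let W : Submodule k A := (m.1).restrictScalars k
  have hW : HopfRep.IsSubcomod (k := k) (A := A) W := isSubcomod_restrictScalars _
  haveI : IsSimpleModule (Dl k A) (toSub hW) := m.2
  letI := ComodSub.Comod.restr (HopfRep.Comod.regular k A) W hW
  have h1 := finrank_eq_one_of_isSimpleComod (isSimpleComod_restr hW inferInstance)
  obtain ⟨a, ha⟩ := exists_coact_eq_tmul_of_finrank_one (A := A) h1 ⟨y, hy⟩
  refine Submodule.subset_span ⟨a, ?_⟩
  exact (LinearMap.congr_fun (ComodSub.isComodHom_subtype _ W hW) ⟨y, hy⟩).trans (by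
    simp only [LinearMap.comp_apply, ha, LinearMap.rTensor_tmul, Submodule.subtype_apply])

end Groth.L08
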