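import Groth.Agent.L08.AugGraded
import Groth.Agent.L08.Flag
import Groth.Agent.L08.CartierRed
import Mathlib.RingTheory.HopfAlgebra.TensorProduct
import Mathlib.RingTheory.Filtration
import Mathlib.Algebra.Polynomial.Roots

/-!
# In characteristic zero a unipotent group is determined by its Lie algebra
-/

universe u v

open TensorProduct WithConv

noncomputable section

namespace Groth.L08.KilledByLie

variable {k : Type u} [Field k] [CharZero k] {A : Type v} [CommRing A] [HopfAlgebra k A] [Algebra.FiniteType k A]

local notation "Δ" => Coalgebra.comul (R := k) (A := A)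

variable (A) in
/-- translation by a point -/
def rtl (g : WithConv (A →ₐ[k] k)) : A →ₐ[k] A :=
  (Algebra.TensorProduct.rid k k A).toAlgHom.comp
    ((Algebra.TensorProduct.map (AlgHom.id k A) g.ofConv).comp (Bialgebra.comulAlgHom k A))

omit [CharZero k] [Algebra.FiniteType k A] in
theorem apply_rtl (χ : A →ₐ[k] k) (g : WithConv (A →ₐ[k] k)) (a : A) :
    χ (rtl A g a) = (toConv χ * g).ofConv a := by
  rw [AlgHom.convMul_apply]
  simp only [rtl, AlgHom.comp_apply, Bialgebra.comulAlgHom_apply]
  induction Coalgebra.comul (R := k) a using TensorProduct.induction_on with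
  | zero => simp
  | add x y hx hy => simp only [map_add, hx, hy]
  | tmul x y => simp [Algebra.smul_def, mul_comm]

theorem primitive_eq_zero_of_algClosed [IsAlgClosed k] {a : A}
    (hp : Δ a = a ⊗ₜ[k] (1 : A) + (1 : A) ⊗ₜ[k] a)
    (hkill : ∀ w : A →ₗ[k] k, AugGraded.IsTangent k A w → w a = 0) : a = 0 := by
  classical
  haveI : IsNoetherianRing A := Algebra.FiniteType.isNoetherianRing k A
  haveI : Nontrivial A := (Bialgebra.counitAlgHom k A).toRingHom.domain_nontrivial
  have hmul : ∀ g h : WithConv (A →ₐ[k] k), (g * h).ofConv a = g.ofConv a + h.ofConv a := by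
    intro g h
    rw [AlgHom.convMul_apply, hp]
    simp
  have h1 : (1 : WithConv (A →ₐ[k] k)).ofConv a = 0 := by
    have := hmul 1 1
    rw [one_mul] at this
    simpa using this
  have hε : Bialgebra.counitAlgHom k A a = 0 := by
    rw [← h1]; simp
  obtain ⟨x, w, hx, hw, hwx, hspan⟩ := AugGraded.exists_coords k A
  have hw1 : ∀ i, w i 1 = 0 := fun i => by
    have := hw i 1 1
    simp only [one_mul, map_one] at this
    simpa using this
  have hall := AugGraded.mem_pow_of_killed x w hx hw hwx hspan (RingHom.mem_ker.2 hε) fun i => by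
    rw [fAct_apply]
    change TensorProduct.rid k A ((w i).lTensor A (Δ a)) = 0
    rw [hp]
    simp [hkill (w i) (hw i), hw1 i]
  let I : Ideal A := RingHom.ker (Bialgebra.counitAlgHom k A)
  have h4 : a ∈ (⨅ n : ℕ, I ^ n • ⊤ : Submodule A A) := by
    simp only [Submodule.mem_iInf, smul_eq_mul, Ideal.mul_top]; exact hall
  obtain ⟨⟨r, hr⟩, hra⟩ := (I.mem_iInf_smul_pow_eq_bot_iff a).1 h4
  have hra' : (1 - r) * a = 0 := by
    rw [sub_mul, one_mul, sub_eq_zero]; exact hra.symm
  let ev : WithConv (A →ₐ[k] k) → A := fun g => rtl A g⁻¹ (1 - r)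
  have hrt : ∀ g : WithConv (A →ₐ[k] k), rtl A g a = a + algebraMap k A (g.ofConv a) := by
    intro g
    simp [rtl, hp, Algebra.algebraMap_eq_smul_one]
  have hev : ∀ g, ev g * (a - algebraMap k A (g.ofConv a)) = 0 := by
    intro g
    have h := congrArg (rtl A g⁻¹) hra'
    rw [map_zero, map_mul, hrt] at h
    have hinv : g.ofConv a + (g⁻¹).ofConv a = 0 := by rw [← hmul, mul_inv_cancel, h1]
    rw [show (g⁻¹).ofConv a = - g.ofConv a from eq_neg_of_add_eq_zero_right hinv, map_neg, ← sub_eq_add_neg] at h
    exact h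
  have htop : Ideal.span (Set.range ev) = ⊤ := by
    by_contra hne
    obtain ⟨m, hm, hle⟩ := Ideal.exists_le_maximal _ hne
    obtain ⟨χ, hχ⟩ := CartierRed.exists_point_of_isMaximal (k := k) m
    have hg : χ (ev (toConv χ)) = 1 := by
      refine (apply_rtl χ (toConv χ)⁻¹ (1 - r)).trans ?_
      rw [mul_inv_cancel]
      show (1 : WithConv (A →ₐ[k] k)).ofConv (1 - r) = 1
      have hr0 : Bialgebra.counitAlgHom k A r = 0 := RingHom.mem_ker.1 hr
      rw [AlgHom.convOne_apply, map_sub, Bialgebra.counit_one]
      simp [show Coalgebra.counit (R := k) r = 0 from hr0]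
    have h := hχ (ev (toConv χ))
    rw [hg, map_one] at h
    have h' := sub_mem (hle (Ideal.subset_span ⟨toConv χ, rfl⟩)) h
    rw [sub_sub_cancel] at h'
    exact hm.ne_top ((Ideal.eq_top_iff_one m).2 h')
  obtain ⟨s, hs, hs1⟩ := Submodule.mem_span_finite_of_mem_span (R := A) ((Ideal.eq_top_iff_one _).1 htop)
  choose g hgs using fun z : s => hs z.2
  have hprod : ∏ z : s, (a - algebraMap k A ((g z).ofConv a)) = 0 := by
    obtain ⟨c, hc⟩ := Submodule.mem_span_finset'.1 hs1
    calc ∏ z : s, (a - algebraMap k A ((g z).ofConv a))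
        = (∑ z : s, c z • (z : A)) * ∏ z : s, (a - algebraMap k A ((g z).ofConv a)) := by rw [hc, one_mul]
      _ = 0 := by
        rw [Finset.sum_mul]
        refine Finset.sum_eq_zero fun z _ => ?_
        rw [← Finset.mul_prod_erase _ _ (Finset.mem_univ z), smul_eq_mul, mul_assoc, ← mul_assoc (z : A),
          show (z : A) * (a - algebraMap k A ((g z).ofConv a)) = 0 from (hgs z) ▸ hev (g z), zero_mul, mul_zero]
  refine CartierRed.eq_zero_of_forall_point (k := k) fun χ => ?_
  by_contra hne
  let f : ℕ → k := fun n => ((toConv χ) ^ (n + 1)).ofConv a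
  have hf : ∀ n, f n = (n + 1 : ℕ) * χ a := by
    intro n
    induction n with
    | zero => simp [f]
    | succ n ih =>
      simp only [f] at ih ⊢
      rw [pow_succ, hmul, ih, WithConv.ofConv_toConv]
      push_cast; ring
  have hinj : Function.Injective f := fun m n h => by
    rw [hf, hf] at h
    exact Nat.succ_injective (Nat.cast_injective (mul_right_cancel₀ hne h))
  have hroot : ∀ n, f n ∈ Finset.univ.image (fun z : s => (g z).ofConv a) := by
    intro n
    have h := congrArg ((toConv χ) ^ (n + 1)).ofConv hprod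
    rw [map_prod, map_zero, Finset.prod_eq_zero_iff] at h
    obtain ⟨z, -, hz⟩ := h
    rw [map_sub, AlgHom.commutes, sub_eq_zero] at hz
    exact Finset.mem_image.2 ⟨z, Finset.mem_univ _, hz.symm⟩
  exact (Set.infinite_range_of_injective hinj) ((Finset.univ.image (fun z : s => (g z).ofConv a)).finite_toSet.subset
    (by rintro _ ⟨n, rfl⟩; exact hroot n))

theorem primitive_eq_zero {a : A} (hp : Δ a = a ⊗ₜ[k] (1 : A) + (1 : A) ⊗ₜ[k] a)
    (hkill : ∀ w : A →ₗ[k] k, AugGraded.IsTangent k A w → w a = 0) : a = 0 := by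
  let K := AlgebraicClosure k
  haveI : CharZero K := charZero_of_injective_algebraMap (algebraMap k K).injective
  refine Algebra.TensorProduct.includeRight_injective (A := K) (algebraMap k K).injective ?_
  rw [map_zero]
  refine primitive_eq_zero_of_algClosed (k := K) ?_ fun w hw => ?_
  · simp [TensorProduct.comul_tmul, hp, tmul_add, Algebra.TensorProduct.one_def]
  · refine (Module.forall_dual_apply_eq_zero_iff k _).1 fun π => ?_
    refine hkill ((π : K →ₗ[k] k) ∘ₗ w.restrictScalars k ∘ₗ (Algebra.TensorProduct.includeRight : A →ₐ[k] K ⊗[k] A).toLinearMap)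
      fun b c => ?_
    simp only [LinearMap.comp_apply, AlgHom.toLinearMap_apply, LinearMap.restrictScalars_apply, map_mul, hw _ _]
    simp [Algebra.smul_def]
    rw [← Algebra.smul_def, ← Algebra.smul_def, map_smul, map_smul, smul_eq_mul, smul_eq_mul]

variable (hU : HopfRep.IsUnipotent k A)

include hU in
/-- vectors killed by the Lie algebra are fixed -/
theorem fAct_eq_of_killed : ∀ (n : ℕ) (V : Type v) [AddCommGroup V] [Module k V] [HopfRep.Comod k A V]
    [Module.Finite k V], Module.finrank k V = n → ∀ v : V,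
    (∀ w : A →ₗ[k] k, AugGraded.IsTangent k A w → fAct V w v = 0) →
    ∀ φ : A →ₗ[k] k, fAct V φ v = φ 1 • v := by
  intro n
  induction n using Nat.strong_induction_on with
  | _ n ih =>
    intro V _ _ _ _ hn v hv φ
    rcases subsingleton_or_nontrivial V with hV | hV
    · exact Subsingleton.elim _ _
    let F := HopfRep.fixedPts k A V
    have hF : HopfRep.IsSubcomod (k := k) (A := A) F := isSubcomod_iff.2 fun φ u hu => by
      rw [mem_fixedPts_iff_fAct.1 hu φ]; exact F.smul_mem _ hu
    letI := ComodSub.Comod.quot ‹HopfRep.Comod k A V› F hF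
    have hmk := ComodSub.isComodHom_mkQ ‹HopfRep.Comod k A V› F hF
    have hlt : Module.finrank k (V ⧸ F) < n := by
      have h0 := hU V inferInstance hV
      have h1 := Submodule.finrank_quotient_add_finrank F
      have h2 : 0 < Module.finrank k F := Nat.pos_of_ne_zero fun e => h0 (Submodule.finrank_eq_zero.1 e)
      omega
    have hq := ih _ hlt (V ⧸ F) rfl (F.mkQ v) (fun w hw => by
      rw [← fAct_comm_of_isComodHom hmk, hv w hw, map_zero])
    have hmem : ∀ φ : A →ₗ[k] k, fAct V φ v - φ 1 • v ∈ F := fun φ => by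
      rw [← Submodule.Quotient.mk_eq_zero, ← Submodule.mkQ_apply, map_sub, map_smul,
        fAct_comm_of_isComodHom hmk, hq φ, sub_self]
    refine sub_eq_zero.1 ((Module.forall_dual_apply_eq_zero_iff k _).1 fun ψ => ?_)
    let a : A := cf ψ v - ψ v • 1
    have hcf : ∀ χ : A →ₗ[k] k, χ a = ψ (fAct V χ v - χ 1 • v) := fun χ => by
      simp [a, apply_cf, mul_comm]
    have ha : a = 0 := by
      refine primitive_eq_zero (k := k) ?_ fun w hw => ?_
      · have hc : ∀ χ : A →ₗ[k] k, cf (A := A) ψ (fAct V χ v - χ 1 • v) = ψ (fAct V χ v - χ 1 • v) • (1 : A) := fun χ =>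
          sub_eq_zero.1 ((Module.forall_dual_apply_eq_zero_iff k _).1 fun η => by
            rw [map_sub, map_smul, apply_cf, mem_fixedPts_iff_fAct.1 (hmem χ) η, map_smul, smul_eq_mul, smul_eq_mul,
              mul_comm, sub_self])
        have hR : ∀ χ : A →ₗ[k] k, TensorProduct.rid k A (χ.lTensor A (Δ a)) =
            TensorProduct.rid k A (χ.lTensor A (a ⊗ₜ[k] (1 : A) + (1 : A) ⊗ₜ[k] a)) := fun χ => by
          have e : TensorProduct.rid k A (χ.lTensor A (Δ (cf (A := A) ψ v))) = fAct A χ (cf (A := A) ψ v) := rfl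
          simp only [map_add, LinearMap.lTensor_tmul, TensorProduct.rid_tmul, hcf]
          simp only [a, map_sub, map_smul, Bialgebra.comul_one, e, Algebra.TensorProduct.one_def,
            LinearMap.lTensor_tmul, TensorProduct.rid_tmul]
          rw [← fAct_comm_of_isComodHom (isComodHom_cf (A := A) ψ)]
          have := hc χ
          rw [map_sub, map_smul, sub_eq_iff_eq_add] at this
          rw [this, map_sub, map_smul, smul_sub, smul_comm (χ 1) (ψ v), smul_smul, smul_eq_mul]
          abel
        classical
        let b := Module.Basis.ofVectorSpace k A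
        refine (TensorProduct.equivFinsuppOfBasisRight b).injective (Finsupp.ext fun i => ?_)
        rw [TensorProduct.equivFinsuppOfBasisRight_apply, TensorProduct.equivFinsuppOfBasisRight_apply]
        exact hR _
      · have h1 := hw 1 1
        simp only [one_mul, map_one] at h1
        rw [hcf, hv w hw, show w 1 = 0 by simpa using h1]
        simp
    rw [← hcf, ha, map_zero]

include hU in
theorem fAct_eq_of_killed' {V : Type v} [AddCommGroup V] [Module k V] [HopfRep.Comod k A V] {v : V}
    (hv : ∀ w : A →ₗ[k] k, AugGraded.IsTangent k A w → fAct V w v = 0) (φ : A →ₗ[k] k) :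
    fAct V φ v = φ 1 • v := by
  obtain ⟨W, hWf, hvW, hW⟩ := exists_finite_subcomod (k := k) (A := A) v
  letI := ComodSub.Comod.restr ‹HopfRep.Comod k A V› W hW
  have hι := ComodSub.isComodHom_subtype ‹HopfRep.Comod k A V› W hW
  have h := fAct_eq_of_killed hU _ W rfl (⟨v, hvW⟩ : W) (fun w hw => W.subtype_injective (by
    rw [fAct_comm_of_isComodHom hι, map_zero]; exact hv w hw)) φ
  have := congrArg W.subtype h
  rwa [fAct_comm_of_isComodHom hι, map_smul] at this

include hU in
theorem eq_zero_or_one {e : A} (he : IsIdempotentElem e) : e = 0 ∨ e = 1 := by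
  haveI : Nontrivial A := (Bialgebra.counitAlgHom k A).toRingHom.domain_nontrivial
  have hD : ∀ w : A →ₗ[k] k, AugGraded.IsTangent k A w → fAct A w e = 0 := by
    intro w hw
    have h := (AugGraded.invDer w hw).leibniz e e
    rw [he.eq, AugGraded.invDer_apply, smul_eq_mul] at h
    have h2 : e * fAct A w e = 0 := by
      have := congrArg (e * ·) h
      simp only [mul_add, ← mul_assoc, he.eq] at this
      exact left_eq_add.1 this
    rw [h, h2, add_zero]
  have h : e = algebraMap k A (Bialgebra.counitAlgHom k A e) := by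
    refine sub_eq_zero.1 ((Module.forall_dual_apply_eq_zero_iff k _).1 fun φ => ?_)
    have := congrArg (Bialgebra.counitAlgHom k A) (fAct_eq_of_killed' hU hD φ)
    rw [AugGraded.counit_fAct, map_smul] at this
    rw [map_sub, Algebra.algebraMap_eq_smul_one, map_smul, this, smul_eq_mul, smul_eq_mul, mul_comm, sub_self]
  rcases IsIdempotentElem.iff_eq_zero_or_one.1 (he.map (Bialgebra.counitAlgHom k A)) with h0 | h0
  · exact Or.inl (by rw [h, h0, map_zero])
  · exact Or.inr (by rw [h, h0, map_one])

include hU in
/-- a subspace of the regular comodule stable under the Lie algebra and vanishing at the origin is zero -/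
theorem eq_bot_of_stable {T : Submodule k A} (hε : ∀ a ∈ T, Bialgebra.counitAlgHom k A a = 0)
    (hT : ∀ w : A →ₗ[k] k, AugGraded.IsTangent k A w → ∀ a ∈ T, fAct A w a ∈ T) : T = ⊥ := by
  refine (Submodule.eq_bot_iff _).2 fun t ht => ?_
  obtain ⟨C, hCf, htC, hC⟩ := exists_finite_subcomod (k := k) (A := A) t
  letI := ComodSub.Comod.restr (HopfRep.Comod.regular k A) C hC
  have hι := ComodSub.isComodHom_subtype (HopfRep.Comod.regular k A) C hC
  obtain ⟨F, -, h0, htop, -, hs⟩ := exists_flag_of_isUnipotent (k := k) (A := A) hU C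
  have key : ∀ i, ∀ c ∈ F i, (c : A) ∈ T → (c : A) = 0 := by
    intro i
    induction i with
    | zero => intro c hc _; rw [h0] at hc; simp [(Submodule.mem_bot k).1 hc]
    | succ i ih =>
      intro c hc hcT
      have hkilled : ∀ w : A →ₗ[k] k, AugGraded.IsTangent k A w → fAct A w (c : A) = 0 := by
        intro w hw
        obtain ⟨g, rfl, hg⟩ := hs i
        have hmem := hg c hc w
        have h1 : w 1 = 0 := by
          have h := hw 1 1
          simp only [one_mul, map_one] at h
          simpa using h
        rw [h1, zero_smul, sub_zero] at hmem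
        have e : ((fAct C w c : C) : A) = fAct A w (c : A) := fAct_comm_of_isComodHom hι w c
        rw [← e]
        exact ih _ hmem (e ▸ hT w hw _ hcT)
      refine (Module.forall_dual_apply_eq_zero_iff k _).1 fun φ => ?_
      have := congrArg (Bialgebra.counitAlgHom k A) (fAct_eq_of_killed' hU hkilled φ)
      rwa [AugGraded.counit_fAct, map_smul, hε _ hcT, smul_zero] at this
  exact key _ ⟨t, htC⟩ (htop ▸ Submodule.mem_top) ht

end Groth.L08.KilledByLie
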