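import Mathlib.LinearAlgebra.JordanChevalley
import Mathlib.LinearAlgebra.Semisimple
import Mathlib.LinearAlgebra.Prod
import Mathlib.LinearAlgebra.FiniteDimensional.Basic
import Mathlib.FieldTheory.Perfect

/-!
# Semisimple parts as polynomials
-/

universe u v w

open Polynomial Module.End

namespace Groth.L08.JordanPoly

variable {k : Type u} [Field k] [PerfectField k] {V : Type v} [AddCommGroup V] [Module k V]
  [FiniteDimensional k V] {W : Type w} [AddCommGroup W] [Module k W] [FiniteDimensional k W]

theorem exists_poly (α s : Module.End k V) (hs : s.IsSemisimple) (hn : IsNilpotent (α - s))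
    (hc : Commute s α) : ∃ P : k[X], s = aeval α P := by
  obtain ⟨n₀, -, s₀, hs₀, hn₀, hs₀s, h₀⟩ := α.exists_isNilpotent_isSemisimple
  rw [Algebra.adjoin_singleton_eq_range_aeval] at hs₀
  obtain ⟨P, hP⟩ := hs₀
  have hcs : Commute s₀ α := by
    rw [← hP]
    simpa using (Commute.all P X).map (aeval α)
  have hn₀c : Commute n₀ s₀ := by
    rw [show n₀ = α - s₀ by rw [h₀]; abel]
    exact (hcs.symm.sub_left (Commute.refl s₀))
  exact ⟨P, (isNilpotent_isSemisimple_unique hn hs hn₀ hs₀s (hc.symm.sub_left (Commute.refl s)) hn₀c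
    (by rw [sub_add_cancel, ← h₀])).2.trans hP.symm⟩

theorem isSemisimple_aeval_of_dvd {α : Module.End k V} {β : Module.End k W} (P : k[X])
    (h : ∀ Q : k[X], aeval β Q = 0 → aeval α Q = 0) (hs : (aeval β P).IsSemisimple) :
    (aeval α P).IsSemisimple := by
  refine isSemisimple_of_squarefree_aeval_eq_zero hs.minpoly_squarefree ?_
  rw [← aeval_comp]
  refine h _ ?_
  rw [aeval_comp, minpoly.aeval]

theorem isNilpotent_aeval_of_dvd {α : Module.End k V} {β : Module.End k W} (P : k[X])
    (h : ∀ Q : k[X], aeval β Q = 0 → aeval α Q = 0) (hs : IsNilpotent (aeval β P)) :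
    IsNilpotent (aeval α P) := by
  obtain ⟨n, hn⟩ := hs
  exact ⟨n, by rw [← map_pow]; exact h _ (by rw [map_pow, hn])⟩

/-- the semisimple parts of two endomorphisms are given by one polynomial -/
theorem exists_common_poly (α αs : Module.End k V) (β βs : Module.End k W)
    (hαs : αs.IsSemisimple) (hαn : IsNilpotent (α - αs)) (hαc : Commute αs α)
    (hβs : βs.IsSemisimple) (hβn : IsNilpotent (β - βs)) (hβc : Commute βs β) :
    ∃ P : k[X], αs = aeval α P ∧ βs = aeval β P := by
  let γ : Module.End k (V × W) := LinearMap.prodMap α β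
  obtain ⟨n, hn, s, hs, hnn, hss, h⟩ := γ.exists_isNilpotent_isSemisimple
  rw [Algebra.adjoin_singleton_eq_range_aeval] at hs
  obtain ⟨P, rfl⟩ := hs
  have key : ∀ Q : k[X], aeval γ Q = LinearMap.prodMap (aeval α Q) (aeval β Q) := by
    intro Q
    induction Q using Polynomial.induction_on with
    | C a =>
      refine LinearMap.ext fun x => ?_
      simp [Algebra.algebraMap_eq_smul_one]
    | add p q hp hq => rw [map_add, map_add, map_add, hp, hq, LinearMap.prodMap_add]
    | monomial n a hh =>
      rw [pow_succ, ← mul_assoc, map_mul, map_mul (aeval α), map_mul (aeval β), hh, aeval_X, aeval_X, aeval_X]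
      exact (LinearMap.prodMap_comp _ _ _ _)
  have h1 : ∀ Q : k[X], aeval γ Q = 0 → aeval α Q = 0 := fun Q hQ => LinearMap.ext fun x => by
    have := congrArg Prod.fst (LinearMap.congr_fun (key Q ▸ hQ) (x, 0))
    simpa using this
  have h2 : ∀ Q : k[X], aeval γ Q = 0 → aeval β Q = 0 := fun Q hQ => LinearMap.ext fun x => by
    have := congrArg Prod.snd (LinearMap.congr_fun (key Q ▸ hQ) (0, x))
    simpa using this
  have hnil : IsNilpotent (aeval γ (X - P)) := by
    rw [map_sub, aeval_X]
    rwa [show γ - aeval γ P = n from sub_eq_iff_eq_add.2 h]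
  refine ⟨P, ?_, ?_⟩
  · refine ((isNilpotent_isSemisimple_unique hαn hαs
      (isNilpotent_aeval_of_dvd (X - P) h1 hnil) (isSemisimple_aeval_of_dvd P h1 hss)
      (hαc.symm.sub_left (Commute.refl αs)) ((Commute.all _ _).map (aeval α)) ?_).2)
    rw [sub_add_cancel, ← map_add, sub_add_cancel, aeval_X]
  · refine ((isNilpotent_isSemisimple_unique hβn hβs
      (isNilpotent_aeval_of_dvd (X - P) h2 hnil) (isSemisimple_aeval_of_dvd P h2 hss)
      (hβc.symm.sub_left (Commute.refl βs)) ((Commute.all _ _).map (aeval β)) ?_).2)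
    rw [sub_add_cancel, ← map_add, sub_add_cancel, aeval_X]

/-- multiplicative form: nilpotency of `α - αs` -/
theorem isNilpotent_sub_of_mul {α αs αu : Module.End k V} (hu : IsNilpotent (αu - 1)) (hc : Commute αs αu)
    (he : αs * αu = α) : IsNilpotent (α - αs) ∧ Commute αs α := by
  refine ⟨?_, he ▸ (Commute.refl αs).mul_right hc⟩
  rw [show α - αs = αs * (αu - 1) by rw [mul_sub, mul_one, he]]
  exact (hc.sub_right (Commute.one_right _)).isNilpotent_mul_left hu

end Groth.L08.JordanPoly
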