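import Groth.Agent.L08.Basic
import Groth.Agent.L25.DerReduced
import Groth.Agent.L03.PlanePoints
import Mathlib.RingTheory.Bialgebra.Hom
import Mathlib.RingTheory.Ideal.Cotangent
import Mathlib.RingTheory.FiniteType
import Mathlib.LinearAlgebra.Dimension.Finrank
import Mathlib.Data.Nat.Choose.Basic
import Mathlib.RingTheory.HopfAlgebra.Basic

/-!
# The graded ring of a commutative bialgebra at the counit, through invariant derivations
-/

universe u v

open TensorProduct MvPolynomial

noncomputable section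

namespace Groth.L08.AugGraded

variable {k : Type u} [Field k] {A : Type v} [CommRing A] [Bialgebra k A]

local notation "ε" => Bialgebra.counitAlgHom k A
local notation "I" => RingHom.ker (Bialgebra.counitAlgHom k A)

variable (k A) in
/-- derivations at the counit -/
def IsTangent (w : A →ₗ[k] k) : Prop := ∀ a b, w (a * b) = ε a * w b + ε b * w a

theorem fAct_leibniz {w : A →ₗ[k] k} (hw : IsTangent k A w) (a b : A) :
    fAct A w (a * b) = a • fAct A w b + b • fAct A w a := by
  have e : ∀ c : A, c = TensorProduct.rid k A (LinearMap.lTensor A (Coalgebra.counit (R := k))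
      (Coalgebra.comul (R := k) c)) := fun c => (LinearMap.congr_fun fAct_counit c).symm
  conv_rhs => arg 1; rw [e a]
  conv_rhs => arg 2; rw [e b]
  show TensorProduct.rid k A (w.lTensor A (Coalgebra.comul (R := k) (a * b))) =
    _ • TensorProduct.rid k A (w.lTensor A (Coalgebra.comul (R := k) b)) +
      _ • TensorProduct.rid k A (w.lTensor A (Coalgebra.comul (R := k) a))
  simp only [Bialgebra.comul_mul, smul_eq_mul]
  generalize Coalgebra.comul (R := k) a = s
  generalize Coalgebra.comul (R := k) b = t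
  induction s using TensorProduct.induction_on with
  | zero => simp
  | add x y hx hy => simp only [add_mul, map_add, hx, hy, mul_add]; ring
  | tmul x y =>
    induction t using TensorProduct.induction_on with
    | zero => simp
    | add x' y' hx hy => simp only [mul_add, map_add, hx, hy, add_mul]; ring
    | tmul x' y' =>
      simp only [Algebra.TensorProduct.tmul_mul_tmul, LinearMap.lTensor_tmul,
        TensorProduct.rid_tmul, hw y y', Bialgebra.counitAlgHom_apply, Algebra.smul_def, map_add, map_mul]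
      ring

/-- the invariant derivation of a tangent vector -/
def invDer (w : A →ₗ[k] k) (hw : IsTangent k A w) : Derivation k A A :=
  { toLinearMap := fAct A w
    map_one_eq_zero' := by simpa using fAct_leibniz hw 1 1
    leibniz' := fAct_leibniz hw }

theorem invDer_apply (w : A →ₗ[k] k) (hw : IsTangent k A w) (a : A) : invDer w hw a = fAct A w a := rfl

theorem counit_fAct (φ : A →ₗ[k] k) (a : A) : ε (fAct A φ a) = φ a := by
  have h := congrArg φ (Coalgebra.sum_counit_smul (R := k) (Coalgebra.Repr.arbitrary k a))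
  rw [fAct_apply]
  conv_rhs => rw [← h]
  show ε (TensorProduct.rid k A (φ.lTensor A (Coalgebra.comul (R := k) a))) = _
  rw [← (Coalgebra.Repr.arbitrary k a).eq]
  simp [map_sum]
  exact Finset.sum_congr rfl fun i _ => mul_comm _ _

theorem sub_mem (a : A) : a - algebraMap k A (ε a) ∈ I := by simp

variable [Algebra.FiniteType k A]

instance finite_cotangent : Module.Finite k (Ideal.Cotangent I) := by
  classical
  haveI : IsNoetherianRing A := Algebra.FiniteType.isNoetherianRing k A
  obtain ⟨g, hg⟩ := (IsNoetherian.noetherian I : Submodule.FG I)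
  have hgI : ∀ z ∈ g, z ∈ I := fun z hz => by
    have : z ∈ Submodule.span A (g : Set A) := Submodule.subset_span hz
    rwa [hg] at this
  let gen : g → Ideal.Cotangent I := fun z => Ideal.toCotangent I ⟨z, hgI z z.2⟩
  refine ⟨⟨Finset.univ.image gen, eq_top_iff.2 fun v _ => ?_⟩⟩
  obtain ⟨⟨a, ha⟩, rfl⟩ := Ideal.toCotangent_surjective I v
  have ha' : a ∈ Submodule.span A (g : Set A) := by rw [hg]; exact ha
  obtain ⟨c, hc⟩ := Submodule.mem_span_finset'.1 ha'
  have h1 : (⟨a, ha⟩ : I) = ∑ z : g, c z • (⟨z, hgI z z.2⟩ : I) :=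
    Subtype.ext (by simp only [Submodule.coe_sum]; exact hc.symm)
  rw [h1, map_sum]
  refine Submodule.sum_mem _ fun z _ => ?_
  rw [map_smul, show c z • gen z = ε (c z) • gen z from ?_]
  · exact Submodule.smul_mem _ _ (Submodule.subset_span (by simp))
  · rw [← sub_eq_zero, ← algebraMap_smul A (ε (c z)), ← sub_smul, ← map_smul, Ideal.toCotangent_eq_zero, pow_two]
    exact Ideal.mul_mem_mul (sub_mem (c z)) (hgI z z.2)

variable (k A) in
/-- coordinates at the counit, with dual invariant derivations -/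
theorem exists_coords :
    ∃ (x : Fin (Module.finrank k (Ideal.Cotangent I)) → A) (w : Fin (Module.finrank k (Ideal.Cotangent I)) → A →ₗ[k] k),
      (∀ i, x i ∈ I) ∧ (∀ i, IsTangent k A (w i)) ∧ (∀ i j, w i (x j) = if i = j then 1 else 0) ∧
      ∀ b ∈ I, ∃ c : Fin (Module.finrank k (Ideal.Cotangent I)) → k, b - ∑ i, c i • x i ∈ I ^ 2 := by
  classical
  let B := Module.finBasis k (Ideal.Cotangent I)
  choose y hy using fun i => Ideal.toCotangent_surjective I (B i)
  let π : A →ₗ[k] Ideal.Cotangent I := ((Ideal.toCotangent I).restrictScalars k) ∘ₗ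
    LinearMap.codRestrict (Submodule.restrictScalars k (I : Submodule A A))
      (LinearMap.id - Algebra.linearMap k A ∘ₗ (ε).toLinearMap) (fun a => sub_mem a)
  have hπ : ∀ z : I, π z = Ideal.toCotangent I z := fun z => by
    refine congrArg (Ideal.toCotangent I) (Subtype.ext ?_)
    show (z : A) - algebraMap k A (ε (z : A)) = z
    rw [RingHom.mem_ker.1 z.2, map_zero, sub_zero]
  refine ⟨fun i => y i, fun i => B.coord i ∘ₗ π, fun i => (y i).2, fun i a b => ?_, fun i j => ?_, fun b hb => ?_⟩
  · have e : π (a * b) = ε a • π b + ε b • π a := by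
      rw [← sub_eq_zero, ← map_smul, ← map_smul, ← map_add, ← map_sub]
      refine (Ideal.toCotangent_eq _).2 ?_ |>.trans (map_zero _)
      show (a * b - (ε a • b + ε b • a)) - algebraMap k A (ε (a * b - (ε a • b + ε b • a))) - 0 ∈ I ^ 2
      have : (a * b - (ε a • b + ε b • a)) - algebraMap k A (ε (a * b - (ε a • b + ε b • a))) - 0 =
          (a - algebraMap k A (ε a)) * (b - algebraMap k A (ε b)) := by
        simp only [Algebra.smul_def, map_sub, map_add, map_mul, AlgHom.commutes, Algebra.algebraMap_self_apply]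
        ring
      rw [this, pow_two]
      exact Ideal.mul_mem_mul (sub_mem a) (sub_mem b)
    simp [e]
  · simp [hπ, hy, Finsupp.single_apply, eq_comm]
  · refine ⟨fun i => B.repr (Ideal.toCotangent I ⟨b, hb⟩) i, (Ideal.toCotangent_eq_zero I
      (⟨b, hb⟩ - ∑ i, B.repr (Ideal.toCotangent I ⟨b, hb⟩) i • y i) |>.1 ?_ |> fun h => by simpa [Submodule.coe_sum] using h)⟩
    rw [map_sub, map_sum, sub_eq_zero]
    refine (B.sum_repr _).symm.trans (Finset.sum_congr rfl fun i _ => ?_)
    rw [LinearMap.map_smul_of_tower, hy]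

section Graded

variable {r : ℕ} (x : Fin r → A) (w : Fin r → A →ₗ[k] k)
  (hx : ∀ i, x i ∈ (RingHom.ker (Bialgebra.counitAlgHom k A) : Ideal A))
  (hw : ∀ i, IsTangent k A (w i)) (hwx : ∀ i j, w i (x j) = if i = j then 1 else 0)
  (hspan : ∀ b : A, b ∈ (RingHom.ker (Bialgebra.counitAlgHom k A) : Ideal A) →
    ∃ c : Fin r → k, b - ∑ i, c i • x i ∈ (RingHom.ker (Bialgebra.counitAlgHom k A) : Ideal A) ^ 2)

include hx in
theorem aeval_mem {d : ℕ} {P : MvPolynomial (Fin r) k} (hP : P.IsHomogeneous d) : aeval x P ∈ I ^ d := by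
  rw [aeval_def, eval₂_eq]
  refine Ideal.sum_mem _ fun s hs => Ideal.mul_mem_left _ _ ?_
  rw [← hP (mem_support_iff.1 hs)]
  have : ∀ T : Finset (Fin r), ∏ l ∈ T, x l ^ s l ∈ I ^ (∑ l ∈ T, s l) := by
    intro T
    induction T using Finset.induction_on with
    | empty => simp
    | insert l T hl ihT =>
      rw [Finset.prod_insert hl, Finset.sum_insert hl, pow_add]
      exact Ideal.mul_mem_mul (Ideal.pow_mem_pow (hx l) _) ihT
  simpa [Finsupp.weight_apply, Finsupp.sum] using this s.support

include hx hspan in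
theorem exists_homogeneous : ∀ (d : ℕ) (b : A), b ∈ I ^ d →
    ∃ P : MvPolynomial (Fin r) k, P.IsHomogeneous d ∧ b - aeval x P ∈ I ^ (d + 1) := by
  intro d
  induction d with
  | zero =>
    intro b _
    exact ⟨C (ε b), isHomogeneous_C _ _, by simpa using sub_mem b⟩
  | succ d ih =>
    intro b hb
    rw [pow_succ] at hb
    refine Submodule.mul_induction_on hb (fun u hu v hv => ?_) (fun u v hu hv => ?_)
    · obtain ⟨P, hP, hP'⟩ := ih u hu
      obtain ⟨c, hc⟩ := hspan v hv
      have hQ : (∑ i, C (c i) * X i : MvPolynomial (Fin r) k).IsHomogeneous 1 :=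
        IsHomogeneous.sum _ _ _ fun i _ => isHomogeneous_C_mul_X _ i
      have hQ' : v - aeval x (∑ i, C (c i) * X i : MvPolynomial (Fin r) k) ∈ I ^ 2 := by
        simpa [Algebra.smul_def] using hc
      refine ⟨P * _, hP.mul hQ, ?_⟩
      have hPm : aeval x P ∈ I ^ d := aeval_mem x hx hP
      rw [map_mul, show u * v - aeval x P * aeval x (∑ i, C (c i) * X i : MvPolynomial (Fin r) k) =
        (u - aeval x P) * v + aeval x P * (v - aeval x (∑ i, C (c i) * X i : MvPolynomial (Fin r) k)) by ring]
      refine Ideal.add_mem _ ?_ ?_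
      · rw [pow_succ]; exact Ideal.mul_mem_mul hP' hv
      · rw [show d + 1 + 1 = d + 2 by ring, pow_add]; exact Ideal.mul_mem_mul hPm hQ'
    · obtain ⟨P, hP, hP'⟩ := hu
      obtain ⟨Q, hQ, hQ'⟩ := hv
      exact ⟨P + Q, hP.add hQ, by rw [map_add]; convert Ideal.add_mem _ hP' hQ' using 1; ring⟩

include hx hwx in
theorem pderiv_mem {d : ℕ} {P : MvPolynomial (Fin r) k} (hP : P.IsHomogeneous (d + 1)) (i : Fin r)
    (h : invDer (w i) (hw i) (aeval x P) ∈ I ^ (d + 1)) : aeval x (pderiv i P) ∈ I ^ (d + 1) := by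
  rw [Groth.L25.DerReduced.derivation_aeval] at h
  have hD : ∀ j, invDer (w i) (hw i) (x j) - (if i = j then 1 else 0) ∈ I := fun j => by
    rw [RingHom.mem_ker, map_sub, invDer_apply, counit_fAct, hwx]
    by_cases e : i = j <;> simp [e]
  have e : aeval x (pderiv i P) = ∑ j, aeval x (pderiv j P) * invDer (w i) (hw i) (x j) -
      ∑ j, aeval x (pderiv j P) * (invDer (w i) (hw i) (x j) - if i = j then 1 else 0) := by
    simp [mul_sub, Finset.sum_sub_distrib]
  rw [e]
  refine Ideal.sub_mem _ h (Ideal.sum_mem _ fun j _ => ?_)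
  rw [pow_succ]
  exact Ideal.mul_mem_mul (aeval_mem x hx hP.pderiv) (hD j)

include hx hw hwx in
theorem eq_zero_of_mem : ∀ (d : ℕ), (d.factorial : k) ≠ 0 → ∀ (P : MvPolynomial (Fin r) k),
    P.IsHomogeneous d → aeval x P ∈ I ^ (d + 1) → P = 0 := by
  intro d
  induction d with
  | zero =>
    intro _ P hP h
    rw [← totalDegree_zero_iff_isHomogeneous, totalDegree_eq_zero_iff_eq_C] at hP
    rw [hP] at h ⊢
    rw [pow_one, RingHom.mem_ker, aeval_C, AlgHom.commutes] at h
    simp at h
    simp [h]
  | succ d ih =>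
    intro hd P hP h
    rw [Nat.factorial_succ, Nat.cast_mul, mul_ne_zero_iff] at hd
    have hi : ∀ i, pderiv i P = 0 := fun i => ih hd.2 _ hP.pderiv
      (pderiv_mem x w hx hw hwx hP i (Groth.L25.DerReduced.derivation_pow _ (d + 1) h))
    have e := hP.sum_X_mul_pderiv
    simp only [hi, mul_zero, Finset.sum_const_zero] at e
    have : ((d + 1 : ℕ) : k) • P = 0 := by rw [Nat.cast_smul_eq_nsmul]; exact e.symm
    exact (smul_eq_zero.1 this).resolve_left hd.1

include hx hw hwx hspan in
/-- elements killed by the invariant derivations lie in all powers of the augmentation ideal -/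
theorem mem_pow_of_killed [CharZero k] {a : A} (ha : a ∈ I) (hD : ∀ i, fAct A (w i) a = 0) : ∀ d, a ∈ I ^ d := by
  intro d
  induction d with
  | zero => simp
  | succ d ih =>
    rcases Nat.eq_zero_or_pos d with rfl | hpos
    · simpa using ha
    obtain ⟨e, rfl⟩ : ∃ e, d = e + 1 := ⟨d - 1, by omega⟩
    obtain ⟨P, hP, hP'⟩ := exists_homogeneous x hx hspan (e + 1) a ih
    have hi : ∀ i, pderiv i P = 0 := fun i => by
      refine eq_zero_of_mem x w hx hw hwx e (Nat.cast_ne_zero.2 (Nat.factorial_ne_zero e)) _ hP.pderiv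
        (pderiv_mem x w hx hw hwx hP i ?_)
      have h1 := Groth.L25.DerReduced.derivation_pow (invDer (w i) (hw i)) (e + 1) hP'
      rw [map_sub, invDer_apply (a := a), hD i, zero_sub, neg_mem_iff] at h1
      exact h1
    have h0 := hP.sum_X_mul_pderiv
    simp only [hi, mul_zero, Finset.sum_const_zero] at h0
    have : ((e + 1 : ℕ) : k) • P = 0 := by rw [Nat.cast_smul_eq_nsmul]; exact h0.symm
    rw [(smul_eq_zero.1 this).resolve_left (Nat.cast_ne_zero.2 (Nat.succ_ne_zero e)), map_zero, sub_zero] at hP'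
    exact hP'

end Graded

theorem finrank_homogeneous' (r n : ℕ) :
    Module.Finite k (homogeneousSubmodule (Fin r) k n) ∧
      Module.finrank k (homogeneousSubmodule (Fin r) k n) = (r + n - 1).choose n := by
  have hset : ∀ d : Fin r →₀ ℕ, d.degree = n ↔ d ∈ Finset.univ.finsuppAntidiag n := fun d => by
    rw [Finset.mem_finsuppAntidiag, Finsupp.degree_eq_sum]
    simp
  haveI : Fintype {d : Fin r →₀ ℕ | d.degree = n} :=
    Fintype.ofFinset (Finset.univ.finsuppAntidiag n) fun d => (hset d).symm
  let b : Module.Basis {d : Fin r →₀ ℕ | d.degree = n} k (homogeneousSubmodule (Fin r) k n) :=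
    (basisRestrictSupport k _).map
      (LinearEquiv.ofEq _ _ (homogeneousSubmodule_eq_finsupp_supported (σ := Fin r) (R := k) n).symm)
  refine ⟨Module.Finite.of_basis b, ?_⟩
  rw [Module.finrank_eq_nat_card_basis b]
  refine (Nat.subtype_card (Finset.univ.finsuppAntidiag n) fun d => (hset d).symm).trans ?_
  rw [Finset.card_finsuppAntidiag_nat_eq_choose]
  simp

variable (k A) in
theorem finrank_quotient_pow_succ (n : ℕ) (hn : (n.factorial : k) ≠ 0) :
    Module.finrank k (A ⧸ I ^ (n + 1)) =
      Module.finrank k (A ⧸ I ^ n) + Nat.choose (Module.finrank k (Ideal.Cotangent I) + n - 1) n := by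
  obtain ⟨x, w, hx, hw, hwx, hspan⟩ := exists_coords k A
  let r := Module.finrank k (Ideal.Cotangent I)
  haveI hfH := fun m => (finrank_homogeneous' (k := k) r m).1
  -- finiteness
  have hfin : ∀ m, Module.Finite k (A ⧸ I ^ m) := by
    intro m
    induction m with
    | zero =>
      rw [pow_zero, Ideal.one_eq_top]
      infer_instance
    | succ m ih =>
      let f : A ⧸ I ^ (m + 1) →ₗ[k] A ⧸ I ^ m :=
        (Ideal.Quotient.factorₐ k (Ideal.pow_le_pow_right (Nat.le_succ m))).toLinearMap
      let g : homogeneousSubmodule (Fin r) k m →ₗ[k] A ⧸ I ^ (m + 1) :=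
        (Ideal.Quotient.mkₐ k (I ^ (m + 1))).toLinearMap ∘ₗ (aeval x).toLinearMap ∘ₗ (homogeneousSubmodule (Fin r) k m).subtype
      have hfg : LinearMap.ker f ≤ LinearMap.range g := by
        intro z hz
        obtain ⟨b, rfl⟩ := Ideal.Quotient.mk_surjective z
        have hb : b ∈ I ^ m := Ideal.Quotient.eq_zero_iff_mem.1 hz
        obtain ⟨P, hP, hP'⟩ := exists_homogeneous x hx hspan m b hb
        exact ⟨⟨P, hP⟩, (Ideal.Quotient.eq.2 hP').symm⟩
      haveI : Module.Finite k (LinearMap.ker f) := Submodule.finiteDimensional_of_le hfg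
      haveI : Module.Finite k (LinearMap.range f) := FiniteDimensional.finiteDimensional_submodule _
      haveI : Module.Finite k ((A ⧸ I ^ (m + 1)) ⧸ LinearMap.ker f) := Module.Finite.equiv f.quotKerEquivRange.symm
      exact Module.Finite.of_submodule_quotient (LinearMap.ker f)
  haveI := hfin (n + 1)
  haveI := hfin n
  let f : A ⧸ I ^ (n + 1) →ₗ[k] A ⧸ I ^ n :=
    (Ideal.Quotient.factorₐ k (Ideal.pow_le_pow_right (Nat.le_succ n))).toLinearMap
  let g : homogeneousSubmodule (Fin r) k n →ₗ[k] A ⧸ I ^ (n + 1) :=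
    (Ideal.Quotient.mkₐ k (I ^ (n + 1))).toLinearMap ∘ₗ (aeval x).toLinearMap ∘ₗ (homogeneousSubmodule (Fin r) k n).subtype
  have hker : LinearMap.ker f = LinearMap.range g := by
    refine le_antisymm (fun z hz => ?_) ?_
    · obtain ⟨b, rfl⟩ := Ideal.Quotient.mk_surjective z
      have hb : b ∈ I ^ n := Ideal.Quotient.eq_zero_iff_mem.1 hz
      obtain ⟨P, hP, hP'⟩ := exists_homogeneous x hx hspan n b hb
      exact ⟨⟨P, hP⟩, (Ideal.Quotient.eq.2 hP').symm⟩
    · rintro _ ⟨⟨P, hP⟩, rfl⟩
      exact Ideal.Quotient.eq_zero_iff_mem.2 (aeval_mem x hx hP)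
  have hg : Function.Injective g := by
    refine (injective_iff_map_eq_zero g).2 fun P hP => Subtype.ext ?_
    exact eq_zero_of_mem x w hx hw hwx n hn P.1 P.2 (Ideal.Quotient.eq_zero_iff_mem.1 hP)
  have h1 := LinearMap.finrank_range_add_finrank_ker f
  rw [hker, LinearMap.finrank_range_of_inj hg, (finrank_homogeneous' (k := k) r n).2,
    LinearMap.range_eq_top.2 (show Function.Surjective f from
      Ideal.Quotient.factor_surjective (Ideal.pow_le_pow_right (Nat.le_succ n) : I ^ (n + 1) ≤ I ^ n)), finrank_top] at h1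
  exact h1.symm

end Groth.L08.AugGraded
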