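import Groth.Agent.L08.HopfTransport
import Groth.Agent.L25.HopfFlatGen
import Mathlib.RingTheory.RingHom.FaithfullyFlat

/-!
# Faithful flatness of Hopf algebras over Hopf images (any universes)
-/

set_option autoImplicit false

universe u v w

open TensorProduct WithConv

namespace Groth.L08.HopfImage

/-- bialgebra maps commute with antipodes -/
theorem map_antipode {R : Type u} [CommRing R] {A : Type v} {B : Type w} [CommRing A] [CommRing B]
    [HopfAlgebra R A] [HopfAlgebra R B] (φ : A →ₐc[R] B) (c : A) :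
    φ (HopfAlgebraStruct.antipode (R := R) c) = HopfAlgebraStruct.antipode (R := R) (φ c) := by
  have h1 : toConv ((HopfAlgebra.antipodeAlgHom R B).comp φ.toAlgHom) * toConv φ.toAlgHom = 1 := by
    have h1 := AlgHom.convMul_comp_bialgHom_distrib
      (toConv (HopfAlgebra.antipodeAlgHom R B)) (toConv (AlgHom.id R B)) φ
    rw [AlgHom.antipode_id_cancel] at h1
    refine WithConv.ext (AlgHom.ext fun x => ?_)
    have h2 := DFunLike.congr_fun h1 x
    simp only [AlgHom.convOne_apply, AlgHom.comp_apply, WithConv.ofConv_toConv,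
      AlgHom.id_comp] at h2 ⊢
    rw [← h2]
    simp [AlgHom.convOne_def]
  have h : toConv (φ.toAlgHom.comp (HopfAlgebra.antipodeAlgHom R A)) =
      toConv ((HopfAlgebra.antipodeAlgHom R B).comp φ.toAlgHom) := by
    refine (left_inv_eq_right_inv h1 ?_).symm
    refine WithConv.ext (AlgHom.ext fun x => ?_)
    have h3 : ∀ z : A ⊗[R] A,
        Algebra.TensorProduct.lift φ.toAlgHom (φ.toAlgHom.comp (HopfAlgebra.antipodeAlgHom R A))
          (fun _ _ => Commute.all _ _) z =
        φ (LinearMap.mul' R A ((HopfAlgebraStruct.antipode (R := R)).lTensor A z)) := by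
      intro z
      induction z with
      | zero => simp
      | tmul a b => simp
      | add a b ha hb => simp only [map_add, ha, hb]
    rw [AlgHom.convMul_apply, AlgHom.convOne_apply]
    refine (h3 _).trans ?_
    rw [HopfAlgebra.mul_antipode_lTensor_comul_apply]
    exact AlgHomClass.commutes φ _
  exact DFunLike.congr_fun (congrArg WithConv.ofConv h) c

theorem faithfullyFlat_comp {R S T : Type*} [CommRing R] [CommRing S] [CommRing T] {f : R →+* S} {g : S →+* T}
    (hf : f.FaithfullyFlat) (hg : g.FaithfullyFlat) : (g.comp f).FaithfullyFlat := by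
  algebraize [f, g, g.comp f]
  rw [← RingHom.algebraMap_toAlgebra (g.comp f), RingHom.faithfullyFlat_algebraMap_iff]
  exact .trans R S T

variable {k : Type u} [Field k]

/-- the range of a bialgebra map is a Hopf subalgebra -/
theorem isHopfSubalgebra_range {A : Type v} [CommRing A] [HopfAlgebra k A] {B : Type u} [CommRing B]
    [HopfAlgebra k B] (f : A →ₐc[k] B) : SGA3.IsHopfSubalgebra k B (f : A →ₐ[k] B).range := by
  constructor
  · rintro _ ⟨a, rfl⟩
    refine ⟨TensorProduct.map (f : A →ₐ[k] B).rangeRestrict.toLinearMap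
      (f : A →ₐ[k] B).rangeRestrict.toLinearMap (Coalgebra.comul a), ?_⟩
    rw [← LinearMap.comp_apply, ← TensorProduct.map_comp]
    exact (CoalgHomClass.map_comp_comul_apply f a)
  · rintro _ ⟨a, rfl⟩
    exact ⟨HopfAlgebraStruct.antipode (R := k) a, map_antipode f a⟩

theorem faithfullyFlat_range {A : Type v} {B : Type w} [CommRing A] [CommRing B] [HopfAlgebra k A]
    [HopfAlgebra k B] [Algebra.FiniteType k B] (f : A →ₐc[k] B) :
    ((f : A →ₐ[k] B).range.val : (f : A →ₐ[k] B).range →+* B).FaithfullyFlat := by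
  obtain ⟨B', i1, i2, i3, ⟨e⟩⟩ := HopfTransport.exists_small_hopf k B
  let f' : A →ₐc[k] B' := (e.symm : B →ₐc[k] B').comp f
  have h := Groth.L25.HopfFlat.faithfullyFlat _ (isHopfSubalgebra_range f')
  let C : Subalgebra k B := (f : A →ₐ[k] B).range
  let C' : Subalgebra k B' := (f' : A →ₐ[k] B').range
  let ψ : C →ₐ[k] C' := ((e.symm : B →ₐc[k] B') : B →ₐ[k] B').comp C.val |>.codRestrict C' (by
    rintro ⟨_, a, rfl⟩
    exact ⟨a, rfl⟩)
  have hψ : Function.Bijective ψ := by
    constructor
    · intro x y hxy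
      exact Subtype.ext (e.symm.injective (congrArg Subtype.val hxy))
    · rintro ⟨_, a, rfl⟩
      exact ⟨⟨f a, a, rfl⟩, rfl⟩
  have hval : (C.val : C →+* B) =
      (((e : B' →ₐc[k] B) : B' →ₐ[k] B) : B' →+* B).comp ((algebraMap C' B').comp (ψ : C →+* C')) :=
    RingHom.ext fun x => (e.apply_symm_apply (x : B)).symm
  rw [hval]
  exact faithfullyFlat_comp
    (faithfullyFlat_comp (RingHom.FaithfullyFlat.of_bijective hψ)
      (RingHom.faithfullyFlat_algebraMap_iff.2 h))
    (RingHom.FaithfullyFlat.of_bijective e.bijective)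

theorem faithfullyFlat_of_injective {A : Type v} {B : Type w} [CommRing A] [CommRing B] [HopfAlgebra k A]
    [HopfAlgebra k B] [Algebra.FiniteType k B] (f : A →ₐc[k] B) (hf : Function.Injective f) :
    (f : A →+* B).FaithfullyFlat := by
  have h := faithfullyFlat_range f
  have hbij : Function.Bijective (f : A →ₐ[k] B).rangeRestrict :=
    ⟨fun x y hxy => hf (congrArg Subtype.val hxy), AlgHom.rangeRestrict_surjective _⟩
  exact faithfullyFlat_comp (RingHom.FaithfullyFlat.of_bijective hbij) h

end Groth.L08.HopfImage
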