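import Groth.Agent.L08.HeightOneRank
import Groth.Agent.L25.HopfSub
import Groth.Agent.L25.HopfFlatGen
import Groth.Agent.S16077
import Mathlib.FieldTheory.Perfect
import Mathlib.RingTheory.LocalRing.Module
import Mathlib.RingTheory.HopfAlgebra.Quotient
import Mathlib.RingTheory.MvPolynomial.Ideal
import Mathlib.LinearAlgebra.Basis.VectorSpace
import Mathlib.RingTheory.Nilpotent.Lemmas

/-!
# Finite local Hopf algebras over perfect fields are truncated polynomial algebras
-/

set_option autoImplicit false

universe u v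

open TensorProduct

noncomputable section

namespace Groth.L08.TruncatedHopf

/-- `k[X]/(X_i ^ N_i)`. -/
abbrev Trunc (k : Type u) [Field k] {r : ℕ} (N : Fin r → ℕ) : Type u :=
  MvPolynomial (Fin r) k ⧸ Ideal.span (Set.range fun i : Fin r => (MvPolynomial.X i : MvPolynomial (Fin r) k) ^ N i)

variable {k : Type u} [Field k] (p : ℕ) [hp : Fact p.Prime] [CharP k p]

theorem finite_trunc {r : ℕ} (N : Fin r → ℕ) (hN : ∀ i, 0 < N i) : Module.Finite k (Trunc k N) := by
  refine Module.finite_of_finrank_pos ?_
  rw [Groth.Agent.S16077.finrank_trunc k N]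
  exact Finset.prod_pos fun i _ => hN i

section Fibre

variable {A : Type u} [CommRing A] [HopfAlgebra k A]

/-- The ideal generated by `p`-th powers of the augmentation ideal. -/
abbrev frobIdeal (A : Type u) [CommRing A] [HopfAlgebra k A] : Ideal A :=
  Ideal.span ((fun a : A => a ^ p) '' (RingHom.ker (Bialgebra.counitAlgHom k A) : Set A))

theorem frobIdeal_le_ker : frobIdeal (k := k) p A ≤ RingHom.ker (Bialgebra.counitAlgHom k A) :=
  Ideal.span_le.2 (by
    rintro _ ⟨a, ha, rfl⟩
    exact Ideal.pow_mem_of_mem _ ha p hp.out.pos)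

theorem frobIdeal_le_sq : frobIdeal (k := k) p A ≤ RingHom.ker (Bialgebra.counitAlgHom k A) ^ 2 :=
  Ideal.span_le.2 (by
    rintro _ ⟨a, ha, rfl⟩
    exact Ideal.pow_le_pow_right hp.out.two_le (Ideal.pow_mem_pow ha p))

theorem mk_pow (x : A) : Ideal.Quotient.mk (frobIdeal (k := k) p A) (x ^ p) =
    algebraMap k _ (Bialgebra.counitAlgHom k A x ^ p) := by
  haveI : Nontrivial A := RingHom.domain_nontrivial (Bialgebra.counitAlgHom k A).toRingHom
  haveI : CharP A p := charP_of_injective_algebraMap (algebraMap k A).injective p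
  rw [← Ideal.Quotient.mk_algebraMap, Ideal.Quotient.eq, map_pow, ← sub_pow_char]
  exact Ideal.subset_span ⟨_, by simp, rfl⟩

theorem isHopfIdeal_frobIdeal : (frobIdeal (k := k) p A).IsHopfIdeal k := by
  haveI : Nontrivial A := RingHom.domain_nontrivial (Bialgebra.counitAlgHom k A).toRingHom
  haveI : CharP (A ⊗[k] A) p := by
    haveI : Nontrivial (A ⊗[k] A) := RingHom.domain_nontrivial
      (Algebra.TensorProduct.lift (Bialgebra.counitAlgHom k A) (Bialgebra.counitAlgHom k A) fun _ _ => Commute.all _ _).toRingHom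
    exact charP_of_injective_algebraMap (algebraMap k (A ⊗[k] A)).injective p
  set J := frobIdeal (k := k) p A
  let π : A →ₐ[k] A ⧸ J := Ideal.Quotient.mkₐ k J
  let ε2 : A ⊗[k] A →ₐ[k] k :=
    Algebra.TensorProduct.lift (Bialgebra.counitAlgHom k A) (Bialgebra.counitAlgHom k A) fun _ _ => Commute.all _ _
  have key : ∀ w : A ⊗[k] A, Algebra.TensorProduct.map π π (w ^ p) = algebraMap k _ (ε2 w ^ p) := by
    intro w
    induction w with
    | zero => simp [zero_pow hp.out.ne_zero]
    | add a b ha hb => rw [add_pow_char, map_add, ha, hb, map_add, add_pow_char, map_add]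
    | tmul x y =>
      rw [Algebra.TensorProduct.tmul_pow, Algebra.TensorProduct.map_tmul]
      change Ideal.Quotient.mk J (x ^ p) ⊗ₜ[k] Ideal.Quotient.mk J (y ^ p) = _
      rw [mk_pow, mk_pow, show ε2 (x ⊗ₜ y) = Bialgebra.counitAlgHom k A x * Bialgebra.counitAlgHom k A y from
        Algebra.TensorProduct.lift_tmul _ _ _ _ _, mul_pow, Algebra.algebraMap_eq_smul_one,
        Algebra.algebraMap_eq_smul_one, TensorProduct.smul_tmul_smul, ← Algebra.TensorProduct.one_def,
        Algebra.algebraMap_eq_smul_one]
  have hε2 : ∀ a, ε2 (Bialgebra.comulAlgHom k A a) = Bialgebra.counitAlgHom k A a := by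
    intro a
    have : ∀ w : A ⊗[k] A, ε2 w = Bialgebra.counitAlgHom k A
        (TensorProduct.lid k A ((Coalgebra.counit (R := k) (A := A)).rTensor A w)) := by
      intro w
      induction w with
      | zero => simp
      | add a b ha hb => simp only [map_add, ha, hb]
      | tmul x y => simp [ε2]
    rw [this, Bialgebra.comulAlgHom_apply, Coalgebra.rTensor_counit_comul, TensorProduct.lid_tmul, one_smul]
  refine { toIsCoideal := ⟨fun x hx => frobIdeal_le_ker p hx, fun x hx => ?_⟩, antipode_mem := fun x hx => ?_ }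
  · let F : A →ₐ[k] (A ⧸ J) ⊗[k] (A ⧸ J) := (Algebra.TensorProduct.map π π).comp (Bialgebra.comulAlgHom k A)
    have hF : J ≤ RingHom.ker F := Ideal.span_le.2 (by
      rintro _ ⟨a, ha, rfl⟩
      show Algebra.TensorProduct.map π π (Bialgebra.comulAlgHom k A (a ^ p)) = 0
      rw [map_pow (Bialgebra.comulAlgHom k A), key, hε2, show Bialgebra.counitAlgHom k A a = 0 from ha,
        zero_pow hp.out.ne_zero, map_zero])
    have h0 : F x = 0 := hF hx
    exact h0
  · have : J ≤ J.comap (HopfAlgebra.antipodeAlgHom k A) := Ideal.span_le.2 (by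
      rintro _ ⟨a, ha, rfl⟩
      show HopfAlgebra.antipodeAlgHom k A (a ^ p) ∈ J
      rw [map_pow]
      exact Ideal.subset_span ⟨_, (HopfAlgebra.counit_antipode (R := k) a).trans ha, rfl⟩)
    exact this hx

theorem finrank_quotient_frobIdeal [Module.Finite k A] :
    Module.finrank k (A ⧸ frobIdeal (k := k) p A) =
      p ^ Module.finrank k (RingHom.ker (Bialgebra.counitAlgHom k A)).Cotangent := by
  haveI := isHopfIdeal_frobIdeal (k := k) p (A := A)
  set J := frobIdeal (k := k) p A
  have hc : ∀ a, Bialgebra.counitAlgHom k (A ⧸ J) (Ideal.Quotient.mk J a) = Bialgebra.counitAlgHom k A a :=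
    fun a => rfl
  rw [HeightOneRank.finrank_eq' p (A ⧸ J) fun f hf => by
    obtain ⟨a, rfl⟩ := Ideal.Quotient.mk_surjective f
    rw [← map_pow, Ideal.Quotient.eq_zero_iff_mem]
    exact Ideal.subset_span ⟨a, (hc a).symm.trans hf, rfl⟩]
  congr 1
  set I := RingHom.ker (Bialgebra.counitAlgHom k A)
  set Ī := RingHom.ker (Bialgebra.counitAlgHom k (A ⧸ J))
  let f := Ideal.mapCotangent I Ī (Ideal.Quotient.mkₐ k J) (fun a ha => (hc a).trans ha)
  refine (LinearEquiv.ofBijective f ⟨?_, ?_⟩).finrank_eq.symm
  · rw [injective_iff_map_eq_zero]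
    intro z hz
    obtain ⟨⟨a, ha⟩, rfl⟩ := Ideal.toCotangent_surjective I z
    rw [Ideal.mapCotangent_toCotangent, Ideal.toCotangent_eq_zero] at hz
    have h2 : Ī ^ 2 ≤ (I ^ 2).map (Ideal.Quotient.mk J) := by
      rw [Ideal.map_pow]
      refine Ideal.pow_right_mono (fun b hb => ?_) 2
      obtain ⟨b, rfl⟩ := Ideal.Quotient.mk_surjective b
      exact Ideal.mem_map_of_mem _ ((hc b).symm.trans hb)
    rw [Ideal.toCotangent_eq_zero]
    obtain ⟨b, hb, hab⟩ := (Ideal.mem_map_iff_of_surjective _ Ideal.Quotient.mk_surjective).1 (h2 hz)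
    have : b - a ∈ J := Ideal.Quotient.eq.1 hab
    simpa using sub_mem hb (frobIdeal_le_sq p this)
  · intro z
    obtain ⟨⟨b, hb⟩, rfl⟩ := Ideal.toCotangent_surjective Ī z
    obtain ⟨a, rfl⟩ := Ideal.Quotient.mk_surjective b
    exact ⟨I.toCotangent ⟨a, (hc a).symm.trans hb⟩, Ideal.mapCotangent_toCotangent _ _ _ _ _⟩

end Fibre

variable [PerfectRing k p]

/-- The subalgebra of `p`-th powers. -/
def frobSub (A : Type u) [CommRing A] [Algebra k A] [CharP A p] : Subalgebra k A :=
  { (frobenius A p).range.toSubsemiring with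
    algebraMap_mem' := fun c => ⟨algebraMap k A ((frobeniusEquiv k p).symm c), by
      rw [frobenius_def, ← map_pow]
      exact congrArg _ (frobeniusEquiv_symm_pow_p k p c)⟩ }

theorem mem_frobSub {A : Type u} [CommRing A] [Algebra k A] [CharP A p] {b : A} :
    b ∈ frobSub (k := k) p A ↔ ∃ a, a ^ p = b := Iff.rfl

theorem isHopfSubalgebra_frobSub (A : Type u) [CommRing A] [HopfAlgebra k A] [CharP A p] :
    SGA3.IsHopfSubalgebra k A (frobSub (k := k) p A) := by
  haveI : Nontrivial (A ⊗[k] A) := RingHom.domain_nontrivial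
    (Algebra.TensorProduct.lift (Bialgebra.counitAlgHom k A) (Bialgebra.counitAlgHom k A) fun _ _ => Commute.all _ _).toRingHom
  haveI : CharP (A ⊗[k] A) p := charP_of_injective_algebraMap (algebraMap k (A ⊗[k] A)).injective p
  refine ⟨fun b hb => ?_, fun b hb => ?_⟩
  · obtain ⟨a, rfl⟩ := (mem_frobSub p).1 hb
    have key : ∀ w : A ⊗[k] A, w ^ p ∈ LinearMap.range
        (TensorProduct.map (frobSub (k := k) p A).val.toLinearMap (frobSub (k := k) p A).val.toLinearMap) := by
      intro w
      induction w with
      | zero => rw [zero_pow hp.out.ne_zero]; exact zero_mem _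
      | add a b ha hb => rw [add_pow_char]; exact add_mem ha hb
      | tmul x y =>
        rw [Algebra.TensorProduct.tmul_pow]
        exact ⟨(⟨x ^ p, ⟨x, rfl⟩⟩ : frobSub (k := k) p A) ⊗ₜ[k] (⟨y ^ p, ⟨y, rfl⟩⟩ : frobSub (k := k) p A), rfl⟩
    have h := key (Bialgebra.comulAlgHom k A a)
    rw [← map_pow] at h
    exact h
  · obtain ⟨a, rfl⟩ := (mem_frobSub p).1 hb
    exact ⟨HopfAlgebra.antipodeAlgHom k A a, ((map_pow (HopfAlgebra.antipodeAlgHom k A) a p).symm : _)⟩

theorem exists_frob_root {σ : Type*} (P : MvPolynomial σ k) :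
    ∃ Q : MvPolynomial σ k, MvPolynomial.map (frobenius k p) Q = P :=
  MvPolynomial.map_surjective (frobenius k p) (frobeniusEquiv k p).surjective P

omit [PerfectRing k p] in
theorem aeval_pow {σ : Type*} {A : Type u} [CommRing A] [Algebra k A] [CharP A p] (x : σ → A)
    (Q : MvPolynomial σ k) :
    (MvPolynomial.aeval x Q) ^ p = MvPolynomial.aeval (fun i => x i ^ p) (MvPolynomial.map (frobenius k p) Q) := by
  induction Q using MvPolynomial.induction_on with
  | C a => simp [frobenius_def]
  | add a b ha hb => rw [map_add, add_pow_char, ha, hb, map_add, map_add]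
  | mul_X a i ha => rw [map_mul, mul_pow, ha, map_mul, MvPolynomial.aeval_X, MvPolynomial.map_X, map_mul, MvPolynomial.aeval_X]

theorem exists_truncated_aux : ∀ (n : ℕ) (A : Type u) [CommRing A] [HopfAlgebra k A] [Module.Finite k A],
    IsNilpotent (RingHom.ker (Bialgebra.counitAlgHom k A)) → Module.finrank k A = n →
    ∃ (r : ℕ) (e : Fin r → ℕ), (∀ i, 1 ≤ e i) ∧ Nonempty (A ≃ₐ[k] Trunc k fun i => p ^ e i) := by
  intro n
  induction n using Nat.strong_induction_on with
  | _ n IH =>
  intro A _ _ _ hnil hn
  classical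
  haveI : Nontrivial A := RingHom.domain_nontrivial (Bialgebra.counitAlgHom k A).toRingHom
  haveI : CharP A p := charP_of_injective_algebraMap (algebraMap k A).injective p
  let ε := Bialgebra.counitAlgHom k A
  let I := RingHom.ker ε
  let J := frobIdeal (k := k) p A
  let B := frobSub (k := k) p A
  have hB := isHopfSubalgebra_frobSub (k := k) p A
  letI hopfB : HopfAlgebra k B := Groth.L25.HopfSub.hopfAlgebra hB
  haveI : Module.FaithfullyFlat B A := Groth.L25.HopfFlat.faithfullyFlat B hB
  haveI : Module.Finite k B := Module.Finite.of_injective B.val.toLinearMap Subtype.val_injective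
  haveI : Module.Finite B A := Module.Finite.of_restrictScalars_finite k B A
  have hεB : ∀ b : B, Bialgebra.counitAlgHom k B b = ε (b : A) := fun b => rfl
  have hnilB : IsNilpotent (RingHom.ker (Bialgebra.counitAlgHom k B)) := by
    obtain ⟨N, hN⟩ := hnil
    refine ⟨N, eq_bot_iff.2 fun b hb => ?_⟩
    have h1 : (RingHom.ker (Bialgebra.counitAlgHom k B)).map B.val ≤ RingHom.ker ε := by
      rw [Ideal.map_le_iff_le_comap]; exact fun c hc => hc
    have h2 := Ideal.pow_right_mono h1 N (Ideal.map_pow B.val _ N ▸ Ideal.mem_map_of_mem _ hb)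
    rw [hN] at h2
    exact (Submodule.mem_bot B).2 (Subtype.ext ((Submodule.mem_bot A).1 h2))
  haveI : IsLocalRing B := by
    haveI : Nontrivial B := RingHom.domain_nontrivial (Bialgebra.counitAlgHom k B).toRingHom
    refine IsLocalRing.of_nonunits_add fun a b ha hb => ?_
    have key : ∀ c : B, c ∈ nonunits B → Bialgebra.counitAlgHom k B c = 0 := fun c hc => by
      by_contra h
      refine hc ?_
      have h1 : IsNilpotent (c - algebraMap k B (Bialgebra.counitAlgHom k B c)) := by
        obtain ⟨N, hN⟩ := hnilB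
        refine ⟨N, ?_⟩
        have := Ideal.pow_mem_pow (show c - algebraMap k B (Bialgebra.counitAlgHom k B c) ∈
          RingHom.ker (Bialgebra.counitAlgHom k B) by simp) N
        rwa [hN] at this
      have h2 := h1.isUnit_add_left_of_commute (RingHom.isUnit_map (algebraMap k B) (Ne.isUnit h)) (Commute.all _ _)
      rwa [add_sub_cancel] at h2
    intro hu
    have := hu.map (Bialgebra.counitAlgHom k B)
    rw [map_add, key a ha, key b hb, add_zero] at this
    exact not_isUnit_zero this
  haveI : Module.Free B A := Module.free_of_flat_of_isLocalRing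
  -- rank of `A` over `B` is the order of the kernel of Frobenius
  let bA := Module.Free.chooseBasis B A
  let ι' := Module.Free.ChooseBasisIndex B A
  let Ψ : A →ₗ[k] (ι' → k) := LinearMap.pi fun i =>
    (Bialgebra.counitAlgHom k B).toLinearMap ∘ₗ ((bA.coord i).restrictScalars k)
  have hΨ : Function.Surjective Ψ := fun c => ⟨∑ i, algebraMap k B (c i) • bA i, funext fun j => by
    simp [Ψ, Finsupp.single_apply, apply_ite]⟩
  have hker : LinearMap.ker Ψ = J.restrictScalars k := by
    refine le_antisymm (fun a ha => ?_) (fun a ha => ?_)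
    · rw [Submodule.restrictScalars_mem, ← bA.sum_repr a]
      refine sum_mem fun i _ => ?_
      obtain ⟨c, hc⟩ := (mem_frobSub p).1 (bA.repr a i).2
      rw [Subalgebra.smul_def, smul_eq_mul]
      refine Ideal.mul_mem_right _ _ ?_
      rw [← hc]
      refine Ideal.subset_span ⟨c, ?_, rfl⟩
      have h0 : ε (bA.repr a i : A) = 0 := congrFun ha i
      rw [← hc, map_pow] at h0
      exact eq_zero_of_pow_eq_zero h0
    · rw [LinearMap.mem_ker, ← mul_one a]
      refine Submodule.span_induction (p := fun a _ => ∀ z, Ψ (a * z) = 0) ?_ (fun z => by simp)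
        (fun a b _ _ ha hb z => by rw [add_mul, map_add, ha, hb, add_zero])
        (fun c a _ h z => by rw [smul_eq_mul, mul_assoc, mul_left_comm]; exact h _) ha 1
      · rintro _ ⟨c, hc, rfl⟩ z
        funext i
        have : c ^ p * z = (⟨c ^ p, ⟨c, rfl⟩⟩ : B) • z := rfl
        simp only [Ψ, LinearMap.pi_apply, LinearMap.comp_apply, LinearMap.restrictScalars_apply, this,
          Module.Basis.coord_apply, map_smul, Finsupp.smul_apply, smul_eq_mul, AlgHom.toLinearMap_apply, map_mul,
          Pi.zero_apply]
        rw [hεB]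
        simp [ε]
        exact Or.inl ⟨hc, hp.out.ne_zero⟩
  set d := Module.finrank k I.Cotangent with hd
  have hrank : Module.finrank k A = Module.finrank k B * p ^ d := by
    rw [← Module.finrank_mul_finrank k B A]
    congr 1
    rw [← finrank_quotient_frobIdeal (k := k) p (A := A), Module.finrank_eq_card_chooseBasisIndex,
      ← Module.finrank_fintype_fun_eq_card k]
    exact ((Submodule.quotEquivOfEq _ _ hker.symm).trans (Ψ.quotKerEquivOfSurjective hΨ)).finrank_eq.symm
  let π : I →ₗ[k] I.Cotangent := I.toCotangent.restrictScalars k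
  have hπ : Function.Surjective π := Ideal.toCotangent_surjective I
  haveI : Module.Finite k I := Module.Finite.of_injective ((I.subtype).restrictScalars k) Subtype.val_injective
  haveI : Module.Finite k I.Cotangent := Module.Finite.of_surjective π hπ
  by_cases hd0 : d = 0
  · -- trivial group
    have hI : I ≤ I ^ 2 := fun a ha => by
      haveI : Subsingleton I.Cotangent := Module.finrank_zero_iff.1 hd0
      exact (Ideal.toCotangent_eq_zero I ⟨a, ha⟩).1 (Subsingleton.elim _ _)
    have hI0 : ∀ N, I ≤ I ^ (N + 1) := fun N => by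
      induction N with
      | zero => rw [zero_add, pow_one]
      | succ N ih => exact hI.trans (by rw [pow_two, pow_succ]; exact mul_le_mul' ih le_rfl)
    have hbot : ∀ a ∈ I, a = 0 := fun a ha => by
      obtain ⟨N, hN⟩ := hnil
      have := hI0 N ha
      rw [pow_succ, show I ^ N = 0 from hN, zero_mul] at this
      exact (Submodule.mem_bot A).1 this
    let φ : MvPolynomial (Fin 0) k →ₐ[k] A := MvPolynomial.aeval Fin.elim0
    have hker0 : (Ideal.span (Set.range fun i : Fin 0 => (MvPolynomial.X i : MvPolynomial (Fin 0) k) ^ p ^ (Fin.elim0 i : ℕ))) =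
        ⊥ := by simp
    refine ⟨0, Fin.elim0, fun i => i.elim0, ⟨((Ideal.quotientEquivAlgOfEq k hker0).trans
      ((AlgEquiv.quotientBot k _).trans ((MvPolynomial.isEmptyAlgEquiv k (Fin 0)).trans
        (AlgEquiv.ofBijective (Algebra.ofId k A) ⟨(algebraMap k A).injective, fun a => ⟨ε a, ?_⟩⟩)))).symm⟩⟩
    have := hbot (a - algebraMap k A (ε a)) (by simp [I, ε])
    exact (sub_eq_zero.1 this).symm
  have hlt : Module.finrank k B < n := by
    rw [← hn, hrank]
    have hpos : 0 < Module.finrank k B := Module.finrank_pos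
    have : 1 < p ^ d := Nat.one_lt_pow hd0 hp.out.one_lt
    nlinarith
  obtain ⟨r, e, he, ⟨eB⟩⟩ := IH _ hlt B hnilB rfl
  let φB : MvPolynomial (Fin r) k →ₐ[k] B := eB.symm.toAlgHom.comp (Ideal.Quotient.mkₐ k _)
  have hφB : Function.Surjective φB := eB.symm.surjective.comp Ideal.Quotient.mk_surjective
  let y : Fin r → B := fun i => φB (MvPolynomial.X i)
  have hyt : ∀ i, y i ^ p ^ e i = 0 := fun i => by
    rw [← map_pow]
    exact (congrArg eB.symm ((Ideal.Quotient.eq_zero_iff_mem).2 (Ideal.subset_span ⟨i, rfl⟩))).trans (map_zero _)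
  have hyε : ∀ i, ε (y i : A) = 0 := fun i =>
    ((show IsNilpotent (y i) from ⟨_, hyt i⟩).map (Bialgebra.counitAlgHom k B)).eq_zero
  choose x hx using fun i => (mem_frobSub p).1 (y i).2
  have hxI : ∀ i, x i ∈ I := fun i => by
    have := hyε i
    rw [← hx i, map_pow] at this
    exact eq_zero_of_pow_eq_zero this
  have hBφ : ∀ P, (φB P : A) = MvPolynomial.aeval (fun i => x i ^ p) P := by
    intro P
    have h : B.val.comp φB = MvPolynomial.aeval fun i => x i ^ p :=
      MvPolynomial.algHom_ext fun i => by simp [hx, y]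
    exact AlgHom.congr_fun h P
  let xc : Fin r → I.Cotangent := fun i => π ⟨x i, hxI i⟩
  -- the roots are independent in the cotangent space
  have hind : LinearIndependent k xc := by
    rw [Fintype.linearIndependent_iff]
    intro c hc i
    let a : A := ∑ i, c i • x i
    have ha : a ∈ I ^ 2 := by
      have := (Ideal.toCotangent_eq_zero I (∑ i, c i • ⟨x i, hxI i⟩)).1 (by
        change π _ = 0
        rw [map_sum]
        simp only [map_smul]
        exact hc)
      simpa [a, Submodule.coe_sum] using this
    let 𝔪 : Ideal (MvPolynomial (Fin r) k) := Ideal.span (Set.range MvPolynomial.X)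
    have hfrob : (I ^ 2).map (frobenius A p) ≤ (((𝔪 ^ 2).map φB).map B.val) := by
      rw [Ideal.map_pow, Ideal.map_pow φB, Ideal.map_pow B.val]
      refine Ideal.pow_right_mono (Ideal.map_le_iff_le_comap.2 fun z hz => ?_) 2
      obtain ⟨P, hP⟩ := hφB ⟨z ^ p, z, rfl⟩
      have h0 : MvPolynomial.constantCoeff P = 0 := by
        have h1 : (Bialgebra.counitAlgHom k B).comp φB =
            MvPolynomial.aeval (fun _ => (0 : k)) := MvPolynomial.algHom_ext fun i => by
          rw [AlgHom.comp_apply, MvPolynomial.aeval_X]; exact hyε i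
        have := AlgHom.congr_fun h1 P
        rw [AlgHom.comp_apply, hP, hεB, map_pow, show ε z = 0 from hz, zero_pow hp.out.ne_zero,
          MvPolynomial.aeval_zero'] at this
        simpa using this.symm
      rw [Ideal.mem_comap, frobenius_def, show z ^ p = B.val (φB P) by rw [hP]; rfl]
      refine Ideal.mem_map_of_mem _ (Ideal.mem_map_of_mem _ ?_)
      show P ∈ Ideal.span (Set.range MvPolynomial.X)
      rw [← Set.image_univ, MvPolynomial.mem_ideal_span_X_image]
      intro μ hμ
      by_contra hno
      have : μ = 0 := Finsupp.ext fun i => by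
        by_contra hi
        exact hno ⟨i, Set.mem_univ i, hi⟩
      rw [this, MvPolynomial.mem_support_iff] at hμ
      exact hμ h0
    have h2 := hfrob (Ideal.mem_map_of_mem _ ha)
    let L : MvPolynomial (Fin r) k := ∑ i, MvPolynomial.C (c i ^ p) * MvPolynomial.X i
    have hL : frobenius A p a = B.val (φB L) := by
      have : (B.val (φB L) : A) = ∑ i, algebraMap k A (c i ^ p) * x i ^ p := by
        simp [L, hx, y]
      rw [this, frobenius_def, sum_pow_char]
      exact Finset.sum_congr rfl fun i _ => by rw [Algebra.smul_def, mul_pow, map_pow]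
    -- pull back to the polynomial ring
    rw [hL] at h2
    obtain ⟨w, hw, hwL⟩ : ∃ w ∈ 𝔪 ^ 2, φB w = φB L := by
      let g : B →+* A := B.val
      have hg : Function.Injective g := Subtype.val_injective
      haveI : Module.FaithfullyFlat B A := inferInstance
      have h3 : φB L ∈ (((𝔪 ^ 2).map φB).map (algebraMap B A)).comap (algebraMap B A) := by
        rw [Ideal.mem_comap]; exact h2
      rw [Ideal.comap_map_eq_self_of_faithfullyFlat] at h3
      obtain ⟨w, hw, h⟩ := (Ideal.mem_map_iff_of_surjective _ hφB).1 h3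
      exact ⟨w, hw, h⟩
    have hmem : L - w ∈ Ideal.span (Set.range fun i : Fin r =>
        (MvPolynomial.X i : MvPolynomial (Fin r) k) ^ p ^ e i) := by
      rw [← Ideal.Quotient.eq]
      exact eB.symm.injective hwL.symm
    have hsq : L ∈ 𝔪 ^ 2 := by
      have hle : Ideal.span (Set.range fun i : Fin r => (MvPolynomial.X i : MvPolynomial (Fin r) k) ^ p ^ e i) ≤ 𝔪 ^ 2 :=
        Ideal.span_le.2 (by
          rintro _ ⟨i, rfl⟩
          refine Ideal.pow_le_pow_right ?_ (Ideal.pow_mem_pow (show MvPolynomial.X i ∈ 𝔪 from Ideal.subset_span ⟨i, rfl⟩) _)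
          calc 2 ≤ p := hp.out.two_le
            _ = p ^ 1 := (pow_one p).symm
            _ ≤ p ^ e i := Nat.pow_le_pow_right hp.out.pos (he i))
      simpa using add_mem (hle hmem) hw
    have hcoeff := (MvPolynomial.mem_pow_idealOfVars_iff 2 L).1 hsq
    by_contra hci
    have h1 : L.coeff (Finsupp.single i 1) = c i ^ p := by
      simp only [L, MvPolynomial.coeff_sum, MvPolynomial.coeff_C_mul]
      rw [Finset.sum_eq_single i]
      · simp
      · intro j _ hji
        rw [MvPolynomial.coeff_X', if_neg (by simp [Finsupp.single_eq_single_iff, hji]), mul_zero]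
      · intro h
        exact absurd (Finset.mem_univ i) h
    have h3 := hcoeff (Finsupp.single i 1) (by
      rw [MvPolynomial.mem_support_iff, h1]
      exact pow_ne_zero p hci)
    simp at h3
  -- extend to a basis of the cotangent space
  have hli : LinearIndepOn k id (Set.range xc) := hind.linearIndepOn_id
  let bC := Module.Basis.extend hli
  haveI : Fintype (hli.extend (Set.subset_univ _)) :=
    FiniteDimensional.fintypeBasisIndex bC
  let rest := ((hli.extend (Set.subset_univ _)).toFinset.filter fun c => c ∉ Set.range xc)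
  let m := rest.card
  let zc : Fin m → I.Cotangent := fun j => (rest.equivFin.symm j).1
  have hdeq : r + m = d := by
    rw [hd, Module.finrank_eq_card_basis bC, ← Set.toFinset_card,
      ← Finset.card_filter_add_card_filter_not (fun c => c ∈ Set.range xc)]
    congr 1
    have : ((hli.extend (Set.subset_univ _)).toFinset.filter fun c => c ∈ Set.range xc) = Finset.univ.image xc := by
      ext c
      simp only [Finset.mem_filter, Set.mem_toFinset, Finset.mem_image, Finset.mem_univ, true_and, Set.mem_range]
      exact ⟨fun h => h.2, fun h => ⟨hli.subset_extend _ h, h⟩⟩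
    rw [this, Finset.card_image_of_injective _ hind.injective, Finset.card_univ, Fintype.card_fin]
  choose z hz using fun j => hπ (zc j)
  choose P hP using fun j => hφB ⟨(z j : A) ^ p, _, rfl⟩
  choose Q hQ using fun j => exists_frob_root (k := k) p (P j)
  let z' : Fin m → A := fun j => (z j : A) - MvPolynomial.aeval x (Q j)
  have hz'p : ∀ j, z' j ^ p = 0 := fun j => by
    rw [sub_pow_char, aeval_pow, hQ, ← hBφ, hP, sub_self]
  let g : Fin (r + m) → A := Fin.append x z'
  let e' : Fin (r + m) → ℕ := Fin.append (fun i => e i + 1) (fun _ => 1)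
  have hgen : Algebra.adjoin k (Set.range g) = ⊤ := by
    set S := Algebra.adjoin k (Set.range g)
    have hxS : ∀ i, x i ∈ S := fun i => Algebra.subset_adjoin ⟨Fin.castAdd m i, Fin.append_left _ _ _⟩
    have hzS : ∀ j, (z j : A) ∈ S := fun j => by
      have h1 : z' j ∈ S := Algebra.subset_adjoin ⟨Fin.natAdd r j, Fin.append_right _ _ _⟩
      have h2 : MvPolynomial.aeval x (Q j) ∈ S := by
        have : Algebra.adjoin k (Set.range x) ≤ S := Algebra.adjoin_le (by rintro _ ⟨i, rfl⟩; exact hxS i)
        exact this (by rw [Algebra.adjoin_range_eq_range_aeval]; exact ⟨Q j, rfl⟩)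
      simpa [z'] using add_mem h1 h2
    let g0 : Fin r ⊕ Fin m → A := Sum.elim x fun j => (z j : A)
    have h0 : Algebra.adjoin k (Set.range g0) = ⊤ := by
      refine HeightOneRank.adjoin_eq_top ε hnil g0 ?_ fun a ha => ?_
      · rintro (i | j)
        · exact hxI i
        · exact (z j).2
      · let W : Submodule k I := Submodule.span k (Set.range (Sum.elim (fun i => ⟨x i, hxI i⟩) z : Fin r ⊕ Fin m → I))
        have hW : W.map π = ⊤ := by
          rw [Submodule.map_span, ← Set.range_comp, eq_top_iff, ← bC.span_eq, Submodule.span_le]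
          rintro _ ⟨⟨c, hc⟩, rfl⟩
          rw [Module.Basis.extend_apply_self]
          by_cases hcx : c ∈ Set.range xc
          · obtain ⟨i, rfl⟩ := hcx
            exact Submodule.subset_span ⟨Sum.inl i, rfl⟩
          · have hcr : c ∈ rest := by simp only [rest, Finset.mem_filter, Set.mem_toFinset]; exact ⟨hc, hcx⟩
            refine Submodule.subset_span ⟨Sum.inr (rest.equivFin ⟨c, hcr⟩), ?_⟩
            change π (z _) = c
            rw [hz]
            simp [zc]
        obtain ⟨s, hs, hsa⟩ : π ⟨a, ha⟩ ∈ W.map π := hW ▸ Submodule.mem_top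
        refine ⟨s, ?_, ?_⟩
        · have := Submodule.mem_map_of_mem (f := (I.subtype).restrictScalars k) hs
          rw [Submodule.map_span, ← Set.range_comp] at this
          convert this using 3
          · funext o; cases o <;> rfl
          · rfl
        · have := (Ideal.toCotangent_eq I).1 hsa.symm
          simpa using this
    rw [eq_top_iff, ← h0]
    exact Algebra.adjoin_le (by
      rintro _ ⟨i | j, rfl⟩
      · exact hxS i
      · exact hzS j)
  let Φ : MvPolynomial (Fin (r + m)) k →ₐ[k] A := MvPolynomial.aeval g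
  have hΦ : ∀ a ∈ Ideal.span (Set.range fun i => (MvPolynomial.X i : MvPolynomial (Fin (r + m)) k) ^ p ^ e' i), Φ a = 0 := by
    intro a ha
    refine (Ideal.span_le (I := RingHom.ker Φ)).2 ?_ ha
    rintro _ ⟨i, rfl⟩
    show Φ (MvPolynomial.X i ^ _) = 0
    induction i using Fin.addCases with
    | left i =>
      simp only [Φ, g, e', map_pow, MvPolynomial.aeval_X, Fin.append_left]
      rw [pow_succ', pow_mul, hx i]
      exact congrArg Subtype.val (hyt i)
    | right j =>
      simp only [Φ, g, e', map_pow, MvPolynomial.aeval_X, Fin.append_right, pow_one]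
      exact hz'p j
  let Φ' := Ideal.Quotient.liftₐ _ Φ hΦ
  have hsurj : Function.Surjective Φ' := fun a => by
    have : a ∈ Φ.range := by rw [← Algebra.adjoin_range_eq_range_aeval, hgen]; trivial
    obtain ⟨q, hq⟩ := this
    exact ⟨Ideal.Quotient.mk _ q, hq⟩
  haveI := finite_trunc (k := k) (fun i => p ^ e' i) fun i => pow_pos hp.out.pos _
  have hdim : Module.finrank k (Trunc k fun i => p ^ e' i) = Module.finrank k A := by
    rw [hrank, eB.toLinearEquiv.finrank_eq, Groth.Agent.S16077.finrank_trunc, Groth.Agent.S16077.finrank_trunc,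
      Fin.prod_univ_add, ← hdeq]
    simp only [e', Fin.append_left, Fin.append_right, pow_one, pow_succ, Finset.prod_mul_distrib,
      Finset.prod_const, Finset.card_univ, Fintype.card_fin, pow_add]
    ring
  refine ⟨r + m, e', fun i => ?_, ⟨(AlgEquiv.ofBijective Φ' ⟨?_, hsurj⟩).symm⟩⟩
  · induction i using Fin.addCases with
    | left i => simp [e']
    | right j => simp [e']
  · exact (LinearMap.injective_iff_surjective_of_finrank_eq_finrank (f := Φ'.toLinearMap) hdim).2 hsurj

/-- A finite Hopf algebra with nilpotent augmentation ideal over a perfect field is a truncated polynomial algebra. -/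
theorem exists_truncated (A : Type u) [CommRing A] [HopfAlgebra k A] [Module.Finite k A]
    (hnil : IsNilpotent (RingHom.ker (Bialgebra.counitAlgHom k A))) :
    ∃ (r : ℕ) (e : Fin r → ℕ), (∀ i, 1 ≤ e i) ∧ Nonempty (A ≃ₐ[k] Trunc k fun i => p ^ e i) :=
  exists_truncated_aux p _ A hnil rfl

end Groth.L08.TruncatedHopf
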