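import Groth.Agent.L25.Component
import Groth.Agent.L25.SmoothUnit
import Groth.Agent.L22.FibreDim
import Groth.Agent.L22.Cyc.FieldExt
import Groth.Agent.L21.Smooth.Scheme
import Mathlib.AlgebraicGeometry.AlgClosed.Basic

/-!
# Group schemes locally of finite type over a field are equidimensional
-/

set_option autoImplicit false
set_option backward.isDefEq.respectTransparency.types false

universe u

open CategoryTheory CategoryTheory.Limits AlgebraicGeometry MonoidalCategory MonObj CartesianMonoidalCategory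

namespace Groth.L08.GrpDim

open Groth.L25 Groth.L22 Groth.L22.FibreDim

theorem closure_mem_irreducibleComponents {X : Scheme.{u}} {z : X} (h : ∀ w, w ⤳ z → w = z) :
    closure ({z} : Set X) ∈ irreducibleComponents X := by
  refine ⟨isIrreducible_singleton.closure, fun W hW hle => ?_⟩
  obtain ⟨w, hw⟩ := QuasiSober.sober hW.closure isClosed_closure
  have hwη : w = z := h w (specializes_iff_mem_closure.2 (hw.symm ▸ subset_closure (hle (subset_closure rfl))))
  intro y hy
  rw [← hwη, hw]
  exact subset_closure hy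

theorem dim_closure_eq_of_isAlgClosed {K : Type u} [Field K] [IsAlgClosed K]
    (G : Over (Spec (CommRingCat.of K))) [GrpObj G] [LocallyOfFiniteType G.hom] {a b : G.left}
    (ha : ∀ w, w ⤳ a → w = a) (hb : ∀ w, w ⤳ b → w = b) :
    topologicalKrullDim (closure ({a} : Set G.left)) = topologicalKrullDim (closure ({b} : Set G.left)) := by
  haveI := LocallyOfFiniteType.jacobsonSpace G.hom
  obtain ⟨C₀, hC₀, he⟩ := exists_mem_irreducibleComponents_subset_of_isIrreducible
    ({Component.one G} : Set G.left) isIrreducible_singleton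
  suffices key : ∀ {c : G.left}, (∀ w, w ⤳ c → w = c) →
      topologicalKrullDim (closure ({c} : Set G.left)) = topologicalKrullDim C₀ from (key ha).trans (key hb).symm
  intro c hc
  obtain ⟨p, hpC, hp⟩ := nonempty_inter_closedPoints (Set.singleton_nonempty c).closure
    (isClosed_closure (s := ({c} : Set G.left))).isLocallyClosed
  let q : 𝟙_ (Over (Spec (CommRingCat.of K))) ⟶ G :=
    Over.homMk _ ((pointEquivClosedPoint G.hom).symm ⟨p, hp⟩).2
  have hq : q.left (IsLocalRing.closedPoint K) = p :=
    congrArg Subtype.val ((pointEquivClosedPoint G.hom).apply_symm_apply ⟨p, hp⟩)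
  have e : η[G] ≫ (GrpObj.mulRight q).hom = q := by
    simp only [GrpObj.mulRight_hom, comp_lift_assoc, Category.comp_id]
    rw [← Category.assoc η[G] (toUnit G) q, toUnit_unique (η[G] ≫ toUnit G) (𝟙 _), Category.id_comp]
    rw [← Category.id_comp η[G]]
    exact lift_comp_one_left _ q
  let φ := (Over.forget _).mapIso (GrpObj.mulRight q)
  let h : G.left ≃ₜ G.left := φ.hom.homeomorph
  have hh : h (Component.one G) = p := (congr(($e).left (IsLocalRing.closedPoint K))).trans hq
  have hcomp := closure_mem_irreducibleComponents hc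
  have himg : h '' C₀ = closure ({c} : Set G.left) := by
    refine Component.uniqueComp G p _ ?_ _ hcomp ⟨_, he rfl, hh⟩ hpC
    refine ⟨hC₀.1.image _ h.continuous.continuousOn, fun W hW hle => ?_⟩
    have h1 : h ⁻¹' W ≤ C₀ := by
      refine hC₀.2 ?_ (fun y hy => hle ⟨y, hy, rfl⟩)
      rw [← h.image_symm]; exact hW.image _ h.symm.continuous.continuousOn
    intro y hy
    exact ⟨h.symm y, h1 (by simpa using hy), h.apply_symm_apply y⟩
  rw [← himg]
  exact ((h.image C₀).isHomeomorph.topologicalKrullDim_eq).symm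

variable {k : Type u} [Field k] (G : Over (Spec (CommRingCat.of k))) [GrpObj G] [LocallyOfFiniteType G.hom]

/-- All components have the same dimension. -/
theorem exists_dim : ∃ n : ℕ,
    (∀ ξ : G.left, (∀ w, w ⤳ ξ → w = ξ) → topologicalKrullDim (closure ({ξ} : Set G.left)) = (n : WithBot ℕ∞)) ∧
      topologicalKrullDim G.left = (n : WithBot ℕ∞) := by
  letI : G.left.Over (Spec (CommRingCat.of k)) := ⟨G.hom⟩
  haveI : LocallyOfFiniteType (G.left ↘ Spec (CommRingCat.of k)) := ‹LocallyOfFiniteType G.hom›
  let L := AlgebraicClosure k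
  let ψ : CommRingCat.of k ⟶ CommRingCat.of L := CommRingCat.ofHom (algebraMap k L)
  let t := Spec.map ψ
  let G' := Red.bc t G
  let π : G'.left ⟶ G.left := pullback.fst G.hom t
  haveI : LocallyOfFiniteType G'.hom := inferInstanceAs (LocallyOfFiniteType (pullback.snd G.hom t))
  haveI : Surjective t := ⟨fun x => ⟨IsLocalRing.closedPoint L, Subsingleton.elim (α := PrimeSpectrum k) _ _⟩⟩
  haveI : Surjective π := MorphismProperty.pullback_fst G.hom t ‹Surjective t›
  have hflat : Flat π := MorphismProperty.pullback_fst G.hom t (inferInstance : Flat t)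
  obtain ⟨b, hb1, hb⟩ := exists_maximal_specializes (Component.one G')
  have hlift : ∀ ξ : G.left, (∀ w, w ⤳ ξ → w = ξ) →
      ∃ n : ℕ, topologicalKrullDim (closure ({ξ} : Set G.left)) = (n : WithBot ℕ∞) ∧
        topologicalKrullDim (closure ({b} : Set G'.left)) = (n : WithBot ℕ∞) := by
    intro ξ hξ
    obtain ⟨x, hx⟩ := π.surjective ξ
    obtain ⟨ξ', hξ'x, hξ'⟩ := exists_maximal_specializes x
    have hπ : π ξ' = ξ := hξ _ (hx ▸ hξ'x.map π.continuous)
    obtain ⟨n, hn, -⟩ := SchemeDim.exists_dim_closure_eq_trdeg k G.left ξ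
    refine ⟨n, hn, ?_⟩
    rw [dim_closure_eq_of_isAlgClosed G' hb hξ']
    refine Cyc.dim_closure_baseChange k L G.hom ψ G'.hom π (IsPullback.of_hasPullback G.hom t) hξ' ?_
    rw [hπ]
    exact hn
  obtain ⟨z₀, -, hz₀⟩ := exists_maximal_specializes (Component.one G)
  obtain ⟨n, hn, hn'⟩ := hlift z₀ hz₀
  have hall : ∀ ξ : G.left, (∀ w, w ⤳ ξ → w = ξ) →
      topologicalKrullDim (closure ({ξ} : Set G.left)) = (n : WithBot ℕ∞) := by
    intro ξ hξ
    obtain ⟨m, hm, hm'⟩ := hlift ξ hξ
    rw [hm, ← hm', hn']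
  refine ⟨n, hall, le_antisymm ?_ (hn ▸ topologicalKrullDim_subspace_le G.left _)⟩
  rw [topologicalKrullDim_eq_iSup_closure]
  refine iSup_le fun x => ?_
  obtain ⟨ξ, hξx, hξ⟩ := exists_maximal_specializes x
  rw [← hall ξ hξ]
  exact SchemeDim.topologicalKrullDim_mono
    (closure_minimal (Set.singleton_subset_iff.2 hξx.mem_closure) isClosed_closure)

/-- The local ring at a closed point has the dimension of the group. -/
theorem ringKrullDim_stalk (g : G.left) (hg : IsClosed ({g} : Set G.left)) :
    ringKrullDim (G.left.presheaf.stalk g) = topologicalKrullDim G.left := by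
  letI : G.left.Over (Spec (CommRingCat.of k)) := ⟨G.hom⟩
  haveI : LocallyOfFiniteType (G.left ↘ Spec (CommRingCat.of k)) := ‹LocallyOfFiniteType G.hom›
  obtain ⟨n, hall, hn⟩ := exists_dim G
  obtain ⟨a, c, ha, hc, hloc⟩ := SchemeDim.exists_localDim k G.left g
  obtain ⟨a', ha', hatr⟩ := SchemeDim.exists_dim_closure_eq_trdeg k G.left g
  have ha0 : a = 0 := by
    have h1 : a = a' := by exact_mod_cast ha.symm.trans hatr
    rw [hg.closure_eq] at ha'
    haveI : Unique ({g} : Set G.left) := Set.uniqueSingleton g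
    have h2 : (a' : WithBot ℕ∞) ≤ 0 := ha' ▸ topologicalKrullDim_zero_of_discreteTopology _
    rw [h1]
    exact Nat.le_zero.1 (by exact_mod_cast h2)
  have hl : FlatMor.localDim G.left g = topologicalKrullDim G.left := by
    refine le_antisymm ?_ (le_iInf fun U => ?_)
    · exact (iInf_le _ ⟨⊤, trivial⟩).trans (topologicalKrullDim_subspace_le _ _)
    · obtain ⟨ξ, hξg, hξ⟩ := exists_maximal_specializes g
      obtain ⟨_, ⟨W, hW, rfl⟩, hgW, hWU⟩ := G.left.isBasis_affineOpens.exists_subset_of_mem_open U.2 U.1.2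
      have hξW : ξ ∈ W := hξg.mem_open W.2 hgW
      obtain ⟨m, hm, htr⟩ := SchemeDim.exists_dim_quotient_eq_trdeg k G.left hW hξW
      obtain ⟨m', hm', htr'⟩ := SchemeDim.exists_dim_closure_eq_trdeg k G.left ξ
      have h1 : m = m' := by exact_mod_cast htr.symm.trans htr'
      have h2 : (m' : WithBot ℕ∞) = n := hm'.symm.trans (hall ξ hξ)
      rw [hn, ← h2, ← h1, ← hm, ← SchemeDim.topologicalKrullDim_closure_inter hW hξW]
      exact SchemeDim.topologicalKrullDim_mono (Set.inter_subset_right.trans hWU)
  rw [hc, ← hl, hloc, ha0, zero_add]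

end Groth.L08.GrpDim

namespace Groth.L08.GrpDim

open Groth.L25

variable {k : Type u} [Field k] (G : Over (Spec (CommRingCat.of k))) [GrpObj G] [LocallyOfFiniteType G.hom]

theorem isClosed_one : IsClosed ({Component.one G} : Set G.left) := by
  have h : η[G].left ≫ G.hom = 𝟙 _ := GrpBasics.unit_comp_hom G
  haveI : Subsingleton ↥(𝟙_ (Over (Spec (CommRingCat.of k)))).left := inferInstanceAs (Subsingleton (PrimeSpectrum k))
  have := isClosedImmersion_of_comp_eq_id _ _ h
  have h2 := η[G].left.isClosedEmbedding.isClosed_range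
  rwa [show Set.range η[G].left = {Component.one G} from
    Set.eq_singleton_iff_unique_mem.2 ⟨⟨_, rfl⟩, by
      rintro _ ⟨x, rfl⟩
      exact congrArg _ (Subsingleton.elim (α := PrimeSpectrum k) _ _)⟩] at h2

/-- dimension bound and smoothness criteria at the unit -/
theorem dim_le_and_smooth_iff :
    (topologicalKrullDim G.left ≤ ((Module.finrank (IsLocalRing.ResidueField (G.left.presheaf.stalk (Component.one G)))
        (IsLocalRing.CotangentSpace (G.left.presheaf.stalk (Component.one G))) : ℕ∞) : WithBot ℕ∞)) ∧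
    (Smooth G.hom ↔ topologicalKrullDim G.left = ((Module.finrank (IsLocalRing.ResidueField (G.left.presheaf.stalk (Component.one G)))
        (IsLocalRing.CotangentSpace (G.left.presheaf.stalk (Component.one G))) : ℕ∞) : WithBot ℕ∞)) ∧
    (Smooth G.hom ↔ ∃ U : G.left.Opens, Component.one G ∈ U ∧ Smooth (U.ι ≫ G.hom)) := by
  haveI : IsLocallyNoetherian G.left := LocallyOfFiniteType.isLocallyNoetherian G.hom
  rw [← ringKrullDim_stalk G _ (isClosed_one G)]
  have hfr : (IsLocalRing.maximalIdeal (G.left.presheaf.stalk (Component.one G))).spanFinrank =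
      Module.finrank (IsLocalRing.ResidueField (G.left.presheaf.stalk (Component.one G)))
        (IsLocalRing.CotangentSpace (G.left.presheaf.stalk (Component.one G))) :=
    IsLocalRing.spanFinrank_maximalIdeal_eq_finrank_cotangentSpace _
  rw [← hfr]
  refine ⟨?_, ⟨fun hs => ?_, fun h => ?_⟩, ⟨fun hs => ⟨⊤, trivial, ?_⟩, fun ⟨U, hU, hs⟩ => ?_⟩⟩
  · exact ringKrullDim_le_spanFinrank_maximalIdeal _
  · haveI := Groth.L21.Smooth.regular_stalk G.hom (Component.one G)
    exact (IsRegularLocalRing.spanFinrank_maximalIdeal).symm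
  · haveI : IsRegularLocalRing (G.left.presheaf.stalk (Component.one G)) :=
      (isRegularLocalRing_iff _).2 h.symm
    exact SmoothUnit.smooth_of_regular G
  · exact inferInstanceAs (Smooth ((⊤ : G.left.Opens).ι ≫ G.hom))
  · haveI := Groth.L21.Smooth.regular_stalk (U.ι ≫ G.hom) (⟨Component.one G, hU⟩ : U)
    haveI : IsRegularLocalRing (G.left.presheaf.stalk (Component.one G)) :=
      IsRegularLocalRing.of_ringEquiv (U.stalkIso ⟨Component.one G, hU⟩).commRingCatIsoToRingEquiv
    exact SmoothUnit.smooth_of_regular G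

end Groth.L08.GrpDim
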