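import Groth.Agent.L25.Translate
import Groth.Agent.L25.Component
import Groth.Agent.L15.KerFlat.Basic
import Groth.Agent.L23.AffineMor
import Groth.Agent.L20.ThickeningFibre
import Groth.Agent.L20.FibreScheme
import Groth.Agent.L21.Smooth.Scheme
import Groth.Agent.L23.SchemeFacts
import Groth.Prelude.Def_Red
import Mathlib.AlgebraicGeometry.Geometrically.Connected

/-!
# Isogenies of smooth group schemes with connected fibres
-/

set_option autoImplicit false
set_option backward.isDefEq.respectTransparency.types false

universe u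

open CategoryTheory CategoryTheory.Limits AlgebraicGeometry MonoidalCategory MonObj CartesianMonoidalCategory
open scoped CategoryTheory.Obj

noncomputable section

namespace Groth.L08.IsogenyFibres

theorem finite_surjective_of_flat_quasiFinite {k : Type u} [Field k] (G H : Over (Spec (CommRingCat.of k)))
    [GrpObj G] [GrpObj H] [QuasiCompact G.hom] [LocallyOfFiniteType G.hom]
    [LocallyOfFiniteType H.hom] [IsSeparated H.hom] [ConnectedSpace H.left]
    (φ : G ⟶ H) [IsMonHom φ] [Flat φ.left] [LocallyQuasiFinite φ.left] :
    IsFinite φ.left ∧ Surjective φ.left := by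
  haveI : IsLocallyNoetherian H.left := LocallyOfFiniteType.isLocallyNoetherian H.hom
  haveI : QuasiCompact (φ.left ≫ H.hom) := (Over.w φ).symm ▸ ‹QuasiCompact G.hom›
  haveI : LocallyOfFiniteType (φ.left ≫ H.hom) := (Over.w φ).symm ▸ ‹LocallyOfFiniteType G.hom›
  haveI : QuasiCompact φ.left := QuasiCompact.of_comp φ.left H.hom
  haveI : LocallyOfFiniteType φ.left := locallyOfFiniteType_of_comp φ.left H.hom
  haveI : LocallyOfFinitePresentation (φ.left ≫ H.hom) := Groth.L23.lfp_of_lft_locallyNoetherian _
  haveI : LocallyOfFinitePresentation φ.left :=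
    Groth.L20.locallyOfFinitePresentation_of_comp φ.left H.hom
  haveI : IrreducibleSpace H.left := Groth.L25.Component.irreducibleSpace H
  haveI : Surjective φ.left := by
    refine Groth.L25.Translate.surjective_of_denseRange φ ?_
    exact φ.left.isOpenMap.isOpen_range.dense ⟨_, ⟨η[G].left (IsLocalRing.closedPoint k), rfl⟩⟩
  refine ⟨?_, inferInstance⟩
  let N := pullback φ η[H]
  let i : N ⟶ G := pullback.fst φ η[H]
  have hN : IsPullback i (toUnit N) φ η[H] := by
    rw [toUnit_unique (toUnit N) (pullback.snd φ η[H])]
    exact IsPullback.of_hasPullback _ _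
  have hNl := hN.map (Over.forget _)
  haveI : LocallyQuasiFinite N.hom := by
    rw [← Over.w (toUnit N)]
    haveI : IsIso (𝟙_ (Over (Spec (CommRingCat.of k)))).hom := inferInstanceAs (IsIso (𝟙 _))
    exact (MorphismProperty.cancel_right_of_respectsIso @LocallyQuasiFinite _ (𝟙_ (Over (Spec (CommRingCat.of k)))).hom).2
      (MorphismProperty.of_isPullback hNl ‹LocallyQuasiFinite φ.left›)
  haveI : QuasiCompact N.hom := by
    rw [← Over.w (toUnit N)]
    haveI : IsIso (𝟙_ (Over (Spec (CommRingCat.of k)))).hom := inferInstanceAs (IsIso (𝟙 _))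
    exact (MorphismProperty.cancel_right_of_respectsIso @QuasiCompact _ (𝟙_ (Over (Spec (CommRingCat.of k)))).hom).2
      (MorphismProperty.of_isPullback hNl ‹QuasiCompact φ.left›)
  haveI : IsFinite N.hom := .of_locallyQuasiFinite N.hom
  have h2 := (Groth.L15.KerFlat.isPullback_kernelPair hN).map (Over.forget _)
  have h3 : IsFinite (fst G N).left := MorphismProperty.pullback_fst G.hom N.hom ‹_›
  exact MorphismProperty.of_isPullback_of_descendsAlong (P := @IsFinite)
    (Q := @Surjective ⊓ @Flat ⊓ @QuasiCompact) h2
    ⟨⟨‹Surjective φ.left›, ‹Flat φ.left›⟩, ‹QuasiCompact φ.left›⟩ h3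

theorem flat_of_finite_surjective {k : Type u} [Field k] (G H : Over (Spec (CommRingCat.of k)))
    [GrpObj G] [GrpObj H] [Smooth H.hom] (φ : G ⟶ H) [IsMonHom φ] [IsFinite φ.left] [Surjective φ.left] :
    Flat φ.left := by
  haveI : ∀ x : H.left, _root_.IsReduced (H.left.presheaf.stalk x) := fun x =>
    haveI := Groth.L21.Smooth.isDomain_stalk H.hom x
    inferInstance
  haveI : IsReduced H.left := isReduced_of_isReduced_stalk H.left
  exact Groth.L25.Translate.flat_of_denseRange φ φ.left.surjective.denseRange

variable {S : Scheme.{u}} (G H : Over S)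

theorem isPullback_fibre (f : G ⟶ H) (s : S) :
    IsPullback (pullback.fst G.hom (S.fromSpecResidueField s))
      ((Over.pullback (S.fromSpecResidueField s)).map f).left f.left (H.hom.fiberι s) := by
  refine IsPullback.of_bot (v₂₁ := pullback.snd H.hom (S.fromSpecResidueField s)) (v₂₂ := H.hom)
    (h₃₁ := S.fromSpecResidueField s) ?_ ?_ (IsPullback.of_hasPullback H.hom (S.fromSpecResidueField s))
  · rw [Over.w f]
    erw [Over.w ((Over.pullback (S.fromSpecResidueField s)).map f)]
    exact IsPullback.of_hasPullback G.hom (S.fromSpecResidueField s)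
  · exact (pullback.lift_fst _ _ _).symm

theorem iff_fibres [GrpObj G] [GrpObj H]
    [Smooth G.hom] [IsSeparated G.hom] [QuasiCompact G.hom]
    [Smooth H.hom] [IsSeparated H.hom] [QuasiCompact H.hom] [GeometricallyConnected H.hom]
    (f : G ⟶ H) [IsMonHom f] :
    (Flat f.left ∧ LocallyQuasiFinite f.left ∧ LocallyOfFinitePresentation f.left) ↔
      ∀ s : S, IsFinite (pullback.snd f.left (H.hom.fiberι s)) ∧ Surjective (pullback.snd f.left (H.hom.fiberι s)) := by
  have hw : f.left ≫ H.hom = G.hom := Over.w f
  haveI : LocallyOfFinitePresentation (f.left ≫ H.hom) := hw ▸ inferInstance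
  haveI : LocallyOfFinitePresentation f.left := Groth.L20.locallyOfFinitePresentation_of_comp f.left H.hom
  haveI : QuasiCompact (f.left ≫ H.hom) := hw ▸ inferInstance
  haveI : QuasiCompact f.left := QuasiCompact.of_comp f.left H.hom
  have hiso : ∀ (P : MorphismProperty Scheme.{u}) [P.RespectsIso] (s : S),
      P ((Over.pullback (S.fromSpecResidueField s)).map f).left ↔ P (pullback.snd f.left (H.hom.fiberι s)) := by
    intro P _ s
    rw [← (isPullback_fibre G H f s).isoPullback_hom_snd]
    exact P.cancel_left_of_respectsIso _ _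
  have hsmooth : ∀ (X : Over S) [Smooth X.hom] (s : S), Smooth (Red.bc (S.fromSpecResidueField s) X).hom :=
    fun X _ s => MorphismProperty.pullback_snd X.hom (S.fromSpecResidueField s) ‹_›
  constructor
  · rintro ⟨hflat, hqf, -⟩ s
    let G' : Over (Spec (CommRingCat.of (S.residueField s))) := Red.bc (S.fromSpecResidueField s) G
    let H' : Over (Spec (CommRingCat.of (S.residueField s))) := Red.bc (S.fromSpecResidueField s) H
    letI : GrpObj G' := inferInstanceAs (GrpObj (Red.bc (S.fromSpecResidueField s) G))
    letI : GrpObj H' := inferInstanceAs (GrpObj (Red.bc (S.fromSpecResidueField s) H))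
    haveI : ConnectedSpace H'.left := inferInstanceAs (ConnectedSpace (H.hom.fiber s))
    haveI : IsSeparated H'.hom := MorphismProperty.pullback_snd H.hom (S.fromSpecResidueField s) ‹_›
    haveI : QuasiCompact G'.hom := MorphismProperty.pullback_snd G.hom (S.fromSpecResidueField s) ‹_›
    haveI : Smooth G'.hom := hsmooth G s
    haveI : Smooth H'.hom := hsmooth H s
    let φ : G' ⟶ H' := (Over.pullback (S.fromSpecResidueField s)).map f
    haveI : IsMonHom φ := Functor.map.instIsMonHom (F := Over.pullback (S.fromSpecResidueField s)) (f := f)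
    haveI : Flat φ.left := MorphismProperty.of_isPullback (isPullback_fibre G H f s) hflat
    haveI : LocallyQuasiFinite φ.left := MorphismProperty.of_isPullback (isPullback_fibre G H f s) hqf
    obtain ⟨h1, h2⟩ := finite_surjective_of_flat_quasiFinite G' H' φ
    exact ⟨(hiso @IsFinite s).1 h1, (hiso @Surjective s).1 h2⟩
  · intro h
    have hfl : ∀ s, Flat (pullback.snd f.left (H.hom.fiberι s)) := by
      intro s
      let G' : Over (Spec (CommRingCat.of (S.residueField s))) := Red.bc (S.fromSpecResidueField s) G
      let H' : Over (Spec (CommRingCat.of (S.residueField s))) := Red.bc (S.fromSpecResidueField s) H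
      letI : GrpObj G' := inferInstanceAs (GrpObj (Red.bc (S.fromSpecResidueField s) G))
      letI : GrpObj H' := inferInstanceAs (GrpObj (Red.bc (S.fromSpecResidueField s) H))
      haveI : Smooth H'.hom := hsmooth H s
      let φ : G' ⟶ H' := (Over.pullback (S.fromSpecResidueField s)).map f
      haveI : IsMonHom φ := Functor.map.instIsMonHom (F := Over.pullback (S.fromSpecResidueField s)) (f := f)
      haveI : IsFinite φ.left := (hiso @IsFinite s).2 (h s).1
      haveI : Surjective φ.left := (hiso @Surjective s).2 (h s).2
      exact (hiso @Flat s).1 (flat_of_finite_surjective G' H' φ)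
    refine ⟨?_, ?_, inferInstance⟩
    · refine Flat.of_stalkMap f.left fun x => Groth.L20.flat_stalkMap_of_fiberMap f.left H.hom x
        (by rw [hw]; exact Flat.stalkMap _ x) ?_
      haveI : Flat (MoreMor.fiberMap f.left H.hom (H.hom (f.left x))) := by
        rw [← (Groth.L20.Thick.isPullback_fiberMap f.left H.hom _).isoPullback_hom_snd,
          MorphismProperty.cancel_left_of_respectsIso @Flat]
        exact hfl _
      exact Flat.stalkMap _ _
    · refine locallyQuasiFinite_iff_finite_preimage_singleton.2 fun y => ?_
      let s := H.hom y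
      obtain ⟨z, hz⟩ : y ∈ Set.range (H.hom.fiberι s) := (H.hom.range_fiberι s).symm ▸ rfl
      haveI := (h s).1
      refine Set.Finite.subset (((pullback.snd f.left (H.hom.fiberι s)).finite_preimage_singleton z).image
        (pullback.fst f.left (H.hom.fiberι s))) fun x hx => ?_
      obtain ⟨w, hw₁, hw₂⟩ := Scheme.Pullback.exists_preimage_pullback x z (hx.trans hz.symm)
      exact ⟨w, hw₂, hw₁⟩

end Groth.L08.IsogenyFibres
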