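import Groth.Agent.L08.SubgroupObj
import Groth.Agent.L25.Translate
import Groth.Agent.L25.GeomRed
import Groth.Agent.L00.ReducedSub
import Groth.Prelude.Def_Red
import Mathlib.AlgebraicGeometry.ZariskisMainTheorem
import Mathlib.AlgebraicGeometry.Morphisms.FlatMono
import Mathlib.FieldTheory.Perfect

/-!
# Quasi-compact monomorphisms of group schemes over a field or an Artinian base are closed immersions
-/

set_option autoImplicit false
set_option backward.isDefEq.respectTransparency.types false

universe u

open CategoryTheory CategoryTheory.Limits MonoidalCategory CartesianMonoidalCategory MonObj AlgebraicGeometry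

noncomputable section

namespace Groth.L08.MonoClosed

open Groth.L25

variable {k : Type u} [Field k] {G H : Over (Spec (CommRingCat.of k))}

section Closure

variable [GrpObj G] [GrpObj H]

/-- The closure of the range of a homomorphism is stable under multiplication. -/
theorem mul_mem_closure_range (f : H ⟶ G) [IsMonHom f] (w : (G ⊗ G).left)
    (hw1 : (fst G G).left w ∈ closure (Set.range f.left)) (hw2 : (snd G G).left w ∈ closure (Set.range f.left)) :
    μ[G].left w ∈ closure (Set.range f.left) := by
  let Y := Set.range f.left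
  let C := closure Y
  let p1 := (fst G G).left
  let p2 := (snd G G).left
  obtain ⟨A, jA, hjA, -, hI⟩ := Groth.L00.ReducedSub.exists_reduced (X := G.left) C isClosed_closure.isLocallyClosed
  let AO : Over (Spec (CommRingCat.of k)) := Over.mk (jA ≫ G.hom)
  let jAO : AO ⟶ G := Over.homMk jA
  have s1 : ∀ w, p1 w ∈ C → p2 w ∈ Y → w ∈ closure (p1 ⁻¹' Y ∩ p2 ⁻¹' Y) := by
    intro w h1 h2
    obtain ⟨w', rfl⟩ : w ∈ Set.range (𝟙 G ⊗ₘ f).left := by
      rw [Translate.range_tensorHom]; exact ⟨⟨p1 w, rfl⟩, h2⟩
    have ho : IsOpenMap (fst G H).left := by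
      rw [Over.fst_left]; exact (pullback.fst G.hom H.hom).isOpenMap
    have e : ∀ v, p1 ((𝟙 G ⊗ₘ f).left v) = (fst G H).left v := fun v =>
      (congr(($(tensorHom_fst (𝟙 G) f)).left v)).trans (by rw [Category.comp_id])
    have hw' : w' ∈ closure ((fst G H).left ⁻¹' Y) := by
      rw [← ho.preimage_closure_eq_closure_preimage (fst G H).left.continuous]
      show (fst G H).left w' ∈ C
      rw [← e]; exact h1
    refine closure_mono ?_ (image_closure_subset_closure_image (𝟙 G ⊗ₘ f).left.continuous ⟨w', hw', rfl⟩)
    rintro _ ⟨v, hv, rfl⟩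
    exact ⟨show p1 _ ∈ Y by rw [e]; exact hv,
      ⟨(snd G H).left v, (congr(($(tensorHom_snd (𝟙 G) f)).left v)).symm⟩⟩
  have s2 : ∀ w, p1 w ∈ C → p2 w ∈ C → w ∈ closure (p1 ⁻¹' Y ∩ p2 ⁻¹' Y) := by
    intro w h1 h2
    obtain ⟨w', rfl⟩ : w ∈ Set.range (jAO ⊗ₘ 𝟙 G).left := by
      rw [Translate.range_tensorHom]; exact ⟨hI.symm ▸ h1, ⟨p2 w, rfl⟩⟩
    have ho : IsOpenMap (snd AO G).left := by
      rw [Over.snd_left]; exact (pullback.snd AO.hom G.hom).isOpenMap
    have e : ∀ v, p2 ((jAO ⊗ₘ 𝟙 G).left v) = (snd AO G).left v := fun v =>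
      (congr(($(tensorHom_snd jAO (𝟙 G))).left v)).trans (by rw [Category.comp_id])
    have hw' : w' ∈ closure ((snd AO G).left ⁻¹' Y) := by
      rw [← ho.preimage_closure_eq_closure_preimage (snd AO G).left.continuous]
      show (snd AO G).left w' ∈ C
      rw [← e]; exact h2
    have hm := image_closure_subset_closure_image (jAO ⊗ₘ 𝟙 G).left.continuous ⟨w', hw', rfl⟩
    refine closure_minimal ?_ isClosed_closure hm
    rintro _ ⟨v, hv, rfl⟩
    refine s1 _ ?_ (show p2 _ ∈ Y by rw [e]; exact hv)
    rw [show p1 ((jAO ⊗ₘ 𝟙 G).left v) = jAO.left ((fst AO G).left v) from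
      congr(($(tensorHom_fst jAO (𝟙 G))).left v)]
    exact hI.le ⟨_, rfl⟩
  refine closure_mono ?_ (image_closure_subset_closure_image μ[G].left.continuous ⟨w, s2 w hw1 hw2, rfl⟩)
  rintro _ ⟨v, ⟨hv1, hv2⟩, rfl⟩
  exact Translate.mul_mem_range f v hv1 hv2

/-- The closure of the range of a homomorphism is stable under inversion. -/
theorem inv_mem_closure_range (f : H ⟶ G) [IsMonHom f] (x : G.left)
    (hx : x ∈ closure (Set.range f.left)) : (GrpObj.inv (X := G)).left x ∈ closure (Set.range f.left) := by
  refine closure_mono ?_ (image_closure_subset_closure_image (GrpObj.inv (X := G)).left.continuous ⟨x, hx, rfl⟩)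
  rintro _ ⟨_, ⟨a, rfl⟩, rfl⟩
  exact ⟨(GrpObj.inv (X := H)).left a, (congr(($(GrpObj.inv_hom f)).left a))⟩

end Closure

/-- The reduced closed subgroup on a closed set stable under the operations. -/
theorem exists_reduced_subgroup [PerfectField k] [GrpObj G] (C : Set G.left) (hC : IsClosed C)
    (h1 : η[G].left (IsLocalRing.closedPoint k) ∈ C)
    (hmul : ∀ w : (G ⊗ G).left, (fst G G).left w ∈ C → (snd G G).left w ∈ C → μ[G].left w ∈ C)
    (hinv : ∀ x ∈ C, (GrpObj.inv (X := G)).left x ∈ C) :
    ∃ (N : Over (Spec (CommRingCat.of k))) (_ : GrpObj N) (j : N ⟶ G), IsMonHom j ∧ IsReduced N.left ∧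
      IsClosedImmersion j.left ∧ Set.range j.left = C := by
  obtain ⟨W, w, hw, hred, hr⟩ := Groth.L00.ReducedSub.exists_reduced (X := G.left) C hC.isLocallyClosed
  haveI : IsClosedImmersion w := IsClosedImmersion.of_isPreimmersion w (hr.symm ▸ hC)
  let N : Over (Spec (CommRingCat.of k)) := Over.mk (w ≫ G.hom)
  let j : N ⟶ G := Over.homMk w
  haveI : IsReduced N.left := hred
  haveI : IsReduced (N ⊗ N).left := GeomRed.isReduced_pullback N.hom N.hom
  haveI : IsReduced (𝟙_ (Over (Spec (CommRingCat.of k)))).left :=
    inferInstanceAs (IsReduced (Spec (CommRingCat.of k)))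
  haveI : Mono j := Over.mono_of_mono_left j
  have lift' : ∀ {T : Over (Spec (CommRingCat.of k))} [IsReduced T.left] (g : T ⟶ G),
      (∀ t, g.left t ∈ C) → ∃ z : T ⟶ N, z ≫ j = g := by
    intro T _ g hg
    obtain ⟨z, hz⟩ := Groth.L00.ReducedSub.exists_lift w g.left (hr.symm ▸ Set.range_subset_iff.2 hg)
    exact ⟨Over.homMk z (by simp [N, reassoc_of% hz]), Over.OverMorphism.ext hz⟩
  obtain ⟨gN, hj⟩ := exists_grpObj_of_mono j
    (lift' η[G] fun t => by
      rwa [show t = IsLocalRing.closedPoint k from Subsingleton.elim (α := PrimeSpectrum k) _ _])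
    (lift' _ fun t => by
      rw [Hom.mul_def, Over.comp_left, Scheme.Hom.comp_apply]
      refine hmul _ ?_ ?_
      · rw [← Scheme.Hom.comp_apply, ← Over.comp_left, lift_fst]
        exact hr.subset ⟨_, rfl⟩
      · rw [← Scheme.Hom.comp_apply, ← Over.comp_left, lift_snd]
        exact hr.subset ⟨_, rfl⟩)
    (lift' _ fun t => by
      rw [Hom.inv_def, Over.comp_left, Scheme.Hom.comp_apply]
      exact hinv _ (hr.subset ⟨t, rfl⟩))
  exact ⟨N, gN, j, hj, hred, inferInstanceAs (IsClosedImmersion w), hr⟩

/-- A quasi-compact monomorphism of group schemes locally of finite type over a perfect field is a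
closed immersion. -/
theorem isClosedImmersion_of_perfectField [PerfectField k] [GrpObj G] [GrpObj H] [LocallyOfFiniteType G.hom]
    [LocallyOfFiniteType H.hom] (u : H ⟶ G) [IsMonHom u] [Mono u.left] [QuasiCompact u.left] :
    IsClosedImmersion u.left := by
  obtain ⟨Hr, gHr, j, hj, hjr, hjc, hjrange⟩ := exists_reduced_subgroup (G := H) Set.univ isClosed_univ
    trivial (fun _ _ _ => trivial) (fun _ _ => trivial)
  haveI : Surjective j.left := ⟨Set.range_eq_univ.1 hjrange⟩
  let v := j ≫ u
  haveI : IsMonHom v := inferInstanceAs (IsMonHom (j ≫ u))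
  have hvr : Set.range v.left = Set.range u.left := by
    rw [Over.comp_left, Scheme.Hom.comp_base, TopCat.coe_comp, Set.range_comp]
    erw [hjrange, Set.image_univ]
  obtain ⟨G', gG', w, hw, hwr, hwc, hwrange⟩ := exists_reduced_subgroup (G := G) (closure (Set.range v.left))
    isClosed_closure
    (subset_closure ⟨η[Hr].left (IsLocalRing.closedPoint k),
      (congr(($(IsMonHom.one_hom v)).left (IsLocalRing.closedPoint k)))⟩)
    (mul_mem_closure_range v) (inv_mem_closure_range v)
  haveI : Mono w := Over.mono_of_mono_left w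
  obtain ⟨r₀, hr₀⟩ := Groth.L00.ReducedSub.exists_lift w.left v.left (hwrange.symm ▸ subset_closure)
  let r : Hr ⟶ G' := Over.homMk r₀ (by rw [← Over.w w, reassoc_of% hr₀, Over.w])
  have hr : r ≫ w = v := Over.OverMorphism.ext hr₀
  haveI : IsMonHom r :=
    { one_hom := by rw [← cancel_mono w, Category.assoc, hr, IsMonHom.one_hom, IsMonHom.one_hom]
      mul_hom := by
        rw [← cancel_mono w, Category.assoc, hr, IsMonHom.mul_hom, Category.assoc, IsMonHom.mul_hom,
          tensorHom_comp_tensorHom_assoc, hr] }
  haveI : LocallyOfFiniteType G'.hom := by rw [← Over.w w]; infer_instance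
  haveI : LocallyOfFiniteType Hr.hom := by rw [← Over.w j]; infer_instance
  haveI : QuasiCompact (r.left ≫ w.left) := by
    rw [← Over.comp_left, hr]
    exact inferInstanceAs (QuasiCompact (j.left ≫ u.left))
  haveI : QuasiCompact r.left := QuasiCompact.of_comp r.left w.left
  haveI : Mono r.left := by
    haveI : Mono (r.left ≫ w.left) := by
      rw [← Over.comp_left, hr]
      exact inferInstanceAs (Mono (j.left ≫ u.left))
    exact mono_of_mono r.left w.left
  have hdense : DenseRange r.left := by
    intro x
    have h := w.left.isEmbedding.closure_eq_preimage_closure_image (Set.range r.left)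
    rw [h, ← Set.range_comp, show w.left ∘ r.left = v.left from by rw [← hr]; rfl]
    exact hwrange.subset ⟨x, rfl⟩
  haveI : Flat r.left := Translate.flat_of_denseRange r hdense
  haveI : Surjective r.left := Translate.surjective_of_denseRange r hdense
  haveI : LocallyOfFiniteType r.left := by
    haveI : LocallyOfFiniteType (r.left ≫ G'.hom) := by rw [Over.w r]; infer_instance
    exact locallyOfFiniteType_of_comp r.left G'.hom
  haveI : IsLocallyNoetherian G'.left := LocallyOfFiniteType.isLocallyNoetherian G'.hom
  haveI : LocallyOfFinitePresentation r.left := LocallyOfFinitePresentation.iff_locallyOfFiniteType.2 inferInstance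
  haveI : IsOpenImmersion r.left := IsOpenImmersion.of_flat_of_mono r.left
  haveI : IsIso r.left := (isIso_iff_isOpenImmersion_and_surjective r.left).2 ⟨inferInstance, inferInstance⟩
  haveI : UniversallyClosed (j.left ≫ u.left) := by
    rw [← Over.comp_left, show j ≫ u = r ≫ w from hr.symm, Over.comp_left]
    infer_instance
  haveI : UniversallyClosed u.left := UniversallyClosed.of_comp_surjective j.left u.left
  haveI : LocallyOfFiniteType u.left := by
    haveI : LocallyOfFiniteType (u.left ≫ G.hom) := by rw [Over.w u]; infer_instance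
    exact locallyOfFiniteType_of_comp u.left G.hom
  haveI : IsProper u.left := {}
  exact (IsClosedImmersion.iff_isProper_and_mono _).2 ⟨inferInstance, inferInstance⟩

/-- Closed immersions descend along surjective universally closed affine base changes for monomorphisms. -/
theorem isClosedImmersion_of_bc {S S' : Scheme.{u}} (θ : S' ⟶ S) [Surjective θ] [UniversallyClosed θ]
    {G H : Over S} [LocallyOfFiniteType G.hom] [LocallyOfFiniteType H.hom] (u : H ⟶ G) [Mono u.left]
    [QuasiCompact u.left] [hu : IsClosedImmersion ((Over.pullback θ).map u).left] :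
    IsClosedImmersion u.left := by
  have hsq : ((Over.pullback θ).map u).left ≫ pullback.fst G.hom θ = pullback.fst H.hom θ ≫ u.left :=
    pullback.lift_fst _ _ _
  haveI : Surjective (pullback.fst H.hom θ) := MorphismProperty.pullback_fst _ _ ‹_›
  haveI : UniversallyClosed (pullback.fst G.hom θ) := MorphismProperty.pullback_fst _ _ ‹_›
  haveI : UniversallyClosed (pullback.fst H.hom θ ≫ u.left) := by
    rw [← hsq]; infer_instance
  haveI : UniversallyClosed u.left := UniversallyClosed.of_comp_surjective (pullback.fst H.hom θ) u.left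
  haveI : LocallyOfFiniteType u.left := by
    haveI : LocallyOfFiniteType (u.left ≫ G.hom) := by rw [Over.w u]; infer_instance
    exact locallyOfFiniteType_of_comp u.left G.hom
  haveI : IsProper u.left := {}
  exact (IsClosedImmersion.iff_isProper_and_mono _).2 ⟨inferInstance, inferInstance⟩

/-- The base change of a monomorphism over a scheme has underlying monomorphism, quasi-compact if so. -/
theorem bc_props {S S' : Scheme.{u}} (θ : S' ⟶ S) [QuasiSeparated θ]
    {G H : Over S} (u : H ⟶ G) [Mono u] [QuasiCompact u.left] :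
    Mono ((Over.pullback θ).map u).left ∧ QuasiCompact ((Over.pullback θ).map u).left := by
  refine ⟨?_, ?_⟩
  · infer_instance
  · have hsq : ((Over.pullback θ).map u).left ≫ pullback.fst G.hom θ = pullback.fst H.hom θ ≫ u.left :=
      pullback.lift_fst _ _ _
    have hw : ((Over.pullback θ).map u).left ≫ pullback.snd G.hom θ = pullback.snd H.hom θ :=
      pullback.lift_snd _ _ _
    have sq : IsPullback ((Over.pullback θ).map u).left (pullback.fst H.hom θ) (pullback.fst G.hom θ) u.left :=
      IsPullback.of_right (by rw [hw, Over.w u]; exact (IsPullback.of_hasPullback H.hom θ).flip) hsq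
        (IsPullback.of_hasPullback G.hom θ).flip
    exact MorphismProperty.of_isPullback sq.flip ‹QuasiCompact u.left›

/-- A quasi-compact monomorphism of group schemes locally of finite type over a field is a closed immersion. -/
theorem isClosedImmersion_of_field [GrpObj G] [GrpObj H] [LocallyOfFiniteType G.hom]
    [LocallyOfFiniteType H.hom] (u : H ⟶ G) [IsMonHom u] [Mono u] [QuasiCompact u.left] :
    IsClosedImmersion u.left := by
  let θ : Spec (CommRingCat.of (AlgebraicClosure k)) ⟶ Spec (CommRingCat.of k) :=
    Spec.map (CommRingCat.ofHom (algebraMap k (AlgebraicClosure k)))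
  haveI : IsIntegralHom θ := IsIntegralHom.SpecMap_iff.2 (algebraMap_isIntegral_iff.2 inferInstance)
  haveI : Surjective θ := ⟨fun x => ⟨IsLocalRing.closedPoint _, Subsingleton.elim (α := PrimeSpectrum k) _ _⟩⟩
  obtain ⟨h1, h2⟩ := bc_props θ u
  haveI : LocallyOfFiniteType (Red.bc θ G).hom := MorphismProperty.pullback_snd _ _ ‹_›
  haveI : LocallyOfFiniteType (Red.bc θ H).hom := MorphismProperty.pullback_snd _ _ ‹_›
  haveI : IsClosedImmersion ((Over.pullback θ).map u).left :=
    isClosedImmersion_of_perfectField (G := Red.bc θ G) (H := Red.bc θ H) ((Over.pullback θ).map u)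
  exact isClosedImmersion_of_bc θ u

end Groth.L08.MonoClosed
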