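import Groth.Prelude.Def_EndRing
import Groth.Agent.L08.GQuot.Field
import Groth.Agent.L08.GQuot.Struct
import Groth.Agent.L08.SubgroupObj
import Groth.Agent.L08.MonoClosed
import Groth.Agent.S3034
import Groth.Agent.S3280
import Groth.Agent.S5331
import Mathlib.CategoryTheory.Abelian.Basic
import Mathlib.CategoryTheory.Limits.Constructions.FiniteProductsOfBinaryProducts

/-!
# Commutative algebraic groups over a field form an abelian category
-/

set_option autoImplicit false
set_option backward.isDefEq.respectTransparency.types false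
set_option linter.style.haveILetI false

universe u

open CategoryTheory CategoryTheory.Limits MonoidalCategory CartesianMonoidalCategory MonObj AlgebraicGeometry

noncomputable section

namespace Groth.L08.AbelianGrp

variable {k : Type u} [Field k]

section Unbundled

variable {G H : Over (Spec (CommRingCat.of k))} [GrpObj G] [GrpObj H]

theorem isSeparated (G : Over (Spec (CommRingCat.of k))) [GrpObj G] : IsSeparated G.hom := by
  haveI : DiscreteTopology (Spec (CommRingCat.of k) : Scheme.{u}) :=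
    inferInstanceAs (DiscreteTopology (PrimeSpectrum k))
  exact Groth.Agent.S5331.result _ G

theorem isClosedImmersion_one (G : Over (Spec (CommRingCat.of k))) [GrpObj G] :
    IsClosedImmersion (η[G] : 𝟙_ (Over (Spec (CommRingCat.of k))) ⟶ G).left := by
  haveI := isSeparated G
  haveI : IsClosedImmersion ((η[G] : 𝟙_ (Over (Spec (CommRingCat.of k))) ⟶ G).left ≫ G.hom) := by
    rw [Over.w (η[G] : 𝟙_ (Over (Spec (CommRingCat.of k))) ⟶ G)]
    exact inferInstanceAs (IsClosedImmersion (𝟙 (Spec (CommRingCat.of k))))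
  exact IsClosedImmersion.of_comp _ G.hom

/-- The kernel of a homomorphism. -/
theorem exists_kernel (f : G ⟶ H) [IsMonHom f] :
    ∃ (K : Over (Spec (CommRingCat.of k))) (_ : GrpObj K) (i : K ⟶ G), IsMonHom i ∧ IsClosedImmersion i.left ∧
      (IsCommMonObj G → IsCommMonObj K) ∧ AlgGrp.IsKernel i f := by
  let K := pullback f η[H]
  let i : K ⟶ G := pullback.fst f η[H]
  have sq : IsPullback i (toUnit K) f η[H] := by
    rw [show toUnit K = pullback.snd f η[H] from toUnit_unique _ _]
    exact IsPullback.of_hasPullback f η[H]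
  haveI : IsClosedImmersion i.left :=
    MorphismProperty.of_isPullback (P := @IsClosedImmersion) (sq.map (Over.forget _)).flip (isClosedImmersion_one H)
  haveI : Mono i := Over.mono_of_mono_left i
  have hi : ∀ {T : Over (Spec (CommRingCat.of k))} (a : T ⟶ G), (∃ z : T ⟶ K, z ≫ i = a) ↔ a ≫ f = 1 := by
    intro T a
    constructor
    · rintro ⟨z, rfl⟩
      rw [Category.assoc, sq.w, ← Category.assoc, toUnit_unique (z ≫ toUnit K) (toUnit T), ← Hom.one_def]
    · intro e
      obtain ⟨z, hz, -⟩ := sq.exists_lift a (toUnit T) (by rw [e, Hom.one_def])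
      exact ⟨z, hz⟩
  have hk : i ≫ f = 1 := by
    have h := (hi (T := K) i).1 ⟨𝟙 _, Category.id_comp _⟩
    exact h
  obtain ⟨gK, hK⟩ := Groth.L08.exists_grpObj_of_mono i
    ((hi _).2 (by rw [IsMonHom.one_hom (f := f), Hom.one_def, toUnit_unique (toUnit _) (𝟙 _), Category.id_comp]))
    ((hi _).2 (by rw [MonObj.mul_comp, Category.assoc, Category.assoc, hk, MonObj.comp_one, MonObj.comp_one,
      _root_.one_mul]))
    ((hi _).2 (by rw [GrpObj.inv_comp, hk, inv_one]))
  refine ⟨K, gK, i, hK, inferInstance, fun hG => ⟨?_⟩, sq⟩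
  rw [← cancel_mono i, Category.assoc, IsMonHom.mul_hom, ← Category.assoc, ← BraidedCategory.braiding_naturality,
    Category.assoc, IsCommMonObj.mul_comm]

/-- A homomorphism with trivial kernel is a monomorphism. -/
theorem mono_of_kernel {K : Over (Spec (CommRingCat.of k))} (f : G ⟶ H) [IsMonHom f] (i : K ⟶ G)
    (sq : AlgGrp.IsKernel i f) (hi : i = 1) : Mono f := by
  refine ⟨fun {T} a b e => ?_⟩
  obtain ⟨z, hz, -⟩ := sq.exists_lift (a * b⁻¹) (toUnit T)
    (by rw [MonObj.mul_comp, GrpObj.inv_comp, e, mul_inv_cancel, Hom.one_def])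
  rw [hi, MonObj.comp_one] at hz
  exact mul_inv_eq_one.1 hz.symm

theorem quasiCompact_left [QuasiCompact G.hom] (f : G ⟶ H) : QuasiCompact f.left := by
  haveI := isSeparated H
  haveI : QuasiCompact (f.left ≫ H.hom) := by rw [Over.w f]; infer_instance
  exact QuasiCompact.of_comp f.left H.hom

theorem isNormalHom_of_comm [IsCommMonObj G] (i : H ⟶ G) [IsMonHom i] : AlgGrp.IsNormalHom i :=
  fun T g n => ⟨n, by rw [mul_comm g, mul_inv_cancel_right]⟩

/-- Commutativity passes to quotients. -/
theorem isCommMonObj_of_cover [IsCommMonObj G] (q : G ⟶ H) [IsMonHom q] [Surjective q.left] [Flat q.left]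
    [LocallyOfFinitePresentation q.left] : IsCommMonObj H := by
  obtain ⟨_, _, _⟩ := GQuot.cover_tensor₂ q
  haveI : Epi (q ⊗ₘ q) := GQuot.epi_of_cover _
  refine ⟨?_⟩
  rw [← cancel_epi (q ⊗ₘ q), BraidedCategory.braiding_naturality_assoc, ← IsMonHom.mul_hom, ← Category.assoc,
    IsCommMonObj.mul_comm]

/-- The quotient by a closed subgroup of a commutative group. -/
theorem exists_quotient [IsCommMonObj G] [LocallyOfFiniteType G.hom] [QuasiCompact G.hom]
    (i : H ⟶ G) [IsMonHom i] [IsClosedImmersion i.left] :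
    ∃ (Q : Over (Spec (CommRingCat.of k))) (_ : GrpObj Q) (q : G ⟶ Q), IsMonHom q ∧ Surjective q.left ∧
      Flat q.left ∧ LocallyOfFinitePresentation q.left ∧ LocallyOfFiniteType Q.hom ∧ QuasiCompact Q.hom ∧
      IsCommMonObj Q ∧ AlgGrp.IsKernel i q := by
  haveI : LocallyOfFiniteType H.hom := by rw [← Over.w i]; infer_instance
  haveI : Mono i := Over.mono_of_mono_left i
  obtain ⟨Y, p, _, _, _, sqp⟩ := GQuot.exists_quotient_field i
  obtain ⟨X, q, _, _, _, sqq, hlft, -, hqc, -, -⟩ := GQuot.exists_struct p sqp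
  obtain ⟨gX, hq, hker⟩ := GQuot.exists_grp (isNormalHom_of_comm i) q sqq
  exact ⟨X, gX, q, hq, inferInstance, inferInstance, inferInstance, hlft inferInstance, hqc inferInstance,
    isCommMonObj_of_cover q, hker⟩

/-- A homomorphism is a faithfully flat one followed by a closed immersion. -/
theorem exists_image [LocallyOfFiniteType G.hom] [LocallyOfFiniteType H.hom] [QuasiCompact G.hom]
    (f : G ⟶ H) [IsMonHom f] :
    ∃ (C : Over (Spec (CommRingCat.of k))) (_ : GrpObj C) (p : G ⟶ C) (i : C ⟶ H), IsMonHom p ∧ IsMonHom i ∧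
      p ≫ i = f ∧ Flat p.left ∧ Surjective p.left ∧ LocallyOfFinitePresentation p.left ∧ IsClosedImmersion i.left := by
  haveI : Flat G.hom := inferInstance
  haveI := quasiCompact_left f
  let g : pullback f.left (η[H] : 𝟙_ (Over (Spec (CommRingCat.of k))) ⟶ H).left ⟶ Spec (CommRingCat.of k) :=
    pullback.snd _ _
  have hg : Flat g := inferInstance
  exact Groth.Agent.S3034.result k G H f hg

end Unbundled

variable (P : ObjectProperty (CommGrp (Over (Spec (CommRingCat.of k)))))

/-- Properties of classes of commutative algebraic groups that give an abelian category. -/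
structure Good : Prop where
  lft : ∀ G, P G → LocallyOfFiniteType G.X.hom ∧ QuasiCompact G.X.hom
  one : P (CommGrp.mk (𝟙_ (Over (Spec (CommRingCat.of k)))))
  prod : ∀ G H, P G → P H → P (CommGrp.mk (G.X ⊗ H.X))
  sub : ∀ G H, P G → ∀ i : H.X ⟶ G.X, IsClosedImmersion i.left → P H
  quot : ∀ G Q, P G → ∀ q : G.X ⟶ Q.X, IsMonHom q → Surjective q.left → Flat q.left →
    LocallyOfFinitePresentation q.left → LocallyOfFiniteType Q.X.hom → QuasiCompact Q.X.hom →
    ∀ (H : CommGrp (Over (Spec (CommRingCat.of k)))) (i : H.X ⟶ G.X), IsMonHom i → IsClosedImmersion i.left →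
      AlgGrp.IsKernel i q → P Q

variable {P}

/-- The underlying morphism. -/
abbrev und {X Y : P.FullSubcategory} (f : X ⟶ Y) : X.obj.X ⟶ Y.obj.X := f.hom.hom.hom.hom

/-- A homomorphism as a morphism. -/
abbrev mk' {X Y : P.FullSubcategory} (f : X.obj.X ⟶ Y.obj.X) [IsMonHom f] : X ⟶ Y :=
  ObjectProperty.homMk (InducedCategory.homMk (Grp.homMk f))

theorem ext' {X Y : P.FullSubcategory} {f g : X ⟶ Y} (h : und f = und g) : f = g :=
  ObjectProperty.hom_ext _ (CommGrp.hom_ext _ _ h)

theorem und_comp {X Y Z : P.FullSubcategory} (f : X ⟶ Y) (g : Y ⟶ Z) : und (f ≫ g) = und f ≫ und g := rfl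

theorem und_zero {X Y : P.FullSubcategory} : und (0 : X ⟶ Y) = 1 := rfl

/-- Exactness on the left. -/
def isLimitFork {N G Q : P.FullSubcategory} (ν : N ⟶ G) (π : G ⟶ Q) (w : ν ≫ π = 0) [Mono (und ν)]
    (sq : AlgGrp.IsKernel (und ν) (und π)) : IsLimit (KernelFork.ofι ν w) :=
  Fork.IsLimit.mk _
    (fun s => by
      have e : und (Fork.ι s) ≫ und π = toUnit _ ≫ η := by
        rw [← und_comp, KernelFork.condition s, und_zero, Hom.one_def]
      haveI : IsMonHom (sq.lift _ _ e) :=
        { one_hom := by rw [← cancel_mono (und ν), Category.assoc, sq.lift_fst, IsMonHom.one_hom, IsMonHom.one_hom]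
          mul_hom := by
            rw [← cancel_mono (und ν), Category.assoc, Category.assoc, sq.lift_fst, IsMonHom.mul_hom, IsMonHom.mul_hom,
              tensorHom_comp_tensorHom_assoc, sq.lift_fst] }
      exact mk' (sq.lift _ _ e))
    (fun s => ext' (by rw [und_comp]; exact sq.lift_fst _ _ _))
    (fun s m hm => ext' (by
      rw [← cancel_mono (und ν), ← und_comp, show m ≫ ν = Fork.ι s from hm]
      exact (sq.lift_fst _ _ _).symm))

/-- Exactness on the right. -/
theorem exists_colimit (hP : Good P) {N : Over (Spec (CommRingCat.of k))} {G Q : P.FullSubcategory}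
    (ν : N ⟶ G.obj.X) (π : G ⟶ Q) [Flat (und π).left] [Surjective (und π).left]
    (sq : AlgGrp.IsKernel ν (und π)) {Z : P.FullSubcategory} (φ : G ⟶ Z) (h : ν ≫ und φ = 1) :
    ∃! ψ : Q ⟶ Z, π ≫ ψ = φ := by
  obtain ⟨_, _⟩ := hP.lft _ G.property
  obtain ⟨_, _⟩ := hP.lft _ Q.property
  obtain ⟨_, _⟩ := hP.lft _ Z.property
  obtain ⟨ψ, _, h1, h2⟩ := Groth.Agent.S3280.result k G.obj.X N Q.obj.X Z.obj.X (und π) ν sq (und φ)
    (by rw [h, Hom.one_def])
  exact ⟨mk' ψ, ext' h1, fun y hy => ext' (h2 _ (by rw [← und_comp, hy]))⟩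

theorem exists_cokernel (hP : Good P) {X Y : P.FullSubcategory} (f : X ⟶ Y) :
    ∃ (Q : P.FullSubcategory) (π : Y ⟶ Q) (C : Over (Spec (CommRingCat.of k))) (_ : GrpObj C)
      (p : X.obj.X ⟶ C) (i : C ⟶ Y.obj.X), IsMonHom i ∧ p ≫ i = und f ∧ Flat p.left ∧ Surjective p.left ∧
        LocallyOfFinitePresentation p.left ∧ IsClosedImmersion i.left ∧
        Surjective (und π).left ∧ Flat (und π).left ∧ AlgGrp.IsKernel i (und π) := by
  obtain ⟨_, _⟩ := hP.lft _ X.property
  obtain ⟨_, _⟩ := hP.lft _ Y.property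
  obtain ⟨C, gC, p, i, _, _, hpi, _, _, _, _⟩ := exists_image (und f)
  haveI : Mono i := Over.mono_of_mono_left i
  haveI : IsCommMonObj C := ⟨by
    rw [← cancel_mono i, Category.assoc, IsMonHom.mul_hom, ← Category.assoc,
      ← BraidedCategory.braiding_naturality, Category.assoc, IsCommMonObj.mul_comm]⟩
  obtain ⟨Q, gQ, q, _, hs, hf, hl, hlft, hqc, hc, hker⟩ := exists_quotient i
  let Q' : P.FullSubcategory :=
    ⟨CommGrp.mk Q, hP.quot _ (CommGrp.mk Q) Y.property q inferInstance hs hf hl hlft hqc (CommGrp.mk C) i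
      inferInstance inferInstance hker⟩
  exact ⟨Q', mk' q, C, gC, p, i, inferInstance, hpi, inferInstance, inferInstance, inferInstance, inferInstance,
    hs, hf, hker⟩

/-- The cokernel of a morphism. -/
theorem hasCokernels (hP : Good P) : HasCokernels P.FullSubcategory := by
  refine ⟨fun {X Y} f => ?_⟩
  obtain ⟨Q, π, C, _, p, i, _, hpi, _, _, _, _, _, _, sq⟩ := exists_cokernel hP f
  haveI : Epi p := GQuot.epi_of_cover p
  have w : f ≫ π = 0 := ext' (by
    rw [und_comp, ← hpi, Category.assoc, sq.w, und_zero, ← Category.assoc, Hom.one_def]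
    congr 1
    exact toUnit_unique _ _)
  have u : ∀ (s : Cofork f 0), ∃! ψ : Q ⟶ s.pt, π ≫ ψ = Cofork.π s := fun s =>
    exists_colimit hP i π sq _ (by
      rw [← cancel_epi p, reassoc_of% hpi, MonObj.comp_one, ← und_comp, CokernelCofork.condition s, und_zero])
  exact HasColimit.mk ⟨CokernelCofork.ofπ π w, Cofork.IsColimit.mk _ (fun s => (u s).exists.choose)
    (fun s => (u s).exists.choose_spec) fun s m hm => (u s).unique hm (u s).exists.choose_spec⟩

theorem hasKernels (hP : Good P) : HasKernels P.FullSubcategory := by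
  refine ⟨fun {X Y} f => ?_⟩
  obtain ⟨K, gK, i, _, _, hc, sq⟩ := exists_kernel (und f)
  haveI : IsCommMonObj K := hc inferInstance
  let K' : P.FullSubcategory := ⟨CommGrp.mk K, hP.sub _ (CommGrp.mk K) X.property i inferInstance⟩
  let ν : K' ⟶ X := mk' (X := K') i
  haveI : Mono (und ν) := Over.mono_of_mono_left i
  have w : ν ≫ f = 0 := ext' (sq.w.trans (Hom.one_def).symm)
  exact HasLimit.mk ⟨KernelFork.ofι ν w, isLimitFork ν f w sq⟩

theorem mono_und (hP : Good P) {X Y : P.FullSubcategory} (f : X ⟶ Y) [Mono f] :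
    IsClosedImmersion (und f).left := by
  obtain ⟨_, _⟩ := hP.lft _ X.property
  obtain ⟨_, _⟩ := hP.lft _ Y.property
  obtain ⟨K, gK, i, _, _, hc, sq⟩ := exists_kernel (und f)
  haveI : IsCommMonObj K := hc inferInstance
  let K' : P.FullSubcategory := ⟨CommGrp.mk K, hP.sub _ (CommGrp.mk K) X.property i inferInstance⟩
  let ν : K' ⟶ X := mk' (X := K') i
  have w : ν ≫ f = 0 := ext' (sq.w.trans (Hom.one_def).symm)
  have h0 : ν = 0 := zero_of_comp_mono f w
  haveI : Mono (und f) := mono_of_kernel (und f) i sq ((congrArg und h0).trans und_zero)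
  haveI := quasiCompact_left (und f)
  exact Groth.L08.MonoClosed.isClosedImmersion_of_field (und f)

theorem normalMono (hP : Good P) : IsNormalMonoCategory P.FullSubcategory := by
  refine ⟨fun {X Y} f _ => ?_⟩
  obtain ⟨_, _⟩ := hP.lft _ Y.property
  haveI := mono_und hP f
  haveI : Mono (und f) := Over.mono_of_mono_left _
  obtain ⟨Q, gQ, q, _, hs, hf, hl, hlft, hqc, hc, hker⟩ := exists_quotient (und f)
  let Q' : P.FullSubcategory :=
    ⟨CommGrp.mk Q, hP.quot _ (CommGrp.mk Q) Y.property q inferInstance hs hf hl hlft hqc X.obj (und f)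
      inferInstance inferInstance hker⟩
  let π : Y ⟶ Q' := mk' (Y := Q') q
  have w : f ≫ π = 0 := ext' (hker.w.trans (Hom.one_def).symm)
  exact ⟨{ Z := Q', g := π, w := w, isLimit := isLimitFork f π w hker }⟩

theorem normalEpi (hP : Good P) : IsNormalEpiCategory P.FullSubcategory := by
  refine ⟨fun {X Y} f _ => ?_⟩
  obtain ⟨Q, π, C, _, p, i, _, hpi, _, _, _, _, hs, hf, sq⟩ := exists_cokernel hP f
  have w : f ≫ π = 0 := ext' (by
    rw [und_comp, ← hpi, Category.assoc, sq.w, und_zero, ← Category.assoc, Hom.one_def]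
    congr 1
    exact toUnit_unique _ _)
  have hπ : π = 0 := zero_of_epi_comp f w
  obtain ⟨z, hz, -⟩ := sq.exists_lift (𝟙 _) (toUnit _)
    (by rw [Category.id_comp, hπ, und_zero, Hom.one_def])
  haveI : Mono i := Over.mono_of_mono_left i
  haveI : IsIso i := ⟨z, by rw [← cancel_mono i, Category.assoc, hz, Category.comp_id, Category.id_comp], hz⟩
  haveI : IsIso i.left := inferInstanceAs (IsIso ((Over.forget _).map i))
  haveI : Flat (und f).left := by rw [← hpi, Over.comp_left]; infer_instance
  haveI : Surjective (und f).left := by rw [← hpi, Over.comp_left]; infer_instance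
  obtain ⟨K, gK, j, _, _, hc, sqf⟩ := exists_kernel (und f)
  haveI : IsCommMonObj K := hc inferInstance
  let K' : P.FullSubcategory := ⟨CommGrp.mk K, hP.sub _ (CommGrp.mk K) X.property j inferInstance⟩
  let ν : K' ⟶ X := mk' (X := K') j
  have w' : ν ≫ f = 0 := ext' (sqf.w.trans (Hom.one_def).symm)
  have u : ∀ (s : Cofork ν 0), ∃! ψ : Y ⟶ s.pt, f ≫ ψ = Cofork.π s := fun s =>
    exists_colimit hP j f sqf _ ((congrArg und (CokernelCofork.condition s)).trans und_zero)
  have hc : IsColimit (CokernelCofork.ofπ f w') := Cofork.IsColimit.mk _ (fun s => (u s).exists.choose)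
    (fun s => (u s).exists.choose_spec) fun s m hm => (u s).unique hm (u s).exists.choose_spec
  exact ⟨{ W := K', g := ν, w := w', isColimit := hc }⟩

theorem hasFiniteProducts (hP : Good P) : HasFiniteProducts P.FullSubcategory := by
  let T : P.FullSubcategory := ⟨_, hP.one⟩
  haveI : HasTerminal P.FullSubcategory :=
    IsTerminal.hasTerminal (IsTerminal.ofUniqueHom (Y := T)
      (fun X => mk' (Y := T) (toUnit X.obj.X)) (fun X m => ext' (toUnit_unique _ _)))
  haveI : ∀ {X Y : P.FullSubcategory}, HasLimit (pair X Y) := fun {X Y} => by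
    let W : P.FullSubcategory := ⟨_, hP.prod _ _ X.property Y.property⟩
    let a : W ⟶ X := mk' (X := W) (fst X.obj.X Y.obj.X)
    let b : W ⟶ Y := mk' (X := W) (snd X.obj.X Y.obj.X)
    refine HasLimit.mk ⟨BinaryFan.mk a b, BinaryFan.isLimitMk
      (fun s => mk' (Y := W) (CartesianMonoidalCategory.lift (und s.fst) (und s.snd))) (fun s => ext' (lift_fst _ _))
      (fun s => ext' (lift_snd _ _)) fun s m h1 h2 => ext' (CartesianMonoidalCategory.hom_ext _ _ ?_ ?_)⟩
    · exact (congrArg und h1).trans (lift_fst _ _).symm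
    · exact (congrArg und h2).trans (lift_snd _ _).symm
  haveI : HasBinaryProducts P.FullSubcategory := hasBinaryProducts_of_hasLimit_pair _
  exact hasFiniteProducts_of_has_binary_and_terminal

theorem abelian (hP : Good P) : Nonempty (Abelian P.FullSubcategory) :=
  haveI := hasFiniteProducts hP
  haveI := hasKernels hP
  haveI := hasCokernels hP
  haveI := normalMono hP
  haveI := normalEpi hP
  ⟨{}⟩

end Groth.L08.AbelianGrp
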