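import Groth.Agent.L08.MulEtaleBC
import Groth.Agent.L05.Point.FibreGlobal
import Groth.Agent.L23.LocalDimEtale
import Mathlib.AlgebraicGeometry.ZariskisMainTheorem

/-! Multiplication by an invertible integer on an abelian scheme: finite, étale and surjective. -/

set_option autoImplicit false

noncomputable section

universe u

open CategoryTheory AlgebraicGeometry Limits MonObj CartesianMonoidalCategory

namespace Groth.L08.AbSchMul

variable {S : Scheme.{u}} (X : Over S) [GrpObj X] [IsProper X.hom] [GeometricallyReduced X.hom]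
  [GeometricallyConnected X.hom] (n : ℤ) (hn : IsUnit (n : Γ(S, ⊤)))

include hn in
theorem intCast_residueField_ne_zero (s : S) : (n : S.residueField s) ≠ 0 := by
  have h : IsUnit (n : S.residueField s) := by
    have := hn.map (S.evaluation ⊤ s trivial).hom
    rwa [map_intCast] at this
  exact h.ne_zero

include hn in
theorem etale_fibre (s : S) :
    Etale ((Over.pullback (S.fromSpecResidueField s)).map (𝟙 X ^ n)).left := by
  let t : Spec (CommRingCat.of (S.residueField s)) ⟶ S := S.fromSpecResidueField s
  let G := (Over.pullback t).obj X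
  letI : GrpObj G := Functor.grpObjObj
  haveI : IsProper G.hom := inferInstanceAs (IsProper (pullback.snd X.hom t))
  haveI : GeometricallyReduced G.hom := inferInstanceAs (GeometricallyReduced (pullback.snd X.hom t))
  haveI : GeometricallyConnected G.hom :=
    inferInstanceAs (GeometricallyConnected (pullback.snd X.hom t))
  have h := Groth.L08.MulEtale.etale_pow_proper G n (intCast_residueField_ne_zero n hn s)
  rw [← Groth.L08.MulEtale.map_pow_eq t X n] at h
  exact h

include hn in
theorem etale_pow [Flat X.hom] [LocallyOfFinitePresentation X.hom] : Etale (𝟙 X ^ n).left := by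
  refine (Groth.L05.Point.etale_iff_fibres X.hom X.hom _ (Over.w _)).2 fun s => ?_
  have hsq := (Groth.L08.MulEtale.isPullback_map (S.fromSpecResidueField s) (𝟙 X ^ n)).flip
  haveI := etale_fibre X n hn s
  show Etale (pullback.snd (𝟙 X ^ n).left (pullback.fst X.hom (S.fromSpecResidueField s)))
  rw [← hsq.isoPullback_inv_snd]
  infer_instance

include hn in
theorem isFinite_pow [Flat X.hom] [LocallyOfFinitePresentation X.hom] :
    IsFinite (𝟙 X ^ n).left := by
  haveI := etale_pow X n hn
  haveI : IsProper ((𝟙 X ^ n).left ≫ X.hom) := by rw [Over.w]; infer_instance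
  haveI : IsProper (𝟙 X ^ n).left := IsProper.of_comp _ X.hom
  haveI : LocallyQuasiFinite (𝟙 X ^ n).left := Groth.L23.lqf_of_etale _
  exact IsFinite.of_isProper_of_locallyQuasiFinite _

include hn in
theorem surjective_pow [Flat X.hom] [LocallyOfFinitePresentation X.hom] :
    Surjective (𝟙 X ^ n).left := by
  haveI := etale_pow X n hn
  haveI := isFinite_pow X n hn
  refine ⟨fun y => ?_⟩
  let ψ := (𝟙 X ^ n).left
  let s : S := X.hom y
  have hop : IsOpen (Set.range ψ) := (Scheme.Hom.isOpenMap ψ).isOpen_range
  have hcl : IsClosed (Set.range ψ) := (Scheme.Hom.isClosedMap ψ).isClosed_range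
  have hconn : _root_.IsConnected (X.hom ⁻¹' {s}) := Scheme.Hom.isConnected_preimage_singleton X.hom s
  have hne : (X.hom ⁻¹' {s} ∩ Set.range ψ).Nonempty := by
    obtain ⟨z, hz⟩ := hconn.nonempty
    refine ⟨ψ z, ?_, z, rfl⟩
    show X.hom (ψ z) = s
    rw [← Scheme.Hom.comp_apply, Over.w]
    exact hz
  exact hconn.isPreconnected.subset_isClopen ⟨hcl, hop⟩ hne (rfl : X.hom y = s)

end Groth.L08.AbSchMul
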