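import Groth.Agent.L25.Component
import Groth.Agent.L08.SubgroupObj
import Mathlib.AlgebraicGeometry.Geometrically.Irreducible
import Mathlib.AlgebraicGeometry.Morphisms.UniversallyOpen

/-!
# The identity component of a group scheme over a field; images of commutator maps
-/

set_option autoImplicit false
set_option backward.isDefEq.respectTransparency.types false

universe u

open CategoryTheory CategoryTheory.Limits AlgebraicGeometry MonoidalCategory MonObj CartesianMonoidalCategory
open Groth.L25

noncomputable section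

namespace Groth.L08.IdComp

variable {k : Type u} [Field k]

theorem mem_component_of_preconnected {G : Over (Spec (CommRingCat.of k))} [GrpObj G]
    {T : Scheme.{u}} [PreconnectedSpace T] (f : T ⟶ G.left) {c : T} (hc : f c = Component.one G) (x : T) :
    f x ∈ connectedComponent (Component.one G) :=
  (isPreconnected_range f.continuous).subset_connectedComponent ⟨c, hc⟩ ⟨x, rfl⟩

/-- The identity component is an open and closed subgroup scheme. -/
theorem exists_identityComponent (G : Over (Spec (CommRingCat.of k))) [GrpObj G] [LocallyOfFiniteType G.hom] :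
    ∃ (N : Over (Spec (CommRingCat.of k))) (_ : GrpObj N) (j : N ⟶ G), IsMonHom j ∧ IsClosedImmersion j.left ∧
      IsOpenImmersion j.left ∧ Set.range j.left = connectedComponent (Component.one G) := by
  haveI : IsLocallyNoetherian G.left := LocallyOfFiniteType.isLocallyNoetherian G.hom
  let C := connectedComponent (Component.one G)
  have hC : C ∈ irreducibleComponents ↥G.left := Component.connectedComponent_mem G _
  let U : G.left.Opens := ⟨C, Component.isOpen_of_mem G hC⟩
  have hr : Set.range U.ι = C := U.range_ι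
  haveI : IsClosedImmersion U.ι := .of_isPreimmersion _ (hr ▸ isClosed_connectedComponent)
  haveI : GeometricallyIrreducible (U.ι ≫ G.hom) :=
    Component.geometricallyIrreducible_component G U.ι (hr ▸ hC) (hr ▸ mem_connectedComponent)
  haveI : IrreducibleSpace (U : Scheme.{u}) :=
    Component.irreducibleSpace_of_range U.ι (by rw [hr]; exact hC.1)
  haveI : UniversallyOpen (U.ι ≫ G.hom) := inferInstance
  let N : Over (Spec (CommRingCat.of k)) := Over.mk (U.ι ≫ G.hom)
  let j : N ⟶ G := Over.homMk U.ι rfl
  haveI : Mono j.left := inferInstanceAs (Mono U.ι)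
  haveI : Mono j := Over.mono_of_mono_left j
  have hlift : ∀ {T : Over (Spec (CommRingCat.of k))} (f : T ⟶ G), (∀ x, f.left x ∈ C) → ∃ z : T ⟶ N, z ≫ j = f := by
    intro T f hf
    have hsub : Set.range f.left ⊆ Set.range U.ι := by rw [hr]; rintro _ ⟨x, rfl⟩; exact hf x
    refine ⟨Over.homMk (IsOpenImmersion.lift U.ι f.left hsub) ?_, Over.OverMorphism.ext (IsOpenImmersion.lift_fac _ _ _)⟩
    show _ ≫ U.ι ≫ G.hom = T.hom
    rw [IsOpenImmersion.lift_fac_assoc, Over.w f]
  obtain ⟨e, he⟩ := hlift η[G] fun x => by
    rw [show x = IsLocalRing.closedPoint k from Subsingleton.elim (α := PrimeSpectrum k) _ _]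
    exact mem_connectedComponent
  have h1 : ∀ x, j.left (e.left x) = Component.one G := fun x => by
    rw [show x = IsLocalRing.closedPoint k from Subsingleton.elim (α := PrimeSpectrum k) _ _]
    exact congr(($he).left (IsLocalRing.closedPoint k))
  haveI : IrreducibleSpace (N ⊗ N).left := inferInstanceAs (IrreducibleSpace ↥(pullback (U.ι ≫ G.hom) (U.ι ≫ G.hom)))
  obtain ⟨gN, hj⟩ := Groth.L08.exists_grpObj_of_mono j ⟨e, he⟩
    (hlift ((fst N N ≫ j) * (snd N N ≫ j)) (by
      refine mem_component_of_preconnected _ (c := (lift e e).left (IsLocalRing.closedPoint k)) ?_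
      have : lift e e ≫ ((fst N N ≫ j) * (snd N N ≫ j)) = η[G] := by
        rw [MonObj.comp_mul, lift_fst_assoc, lift_snd_assoc, he, one_eq_one, _root_.mul_one]
      exact congr(($this).left (IsLocalRing.closedPoint k))))
    (hlift j⁻¹ (by
      haveI : IrreducibleSpace N.left := inferInstanceAs (IrreducibleSpace (U : Scheme.{u}))
      refine mem_component_of_preconnected _ (c := e.left (IsLocalRing.closedPoint k)) ?_
      have : e ≫ j⁻¹ = η[G] := by rw [GrpObj.comp_inv, he, one_eq_one, _root_.inv_one]
      exact congr(($this).left (IsLocalRing.closedPoint k))))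
  exact ⟨N, gN, j, hj, inferInstanceAs (IsClosedImmersion U.ι), inferInstanceAs (IsOpenImmersion U.ι), hr⟩

theorem quasiCompact_and_connected_of_minimal (G A B Γ : Over (Spec (CommRingCat.of k))) [GrpObj G] [GrpObj A]
    [LocallyOfFiniteType G.hom] [LocallyOfFiniteType A.hom] [ConnectedSpace A.left] [GrpObj Γ]
    (i : Γ ⟶ G) [IsMonHom i] [IsClosedImmersion i.left] (f : A ⊗ B ⟶ G)
    (hf : ∃ f', f' ≫ i = f) (hf1 : lift (1 : B ⟶ A) (𝟙 B) ≫ f = 1)
    (hmin : ∀ (Γ' : Over (Spec (CommRingCat.of k))) (_ : GrpObj Γ') (i' : Γ' ⟶ G), IsMonHom i' → IsClosedImmersion i'.left →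
      (∃ f'' : A ⊗ B ⟶ Γ', f'' ≫ i' = f) → ∃ j : Γ ⟶ Γ', j ≫ i' = i) :
    QuasiCompact Γ.hom ∧ ConnectedSpace Γ.left := by
  obtain ⟨f', hf'⟩ := hf
  haveI : LocallyOfFiniteType Γ.hom := by rw [← Over.w i]; infer_instance
  haveI : IsLocallyNoetherian A.left := LocallyOfFiniteType.isLocallyNoetherian A.hom
  haveI : IrreducibleSpace A.left := Component.irreducibleSpace A
  haveI : GeometricallyIrreducible A.hom := Component.geometricallyIrreducible A
  haveI : Mono i.left := inferInstance
  haveI : Mono i := Over.mono_of_mono_left i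
  obtain ⟨N, gN, j, hj, hjc, hjo, hjr⟩ := exists_identityComponent Γ
  have hmem : ∀ z, f'.left z ∈ Set.range j.left := by
    intro z
    rw [hjr]
    let p : (A ⊗ B).left ⟶ B.left := pullback.snd A.hom B.hom
    let b := p z
    let c : (A ⊗ B).left := (lift (1 : B ⟶ A) (𝟙 B)).left b
    have hpc : p c = b := congr(($(lift_snd (1 : B ⟶ A) (𝟙 B))).left b)
    have hirr : IsIrreducible (p ⁻¹' {b}) := by
      haveI : GeometricallyIrreducible p := inferInstanceAs (GeometricallyIrreducible (pullback.snd A.hom B.hom))
      haveI : UniversallyOpen A.hom := inferInstance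
      exact p.isIrreducible_preimage (pullback.snd A.hom B.hom).isOpenMap isIrreducible_singleton
    have hfc : f'.left c = Component.one Γ := by
      have h : lift (1 : B ⟶ A) (𝟙 B) ≫ f' = 1 := by
        rw [← cancel_mono i, Category.assoc, hf', hf1, MonObj.one_comp]
      exact congr(($h).left b).trans (congrArg η[Γ].left (Subsingleton.elim (α := PrimeSpectrum k) _ _))
    refine ((hirr.image f'.left f'.left.continuous.continuousOn).isConnected.isPreconnected.subset_connectedComponent
      ⟨c, hpc, hfc⟩) ⟨z, rfl, rfl⟩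
  have hsub : Set.range f'.left ⊆ Set.range j.left := Set.range_subset_iff.2 hmem
  let f'' : A ⊗ B ⟶ N := Over.homMk (IsOpenImmersion.lift j.left f'.left hsub) (by
    rw [← Over.w j, IsOpenImmersion.lift_fac_assoc]; exact Over.w f')
  haveI : IsMonHom (j ≫ i) := inferInstance
  haveI : IsClosedImmersion (j ≫ i).left := inferInstanceAs (IsClosedImmersion (j.left ≫ i.left))
  obtain ⟨s, hs⟩ := hmin N gN (j ≫ i) inferInstance inferInstance ⟨f'', by
    rw [← Category.assoc, show f'' ≫ j = f' from Over.OverMorphism.ext (IsOpenImmersion.lift_fac _ _ _), hf']⟩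
  have hs' : s ≫ j = 𝟙 Γ := by rw [← cancel_mono i, Category.assoc, hs, Category.id_comp]
  have huniv : connectedComponent (Component.one Γ) = Set.univ := by
    rw [← hjr]
    exact Set.eq_univ_of_forall fun y => ⟨s.left y, congr(($hs').left y)⟩
  haveI : CompactSpace Γ.left := ⟨huniv ▸ Component.isCompact_connectedComponent Γ _⟩
  refine ⟨(quasiCompact_iff_compactSpace Γ.hom).2 inferInstance, ?_⟩
  exact connectedSpace_iff_univ.2 (huniv ▸ isConnected_connectedComponent)

end Groth.L08.IdComp
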