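import Groth.Agent.L26.AV.GroupSep
import Groth.Agent.L22.FibreDim
import Groth.Agent.L19.Closure
import Mathlib.AlgebraicGeometry.Group.Abelian
import Mathlib.AlgebraicGeometry.Morphisms.Integral
import Mathlib.AlgebraicGeometry.PullbackCarrier
import Mathlib.AlgebraicGeometry.Limits
import Mathlib.FieldTheory.IsAlgClosed.Basic
import Mathlib.Topology.JacobsonSpace

/-!
# Profinite families of rational points of a Jacobson group scheme lie in an affine open
-/

set_option autoImplicit false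
set_option backward.isDefEq.respectTransparency.types false

universe u

open CategoryTheory CategoryTheory.Limits AlgebraicGeometry MonoidalCategory MonObj CartesianMonoidalCategory

noncomputable section

namespace Groth.L08.ProfiniteImage

variable {k : Type u} [Field k] {G : Over (Spec (CommRingCat.of k))} [GrpObj G]

/-- The point of a rational section. -/
def pt (x : 𝟙_ (Over (Spec (CommRingCat.of k))) ⟶ G) : G.left := x.left (IsLocalRing.closedPoint k)

/-- Right translation by a rational point. -/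
def rt (z : 𝟙_ (Over (Spec (CommRingCat.of k))) ⟶ G) : G ⟶ G := 𝟙 G * (toUnit G ≫ z)

/-- Left translation by a rational point. -/
def lt (x : 𝟙_ (Over (Spec (CommRingCat.of k))) ⟶ G) : G ⟶ G := (toUnit G ≫ x) * 𝟙 G

theorem comp_rt {T : Over (Spec (CommRingCat.of k))} (a : T ⟶ G) (z : 𝟙_ (Over (Spec (CommRingCat.of k))) ⟶ G) :
    a ≫ rt z = a * (toUnit T ≫ z) := by
  rw [rt, MonObj.comp_mul, Category.comp_id, ← Category.assoc, toUnit_unique (a ≫ toUnit G) (toUnit T)]

theorem comp_lt {T : Over (Spec (CommRingCat.of k))} (a : T ⟶ G) (x : 𝟙_ (Over (Spec (CommRingCat.of k))) ⟶ G) :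
    a ≫ lt x = (toUnit T ≫ x) * a := by
  rw [lt, MonObj.comp_mul, Category.comp_id, ← Category.assoc, toUnit_unique (a ≫ toUnit G) (toUnit T)]

theorem toUnit_one_comp (x : 𝟙_ (Over (Spec (CommRingCat.of k))) ⟶ G) : toUnit (𝟙_ (Over (Spec (CommRingCat.of k)))) ≫ x = x := by
  rw [toUnit_unique (toUnit (𝟙_ (Over (Spec (CommRingCat.of k))))) (𝟙 _), Category.id_comp]

theorem pt_rt (x z : 𝟙_ (Over (Spec (CommRingCat.of k))) ⟶ G) : (rt z).left (pt x) = pt (x * z) := by
  have h : x ≫ rt z = x * z := by rw [comp_rt, toUnit_one_comp]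
  rw [← h]; rfl

theorem pt_lt (x z : 𝟙_ (Over (Spec (CommRingCat.of k))) ⟶ G) : (lt x).left (pt z) = pt (x * z) := by
  have h : z ≫ lt x = x * z := by rw [comp_lt, toUnit_one_comp]
  rw [← h]; rfl

instance isIso_rt (z : 𝟙_ (Over (Spec (CommRingCat.of k))) ⟶ G) : IsIso (rt z).left := by
  refine ⟨(rt z⁻¹).left, ?_, ?_⟩ <;> rw [← Over.comp_left, comp_rt, rt, _root_.mul_assoc]
  · rw [← MonObj.comp_mul, mul_inv_cancel, MonObj.comp_one, _root_.mul_one]; rfl
  · rw [← MonObj.comp_mul, inv_mul_cancel, MonObj.comp_one, _root_.mul_one]; rfl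

instance isIso_lt (x : 𝟙_ (Over (Spec (CommRingCat.of k))) ⟶ G) : IsIso (lt x).left := by
  refine ⟨(lt x⁻¹).left, ?_, ?_⟩ <;> rw [← Over.comp_left, comp_lt, lt, ← _root_.mul_assoc]
  · rw [← MonObj.comp_mul, inv_mul_cancel, MonObj.comp_one, _root_.one_mul]; rfl
  · rw [← MonObj.comp_mul, mul_inv_cancel, MonObj.comp_one, _root_.one_mul]; rfl

variable [JacobsonSpace G.left]
  (hrat : ∀ g : G.left, IsClosed ({g} : Set G.left) →
    ∃ x : Spec (CommRingCat.of k) ⟶ G.left, x ≫ G.hom = 𝟙 _ ∧ x (IsLocalRing.closedPoint k) = g)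
  {η₀ : G.left} (hη1 : η₀ ⤳ pt (1 : 𝟙_ (Over (Spec (CommRingCat.of k))) ⟶ G)) (hmax : ∀ w, w ⤳ η₀ → w = η₀)

include hrat in
theorem exists_rational {S : Set G.left} (hne : S.Nonempty) (hS : IsLocallyClosed S) :
    ∃ x : 𝟙_ (Over (Spec (CommRingCat.of k))) ⟶ G, pt x ∈ S := by
  obtain ⟨y, hyS, hy⟩ := nonempty_inter_closedPoints hne hS
  obtain ⟨x, hx, hxy⟩ := hrat y hy
  exact ⟨Over.homMk x hx, by change x (IsLocalRing.closedPoint k) ∈ S; rwa [hxy]⟩

include hη1 in
theorem specializes_pt (x : 𝟙_ (Over (Spec (CommRingCat.of k))) ⟶ G) : (lt x).left η₀ ⤳ pt x := by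
  have := hη1.map (lt x).left.continuous
  rwa [pt_lt, _root_.mul_one] at this

include hmax in
theorem max_lt (x : 𝟙_ (Over (Spec (CommRingCat.of k))) ⟶ G) {w : G.left} (hw : w ⤳ (lt x).left η₀) :
    w = (lt x).left η₀ := by
  let h := (lt x).left.homeomorph
  have hh : ∀ y, h y = (lt x).left y := fun y => rfl
  have h1 : h.symm w ⤳ η₀ := by
    have := hw.map h.symm.continuous
    rwa [← hh, h.symm_apply_apply] at this
  rw [← hh, ← hmax _ h1, h.apply_symm_apply]

variable (η₀) in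
/-- The open set detecting which translates of the maximal point lie in `V`. -/
def Q (V : G.left.Opens) : G.left.Opens :=
  ⨆ (z : 𝟙_ (Over (Spec (CommRingCat.of k))) ⟶ G) (_ : η₀ ⤳ pt z), (rt z).left ⁻¹ᵁ V

include hrat in
theorem pt_mem_Q {V : G.left.Opens} (x : 𝟙_ (Over (Spec (CommRingCat.of k))) ⟶ G) :
    pt x ∈ Q η₀ V ↔ (lt x).left η₀ ∈ V := by
  simp only [Q, TopologicalSpace.Opens.mem_iSup]
  constructor
  · rintro ⟨z, hz, hxz⟩
    change (rt z).left (pt x) ∈ V at hxz
    rw [pt_rt, ← pt_lt] at hxz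
    exact (hz.map (lt x).left.continuous).mem_open V.2 hxz
  · intro hV
    obtain ⟨z, hz1, hz2⟩ := exists_rational hrat (S := closure {η₀} ∩ (lt x).left ⁻¹' (V : Set G.left))
      ⟨η₀, subset_closure rfl, hV⟩
      (isClosed_closure.isLocallyClosed.inter (V.2.preimage (lt x).left.continuous).isLocallyClosed)
    refine ⟨z, specializes_iff_mem_closure.2 hz1, ?_⟩
    change (rt z).left (pt x) ∈ V
    rw [pt_rt, ← pt_lt]
    exact hz2

include hrat hη1 hmax in
/-- Adjoining an affine open without losing affineness. -/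
theorem exists_affine_union {W W₂ : G.left.Opens} (hW : IsAffineOpen W) (hW₂ : IsAffineOpen W₂) :
    ∃ W' : G.left.Opens, IsAffineOpen W' ∧ W ≤ W' ∧
      ∀ x : 𝟙_ (Over (Spec (CommRingCat.of k))) ⟶ G, pt x ∈ W₂ → (lt x).left η₀ ∈ W' := by
  haveI : IsSeparated G.hom := Groth.Agent.AV.isSeparated_of_grpObj G
  haveI : G.left.IsSeparated := ⟨by
    rw [← terminalIsTerminal.hom_ext (G.hom ≫ terminal.from _) (terminal.from G.left)]
    infer_instance⟩
  haveI : IsAffine (W : G.left.Opens) := hW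
  haveI : IsAffineHom W.ι :=
    MorphismProperty.of_postcomp (W := @IsAffineHom) (W' := @IsSeparated) W.ι (terminal.from _)
      inferInstance inferInstance
  haveI : QuasiCompact W.ι := inferInstance
  let Wc : G.left.Opens := ⟨(closure (W : Set G.left))ᶜ, isClosed_closure.isOpen_compl⟩
  have hsplit : ∀ x, (lt x).left η₀ ∉ W → (lt x).left η₀ ∈ Wc := by
    intro x hx hcl
    obtain ⟨y, hy⟩ := Groth.L19.exists_specializes_of_mem_closure_range W.ι
      (z := (lt x).left η₀) (by rwa [Scheme.Opens.range_ι])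
    refine hx ?_
    rw [← max_lt hmax x hy]
    exact y.2
  have hdisj : ∀ x, (lt x).left η₀ ∈ W → (lt x).left η₀ ∉ Wc := fun x hx h => h (subset_closure hx)
  let Q₁ : G.left.Opens := Q η₀ W
  let Q₂ : G.left.Opens := Q η₀ Wc
  have hcov : (Q₂ : Set G.left) = (Q₁ : Set G.left)ᶜ := by
    refine Set.Subset.antisymm (fun y h2 h1 => ?_) (fun y h1 => ?_)
    · obtain ⟨x, hx1, hx2⟩ := exists_rational hrat (S := (Q₁ : Set G.left) ∩ Q₂) ⟨y, h1, h2⟩
        (Q₁.2.inter Q₂.2).isLocallyClosed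
      exact hdisj x ((pt_mem_Q hrat x).1 hx1) ((pt_mem_Q hrat x).1 hx2)
    · by_contra h2
      obtain ⟨x, hx1, hx2⟩ := exists_rational hrat (S := (Q₁ : Set G.left)ᶜ ∩ (Q₂ : Set G.left)ᶜ) ⟨y, h1, h2⟩
        (Q₁.2.isClosed_compl.inter Q₂.2.isClosed_compl).isLocallyClosed
      exact hx2 ((pt_mem_Q hrat x).2 (hsplit x fun h => hx1 ((pt_mem_Q hrat x).2 h)))
  let C : G.left.Opens := W₂ ⊓ Q₂
  have hC : IsAffineOpen C := by
    haveI : IsAffine (W₂ : G.left.Opens) := hW₂
    let j := G.left.homOfLE (inf_le_left : C ≤ W₂)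
    have hj : ∀ y, (j y).1 = y.1 := fun y => by
      have := congr($(G.left.homOfLE_ι (inf_le_left : C ≤ W₂)) y)
      simpa [j] using this
    haveI : IsClosedImmersion j := by
      refine IsClosedImmersion.of_isPreimmersion j ?_
      have hr : Set.range j = Subtype.val ⁻¹' (Q₁ : Set G.left)ᶜ := by
        ext ⟨y, hy⟩
        rw [← hcov]
        constructor
        · rintro ⟨⟨z, hz⟩, hzy⟩
          have := hj ⟨z, hz⟩
          rw [hzy] at this
          change y ∈ (Q₂ : Set G.left)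
          rw [show y = z from this]
          exact hz.2
        · intro h
          exact ⟨⟨y, hy, h⟩, Subtype.ext (hj _)⟩
      rw [hr]
      exact Q₁.2.isClosed_compl.preimage continuous_subtype_val
    exact isAffine_of_isAffineHom j
  refine ⟨W ⊔ C, hW.sup_of_disjoint hC ?_, le_sup_left, fun x hx => ?_⟩
  · rw [disjoint_iff, ← TopologicalSpace.Opens.coe_eq_empty]
    by_contra hne
    obtain ⟨x, hx⟩ := exists_rational hrat (Set.nonempty_iff_ne_empty.2 hne) (W ⊓ C).2.isLocallyClosed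
    exact hdisj x ((specializes_pt hη1 x).mem_open W.2 hx.1) ((pt_mem_Q hrat x).1 hx.2.2)
  · by_cases h : (lt x).left η₀ ∈ W
    · exact le_sup_left (b := C) h
    · refine le_sup_right (a := W) ((specializes_pt hη1 x).mem_open C.2 ⟨hx, ?_⟩)
      exact (pt_mem_Q hrat x).2 (hsplit x h)

include hrat hη1 hmax in
theorem exists_affine_translates {S : Set (G.left.Opens)} (hfin : S.Finite) (hS : ∀ V ∈ S, IsAffineOpen V) :
    ∃ W : G.left.Opens, IsAffineOpen W ∧
      ∀ x : 𝟙_ (Over (Spec (CommRingCat.of k))) ⟶ G, (∃ V ∈ S, pt x ∈ V) → (lt x).left η₀ ∈ W := by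
  induction S, hfin using Set.Finite.induction_on with
  | empty => exact ⟨⊥, isAffineOpen_bot _, fun x ⟨V, hV, _⟩ => absurd hV (Set.notMem_empty V)⟩
  | @insert V S _ _ ih =>
    obtain ⟨W, hW, h⟩ := ih fun V' hV' => hS V' (Set.mem_insert_of_mem _ hV')
    obtain ⟨W', hW', hle, h'⟩ := exists_affine_union hrat hη1 hmax hW (hS V (Set.mem_insert _ _))
    refine ⟨W', hW', fun x ⟨V', hV', hx⟩ => ?_⟩
    rcases hV' with rfl | hV'
    · exact h' x hx
    · exact hle (h x ⟨V', hV', hx⟩)

omit [JacobsonSpace G.left] in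
theorem exists_algHom_ker [IsAlgClosed k] {A : Type u} [CommRing A] [Algebra k A] [Algebra.IsIntegral k A]
    (P : Ideal A) [P.IsPrime] : ∃ e : A →ₐ[k] k, RingHom.ker e.toRingHom = P := by
  haveI : Algebra.IsIntegral k (A ⧸ P) :=
    Algebra.IsIntegral.of_surjective (Ideal.Quotient.mkₐ k P) Ideal.Quotient.mk_surjective
  let E := AlgEquiv.ofBijective (Algebra.ofId k (A ⧸ P)) IsAlgClosed.algebraMap_bijective_of_isIntegral
  refine ⟨E.symm.toAlgHom.comp (Ideal.Quotient.mkₐ k P), ?_⟩
  ext a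
  simp [RingHom.mem_ker, Ideal.Quotient.eq_zero_iff_mem]

omit [GrpObj G] [JacobsonSpace G.left] in
theorem comp_left_apply {X Y Z : Over (Spec (CommRingCat.of k))} (a : X ⟶ Y) (b : Y ⟶ Z) (x : X.left) :
    (a ≫ b).left x = b.left (a.left x) := rfl

omit [GrpObj G] [JacobsonSpace G.left] in
/-- Points of a product over a rational point of the first factor. -/
theorem eq_lift_apply_of_fst {T H : Over (Spec (CommRingCat.of k))}
    (τ : 𝟙_ (Over (Spec (CommRingCat.of k))) ⟶ T) (q : (T ⊗ H).left)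
    (hq : τ.left (IsLocalRing.closedPoint k) = (fst T H).left q) :
    q = (lift (toUnit H ≫ τ) (𝟙 H)).left ((snd T H).left q) := by
  let P : Over (Spec (CommRingCat.of k)) :=
    Over.mk (pullback.fst (fst T H).left τ.left ≫ (T ⊗ H).hom)
  let a : P ⟶ T ⊗ H := Over.homMk (pullback.fst (fst T H).left τ.left) rfl
  have hb : (toUnit P).left = pullback.snd (fst T H).left τ.left := by
    have h0 : (toUnit P).left = pullback.fst (fst T H).left τ.left ≫ (T ⊗ H).hom :=
      (Category.comp_id _).symm.trans (Over.w (toUnit P))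
    rw [h0, ← Over.w (fst T H), pullback.condition_assoc, Over.w τ]
    exact Category.comp_id _
  have ha1 : a ≫ fst T H = toUnit P ≫ τ := by
    ext1
    rw [Over.comp_left, Over.comp_left, hb]
    exact pullback.condition
  have ha : a = (a ≫ snd T H) ≫ lift (toUnit H ≫ τ) (𝟙 H) := by
    apply CartesianMonoidalCategory.hom_ext
    · rw [Category.assoc, lift_fst, ha1, ← Category.assoc,
        toUnit_unique ((a ≫ snd T H) ≫ toUnit H) (toUnit P)]
    · rw [Category.assoc, lift_snd, Category.comp_id]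
  obtain ⟨y, hy⟩ : q ∈ Set.range (pullback.fst (fst T H).left τ.left) := by
    rw [Scheme.Pullback.range_fst]
    exact ⟨IsLocalRing.closedPoint k, hq⟩
  have h2 := congrArg (fun φ => φ.left y) ha
  simp only [comp_left_apply] at h2
  have hy' : a.left y = q := hy
  rwa [hy'] at h2

include hrat in
theorem exists_affineOpen_containing_range [IsAlgClosed k] (A : Type u) [CommRing A] [Algebra k A]
    [Algebra.IsIntegral k A] (f : Spec (CommRingCat.of A) ⟶ G.left)
    (hf : f ≫ G.hom = Spec.map (CommRingCat.ofHom (algebraMap k A))) :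
    ∃ U : G.left.Opens, IsAffineOpen U ∧ Set.range f ⊆ (U : Set G.left) := by
  let T : Over (Spec (CommRingCat.of k)) := Over.mk (Spec.map (CommRingCat.ofHom (algebraMap k A)))
  let F : T ⟶ G := Over.homMk f hf
  obtain ⟨η₀, hη1, hmax⟩ :=
    Groth.L22.FibreDim.exists_maximal_specializes (pt (1 : 𝟙_ (Over (Spec (CommRingCat.of k))) ⟶ G))
  -- rational points of the source
  have hτ : ∀ t : T.left, ∃ τ : 𝟙_ (Over (Spec (CommRingCat.of k))) ⟶ T,
      τ.left (IsLocalRing.closedPoint k) = t := by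
    intro t
    obtain ⟨e, he⟩ := exists_algHom_ker (k := k) (A := A) t.asIdeal
    refine ⟨Over.homMk (Spec.map (CommRingCat.ofHom e.toRingHom)) ?_, ?_⟩
    · change Spec.map _ ≫ Spec.map _ = 𝟙 _
      rw [← Spec.map_comp, ← CommRingCat.ofHom_comp,
        show e.toRingHom.comp (algebraMap k A) = algebraMap k k from e.comp_algebraMap]
      exact Spec.map_id _
    · refine PrimeSpectrum.ext ?_
      change Ideal.comap e.toRingHom (IsLocalRing.maximalIdeal k) = t.asIdeal
      rw [IsLocalRing.maximalIdeal_eq_bot, ← RingHom.ker_eq_comap_bot, he]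
  choose τ hτ using hτ
  let σ : T.left → (𝟙_ (Over (Spec (CommRingCat.of k))) ⟶ G) := fun t => τ t ≫ F
  have hσ : ∀ t, pt (σ t) = f t := fun t => by
    change f ((τ t).left (IsLocalRing.closedPoint k)) = f t
    rw [hτ]
  -- affine open containing all translates of the maximal point
  obtain ⟨S, hSfin, hSaff, hScov⟩ : ∃ S : Set G.left.Opens, S.Finite ∧ (∀ V ∈ S, IsAffineOpen V) ∧
      ∀ t : T.left, ∃ V ∈ S, f t ∈ V := by
    have hK : IsCompact (Set.range f) := isCompact_range f.continuous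
    choose V hV hyV _ using fun y : G.left =>
      exists_isAffineOpen_mem_and_subset (x := y) (U := ⊤) trivial
    obtain ⟨s, hs⟩ := hK.elim_finite_subcover (fun y => (V y : Set G.left)) (fun y => (V y).2)
      (fun y _ => Set.mem_iUnion.2 ⟨y, hyV y⟩)
    refine ⟨V '' ↑s, s.finite_toSet.image V, ?_, fun t => ?_⟩
    · rintro _ ⟨y, _, rfl⟩; exact hV y
    · obtain ⟨y, hy, hty⟩ := Set.mem_iUnion₂.1 (hs ⟨t, rfl⟩)
      exact ⟨V y, ⟨y, hy, rfl⟩, hty⟩
  obtain ⟨W, hW, hWmem⟩ := exists_affine_translates hrat hη1 hmax hSfin hSaff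
  have hρ : ∀ t, (lt (σ t)).left η₀ ∈ W := fun t => hWmem _ (by rw [hσ]; exact hScov t)
  -- the open set of points translating the family into `W`
  let m : T ⊗ G ⟶ G := (fst T G ≫ F) * snd T G
  haveI : IsIntegralHom T.hom := (IsIntegralHom.SpecMap_iff).2 (algebraMap_isIntegral_iff.2 inferInstance)
  haveI : IsIntegralHom (snd T G).left := MorphismProperty.pullback_snd T.hom G.hom inferInstance
  let B : Set (T ⊗ G).left := (m.left ⁻¹' (W : Set G.left))ᶜ
  have hB : IsClosed ((snd T G).left '' B) :=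
    (snd T G).left.isClosedMap _ (W.2.preimage m.left.continuous).isClosed_compl
  let sec : T.left → (G ⟶ T ⊗ G) := fun t => lift (toUnit G ≫ τ t) (𝟙 G)
  have hιm : ∀ t, sec t ≫ m = lt (σ t) := fun t => by
    simp only [sec, m, MonObj.comp_mul, lift_fst_assoc, lift_snd, lt, σ, Category.assoc]
  have hfib : ∀ q : (T ⊗ G).left, q = (sec ((fst T G).left q)).left ((snd T G).left q) := fun q =>
    eq_lift_apply_of_fst (τ ((fst T G).left q)) q (hτ _)
  have hη : η₀ ∈ ((snd T G).left '' B)ᶜ := by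
    rintro ⟨q, hq, hq2⟩
    refine hq ?_
    change m.left q ∈ (W : Set G.left)
    rw [hfib q, hq2, ← comp_left_apply, hιm]
    exact hρ _
  obtain ⟨z, hz⟩ := exists_rational hrat ⟨η₀, hη⟩ hB.isOpen_compl.isLocallyClosed
  refine ⟨(rt z).left ⁻¹ᵁ W, hW.preimage_of_isIso _, ?_⟩
  rintro _ ⟨t, rfl⟩
  change (rt z).left (f t) ∈ W
  rw [← hσ, pt_rt, ← pt_lt, ← hιm, comp_left_apply]
  by_contra hn
  refine hz ⟨(sec t).left (pt z), hn, ?_⟩
  rw [← comp_left_apply, lift_snd]
  rfl

end Groth.L08.ProfiniteImage
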