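import Groth.Agent.L08.IsogenyFibres
import Groth.Agent.L08.ProfiniteImage
import Groth.Agent.L05.Point.FibreGlobal
import Groth.Agent.L23.QFDescent
import Groth.Agent.S0386
import Mathlib.AlgebraicGeometry.AlgClosed.Basic
import Mathlib.AlgebraicGeometry.Morphisms.LocalFlatDescent

/-!
# Properties of homomorphisms of group schemes spread from a non-empty open
-/

set_option autoImplicit false
set_option backward.isDefEq.respectTransparency.types false

universe u

open CategoryTheory CategoryTheory.Limits AlgebraicGeometry MonoidalCategory MonObj CartesianMonoidalCategory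
open scoped CategoryTheory.Obj

noncomputable section

namespace Groth.L08.HomLocus

open Groth.L08.ProfiniteImage

variable {P : MorphismProperty Scheme.{u}}

/-- Translations commute with homomorphisms. -/
theorem rt_comp {k : Type u} [Field k] {G H : Over (Spec (CommRingCat.of k))} [GrpObj G] [GrpObj H]
    (u : G ⟶ H) [IsMonHom u] (z : 𝟙_ (Over (Spec (CommRingCat.of k))) ⟶ G) :
    rt z ≫ u = u ≫ rt (z ≫ u) := by
  rw [comp_rt, rt, MonObj.mul_comp, Category.id_comp, Category.assoc]

/-- Over an algebraically closed field: a property of a homomorphism holding on a non-empty open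
holds everywhere. -/
theorem of_open_isAlgClosed [IsZariskiLocalAtSource P] {k : Type u} [Field k] [IsAlgClosed k]
    {G H : Over (Spec (CommRingCat.of k))} [GrpObj G] [GrpObj H] [LocallyOfFiniteType G.hom]
    (u : G ⟶ H) [IsMonHom u] [P.RespectsIso] (W : G.left.Opens) (hW : (W : Set G.left).Nonempty)
    (hP : P (W.ι ≫ u.left)) : P u.left := by
  haveI := LocallyOfFiniteType.jacobsonSpace G.hom
  obtain ⟨x, hxW, hx⟩ := nonempty_inter_closedPoints hW W.2.isLocallyClosed
  have hrat : ∀ g : G.left, IsClosed ({g} : Set G.left) →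
      ∃ s : 𝟙_ (Over (Spec (CommRingCat.of k))) ⟶ G, pt s = g := fun g hg =>
    ⟨Over.homMk _ ((pointEquivClosedPoint G.hom).symm ⟨g, hg⟩).2,
      congrArg Subtype.val ((pointEquivClosedPoint G.hom).apply_symm_apply ⟨g, hg⟩)⟩
  obtain ⟨sx, hsx⟩ := hrat x hx
  refine Groth.L05.Point.of_forall_nhd (P := P) fun y => ?_
  obtain ⟨g, hgy, hg⟩ := nonempty_inter_closedPoints (Z := closure ({y} : Set G.left)) ⟨y, subset_closure rfl⟩ isClosed_closure.isLocallyClosed
  obtain ⟨sg, hsg⟩ := hrat g hg
  let r := (rt (sg⁻¹ * sx)).left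
  haveI : IsIso r := isIso_rt _
  haveI : IsIso (rt ((sg⁻¹ * sx) ≫ u)).left := isIso_rt _
  have hgW : g ∈ r ⁻¹ᵁ W := by
    show r g ∈ W
    rw [← hsg, pt_rt, mul_inv_cancel_left, hsx]
    exact hxW
  refine ⟨r ⁻¹ᵁ W, (specializes_iff_mem_closure.2 hgy).mem_open (r ⁻¹ᵁ W).2 hgW, ?_⟩
  have h1 : P (((r ⁻¹ᵁ W).ι ≫ u.left) ≫ (rt ((sg⁻¹ * sx) ≫ u)).left) := by
    rw [Category.assoc, ← Over.comp_left, ← rt_comp, Over.comp_left, ← Category.assoc, ← morphismRestrict_ι,
      Category.assoc, P.cancel_left_of_respectsIso]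
    exact hP
  exact (P.cancel_right_of_respectsIso _ _).1 h1

/-- The base change of a morphism over `S`. -/
theorem isPullback_bc {S S' : Scheme.{u}} (t : S' ⟶ S) {G H : Over S} (f : G ⟶ H) :
    IsPullback (pullback.fst G.hom t) ((Over.pullback t).map f).left f.left (pullback.fst H.hom t) := by
  refine IsPullback.of_bot (v₂₁ := pullback.snd H.hom t) (v₂₂ := H.hom) (h₃₁ := t) ?_ ?_
    (IsPullback.of_hasPullback H.hom t)
  · rw [Over.w f]
    erw [Over.w ((Over.pullback t).map f)]
    exact IsPullback.of_hasPullback G.hom t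
  · exact (pullback.lift_fst _ _ _).symm

/-- Over any field: a property which is local, stable under base change and descends holds
everywhere as soon as it holds on a non-empty open. -/
theorem of_open [IsZariskiLocalAtSource P] [P.IsStableUnderBaseChange]
    [P.DescendsAlong (@Surjective ⊓ @Flat ⊓ @QuasiCompact)] {k : Type u} [Field k]
    {G H : Over (Spec (CommRingCat.of k))} [GrpObj G] [GrpObj H] [LocallyOfFiniteType G.hom]
    (u : G ⟶ H) [IsMonHom u] (W : G.left.Opens) (hW : (W : Set G.left).Nonempty)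
    (hP : P (W.ι ≫ u.left)) : P u.left := by
  let L := AlgebraicClosure k
  let t := Spec.map (CommRingCat.ofHom (algebraMap k L))
  let G' : Over (Spec (CommRingCat.of L)) := Red.bc t G
  let H' : Over (Spec (CommRingCat.of L)) := Red.bc t H
  haveI : LocallyOfFiniteType G'.hom := inferInstanceAs (LocallyOfFiniteType (pullback.snd G.hom t))
  let u' : G' ⟶ H' := (Over.pullback t).map u
  haveI : IsMonHom u' := Functor.map.instIsMonHom (F := Over.pullback t) (f := u)
  haveI : Surjective t := ⟨fun x => ⟨IsLocalRing.closedPoint L, Subsingleton.elim (α := PrimeSpectrum k) _ _⟩⟩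
  haveI : Surjective (pullback.fst G.hom t) := MorphismProperty.pullback_fst G.hom t ‹Surjective t›
  let W' : G'.left.Opens := pullback.fst G.hom t ⁻¹ᵁ W
  have hW' : (W' : Set G'.left).Nonempty := by
    obtain ⟨x, hx⟩ := hW
    obtain ⟨z, hz⟩ := (pullback.fst G.hom t).surjective x
    exact ⟨z, show pullback.fst G.hom t z ∈ W from hz ▸ hx⟩
  have hP' : P (W'.ι ≫ u'.left) :=
    MorphismProperty.of_isPullback ((isPullback_morphismRestrict (pullback.fst G.hom t) W).paste_vert (isPullback_bc t u)) hP
  have h := of_open_isAlgClosed u' W' hW' hP'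
  exact MorphismProperty.of_isPullback_of_descendsAlong (P := P) (Q := @Surjective ⊓ @Flat ⊓ @QuasiCompact)
    (isPullback_bc t u).flip
    ⟨⟨MorphismProperty.pullback_fst H.hom t ‹Surjective t›, MorphismProperty.pullback_fst H.hom t (inferInstance : Flat t)⟩,
      MorphismProperty.pullback_fst H.hom t (inferInstance : QuasiCompact t)⟩ h

theorem flat_stalk_iso_comp {X X' Y : Scheme.{u}} (e : X' ⟶ X) [IsIso e] (g : X ⟶ Y) (x : X') :
    ((e ≫ g).stalkMap x).hom.Flat ↔ (g.stalkMap (e x)).hom.Flat := by
  rw [Scheme.Hom.stalkMap_comp]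
  exact RingHom.Flat.respectsIso.cancel_right_isIso _ _

variable {S : Scheme.{u}} {G H : Over S} [GrpObj G] [GrpObj H] (u : G ⟶ H) [IsMonHom u]
  [Flat G.hom] [LocallyOfFinitePresentation G.hom] [LocallyOfFiniteType H.hom]

omit [GrpObj G] [GrpObj H] [IsMonHom u] [Flat G.hom] in
theorem lfp_hom : LocallyOfFinitePresentation u.left := by
  haveI : LocallyOfFinitePresentation (u.left ≫ H.hom) := (Over.w u).symm ▸ ‹LocallyOfFinitePresentation G.hom›
  exact Groth.L20.locallyOfFinitePresentation_of_comp u.left H.hom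

theorem fibre_of_open (P : MorphismProperty Scheme.{u}) [IsZariskiLocalAtSource P] [P.IsStableUnderBaseChange]
    [P.DescendsAlong (@Surjective ⊓ @Flat ⊓ @QuasiCompact)] (s : S)
    (W : (Red.bc (S.fromSpecResidueField s) G).left.Opens) (hW : (W : Set (Red.bc (S.fromSpecResidueField s) G).left).Nonempty)
    (hP : P (W.ι ≫ ((Over.pullback (S.fromSpecResidueField s)).map u).left)) :
    P ((Over.pullback (S.fromSpecResidueField s)).map u).left := by
  let G' : Over (Spec (CommRingCat.of (S.residueField s))) := Red.bc (S.fromSpecResidueField s) G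
  let H' : Over (Spec (CommRingCat.of (S.residueField s))) := Red.bc (S.fromSpecResidueField s) H
  letI : GrpObj G' := inferInstanceAs (GrpObj (Red.bc (S.fromSpecResidueField s) G))
  letI : GrpObj H' := inferInstanceAs (GrpObj (Red.bc (S.fromSpecResidueField s) H))
  haveI : LocallyOfFiniteType G'.hom :=
    inferInstanceAs (LocallyOfFiniteType (pullback.snd G.hom (S.fromSpecResidueField s)))
  let φ : G' ⟶ H' := (Over.pullback (S.fromSpecResidueField s)).map u
  haveI : IsMonHom φ := Functor.map.instIsMonHom (F := Over.pullback (S.fromSpecResidueField s)) (f := u)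
  exact of_open φ W hW hP

theorem flat_stalk_iff (x : G.left) :
    (u.left.stalkMap x).hom.Flat ↔ Flat ((Over.pullback (S.fromSpecResidueField (G.hom x))).map u).left := by
  let s := G.hom x
  haveI := lfp_hom u
  have hsq := IsogenyFibres.isPullback_fibre G H u s
  have hfo := Groth.L05.Point.isPullback_fiberMapOver u.left H.hom G.hom (Over.w u) s
  let e := hfo.isoIsPullback _ _ hsq
  have he : e.hom ≫ ((Over.pullback (S.fromSpecResidueField s)).map u).left =
      CohIII.fiberMapOver u.left G.hom H.hom (Over.w u) s := hfo.isoIsPullback_hom_snd _ _ hsq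
  have he' : e.hom ≫ pullback.fst G.hom (S.fromSpecResidueField s) = G.hom.fiberι s :=
    hfo.isoIsPullback_hom_fst _ _ hsq
  refine ⟨fun h => ?_, fun h => ?_⟩
  · let O : G.left.Opens := ⟨{y | (u.left.stalkMap y).hom.Flat}, Groth.Agent.S0386.result u.left⟩
    have hO : Flat (O.ι ≫ u.left) := Flat.of_stalkMap _ fun y => by
      rw [Scheme.Hom.stalkMap_comp]
      exact (RingHom.Flat.respectsIso.cancel_right_isIso _ _).2 y.2
    refine fibre_of_open u @Flat s (pullback.fst G.hom (S.fromSpecResidueField s) ⁻¹ᵁ O) ?_ ?_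
    · refine ⟨e.hom (G.hom.asFiber x), ?_⟩
      show (e.hom ≫ pullback.fst G.hom (S.fromSpecResidueField s)) (G.hom.asFiber x) ∈ O
      rw [he', Scheme.Hom.fiberι_asFiber]
      exact h
    · exact MorphismProperty.of_isPullback
        ((isPullback_morphismRestrict (pullback.fst G.hom (S.fromSpecResidueField s)) O).paste_vert hsq) hO
  · refine Groth.L05.Point.flat_of_fiberMapOver u.left H.hom G.hom (Over.w u) x (Flat.stalkMap _ x)
      (G.hom.asFiber x) (G.hom.fiberι_asFiber x) ?_
    haveI : Flat ((Over.pullback (S.fromSpecResidueField s)).map u).left := h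
    rw [← he]
    exact (flat_stalk_iso_comp _ _ _).2 (@Flat.stalkMap _ _ _ h _)

theorem nhd_smooth_iff (x : G.left) :
    (∃ W : G.left.Opens, x ∈ W ∧ Smooth (W.ι ≫ u.left)) ↔
      Smooth ((Over.pullback (S.fromSpecResidueField (G.hom x))).map u).left := by
  let s := G.hom x
  haveI := lfp_hom u
  have hsq := IsogenyFibres.isPullback_fibre G H u s
  have hfo := Groth.L05.Point.isPullback_fiberMapOver u.left H.hom G.hom (Over.w u) s
  let e := hfo.isoIsPullback _ _ hsq
  have he : e.hom ≫ ((Over.pullback (S.fromSpecResidueField s)).map u).left =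
      CohIII.fiberMapOver u.left G.hom H.hom (Over.w u) s := hfo.isoIsPullback_hom_snd _ _ hsq
  have he' : e.hom ≫ pullback.fst G.hom (S.fromSpecResidueField s) = G.hom.fiberι s :=
    hfo.isoIsPullback_hom_fst _ _ hsq
  refine ⟨fun ⟨O, hxO, hO⟩ => ?_, fun h => ?_⟩
  · refine fibre_of_open u @Smooth s (pullback.fst G.hom (S.fromSpecResidueField s) ⁻¹ᵁ O) ?_ ?_
    · refine ⟨e.hom (G.hom.asFiber x), ?_⟩
      show (e.hom ≫ pullback.fst G.hom (S.fromSpecResidueField s)) (G.hom.asFiber x) ∈ O
      rw [he', Scheme.Hom.fiberι_asFiber]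
      exact hxO
    · exact MorphismProperty.of_isPullback
        ((isPullback_morphismRestrict (pullback.fst G.hom (S.fromSpecResidueField s)) O).paste_vert hsq) hO
  · have h' : Smooth (CohIII.fiberMapOver u.left G.hom H.hom (Over.w u) s) := by
      rw [← he]
      exact (MorphismProperty.cancel_left_of_respectsIso @Smooth _ _).2 h
    have hn := Groth.L05.Point.nhd_top (P := @Smooth) h' (G.hom.asFiber x)
    exact Groth.L05.Point.nhd_smooth_of_fiber u.left x
      (Groth.L05.Point.flat_of_fiberMapOver u.left H.hom G.hom (Over.w u) x (Flat.stalkMap _ x)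
        (G.hom.asFiber x) (G.hom.fiberι_asFiber x) (Groth.L05.Point.flat_of_nhd_smooth _ hn))
      (Groth.L05.Point.nhd_fiber_of_fiberMapOver u.left H.hom G.hom (Over.w u) x (G.hom.asFiber x)
        (G.hom.fiberι_asFiber x) hn)

omit [GrpObj H] [IsMonHom u] [LocallyOfFiniteType H.hom] u in
theorem isOpen_of_preimage (U : Set S) (O : Set G.left) (hO : IsOpen O) (h : O = G.hom ⁻¹' U) : IsOpen U := by
  haveI : Surjective G.hom := ⟨fun s => ⟨η[G].left s, congr(($(Over.w η[G])) s)⟩⟩
  rw [← Set.image_preimage_eq U G.hom.surjective, ← h]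
  exact G.hom.isOpenMap _ hO

end Groth.L08.HomLocus
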