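import Groth.Agent.L08.TangentUnit
import Groth.Agent.L25.Translate
import Mathlib.AlgebraicGeometry.Morphisms.Etale
import Mathlib.AlgebraicGeometry.Morphisms.LocalFlatDescent
import Mathlib.CategoryTheory.Monoidal.Cartesian.Over

/-!
# Multiplication by an integer on a smooth commutative group scheme over a field

It is étale when the integer is invertible; when the integer is zero in the field and it is étale,
all tangent vectors at the identity vanish.
-/

set_option autoImplicit false

noncomputable section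

universe u

open CategoryTheory AlgebraicGeometry Limits MonObj CartesianMonoidalCategory

namespace Groth.L08.MulEtale

open Groth.L25.GrpDeriv Groth.L25.Component Groth.L08.EtalePoint Groth.L08.TangentUnit

variable {K : Type u} [Field K] {G : Over (Spec (CommRingCat.of K))} [GrpObj G]

/-- Affine charts at the identity. -/
theorem exists_chart (W : G.left.Opens) (he : one G ∈ W) :
    ∃ (A : Type u) (_ : CommRing A) (_ : Algebra K A) (u' : sp (K := K) A ⟶ G)
      (_ : IsOpenImmersion u'.left) (χ : A →ₐ[K] K),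
      spMap χ ≫ u' = 1 ∧ Set.range u'.left ⊆ (W : Set G.left) := by
  obtain ⟨_, ⟨U, hU, rfl⟩, hne, hUW⟩ :=
    G.left.isBasis_affineOpens.exists_subset_of_mem_open he W.isOpen
  let A := Γ(G.left, U)
  haveI : IsOpenImmersion hU.fromSpec := hU.isOpenImmersion_fromSpec
  letI : Algebra K A := (Spec.preimage (hU.fromSpec ≫ G.hom)).hom.toAlgebra
  let u' : sp (K := K) A ⟶ G := Over.homMk hU.fromSpec (Spec.map_preimage _).symm
  haveI : IsOpenImmersion u'.left := hU.isOpenImmersion_fromSpec
  obtain ⟨χ, hχ⟩ := exists_lift (u' := u') (1 : sp (K := K) K ⟶ G) (by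
    rintro _ ⟨c, rfl⟩
    rw [Groth.L25.Translate.one_left_apply]
    exact hU.range_fromSpec.ge hne)
  exact ⟨A, inferInstance, inferInstance, u', inferInstance, χ, hχ,
    hU.range_fromSpec.le.trans hUW⟩

theorem smooth_of_chart [Smooth G.hom] {A : Type u} [CommRing A] [Algebra K A]
    (u' : sp (K := K) A ⟶ G) [IsOpenImmersion u'.left] : Algebra.Smooth K A := by
  have h : Smooth (u'.left ≫ G.hom) := inferInstance
  rw [Over.w u'] at h
  have h' : Smooth (Spec.map (CommRingCat.ofHom (algebraMap K A))) := h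
  rw [HasRingHomProperty.Spec_iff (P := @Smooth), CommRingCat.hom_ofHom] at h'
  exact RingHom.smooth_algebraMap.1 h'

theorem one_mem_range {A : Type u} [CommRing A] [Algebra K A] (u' : sp (K := K) A ⟶ G)
    (χ : A →ₐ[K] K) (hχ : spMap χ ≫ u' = 1) : one G ∈ Set.range u'.left :=
  ⟨(spMap χ).left (IsLocalRing.closedPoint K),
    (congrArg (fun f : sp (K := K) K ⟶ G => f.left (IsLocalRing.closedPoint K)) hχ).trans
      (Groth.L25.Translate.one_left_apply _)⟩

theorem one_comp_pow (d : ℤ) {T : Over (Spec (CommRingCat.of K))} :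
    (1 : T ⟶ G) ≫ (𝟙 G ^ d) = 1 := by
  rw [GrpObj.comp_zpow, Category.comp_id, one_zpow]

/-- Two charts compatible with multiplication by `d`. -/
theorem exists_charts (d : ℤ) :
    ∃ (A : Type u) (_ : CommRing A) (_ : Algebra K A) (uA : sp (K := K) A ⟶ G)
      (_ : IsOpenImmersion uA.left) (χA : A →ₐ[K] K)
      (B : Type u) (_ : CommRing B) (_ : Algebra K B) (uB : sp (K := K) B ⟶ G)
      (_ : IsOpenImmersion uB.left) (χB : B →ₐ[K] K) (φ : A →ₐ[K] B),
      spMap χA ≫ uA = 1 ∧ spMap χB ≫ uB = 1 ∧ spMap φ ≫ uA = uB ≫ (𝟙 G ^ d) ∧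
        χB.comp φ = χA := by
  obtain ⟨A, _, _, uA, _, χA, hχA, -⟩ := exists_chart (G := G) ⊤ trivial
  have he : one G ∈ (𝟙 G ^ d).left ⁻¹ᵁ uA.left.opensRange := by
    have h1 : (𝟙 G ^ d).left (one G) = one G := by
      have h := congrArg (fun f : sp (K := K) K ⟶ G => f.left (IsLocalRing.closedPoint K))
        (one_comp_pow (G := G) d (T := sp (K := K) K))
      exact (congrArg (𝟙 G ^ d).left (Groth.L25.Translate.one_left_apply _).symm).trans
        (h.trans (Groth.L25.Translate.one_left_apply _))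
    show (𝟙 G ^ d).left (one G) ∈ Set.range uA.left
    rw [h1]
    exact one_mem_range uA χA hχA
  obtain ⟨B, _, _, uB, _, χB, hχB, hB⟩ := exists_chart (G := G) _ he
  obtain ⟨φ, hφ⟩ := exists_lift (u' := uA) (uB ≫ (𝟙 G ^ d)) (by
    rintro _ ⟨c, rfl⟩
    exact hB ⟨c, rfl⟩)
  refine ⟨A, inferInstance, inferInstance, uA, inferInstance, χA, B, inferInstance, inferInstance,
    uB, inferInstance, χB, φ, hχA, hχB, hφ, spMap_inj (u' := uA) _ _ ?_⟩
  rw [← spMap_comp, Category.assoc, hφ, ← Category.assoc, hχB, one_comp_pow, hχA]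

/-- Multiplication by `d` scales tangent vectors by `d`. -/
theorem pt_comp_pow (d : ℤ) {A B : Type u} [CommRing A] [Algebra K A] [CommRing B] [Algebra K B]
    {uA : sp (K := K) A ⟶ G} [IsOpenImmersion uA.left] {uB : sp (K := K) B ⟶ G}
    [IsOpenImmersion uB.left] {χA : A →ₐ[K] K} {χB : B →ₐ[K] K} {φ : A →ₐ[K] B}
    (hχB : spMap χB ≫ uB = 1)
    (hφ : spMap φ ≫ uA = uB ≫ (𝟙 G ^ d)) (hcomp : χB.comp φ = χA)
    (w : B →ₗ[K] K) (hw : IsPtDer χB w) (w₀ : A →ₗ[K] K) (hw₀ : IsPtDer χA w₀)
    (h : ∀ a, w (φ a) = w₀ a) :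
    pt uA χA w₀ hw₀ = pt uB χB ((d : K) • w) (isPtDer_smul χB _ hw) := by
  rw [pt_zsmul χB hχB w hw d]
  have e : omega χA w₀ hw₀ = (omega χB w hw).comp φ := AlgHom.ext fun a => by
    refine TrivSqZeroExt.ext ?_ ?_
    · rw [fst_omega, AlgHom.comp_apply, fst_omega, ← hcomp]; rfl
    · rw [snd_omega, AlgHom.comp_apply, snd_omega, h]
  rw [pt, e, ← spMap_comp, Category.assoc, hφ, ← Category.assoc, GrpObj.comp_zpow,
    Category.comp_id]
  rfl

/-- Multiplication by `d` invertible is étale at the identity. -/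
theorem exists_etale_nhd [Smooth G.hom] (d : ℤ) (hd : (d : K) ≠ 0) :
    ∃ (W : Scheme.{u}) (i : W ⟶ G.left), IsOpenImmersion i ∧ one G ∈ Set.range i ∧
      Etale (i ≫ (𝟙 G ^ d).left) := by
  obtain ⟨A, _, _, uA, _, χA, B, _, _, uB, _, χB, φ, hχA, hχB, hφ, hcomp⟩ :=
    exists_charts (G := G) d
  letI : Algebra A B := φ.toRingHom.toAlgebra
  haveI : IsScalarTower K A B := IsScalarTower.of_algebraMap_eq fun r => (φ.commutes r).symm
  haveI := smooth_of_chart uA
  haveI := smooth_of_chart uB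
  haveI : (RingHom.ker χB).IsPrime := RingHom.ker_isPrime _
  have hto : χB.comp (IsScalarTower.toAlgHom K A B) = χA := hcomp
  have hres : ∀ {w : B →ₗ[K] K}, IsPtDer χB w → IsPtDer χA (w.comp φ.toLinearMap) := by
    intro w hw a b
    change w (φ (a * b)) = χA a * w (φ b) + χA b * w (φ a)
    rw [map_mul, hw, ← hcomp]
    rfl
  haveI : Algebra.IsEtaleAt A (RingHom.ker χB) := by
    refine isEtaleAt_of_ptDer χB (fun w hw h0 => ?_) fun w₀ hw₀ => ?_
    · have h := pt_comp_pow d hχB hφ hcomp w hw _ (isPtDer_zero χA) h0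
      rw [pt_zero χA hχA, ← pt_zero χB hχB (isPtDer_zero χB)] at h
      have := pt_inj χB _ _ h
      rw [eq_comm, smul_eq_zero] at this
      exact this.resolve_left hd
    · rw [hto] at hw₀
      obtain ⟨w, hw, hwv⟩ := exists_pt χB hχB (pt uA χA w₀ hw₀) (spMap_fst_pt χA hχA w₀ hw₀)
      refine ⟨(d : K)⁻¹ • w, isPtDer_smul χB _ hw, ?_⟩
      have h := pt_comp_pow d hχB hφ hcomp _ (isPtDer_smul χB (d : K)⁻¹ hw) _
        (hres (isPtDer_smul χB _ hw)) fun a => rfl
      have e : (d : K) • (d : K)⁻¹ • w = w := smul_inv_smul₀ hd w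
      have h2 : pt uA χA _ (hres (isPtDer_smul χB (d : K)⁻¹ hw)) = pt uA χA w₀ hw₀ := by
        rw [h, ← hwv]
        congr 1
      exact fun a => LinearMap.congr_fun (pt_inj χA _ _ h2) a
  haveI : Algebra.FinitePresentation A B :=
    Algebra.FinitePresentation.of_restrict_scalars_finitePresentation K A B
  obtain ⟨f, hf, hEt⟩ := Algebra.exists_etale_of_isEtaleAt (R := A) (RingHom.ker χB)
  let Bf := Localization.Away f
  let jA : Spec (CommRingCat.of A) ⟶ G.left := uA.left
  let jB : Spec (CommRingCat.of B) ⟶ G.left := uB.left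
  haveI : IsOpenImmersion jA := ‹IsOpenImmersion uA.left›
  haveI : IsOpenImmersion jB := ‹IsOpenImmersion uB.left›
  let i : Spec (CommRingCat.of Bf) ⟶ G.left :=
    Spec.map (CommRingCat.ofHom (algebraMap B Bf)) ≫ jB
  haveI : IsOpenImmersion (Spec.map (CommRingCat.ofHom (algebraMap B Bf))) :=
    IsOpenImmersion.of_isLocalization f
  refine ⟨_, i, inferInstance, ?_, ?_⟩
  · have hu : IsUnit (χB f) := isUnit_iff_ne_zero.2 hf
    let P : Spec (CommRingCat.of Bf) :=
      (spMap (K := K) (IsLocalization.liftAlgHom (M := Submonoid.powers f) (S := Bf) (f := χB)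
        (by rintro ⟨_, n, rfl⟩; simpa using hu.pow n))).left (IsLocalRing.closedPoint K)
    refine ⟨P, ?_⟩
    have hcomp' : (IsLocalization.liftAlgHom (M := Submonoid.powers f) (S := Bf) (f := χB)
        (by rintro ⟨_, n, rfl⟩; simpa using hu.pow n)).comp (IsScalarTower.toAlgHom K B Bf) = χB :=
      AlgHom.ext fun b => by simp
    have h2 : (spMap (K := K) (IsScalarTower.toAlgHom K B Bf)).left P =
        (spMap χB).left (IsLocalRing.closedPoint K) := by
      conv_rhs => rw [← hcomp', ← spMap_comp]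
      rfl
    exact (congrArg uB.left h2).trans ((congrArg (fun f : sp (K := K) K ⟶ G =>
      f.left (IsLocalRing.closedPoint K)) hχB).trans (Groth.L25.Translate.one_left_apply _))
  · have hc : i ≫ (𝟙 G ^ d).left =
        Spec.map (CommRingCat.ofHom (algebraMap A Bf)) ≫ jA := by
      have h' : jB ≫ (𝟙 G ^ d).left = Spec.map (CommRingCat.ofHom φ.toRingHom) ≫ jA :=
        congrArg (fun f => f.left) hφ.symm
      change (Spec.map _ ≫ jB) ≫ _ = _
      rw [Category.assoc, h', ← Category.assoc, ← Spec.map_comp,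
        ← CommRingCat.ofHom_comp, IsScalarTower.algebraMap_eq A B Bf]
    rw [hc]
    haveI : Etale (Spec.map (CommRingCat.ofHom (algebraMap A Bf))) :=
      (HasRingHomProperty.Spec_iff (P := @Etale)).2 (RingHom.etale_algebraMap.2 hEt)
    infer_instance

variable [IsCommMonObj G]

theorem translate_comp_pow (d : ℤ) (q : MonoidalCategoryStruct.tensorUnit _ ⟶ G) :
    (GrpObj.mulRight q).hom ≫ (𝟙 G ^ d) = (𝟙 G ^ d) ≫ (GrpObj.mulRight (q ^ d)).hom := by
  have h : ∀ r : MonoidalCategoryStruct.tensorUnit _ ⟶ G,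
      (GrpObj.mulRight r).hom = 𝟙 G * (toUnit G ≫ r) := fun r => rfl
  rw [GrpObj.comp_zpow, Category.comp_id, h, h, mul_zpow, MonObj.comp_mul, Category.comp_id,
    ← Category.assoc, comp_toUnit, GrpObj.comp_zpow]

/-- Multiplication by `d` invertible is étale, over an algebraically closed field. -/
theorem etale_pow_of_isAlgClosed [IsAlgClosed K] [Smooth G.hom] (d : ℤ) (hd : (d : K) ≠ 0) :
    Etale (𝟙 G ^ d).left := by
  obtain ⟨W, i, hi, he, hEt⟩ := exists_etale_nhd (G := G) d hd
  haveI := LocallyOfFiniteType.jacobsonSpace G.hom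
  have key : ∀ x : {x : G.left // IsClosed ({x} : Set G.left)}, ∃ V : G.left.Opens,
      (x : G.left) ∈ V ∧ Etale (V.ι ≫ (𝟙 G ^ d).left) := by
    rintro ⟨x, hx⟩
    let q : MonoidalCategoryStruct.tensorUnit (Over (Spec (CommRingCat.of K))) ⟶ G :=
      Over.homMk _ ((pointEquivClosedPoint G.hom).symm ⟨x, hx⟩).2
    have hq : q.left (IsLocalRing.closedPoint K) = x :=
      congrArg Subtype.val ((pointEquivClosedPoint G.hom).apply_symm_apply ⟨x, hx⟩)
    have e : η[G] ≫ (GrpObj.mulRight q).hom = q := by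
      simp only [GrpObj.mulRight_hom, comp_lift_assoc, Category.comp_id]
      rw [← Category.assoc η[G] (toUnit G) q, toUnit_unique (η[G] ≫ toUnit G) (𝟙 _),
        Category.id_comp, ← Category.id_comp η[G]]
      exact lift_comp_one_left _ q
    haveI : IsIso (GrpObj.mulRight q).hom.left :=
      inferInstanceAs (IsIso ((Over.forget _).map (GrpObj.mulRight q).hom))
    haveI : IsIso (GrpObj.mulRight (q ^ d)).hom.left :=
      inferInstanceAs (IsIso ((Over.forget _).map (GrpObj.mulRight (q ^ d)).hom))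
    let j : W ⟶ G.left := i ≫ (GrpObj.mulRight q).hom.left
    refine ⟨j.opensRange, ?_, ?_⟩
    · obtain ⟨z, hz⟩ := he
      refine ⟨z, ?_⟩
      change (GrpObj.mulRight q).hom.left (i z) = x
      rw [hz]
      exact (congr(($e).left (IsLocalRing.closedPoint K))).trans hq
    · have hh : (GrpObj.mulRight q).hom.left ≫ (𝟙 G ^ d).left =
          (𝟙 G ^ d).left ≫ (GrpObj.mulRight (q ^ d)).hom.left :=
        congrArg (fun f => f.left) (translate_comp_pow (G := G) d q)
      rw [← Scheme.Hom.isoOpensRange_inv_comp j, Category.assoc]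
      simp only [j, Category.assoc, hh]
      rw [← Category.assoc i]
      infer_instance
  choose V hxV hV using key
  have hloc : IsZariskiLocalAtSource @Etale :=
    HasRingHomProperty.instIsZariskiLocalAtSource (Q := RingHom.Etale)
  refine IsZariskiLocalAtSource.of_iSup_eq_top (P := @Etale) V ?_ hV
  refine TopologicalSpace.Opens.coe_inj.1 (Set.eq_univ_iff_forall.2 fun z => ?_)
  by_contra hz
  obtain ⟨y, hy, hyc⟩ := nonempty_inter_closedPoints ⟨z, hz⟩
    (iSup V).isOpen.isClosed_compl.isLocallyClosed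
  exact hy (TopologicalSpace.Opens.mem_iSup.2 ⟨⟨y, hyc⟩, hxV _⟩)

end Groth.L08.MulEtale
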