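import Groth.Agent.L18.FactorDesc
import Groth.Agent.L00.SteinNorm
import Groth.Agent.L22.AffineDescent
import Groth.Agent.L25.Actions
import Groth.Agent.L25.Component

/-!
# Actions descend along proper morphisms with the same functions
-/

set_option autoImplicit false
set_option backward.isDefEq.respectTransparency.types false
set_option linter.style.haveILetI false

universe u

open CategoryTheory CategoryTheory.Limits MonoidalCategory CartesianMonoidalCategory MonObj AlgebraicGeometry TopologicalSpace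

noncomputable section

namespace Groth.L08.DescAction

set_option backward.isDefEq.respectTransparency false in
/-- Having the same functions is stable under flat base change. -/
theorem app_bijective_of_isPullback {P X Z Y : Scheme.{u}} {F : P ⟶ Z} {g : P ⟶ X} {f : X ⟶ Y} {q : Z ⟶ Y}
    (H : IsPullback g F f q) [Flat q] [QuasiCompact f] [QuasiSeparated f] (hf : ∀ U, IsIso (f.app U)) (O : Z.Opens) :
    Function.Bijective (F.app O) := by
  haveI : QuasiCompact F := MorphismProperty.of_isPullback H ‹QuasiCompact f›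
  haveI : QuasiSeparated F := MorphismProperty.of_isPullback H ‹QuasiSeparated f›
  refine (ConcreteCategory.isIso_iff_bijective _).1 (Groth.L00.SteinNorm.isIso_app_of_cover F (fun z => ?_) O)
  obtain ⟨U, hU, hzU, -⟩ := exists_isAffineOpen_mem_and_subset (Opens.mem_top (q z))
  obtain ⟨W, hW, hzW, hWU⟩ := exists_isAffineOpen_mem_and_subset (show z ∈ q ⁻¹ᵁ U from hzU)
  refine ⟨W, hzW, hW, ?_⟩
  have eW : F ⁻¹ᵁ W ≤ g ⁻¹ᵁ (f ⁻¹ᵁ U) := by
    intro p hp
    show f (g p) ∈ U
    rw [← Scheme.Hom.comp_apply, H.w, Scheme.Hom.comp_apply]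
    exact hWU hp
  have hsq : IsPullback (g.resLE (f ⁻¹ᵁ U) (F ⁻¹ᵁ W) eW) (F ∣_ W) (f ∣_ U) (q.resLE U W hWU) := by
    refine IsPullback.of_right (h₁₂ := (f ⁻¹ᵁ U).ι) ?_ ?_ (isPullback_morphismRestrict f U).flip
    · rw [Scheme.Hom.resLE_comp_ι, Scheme.Hom.resLE_comp_ι]
      exact (isPullback_morphismRestrict F W).flip.paste_horiz H
    · rw [← cancel_mono U.ι, Category.assoc, morphismRestrict_ι, Scheme.Hom.resLE_comp_ι_assoc, Category.assoc,
        Scheme.Hom.resLE_comp_ι, morphismRestrict_ι_assoc, H.w]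
  haveI : IsAffine U.toScheme := hU
  haveI : IsAffine W.toScheme := hW
  haveI : Flat (q.resLE U W hWU) := by delta Scheme.Hom.resLE; infer_instance
  haveI : CompactSpace (f ⁻¹ᵁ U).toScheme :=
    isCompact_iff_compactSpace.mp (QuasiCompact.isCompact_preimage (f := f) _ U.2 hU.isCompact)
  haveI : QuasiSeparatedSpace (f ⁻¹ᵁ U).toScheme := quasiSeparatedSpace_of_quasiSeparated (f ∣_ U)
  have hpo := Groth.L22.AffDesc.isPushout_appTop hsq
  haveI : IsIso (f ∣_ U).appTop := by
    show IsIso ((f ∣_ U).app ⊤)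
    rw [morphismRestrict_app]
    haveI := hf (U.ι ''ᵁ ⊤)
    infer_instance
  have h1 : IsIso (F ∣_ W).appTop := hpo.isIso_inr_of_isIso
  have h2 : IsIso ((F ∣_ W).app ⊤) := h1
  rw [morphismRestrict_app] at h2
  have h3 : IsIso (F.app (W.ι ''ᵁ ⊤)) := @IsIso.of_isIso_comp_right _ _ _ _ _ _ _ inferInstance h2
  rwa [W.ι_image_top] at h3

theorem surjective_of_app_injective {X Y : Scheme.{u}} (f : X ⟶ Y) (hcl : IsClosedMap f)
    (hinj : ∀ U, Function.Injective (f.app U)) : Surjective f := by
  refine ⟨fun y => ?_⟩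
  by_contra h
  let U : Y.Opens := ⟨(Set.range f)ᶜ, hcl.isClosed_range.isOpen_compl⟩
  haveI : Nonempty (U : Scheme.{u}) := ⟨⟨y, h⟩⟩
  have hbot : f ⁻¹ᵁ U = ⊥ := Opens.ext (Set.eq_empty_iff_forall_notMem.2 fun x hx => hx ⟨x, rfl⟩)
  haveI : Subsingleton Γ(X, f ⁻¹ᵁ U) := by rw [hbot]; infer_instance
  exact zero_ne_one (α := Γ(Y, U)) (hinj U (Subsingleton.elim _ _))

variable {k : Type u} [Field k] {G X Y : Over (Spec (CommRingCat.of k))}
  (f : X ⟶ Y) [IsProper f.left] (hf : ∀ U : Y.left.Opens, IsIso (f.left.app U))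

include hf

theorem surjective_f : Surjective f.left :=
  surjective_of_app_injective f.left f.left.isClosedMap fun U => ((ConcreteCategory.isIso_iff_bijective _).1 (hf U)).1

theorem bijective_whisker (G : Over (Spec (CommRingCat.of k))) (O : (G ⊗ Y).left.Opens) :
    Function.Bijective ((G ◁ f).left.app O) := by
  haveI : Flat (snd G Y).left := inferInstanceAs (Flat (pullback.snd G.hom Y.hom))
  exact app_bijective_of_isPullback (Groth.L25.Actions.isPullback_whiskerLeft_left G f).flip hf O

theorem proper_whisker (G : Over (Spec (CommRingCat.of k))) :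
    IsProper (G ◁ f).left ∧ Surjective (G ◁ f).left :=
  ⟨Groth.L25.Actions.of_whiskerLeft @IsProper G f ‹_›,
    Groth.L25.Actions.of_whiskerLeft @Surjective G f (surjective_f f hf)⟩

theorem epi_whisker (G : Over (Spec (CommRingCat.of k))) : Epi (G ◁ f) := by
  haveI := (proper_whisker f hf G).2
  haveI : Epi (G ◁ f).left := Groth.Agent.S2913.result (G ◁ f).left fun U => (bijective_whisker f hf G U).1
  exact (Over.forget _).epi_of_epi_map (inferInstanceAs (Epi (G ◁ f).left))

theorem epi_f : Epi f := by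
  haveI := surjective_f f hf
  haveI : Epi f.left := Groth.Agent.S2913.result f.left fun U => ((ConcreteCategory.isIso_iff_bijective _).1 (hf U)).1
  exact (Over.forget _).epi_of_epi_map (inferInstanceAs (Epi f.left))

variable [GrpObj G] (a : AlgGrp.Action G X)

/-- An action descends as soon as it respects the fibres topologically. -/
theorem existsUnique_action
    (h : ∀ p q : ↥(G ⊗ X).left, (G ◁ f).left p = (G ◁ f).left q → (a.act ≫ f).left p = (a.act ≫ f).left q) :
    ∃! b : AlgGrp.Action G Y, (G ◁ f) ≫ b.act = a.act ≫ f := by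
  obtain ⟨_, _⟩ := proper_whisker f hf G
  haveI := epi_whisker f hf G
  haveI := epi_f f hf
  haveI := epi_whisker f hf (G ⊗ G)
  obtain ⟨u, hu, -⟩ := Groth.L18.FactorDesc.existsUnique_desc (G ◁ f).left (G ◁ f).left.isClosedMap
    (bijective_whisker f hf G) (a.act ≫ f).left h
  haveI : Epi (G ◁ f).left := Groth.Agent.S2913.result (G ◁ f).left fun U => (bijective_whisker f hf G U).1
  let B : G ⊗ Y ⟶ Y := Over.homMk u (by
    rw [← cancel_epi (G ◁ f).left, reassoc_of% hu, Over.w (a.act ≫ f), Over.w (G ◁ f)])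
  have hB : (G ◁ f) ≫ B = a.act ≫ f := Over.OverMorphism.ext hu
  have hB' : ∀ {T : Over (Spec (CommRingCat.of k))} (g : T ⟶ G) (x : T ⟶ X),
      lift g (x ≫ f) ≫ B = lift g x ≫ a.act ≫ f := fun g x => by
    rw [← lift_whiskerLeft_assoc, hB]
  let b : AlgGrp.Action G Y :=
    { act := B
      one_act := by
        have h0 : lift (1 : Y ⟶ G) (𝟙 Y) ≫ B = 𝟙 Y := by
          rw [← cancel_epi f, comp_lift_assoc, MonObj.comp_one, Category.comp_id, ← Category.id_comp f, hB',
            reassoc_of% Groth.L25.Actions.one_act a, Category.id_comp]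
        have e : η[G] ▷ Y = lift (1 : 𝟙_ _ ⊗ Y ⟶ G) (snd (𝟙_ _) Y) :=
          CartesianMonoidalCategory.hom_ext _ _ (by
            rw [whiskerRight_fst, lift_fst, Hom.one_def, Subsingleton.elim (fst (𝟙_ _) Y) (toUnit _)]) (by simp)
        rw [e, leftUnitor_hom, show lift (1 : 𝟙_ _ ⊗ Y ⟶ G) (snd (𝟙_ _) Y) = snd (𝟙_ _) Y ≫ lift 1 (𝟙 Y) by
          rw [comp_lift, MonObj.comp_one, Category.comp_id], Category.assoc, h0, Category.comp_id]
      mul_act := by
        rw [← cancel_epi ((G ⊗ G) ◁ f)]
        let g := fst (G ⊗ G) X ≫ fst G G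
        let g' := fst (G ⊗ G) X ≫ snd G G
        let x := snd (G ⊗ G) X
        have l1 : (G ⊗ G) ◁ f ≫ (μ[G] ▷ Y) = lift (g * g') (x ≫ f) := by
          apply CartesianMonoidalCategory.hom_ext
          · simp only [Category.assoc, whiskerRight_fst, whiskerLeft_fst_assoc, lift_fst, g, g']
            rw [Hom.mul_def, ← comp_lift_assoc, lift_fst_snd, Category.id_comp]
          · simp [x]
        have l2 : (G ⊗ G) ◁ f ≫ (α_ G G Y).hom ≫ (G ◁ B) = lift g (lift g' (x ≫ f) ≫ B) := by
          apply CartesianMonoidalCategory.hom_ext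
          · simp only [Category.assoc, whiskerLeft_fst, lift_fst, associator_hom_fst, whiskerLeft_fst_assoc, g]
          · simp only [Category.assoc, whiskerLeft_snd, lift_snd, g', x]
            rw [← Category.assoc (α_ G G Y).hom, ← Category.assoc ((G ⊗ G) ◁ f)]
            congr 1
            apply CartesianMonoidalCategory.hom_ext <;> simp
        rw [reassoc_of% l1, reassoc_of% l2, hB', reassoc_of% Groth.L25.Actions.mul_act a, hB', ← Category.assoc (lift g' x),
          hB'] }
  refine ⟨b, hB, fun b' hb' => ?_⟩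
  obtain ⟨b', _, _⟩ := b'
  exact (AlgGrp.Action.mk.injEq _ _ _ _ _ _).mpr ((cancel_epi (G ◁ f)).1 (hb'.trans hB.symm))

end Groth.L08.DescAction
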