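import Groth.Agent.L08.GrpLCI2
import Groth.Agent.L07.SyntLCI
import Groth.Agent.L21.GorensteinLCIScheme
import Groth.Agent.L21.GorensteinFieldExt
import Groth.Agent.L29.Dual.GorensteinRing
import Groth.Agent.L06.Dim

/-!
# Flat group schemes over Gorenstein bases are Gorenstein
-/

set_option autoImplicit false
set_option backward.isDefEq.respectTransparency.types false

universe u

open CategoryTheory AlgebraicGeometry

noncomputable section

namespace Groth.L08.GrpGorenstein

theorem isLCIMor_of_isSyntomicMor {X S : Scheme.{u}} (f : X ⟶ S) (hf : Synt.IsSyntomicMor f) :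
    Dual3.IsLCIMor f := by
  intro x
  obtain ⟨U, V, e, hx, h⟩ := hf x
  letI := (f.appLE V.1 U.1 e).hom.toAlgebra
  exact ⟨U, V, e, hx, Groth.L07.SyntLCI.isLCI_of_isSyntomic h⟩

theorem isGorenstein_spec (R : Type u) [CommRing R] (h : LocCoh.IsGorensteinRing R) :
    Dual3.IsGorenstein (Spec (CommRingCat.of R)) := by
  haveI := h
  haveI : IsNoetherianRing R := inferInstance
  refine ⟨inferInstance, fun x => ?_⟩
  exact Groth.L21.GorensteinAscend.isGorensteinLocalRing_of_ringEquiv
    ((StructureSheaf.stalkIso R x).toRingEquiv)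
    (h.isGorensteinLocalRing_localization x.asIdeal)

theorem isGorensteinRing_field (k : Type u) [Field k] : LocCoh.IsGorensteinRing k :=
  { (inferInstance : IsNoetherianRing k) with
    isGorensteinLocalRing_localization := fun p _ => Groth.L21.GorensteinFieldExt.locGor_field k p }

theorem isGorensteinRing_of_local (R : Type u) [CommRing R] [LocCoh.IsGorensteinLocalRing R] :
    LocCoh.IsGorensteinRing R ∧ ringKrullDim R < ⊤ := by
  obtain ⟨n, hn⟩ := LocCoh.IsGorensteinLocalRing.exists_hasInjectiveDimensionLT (A := R)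
  exact Groth.L29.Gorenstein.finite_injdim_self_iff.1 ⟨n, hn⟩

theorem ringKrullDim_lt_top {R A : Type u} [CommRing R] [IsNoetherianRing R] [CommRing A] [Algebra R A]
    [Algebra.FiniteType R A] (h : ringKrullDim R < ⊤) : ringKrullDim A < ⊤ := by
  obtain ⟨n, f, hf⟩ := Algebra.FiniteType.iff_quotient_mvPolynomial''.1 ‹Algebra.FiniteType R A›
  refine (ringKrullDim_le_of_surjective f.toRingHom hf).trans_lt ?_
  rw [MvPolynomial.ringKrullDim_of_isNoetherianRing]
  generalize ringKrullDim R = d at h
  induction d with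
  | bot => simp
  | coe d =>
    induction d with
    | top => exact absurd h (lt_irrefl _)
    | coe m =>
      have h1 := WithBot.coe_lt_coe.2 (ENat.coe_lt_top (m + Nat.card (Fin n)))
      rw [ENat.coe_add, WithBot.coe_add] at h1
      exact h1

theorem topologicalKrullDim_lt_top {R : Type u} [CommRing R] [IsNoetherianRing R] (h : ringKrullDim R < ⊤)
    {X : Scheme.{u}} (f : X ⟶ Spec (CommRingCat.of R)) [LocallyOfFiniteType f] [QuasiCompact f] :
    topologicalKrullDim X < ⊤ := by
  haveI : CompactSpace X := QuasiCompact.compactSpace_of_compactSpace f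
  obtain ⟨T, hT⟩ := (isCompact_univ : IsCompact (Set.univ : Set X)).elim_finite_subcover
    (fun U : X.affineOpens => ((U : X.Opens) : Set X)) (fun U => U.1.2) (by
      intro x _
      obtain ⟨_, ⟨U, hU, rfl⟩, hx, -⟩ := X.isBasis_affineOpens.exists_subset_of_mem_open (Set.mem_univ x) isOpen_univ
      exact Set.mem_iUnion.2 ⟨⟨U, hU⟩, hx⟩)
  have hU : ∀ U : X.affineOpens, topologicalKrullDim ((U : X.Opens) : Set X) < ⊤ := by
    rintro ⟨U, hU⟩
    obtain ⟨φ, hφ⟩ := Spec.map_surjective (hU.fromSpec ≫ f)
    letI : Algebra R Γ(X, U) := φ.hom.toAlgebra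
    haveI : Algebra.FiniteType R Γ(X, U) := by
      rw [← RingHom.finiteType_algebraMap]
      refine (HasRingHomProperty.Spec_iff (P := @LocallyOfFiniteType) (φ := φ)).1 ?_
      rw [hφ]; infer_instance
    refine lt_of_eq_of_lt ?_ (ringKrullDim_lt_top (A := Γ(X, U)) h)
    rw [← PrimeSpectrum.topologicalKrullDim_eq_ringKrullDim]
    exact (hU.isoSpec.hom.homeomorph.isHomeomorph.topologicalKrullDim_eq)
  refine (iSup_le fun p => ?_).trans_lt
    (show (T.sup fun U => topologicalKrullDim ((U : X.Opens) : Set X)) < ⊤ from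
      (Finset.sup_lt_iff (by simp)).2 fun U _ => hU U)
  obtain ⟨x, hx⟩ := p.head.isIrreducible'.nonempty
  obtain ⟨U, hUT, hxU⟩ := Set.mem_iUnion₂.1 (hT (Set.mem_univ x))
  exact (Groth.L06.Dim.length_le_of_head_inter p U.1.2 ⟨x, hx, hxU⟩).trans
    (Finset.le_sup (f := fun U : X.affineOpens => topologicalKrullDim ((U : X.Opens) : Set X)) hUT)

theorem isGorenstein_grp {R : Type u} [CommRing R] (hR : LocCoh.IsGorensteinRing R)
    (G : Over (Spec (CommRingCat.of R))) [GrpObj G] [Flat G.hom] [LocallyOfFiniteType G.hom] :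
    Dual3.IsGorenstein G.left := by
  haveI := hR
  haveI : IsNoetherianRing R := inferInstance
  haveI : LocallyOfFinitePresentation G.hom := Groth.L23.lfp_of_lft_locallyNoetherian G.hom
  exact Groth.L21.GorensteinLCI.isGorenstein_of_isLCIMor G.hom
    (isLCIMor_of_isSyntomicMor _ (Groth.L08.GrpLCI.isSyntomicMor G)) (isGorenstein_spec R hR)

end Groth.L08.GrpGorenstein
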