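import Groth.Agent.S16117
import Groth.Agent.L26.AV.Hom
import Groth.Agent.L26.AV.SmoothField
import Groth.Agent.L26.AV.GroupSep
import Groth.Agent.L25.Actions
import Groth.Prelude.Def_AlgGrp

/-!
# Units on connected groups are characters
-/

set_option autoImplicit false
set_option backward.isDefEq.respectTransparency.types false
set_option linter.style.haveILetI false

universe u

open CategoryTheory CategoryTheory.Limits MonoidalCategory CartesianMonoidalCategory MonObj GrpObj AlgebraicGeometry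

noncomputable section

namespace Groth.L08.UnitChar

variable {k : Type u} [Field k]

/-- Pullback of functions. -/
abbrev pb {X Y : Over (Spec (CommRingCat.of k))} (φ : X ⟶ Y) : Γ(Y.left, ⊤) →+* Γ(X.left, ⊤) := φ.left.appTop.hom

theorem pb_comp {X Y Z : Over (Spec (CommRingCat.of k))} (φ : X ⟶ Y) (ψ : Y ⟶ Z) (c : Γ(Z.left, ⊤)) :
    pb (φ ≫ ψ) c = pb φ (pb ψ c) := rfl

theorem pb_id {X : Over (Spec (CommRingCat.of k))} (c : Γ(X.left, ⊤)) : pb (𝟙 X) c = c := rfl

/-- Pullback of a constant. -/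
theorem pb_toUnit {X Y : Over (Spec (CommRingCat.of k))} (φ : X ⟶ Y)
    (c : Γ((𝟙_ (Over (Spec (CommRingCat.of k)))).left, ⊤)) : pb φ (pb (toUnit Y) c) = pb (toUnit X) c := by
  rw [← pb_comp, toUnit_unique (φ ≫ toUnit Y) (toUnit X)]

variable (G : Over (Spec (CommRingCat.of k))) [GrpObj G] [Smooth G.hom] [ConnectedSpace G.left]

theorem isIntegral_left : IsIntegral G.left := by
  haveI := Groth.Agent.AV.geometricallyReduced_of_smooth G.hom
  haveI := Groth.Agent.AV.geometricallyIntegral_of_connected G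
  exact GeometricallyIntegral.isIntegral_of_subsingleton G.hom

variable [IsAlgClosed k] [QuasiCompact G.hom]

/-- A unit which is one at the origin is a character. -/
theorem char_of_unit (f : Γ(G.left, ⊤)) (hf : IsUnit f) (he : pb η[G] f = 1) :
    pb μ[G] f = pb (fst G G) f * pb (snd G G) f := by
  haveI := isIntegral_left G
  haveI : IsSeparated G.hom := Groth.Agent.AV.isSeparated_of_grpObj G
  obtain ⟨g, h, -, -, e⟩ := Groth.Agent.S16117.result k G G (pb μ[G] f) (hf.map _)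
  change pb μ[G] f = pb (fst G G) g * pb (snd G G) h at e
  let T := pb (toUnit G)
  let r : G ⟶ G ⊗ G := lift (𝟙 G) (toUnit G ≫ η[G])
  let l : G ⟶ G ⊗ G := lift (toUnit G ≫ η[G]) (𝟙 G)
  have hr : f = g * T (pb η[G] h) := by
    have h1 := congrArg (pb r) e
    rw [← pb_comp, map_mul, ← pb_comp, ← pb_comp, lift_fst, lift_snd,
      show r ≫ μ[G] = 𝟙 G from lift_comp_one_right (𝟙 G) (toUnit G), pb_id, pb_id, pb_comp] at h1
    exact h1
  have hl : f = T (pb η[G] g) * h := by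
    have h1 := congrArg (pb l) e
    rw [← pb_comp, map_mul, ← pb_comp, ← pb_comp, lift_fst, lift_snd,
      show l ≫ μ[G] = 𝟙 G from lift_comp_one_left (toUnit G) (𝟙 G), pb_id, pb_id, pb_comp] at h1
    exact h1
  have hgh : pb η[G] g * pb η[G] h = 1 := by
    have h2 := congrArg (pb η[G]) hr
    rw [he, map_mul, pb_toUnit] at h2
    rw [h2, toUnit_unique (toUnit (𝟙_ _)) (𝟙 _), pb_id]
  rw [e, congrArg (pb (fst G G)) hr, congrArg (pb (snd G G)) hl, map_mul, map_mul, pb_toUnit, pb_toUnit]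
  have h3 : pb (toUnit (G ⊗ G)) (pb η[G] g) * pb (toUnit (G ⊗ G)) (pb η[G] h) = 1 := by
    rw [← map_mul, hgh, map_one]
  linear_combination (-(pb (fst G G) g * pb (snd G G) h)) * h3

/-- Units on a product with a group. -/
theorem unit_prod (X : Over (Spec (CommRingCat.of k))) [IsIntegral X.left] [IsSeparated X.hom]
    [LocallyOfFiniteType X.hom] [QuasiCompact X.hom] (f : Γ((G ⊗ X).left, ⊤)) (hf : IsUnit f) :
    ∃ (χ : Γ(G.left, ⊤)) (v : Γ(X.left, ⊤)), IsUnit χ ∧ pb η[G] χ = 1 ∧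
      pb μ[G] χ = pb (fst G G) χ * pb (snd G G) χ ∧ IsUnit v ∧ f = pb (fst G X) χ * pb (snd G X) v := by
  haveI := isIntegral_left G
  haveI : IsSeparated G.hom := Groth.Agent.AV.isSeparated_of_grpObj G
  obtain ⟨g, h, hg, hh, e⟩ := Groth.Agent.S16117.result k G X f hf
  obtain ⟨c, hc⟩ := hg.map (pb η[G])
  let χ := g * pb (toUnit G) (↑c⁻¹)
  have hχ : IsUnit χ := hg.mul ((Units.isUnit _).map _)
  have he : pb η[G] χ = 1 := by
    rw [map_mul, pb_toUnit, toUnit_unique (toUnit (𝟙_ _)) (𝟙 _), pb_id, ← hc, Units.mul_inv]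
  refine ⟨χ, pb (toUnit X) ↑c * h, hχ, he, char_of_unit G χ hχ he, ((Units.isUnit _).map _).mul hh, ?_⟩
  change f = _
  rw [e]
  change pb (fst G X) g * pb (snd G X) h = pb (fst G X) χ * pb (snd G X) (pb (toUnit X) ↑c * h)
  rw [map_mul, map_mul, pb_toUnit, pb_toUnit]
  have h3 : pb (toUnit (G ⊗ X)) ↑c⁻¹ * pb (toUnit (G ⊗ X)) ↑c = 1 := by
    rw [← map_mul, Units.inv_mul, map_one]
  linear_combination (-(pb (fst G X) g * pb (snd G X) h)) * h3

/-- Units are semi-invariant. -/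
theorem semiInvariant (X : Over (Spec (CommRingCat.of k))) [IsIntegral X.left] [IsSeparated X.hom]
    [LocallyOfFiniteType X.hom] [QuasiCompact X.hom] (a : AlgGrp.Action G X) (f : Γ(X.left, ⊤)) (hf : IsUnit f) :
    ∃! χ : Γ(G.left, ⊤), IsUnit χ ∧ pb η[G] χ = 1 ∧ pb μ[G] χ = pb (fst G G) χ * pb (snd G G) χ ∧
      pb a.act f = pb (fst G X) χ * pb (snd G X) f := by
  obtain ⟨χ, v, hχ, he, hm, -, e⟩ := unit_prod G X (pb a.act f) (hf.map _)
  let l : X ⟶ G ⊗ X := lift (1 : X ⟶ G) (𝟙 X)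
  have hv : v = f := by
    have h1 := congrArg (pb l) e
    rw [← pb_comp, map_mul, ← pb_comp, ← pb_comp, lift_fst, lift_snd,
      show l ≫ a.act = 𝟙 X from Groth.L25.Actions.one_act a (𝟙 X), pb_id, pb_id, Hom.one_def, pb_comp, he,
      map_one, _root_.one_mul] at h1
    exact h1.symm
  rw [hv] at e
  refine ⟨χ, ⟨hχ, he, hm, e⟩, fun χ' h' => ?_⟩
  haveI := LocallyOfFiniteType.jacobsonSpace X.hom
  obtain ⟨p, -, hp⟩ := nonempty_inter_closedPoints (Z := (Set.univ : Set X.left))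
    ⟨genericPoint X.left, trivial⟩ isClosed_univ.isLocallyClosed
  let x : 𝟙_ (Over (Spec (CommRingCat.of k))) ⟶ X := Over.homMk _ ((pointEquivClosedPoint X.hom).symm ⟨p, hp⟩).2
  let s : G ⟶ G ⊗ X := lift (𝟙 G) (toUnit G ≫ x)
  have h1 := congrArg (pb s) ((hf.map (pb (snd G X))).mul_left_injective (h'.2.2.2.symm.trans e))
  rw [← pb_comp, ← pb_comp, lift_fst, pb_id, pb_id] at h1
  exact h1

end Groth.L08.UnitChar
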