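import Groth.Agent.L13.FixedLocus.Coeff
import Groth.Agent.L13.FixedLocus.Glue
import Mathlib.AlgebraicGeometry.Pullbacks
import Mathlib.AlgebraicGeometry.Morphisms.Separated
import Mathlib.CategoryTheory.Monoidal.Cartesian.Over
import Mathlib.LinearAlgebra.FreeModule.Basic
import Mathlib.LinearAlgebra.Basis.VectorSpace

/-!
# Over a field, the locus over which a family lands in a closed subscheme is closed

For `k`-schemes `H`, `Y` and a closed subscheme `E` of `H × Y`, the points `g` of `Y` with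
`H × g` factoring through `E` form a closed subscheme of `Y`.
-/

set_option autoImplicit false
set_option backward.isDefEq.respectTransparency.types false

universe u

open CategoryTheory AlgebraicGeometry Limits TensorProduct

noncomputable section

namespace Groth.L08.FactorLocus

theorem exists_ideal_factor {M : Type u} [CommRing M] {W E : Scheme.{u}} (e : E ⟶ W) [IsClosedImmersion e]
    (q : Spec (CommRingCat.of M) ⟶ W) :
    ∃ J : Ideal M, ∀ (R : CommRingCat.{u}) (ψ : CommRingCat.of M ⟶ R),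
      (∃ w : Spec R ⟶ E, w ≫ e = Spec.map ψ ≫ q) ↔ J ≤ RingHom.ker ψ.hom := by
  let ι := pullback.fst q e
  haveI : IsClosedImmersion ι := inferInstance
  obtain ⟨J, ⟨i, hi⟩⟩ := IsClosedImmersion.Spec_iff.1 ‹IsClosedImmersion ι›
  refine ⟨J, fun R ψ => ?_⟩
  constructor
  · rintro ⟨w, hw⟩
    obtain ⟨θ, hθ⟩ := Spec.map_surjective (pullback.lift (Spec.map ψ) w hw.symm ≫ i.hom)
    have hψ : ψ = CommRingCat.ofHom (Ideal.Quotient.mk J) ≫ θ := by
      apply Spec.map_injective
      rw [Spec.map_comp, hθ, Category.assoc, ← hi]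
      exact (pullback.lift_fst _ _ _).symm
    intro x hx
    rw [RingHom.mem_ker, hψ]
    show θ (Ideal.Quotient.mk J x) = 0
    rw [Ideal.Quotient.eq_zero_iff_mem.2 hx, map_zero]
  · intro h
    refine ⟨Spec.map (CommRingCat.ofHom (Ideal.Quotient.lift J ψ.hom fun x hx => h hx)) ≫ i.inv ≫ pullback.snd q e, ?_⟩
    have hmk : i.inv ≫ ι = Spec.map (CommRingCat.ofHom (Ideal.Quotient.mk J)) := by
      rw [Iso.inv_comp_eq]; exact hi
    simp only [Category.assoc]
    rw [← pullback.condition, ← Category.assoc i.inv, hmk, ← Category.assoc, ← Spec.map_comp]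
    rfl

variable {k : Type u} [Field k] {H Y E : Scheme.{u}} (hH : H ⟶ Spec (CommRingCat.of k))
  (hY : Y ⟶ Spec (CommRingCat.of k)) (e : E ⟶ pullback hH hY) [IsClosedImmersion e]

/-- `H × g` lands in `E`. -/
def Fac {Z : Scheme.{u}} (g : Z ⟶ Y) : Prop :=
  ∃ w : pullback (pullback.snd hH hY) g ⟶ E, w ≫ e = pullback.fst (pullback.snd hH hY) g

/-- Restriction to a piece `V ⟶ H`. -/
def FacOn {V : Scheme.{u}} (v : V ⟶ H) {Z : Scheme.{u}} (g : Z ⟶ Y) : Prop :=
  ∃ w : pullback (pullback.snd (v ≫ hH) hY) g ⟶ E,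
    w ≫ e = pullback.fst (pullback.snd (v ≫ hH) hY) g ≫
      pullback.lift (pullback.fst (v ≫ hH) hY ≫ v) (pullback.snd (v ≫ hH) hY)
        (by rw [Category.assoc]; exact pullback.condition)

theorem fac_comp {Z Z' : Scheme.{u}} (h : Z' ⟶ Z) (g : Z ⟶ Y) (hg : Fac hH hY e g) : Fac hH hY e (h ≫ g) := by
  obtain ⟨w, hw⟩ := hg
  exact ⟨pullback.lift (pullback.fst _ _) (pullback.snd _ _ ≫ h)
      (by rw [Category.assoc]; exact pullback.condition) ≫ w, by rw [Category.assoc, hw, pullback.lift_fst]⟩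

theorem fac_of_cover {Z : Scheme.{u}} (g : Z ⟶ Y) (𝒰 : (pullback (pullback.snd hH hY) g).OpenCover)
    (h : ∀ i, ∃ w : 𝒰.X i ⟶ E, w ≫ e = 𝒰.f i ≫ pullback.fst (pullback.snd hH hY) g) : Fac hH hY e g := by
  choose w hw using h
  refine ⟨𝒰.glueMorphisms w fun i j => ?_, 𝒰.hom_ext _ _ fun i => ?_⟩
  · rw [← cancel_mono e, Category.assoc, Category.assoc, hw, hw, ← Category.assoc, pullback.condition,
      Category.assoc]
  · rw [Scheme.Cover.ι_glueMorphisms_assoc, hw]

theorem fac_local {Z : Scheme.{u}} (g : Z ⟶ Y)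
    (hg : ∀ z : Z, ∃ W : Z.Opens, z ∈ W ∧ Fac hH hY e (W.ι ≫ g)) : Fac hH hY e g := by
  choose W hW hWP using hg
  let 𝒰 := Z.openCoverOfIsOpenCover W (TopologicalSpace.IsOpenCover.mk (top_le_iff.1 fun z _ =>
    TopologicalSpace.Opens.mem_iSup.2 ⟨z, hW z⟩))
  refine fac_of_cover hH hY e g (𝒰.pullback₁ (pullback.snd (pullback.snd hH hY) g)) fun (z : Z) => ?_
  obtain ⟨w, hw⟩ := hWP z
  show ∃ w : pullback (pullback.snd (pullback.snd hH hY) g) (W z).ι ⟶ E,
    w ≫ e = pullback.fst (pullback.snd (pullback.snd hH hY) g) (W z).ι ≫ pullback.fst (pullback.snd hH hY) g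
  refine ⟨pullback.lift (pullback.fst _ (W z).ι ≫ pullback.fst _ g) (pullback.snd _ (W z).ι) ?_ ≫ w, ?_⟩
  · rw [Category.assoc, pullback.condition, ← Category.assoc, pullback.condition, Category.assoc]
  · rw [Category.assoc, hw, pullback.lift_fst]

theorem fac_iff_forall {Z : Scheme.{u}} (g : Z ⟶ Y) :
    Fac hH hY e g ↔ ∀ V : H.affineOpens, FacOn hH hY e V.2.fromSpec g := by
  constructor
  · rintro ⟨w, hw⟩ V
    refine ⟨pullback.lift (pullback.fst _ g ≫ pullback.lift (pullback.fst _ hY ≫ V.2.fromSpec) (pullback.snd _ hY)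
        (by rw [Category.assoc]; exact pullback.condition)) (pullback.snd _ g) ?_ ≫ w, ?_⟩
    · rw [Category.assoc, pullback.lift_snd]
      exact pullback.condition
    · rw [Category.assoc, hw, pullback.lift_fst]
  · intro h
    refine fac_of_cover hH hY e g
      ((H.openCoverOfIsOpenCover (fun V : H.affineOpens => V.1) (TopologicalSpace.IsOpenCover.mk
        (iSup_affineOpens_eq_top H))).pullback₁ (pullback.fst (pullback.snd hH hY) g ≫ pullback.fst hH hY))
      fun (V : H.affineOpens) => ?_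
    obtain ⟨w, hw⟩ := h V
    show ∃ w : pullback (pullback.fst (pullback.snd hH hY) g ≫ pullback.fst hH hY) V.1.ι ⟶ E,
      w ≫ e = pullback.fst (pullback.fst (pullback.snd hH hY) g ≫ pullback.fst hH hY) V.1.ι ≫
        pullback.fst (pullback.snd hH hY) g
    let a := pullback.fst (pullback.fst (pullback.snd hH hY) g ≫ pullback.fst hH hY) (V.1.ι)
    let b := pullback.snd (pullback.fst (pullback.snd hH hY) g ≫ pullback.fst hH hY) (V.1.ι)
    have hab : a ≫ pullback.fst (pullback.snd hH hY) g ≫ pullback.fst hH hY = b ≫ V.1.ι := pullback.condition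
    have hb : (b ≫ V.2.isoSpec.hom) ≫ V.2.fromSpec = b ≫ V.1.ι := by
      rw [← IsAffineOpen.isoSpec_inv_ι, Category.assoc, Iso.hom_inv_id_assoc]
    refine ⟨pullback.lift (pullback.lift (b ≫ V.2.isoSpec.hom)
        (a ≫ pullback.fst (pullback.snd hH hY) g ≫ pullback.snd hH hY) ?_)
        (a ≫ pullback.snd (pullback.snd hH hY) g) ?_ ≫ w, ?_⟩
    · rw [← Category.assoc, hb, ← hab]
      simp only [Category.assoc]
      rw [pullback.condition]
    · rw [pullback.lift_snd]
      simp only [Category.assoc]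
      rw [pullback.condition]
    · rw [Category.assoc, hw, ← Category.assoc, pullback.lift_fst]
      apply pullback.hom_ext
      · rw [Category.assoc, pullback.lift_fst, pullback.lift_fst_assoc, hb, ← hab]
        exact (Category.assoc _ _ _).symm
      · rw [Category.assoc, pullback.lift_snd, pullback.lift_snd]
        exact (Category.assoc _ _ _).symm

theorem exists_ideal_facOn (A : CommRingCat.{u}) (v : Spec A ⟶ H) (U : Y.affineOpens) :
    ∃ I : Ideal Γ(Y, U.1), ∀ (R : CommRingCat.{u}) (φ : Γ(Y, U.1) ⟶ R),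
      FacOn hH hY e v (Spec.map φ ≫ U.2.fromSpec) ↔ I ≤ RingHom.ker φ.hom := by
  obtain ⟨b, hb⟩ := Spec.map_surjective (U.2.fromSpec ≫ hY)
  obtain ⟨c, hc⟩ := Spec.map_surjective (v ≫ hH)
  letI : Algebra k Γ(Y, U.1) := b.hom.toAlgebra
  letI : Algebra k A := c.hom.toAlgebra
  let M := Γ(Y, U.1) ⊗[k] A
  let f := pullback.snd (v ≫ hH) hY
  have hmid : IsPullback (Spec.map (CommRingCat.ofHom (Algebra.TensorProduct.includeRight : A →ₐ[k] M).toRingHom))
      (Spec.map (CommRingCat.ofHom (algebraMap Γ(Y, U.1) M))) (v ≫ hH) (U.2.fromSpec ≫ hY) := by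
    rw [← hb, ← hc]
    refine ((IsPullback.of_hasPullback (Spec.map (CommRingCat.ofHom (algebraMap k Γ(Y, U.1))))
      (Spec.map (CommRingCat.ofHom (algebraMap k A)))).flip).of_iso
        (pullbackSpecIso k Γ(Y, U.1) A) (Iso.refl _) (Iso.refl _) (Iso.refl _) ?_ ?_ ?_ ?_
    · rw [Iso.refl_hom, Category.comp_id]
      exact (pullbackSpecIso_hom_snd k Γ(Y, U.1) A).symm
    · rw [Iso.refl_hom, Category.comp_id]
      exact (pullbackSpecIso_hom_fst' k Γ(Y, U.1) A).symm
    · simp [RingHom.algebraMap_toAlgebra]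
    · simp [RingHom.algebraMap_toAlgebra]
  let q : Spec (CommRingCat.of M) ⟶ pullback (v ≫ hH) hY :=
    pullback.lift (Spec.map (CommRingCat.ofHom (Algebra.TensorProduct.includeRight : A →ₐ[k] M).toRingHom))
      (Spec.map (CommRingCat.ofHom (algebraMap Γ(Y, U.1) M)) ≫ U.2.fromSpec)
      (hmid.w.trans (Category.assoc _ _ _).symm)
  have hq : IsPullback q (Spec.map (CommRingCat.ofHom (algebraMap Γ(Y, U.1) M))) f U.2.fromSpec := by
    refine IsPullback.of_right ?_ (pullback.lift_snd _ _ _) (IsPullback.of_hasPullback (v ≫ hH) hY)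
    rwa [pullback.lift_fst]
  let m : pullback (v ≫ hH) hY ⟶ pullback hH hY :=
    pullback.lift (pullback.fst (v ≫ hH) hY ≫ v) (pullback.snd (v ≫ hH) hY)
      (by rw [Category.assoc]; exact pullback.condition)
  obtain ⟨J, hJ⟩ := exists_ideal_factor e (q ≫ m)
  haveI : Module.Projective Γ(Y, U.1) (Γ(Y, U.1) ⊗[Γ(Y, U.1)] M) :=
    Module.Projective.of_equiv (TensorProduct.lid Γ(Y, U.1) M).symm
  obtain ⟨I, hI⟩ := Groth.L13.FixedLocus.exists_ideal_forall_iff Γ(Y, U.1) Γ(Y, U.1) M (J : Set M)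
  refine ⟨I, fun R φ => ?_⟩
  letI : Algebra Γ(Y, U.1) R := φ.hom.toAlgebra
  have hR : IsPullback
      (Spec.map (CommRingCat.ofHom (Algebra.TensorProduct.includeRight : M →ₐ[Γ(Y, U.1)] R ⊗[Γ(Y, U.1)] M).toRingHom) ≫ q)
      (Spec.map (CommRingCat.ofHom (algebraMap R (R ⊗[Γ(Y, U.1)] M)))) f (Spec.map φ ≫ U.2.fromSpec) := by
    refine IsPullback.paste_horiz ?_ hq
    refine ((IsPullback.of_hasPullback (Spec.map (CommRingCat.ofHom (algebraMap Γ(Y, U.1) R)))
      (Spec.map (CommRingCat.ofHom (algebraMap Γ(Y, U.1) M)))).flip).of_iso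
        (pullbackSpecIso Γ(Y, U.1) R M) (Iso.refl _) (Iso.refl _) (Iso.refl _) ?_ ?_ ?_ ?_
    · rw [Iso.refl_hom, Category.comp_id]
      exact (pullbackSpecIso_hom_snd Γ(Y, U.1) R M).symm
    · rw [Iso.refl_hom, Category.comp_id]
      exact (pullbackSpecIso_hom_fst' Γ(Y, U.1) R M).symm
    · simp
    · simp [RingHom.algebraMap_toAlgebra]
  refine Iff.trans (Iff.trans ?_ (hJ _ (CommRingCat.ofHom
    (Algebra.TensorProduct.includeRight : M →ₐ[Γ(Y, U.1)] R ⊗[Γ(Y, U.1)] M).toRingHom))) ?_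
  · constructor
    · rintro ⟨w, hw⟩
      refine ⟨hR.isoPullback.hom ≫ w, ?_⟩
      rw [Category.assoc, hw, ← Category.assoc, hR.isoPullback_hom_fst, Category.assoc]
    · rintro ⟨w, hw⟩
      refine ⟨hR.isoPullback.inv ≫ w, ?_⟩
      rw [Category.assoc, hw, ← hR.isoPullback_inv_fst]
      simp only [Category.assoc]
      rfl
  · rw [show RingHom.ker φ.hom = RingHom.ker (algebraMap Γ(Y, U.1) R) from rfl, ← hI]
    exact Iff.rfl

/-- The locus of points `g` of `Y` with `H × g` landing in `E` is a closed subscheme of `Y`. -/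
theorem exists_closedImmersion_fac : ∃ (T : Scheme.{u}) (t : T ⟶ Y), IsClosedImmersion t ∧
    ∀ (Z : Scheme.{u}) (g : Z ⟶ Y), (∃ g' : Z ⟶ T, g' ≫ t = g) ↔ Fac hH hY e g := by
  refine Groth.L13.FixedLocus.exists_closedImmersion_of_affine (fun Z g => Fac hH hY e g)
    (fun Z Z' h g hg => fac_comp hH hY e h g hg) (fun Z g hg => fac_local hH hY e g hg) fun U => ?_
  choose I hI using fun V : H.affineOpens => exists_ideal_facOn hH hY e Γ(H, V.1) V.2.fromSpec U
  refine ⟨⨆ V, I V, fun R φ => ?_⟩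
  rw [fac_iff_forall, iSup_le_iff]
  exact forall_congr' fun V => hI V R φ

section Over

open MonoidalCategory CartesianMonoidalCategory

/-- Over-category form: the points `g` of `Y` with `H ◁ g` factoring through a closed `E ⊆ H ⊗ Y`. -/
theorem exists_closedImmersion_factors {H Y E : Over (Spec (CommRingCat.of k))} (e : E ⟶ H ⊗ Y)
    [IsClosedImmersion e.left] :
    ∃ (T : Over (Spec (CommRingCat.of k))) (t : T ⟶ Y), IsClosedImmersion t.left ∧
      ∀ (S : Over (Spec (CommRingCat.of k))) (g : S ⟶ Y),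
        (∃ z : S ⟶ T, z ≫ t = g) ↔ ∃ w : H ⊗ S ⟶ E, w ≫ e = H ◁ g := by
  haveI : IsClosedImmersion (e.left : E.left ⟶ pullback H.hom Y.hom) := ‹IsClosedImmersion e.left›
  obtain ⟨T, t, ht, h⟩ := exists_closedImmersion_fac H.hom Y.hom (e.left : E.left ⟶ pullback H.hom Y.hom)
  refine ⟨Over.mk (t ≫ Y.hom), Over.homMk t rfl, ht, fun S g => ?_⟩
  have h1 : (∃ z : S ⟶ Over.mk (t ≫ Y.hom), z ≫ Over.homMk t rfl = g) ↔ ∃ g' : S.left ⟶ T, g' ≫ t = g.left := by
    constructor
    · rintro ⟨z, rfl⟩; exact ⟨z.left, rfl⟩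
    · rintro ⟨g', hg'⟩
      exact ⟨Over.homMk g' (by
        change g' ≫ t ≫ Y.hom = S.hom
        rw [reassoc_of% hg', Over.w]), Over.OverMorphism.ext hg'⟩
  rw [h1, h]
  -- `H ⊗ S` is the pullback of `H ⊗ Y ⟶ Y` along `g`
  let m : pullback H.hom S.hom ⟶ pullback H.hom Y.hom := (H ◁ g).left
  have hm1 : m ≫ pullback.fst H.hom Y.hom = pullback.fst H.hom S.hom :=
    congrArg (fun x => x.left) (whiskerLeft_fst H g)
  have hm2 : m ≫ pullback.snd H.hom Y.hom = pullback.snd H.hom S.hom ≫ g.left :=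
    congrArg (fun x => x.left) (whiskerLeft_snd H g)
  have hsq : IsPullback m (pullback.snd H.hom S.hom) (pullback.snd H.hom Y.hom) g.left := by
    refine IsPullback.of_right ?_ hm2 (IsPullback.of_hasPullback H.hom Y.hom)
    rw [hm1, Over.w g]
    exact IsPullback.of_hasPullback _ _
  constructor
  · rintro ⟨w, hw⟩
    have hw' : (hsq.isoPullback.hom ≫ w) ≫ e.left = m := by
      simp only [Category.assoc]
      exact (congrArg (hsq.isoPullback.hom ≫ ·) hw).trans hsq.isoPullback_hom_fst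
    refine ⟨Over.homMk (hsq.isoPullback.hom ≫ w) ?_, Over.OverMorphism.ext hw'⟩
    show (hsq.isoPullback.hom ≫ w) ≫ E.hom = (H ⊗ S).hom
    rw [← Over.w e, ← Category.assoc]
    exact (congrArg (· ≫ (H ⊗ Y).hom) hw').trans (Over.w (H ◁ g))
  · rintro ⟨w, hw⟩
    refine ⟨hsq.isoPullback.inv ≫ w.left, ?_⟩
    have hw' : w.left ≫ e.left = m := congrArg (fun x => x.left) hw
    simp only [Category.assoc]
    exact (congrArg (hsq.isoPullback.inv ≫ ·) hw').trans hsq.isoPullback_inv_fst

variable {H Y Z : Over (Spec (CommRingCat.of k))} [IsSeparated Z.hom] (a b : H ⊗ Y ⟶ Z)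

/-- The points `g` of `Y` over which `a` and `b` agree form a closed subscheme. -/
theorem exists_closedImmersion_agree : ∃ (T : Over (Spec (CommRingCat.of k))) (t : T ⟶ Y),
    IsClosedImmersion t.left ∧ ∀ (S : Over (Spec (CommRingCat.of k))) (g : S ⟶ Y),
      (∃ z : S ⟶ T, z ≫ t = g) ↔ (H ◁ g) ≫ a = (H ◁ g) ≫ b := by
  let c : (H ⊗ Y).left ⟶ pullback Z.hom Z.hom := pullback.lift a.left b.left ((Over.w a).trans (Over.w b).symm)
  let E : Over (Spec (CommRingCat.of k)) := Over.mk (pullback.fst c (pullback.diagonal Z.hom) ≫ (H ⊗ Y).hom)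
  let e : E ⟶ H ⊗ Y := Over.homMk (pullback.fst c (pullback.diagonal Z.hom)) rfl
  haveI : IsClosedImmersion e.left := inferInstanceAs (IsClosedImmersion (pullback.fst c (pullback.diagonal Z.hom)))
  obtain ⟨T, t, ht, h⟩ := exists_closedImmersion_factors e
  refine ⟨T, t, ht, fun S g => (h S g).trans ?_⟩
  constructor
  · rintro ⟨w, hw⟩
    rw [← hw, Category.assoc, Category.assoc]
    congr 1
    apply Over.OverMorphism.ext
    show pullback.fst c _ ≫ a.left = pullback.fst c _ ≫ b.left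
    have hc := pullback.condition (f := c) (g := pullback.diagonal Z.hom)
    have h1 := congrArg (· ≫ pullback.fst Z.hom Z.hom) hc
    have h2 := congrArg (· ≫ pullback.snd Z.hom Z.hom) hc
    simp only [c, Category.assoc, pullback.lift_fst, pullback.lift_snd, pullback.diagonal_fst,
      pullback.diagonal_snd, Category.comp_id] at h1 h2
    exact h1.trans h2.symm
  · intro hg
    have hg' := congrArg (fun x => x.left) hg
    refine ⟨Over.homMk (pullback.lift (H ◁ g).left ((H ◁ g).left ≫ a.left) ?_) ?_, Over.OverMorphism.ext ?_⟩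
    · apply pullback.hom_ext
      · simp only [c, Category.assoc, pullback.lift_fst, pullback.diagonal_fst, Category.comp_id]
      · simp only [c, Category.assoc, pullback.lift_snd, pullback.diagonal_snd, Category.comp_id]
        exact hg'.symm
    · show pullback.lift _ _ _ ≫ pullback.fst c _ ≫ _ = _
      rw [pullback.lift_fst_assoc, Over.w]
    · exact pullback.lift_fst _ _ _

omit [IsSeparated Z.hom] in
/-- The points `g` of `Y` over which `c` factors through a closed immersion into the target form a closed subscheme. -/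
theorem exists_closedImmersion_lands {X : Over (Spec (CommRingCat.of k))} (c : H ⊗ Y ⟶ Z) (y : X ⟶ Z)
    [IsClosedImmersion y.left] : ∃ (T : Over (Spec (CommRingCat.of k))) (t : T ⟶ Y),
    IsClosedImmersion t.left ∧ ∀ (S : Over (Spec (CommRingCat.of k))) (g : S ⟶ Y),
      (∃ z : S ⟶ T, z ≫ t = g) ↔ ∃ w : H ⊗ S ⟶ X, w ≫ y = (H ◁ g) ≫ c := by
  let E : Over (Spec (CommRingCat.of k)) := Over.mk (pullback.fst c.left y.left ≫ (H ⊗ Y).hom)
  let e : E ⟶ H ⊗ Y := Over.homMk (pullback.fst c.left y.left) rfl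
  haveI : IsClosedImmersion e.left := inferInstanceAs (IsClosedImmersion (pullback.fst c.left y.left))
  let f : E ⟶ X := Over.homMk (pullback.snd c.left y.left) (by
    show pullback.snd c.left y.left ≫ X.hom = pullback.fst c.left y.left ≫ (H ⊗ Y).hom
    rw [← Over.w y, ← pullback.condition_assoc, Over.w c])
  have hfe : e ≫ c = f ≫ y := Over.OverMorphism.ext pullback.condition
  obtain ⟨T, t, ht, h⟩ := exists_closedImmersion_factors e
  refine ⟨T, t, ht, fun S g => (h S g).trans ?_⟩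
  constructor
  · rintro ⟨w, hw⟩
    exact ⟨w ≫ f, by rw [Category.assoc, ← hfe, reassoc_of% hw]⟩
  · rintro ⟨w, hw⟩
    have hw' := congrArg (fun x => x.left) hw
    refine ⟨Over.homMk (pullback.lift (H ◁ g).left w.left hw'.symm) ?_, Over.OverMorphism.ext (pullback.lift_fst _ _ _)⟩
    show pullback.lift _ _ _ ≫ pullback.fst c.left y.left ≫ _ = _
    rw [pullback.lift_fst_assoc, Over.w]

end Over

end Groth.L08.FactorLocus
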