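import Groth.Agent.L08.ActSepConn
import Groth.Agent.L25.Translate

/-!
# Group schemes with connected fibres, universally open over the base, are separated and quasi-compact
-/

set_option autoImplicit false
set_option backward.isDefEq.respectTransparency.types false

universe u

open CategoryTheory CategoryTheory.Limits AlgebraicGeometry MonoidalCategory MonObj CartesianMonoidalCategory

noncomputable section

namespace Groth.L08.ActSep

variable {S : Scheme.{u}}

/-- A group acting on itself by left translations. -/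
def leftMul (G : Over S) [GrpObj G] : AlgGrp.Action G G where
  act := μ[G]
  one_act := MonObj.one_mul G
  mul_act := MonObj.mul_assoc G

theorem surjective_leftMul (G : Over S) [GrpObj G] : Surjective (lift (leftMul G).act (snd G G)).left := by
  have e : lift (fst G G * (snd G G)⁻¹) (snd G G) ≫ lift μ[G] (snd G G) = 𝟙 (G ⊗ G) := by
    apply CartesianMonoidalCategory.hom_ext
    · rw [Category.assoc, lift_fst, ← Hom.mul_def, inv_mul_cancel_right, Category.id_comp]
    · simp
  exact ⟨fun z => ⟨(lift (fst G G * (snd G G)⁻¹) (snd G G)).left z, congr(($e).left z)⟩⟩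

theorem compactSpace_pullback_of_affine {V₁ V₂ U : Scheme.{u}} [IsAffine V₁] [IsAffine V₂] [IsAffine U]
    (f₁ : V₁ ⟶ U) (f₂ : V₂ ⟶ U) : CompactSpace ↥(pullback f₁ f₂) := inferInstance

theorem quasiCompact_of_connected {G : Over S} [GrpObj G] [LocallyOfFinitePresentation G.hom] [UniversallyOpen G.hom]
    (hconn : ∀ s : S, _root_.IsConnected (G.hom ⁻¹' {s})) : QuasiCompact G.hom := by
  classical
  rw [quasiCompact_iff_forall_isAffineOpen]
  intro U hU
  haveI : IsAffine (Scheme.Opens.toScheme U) := hU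
  have hV : ∀ s : U, ∃ V : G.left.affineOpens, (V.1 : Set G.left) ⊆ G.hom ⁻¹' (U : Set S) ∧
      ∃ g ∈ (V.1 : Set G.left), G.hom g = s.1 := fun s => by
    obtain ⟨g, hg⟩ := (hconn s.1).nonempty
    have hg : G.hom g = s.1 := hg
    obtain ⟨_, ⟨V, hVa, rfl⟩, hgV, hle⟩ := G.left.isBasis_affineOpens.exists_subset_of_mem_open
      (show g ∈ G.hom ⁻¹' (U : Set S) by rw [Set.mem_preimage, hg]; exact s.2) (U.2.preimage G.hom.continuous)
    exact ⟨⟨V, hVa⟩, hle, g, hgV, hg⟩
  choose V hVU gV hgV hgVs using hV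
  obtain ⟨F, hF⟩ := hU.isCompact.elim_finite_subcover (fun s : U => G.hom '' ((V s).1 : Set G.left))
    (fun s => G.hom.isOpenMap _ (V s).1.2) (fun x hx => Set.mem_iUnion.mpr ⟨⟨x, hx⟩, gV _, hgV _, hgVs _⟩)
  let VX : U → Over S := fun s => Over.mk ((V s).1.ι ≫ G.hom)
  let jV : ∀ s, VX s ⟶ G := fun s => Over.homMk (V s).1.ι
  let m : ∀ i j : U, VX i ⊗ VX j ⟶ G := fun i j => (fst _ _ ≫ jV i) * (snd _ _ ≫ jV j)
  have hfac : ∀ i : U, ∃ l : (V i).1.toScheme ⟶ Scheme.Opens.toScheme U, l ≫ Scheme.Opens.ι U = (V i).1.ι ≫ G.hom := fun i =>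
    ⟨_, IsOpenImmersion.lift_fac (Scheme.Opens.ι U) ((V i).1.ι ≫ G.hom) (by
      rintro _ ⟨d, rfl⟩
      rw [Scheme.Opens.range_ι]
      exact hVU i d.2)⟩
  have hcpt : ∀ i j, CompactSpace ↥(VX i ⊗ VX j).left := by
    intro i j
    obtain ⟨l₁, hl₁⟩ := hfac i
    obtain ⟨l₂, hl₂⟩ := hfac j
    haveI : IsAffine (V i).1.toScheme := (V i).2
    haveI : IsAffine (V j).1.toScheme := (V j).2
    haveI := compactSpace_pullback_of_affine l₁ l₂
    let e : pullback l₁ l₂ ≅ pullback ((V i).1.ι ≫ G.hom) ((V j).1.ι ≫ G.hom) :=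
      { hom := pullback.lift (pullback.fst _ _) (pullback.snd _ _) (by rw [← hl₁, ← hl₂, pullback.condition_assoc])
        inv := pullback.lift (pullback.fst _ _) (pullback.snd _ _) (by
          rw [← cancel_mono (Scheme.Opens.ι U), Category.assoc, Category.assoc, hl₁, hl₂, pullback.condition])
        hom_inv_id := by apply pullback.hom_ext <;> simp [pullback.lift_fst, pullback.lift_snd]
        inv_hom_id := by apply pullback.hom_ext <;> simp [pullback.lift_fst, pullback.lift_snd] }
    haveI : IsIso e.hom := e.isIso_hom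
    exact e.hom.homeomorph.compactSpace
  suffices h : G.hom ⁻¹' (U : Set S) = ⋃ i ∈ F, ⋃ j ∈ F, Set.range (m i j).left by
    show IsCompact (G.hom ⁻¹' (U : Set S))
    rw [h]
    exact F.isCompact_biUnion fun i _ => F.isCompact_biUnion fun j _ =>
      haveI := hcpt i j
      isCompact_range (m i j).left.continuous
  refine subset_antisymm (fun g hg => ?_) ?_
  · obtain ⟨i, hiF, y, hy, hys⟩ := Set.mem_iUnion₂.mp (hF (show G.hom g ∈ (U : Set S) from hg))
    let s := G.hom g
    let t := S.fromSpecResidueField s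
    let Gs : Over (Spec (CommRingCat.of (S.residueField s))) := Red.bc t G
    letI : GrpObj Gs := inferInstanceAs (GrpObj (Red.bc t G))
    haveI : ConnectedSpace ↥Gs.left := by
      haveI := Subtype.connectedSpace (hconn s)
      exact (G.hom.fiberHomeo s).symm.surjective.connectedSpace (G.hom.fiberHomeo s).symm.continuous
    haveI := Groth.L25.ConnIrred.irreducibleSpace Gs
    let Us : Set Gs.left := pullback.fst G.hom t ⁻¹' ((V i).1 : Set G.left)
    have hUo : IsOpen Us := (V i).1.2.preimage (pullback.fst G.hom t).continuous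
    have hUd : Dense Us := hUo.dense (by
      obtain ⟨z, hz⟩ : y ∈ Set.range (pullback.fst G.hom t) := by
        rw [Scheme.Pullback.range_fst, Scheme.range_fromSpecResidueField]; exact hys
      exact ⟨z, show pullback.fst G.hom t z ∈ (V i).1 by rw [hz]; exact hy⟩)
    obtain ⟨x, hx⟩ : g ∈ Set.range (pullback.fst G.hom t) := by
      rw [Scheme.Pullback.range_fst, Scheme.range_fromSpecResidueField]; rfl
    obtain ⟨w, hw, hw₁, hw₂⟩ := Groth.L25.Translate.exists_mul_eq_of_dense hUo hUd hUd x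
    let T := ptObj (Gs ⊗ Gs) w
    let c : T.left := IsLocalRing.closedPoint ((Gs ⊗ Gs).left.residueField w)
    haveI : Subsingleton T.left := inferInstanceAs (Subsingleton (PrimeSpectrum _))
    let eq := (Over.mapPullbackAdj t).homEquiv T G
    let γ₁ := eq.symm (ptMor (Gs ⊗ Gs) w ≫ fst Gs Gs)
    let γ₂ := eq.symm (ptMor (Gs ⊗ Gs) w ≫ snd Gs Gs)
    have hmul : eq (γ₁ * γ₂) = ptMor (Gs ⊗ Gs) w ≫ μ[Gs] := by
      rw [AlgGrp.Action.homEquiv_mul, Equiv.apply_symm_apply, Equiv.apply_symm_apply, ← MonObj.comp_mul, Hom.mul_def,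
        lift_fst_snd, Category.id_comp]
    have hmem : ∀ (γ : (Over.map t).obj T ⟶ G) (v : T ⟶ Gs), eq γ = v → γ.left c = pullback.fst G.hom t (v.left c) :=
      fun γ v hv => by rw [← hv]; exact (he_apply t γ c).symm
    have hγ₁ : γ₁.left c ∈ (V i).1 := by
      rw [hmem γ₁ _ (eq.apply_symm_apply _), comp_apply, ptMor_apply]; exact hw₁
    have hγ₂ : γ₂.left c ∈ (V i).1 := by
      rw [hmem γ₂ _ (eq.apply_symm_apply _), comp_apply, ptMor_apply]; exact hw₂
    have hlift : ∀ γ : (Over.map t).obj T ⟶ G, γ.left c ∈ (V i).1 → ∃ l : (Over.map t).obj T ⟶ VX i, l ≫ jV i = γ := by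
      intro γ hγ
      have hr : Set.range γ.left ⊆ Set.range (V i).1.ι := by
        rintro _ ⟨d, rfl⟩
        rw [Scheme.Opens.range_ι, show d = c from Subsingleton.elim (α := T.left) _ _]
        exact hγ
      refine ⟨Over.homMk (IsOpenImmersion.lift (V i).1.ι γ.left hr) ?_, Over.OverMorphism.ext (IsOpenImmersion.lift_fac _ _ _)⟩
      show _ ≫ (V i).1.ι ≫ G.hom = _
      rw [← Category.assoc, IsOpenImmersion.lift_fac, Over.w]
    obtain ⟨l₁, hl₁⟩ := hlift γ₁ hγ₁
    obtain ⟨l₂, hl₂⟩ := hlift γ₂ hγ₂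
    refine Set.mem_iUnion₂.mpr ⟨i, hiF, Set.mem_iUnion₂.mpr ⟨i, hiF, (lift l₁ l₂).left c, ?_⟩⟩
    have e : lift l₁ l₂ ≫ m i i = γ₁ * γ₂ := by
      simp only [m, MonObj.comp_mul, ← Category.assoc, lift_fst, lift_snd, hl₁, hl₂]
    rw [← comp_apply, e, hmem _ _ hmul, comp_apply, ptMor_apply, hw, hx]
  · refine Set.iUnion₂_subset fun i _ => Set.iUnion₂_subset fun j _ => ?_
    rintro _ ⟨w, rfl⟩
    show G.hom ((m i j).left w) ∈ (U : Set S)
    rw [show G.hom ((m i j).left w) = (VX i ⊗ VX j).hom w from congr(($(Over.w (m i j))) w),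
      show (VX i ⊗ VX j).hom w = (VX i).hom ((fst (VX i) (VX j)).left w) from congr(($(Over.w (fst (VX i) (VX j)))) w).symm]
    exact hVU i (Subtype.prop _)

end Groth.L08.ActSep
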