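import Groth.Agent.L08.Subcoalg
import Mathlib.RingTheory.Bialgebra.MonoidAlgebra
import Mathlib.RingTheory.HopfAlgebra.GroupLike
import Mathlib.LinearAlgebra.Matrix.Determinant.Basic
import Mathlib.LinearAlgebra.TensorProduct.Basis

/-!
# A central `𝔾ₘ` in an affine group is separated by a character

Algebraic form: a surjection of Hopf algebras `A → k[ℤ]` which is cocentral has a group-like element mapped to a
positive power of `T`: the determinant of a finite-dimensional subcomodule of weight one.
-/

set_option autoImplicit false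
set_option backward.isDefEq.respectTransparency.types false
set_option linter.style.haveILetI false

universe u

open TensorProduct

noncomputable section

namespace Groth.L08.CentralGm

variable {k : Type u} [Field k] {A : Type u} [CommRing A] [Bialgebra k A]

/-- The Laurent algebra. -/
abbrev LZ (k : Type u) [Field k] : Type u := MonoidAlgebra k (Multiplicative ℤ)

/-- The variable. -/
abbrev T (k : Type u) [Field k] : MonoidAlgebra k (Multiplicative ℤ) :=
  MonoidAlgebra.single (Multiplicative.ofAdd 1) 1

/-- The coefficient of the variable. -/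
def coef1 : (LZ k) →ₗ[k] k where
  toFun x := x.coeff (Multiplicative.ofAdd 1)
  map_add' x y := rfl
  map_smul' c x := rfl

theorem coef1_T : coef1 (T k) = 1 := by
  simp [coef1, T]

theorem coef1_comul (x : (LZ k)) :
    (coef1 (k := k)).lTensor (LZ k) (Coalgebra.comul x) = coef1 x • (T k ⊗ₜ[k] (1 : k)) := by
  induction x using MonoidAlgebra.induction_linear with
  | zero => simp
  | add f g hf hg => rw [map_add, map_add, hf, hg, map_add, add_smul]
  | single m c =>
    rw [show MonoidAlgebra.single m c = c • MonoidAlgebra.single m (1 : k) by simp, map_smul, map_smul, map_smul,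
      (MonoidAlgebra.isGroupLikeElem_single_one (R := k) (A := k) m).comul_eq_tmul_self, LinearMap.lTensor_tmul]
    by_cases h : m = Multiplicative.ofAdd 1
    · subst h
      rw [show coef1 (k := k) (MonoidAlgebra.single (Multiplicative.ofAdd (1 : ℤ)) (1 : k)) = 1 from coef1_T,
        smul_eq_mul, mul_one]
    · have h0 : coef1 (k := k) (MonoidAlgebra.single m (1 : k)) = 0 := by
        simp [coef1, Ne.symm h, h]
      rw [h0, tmul_zero, smul_zero, smul_zero, zero_smul]

variable (r : A →ₐc[k] (LZ k))

/-- Projection to weight one. -/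
def q : A →ₗ[k] A :=
  (TensorProduct.rid k A).toLinearMap ∘ₗ ((coef1 ∘ₗ (r : A →ₗ[k] (LZ k))).lTensor A) ∘ₗ (Coalgebra.comul (R := k) (A := A))

theorem q_eq (a : A) {κ : Type*} (R : Coalgebra.Repr k a κ) :
    q r a = ∑ i ∈ R.index, coef1 (k := k) (r (R.right i)) • R.left i := by
  change (TensorProduct.rid k A) ((coef1 ∘ₗ (r : A →ₗ[k] (LZ k))).lTensor A ((Coalgebra.comul (R := k) (A := A)) a)) = _
  rw [← R.eq, map_sum, map_sum]
  refine Finset.sum_congr rfl fun i _ => ?_
  rw [LinearMap.lTensor_tmul, TensorProduct.rid_tmul]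
  rfl

/-- Comultiplication of the projection. -/
theorem comul_q (a : A) : (Coalgebra.comul (R := k) (A := A)) (q r a) = LinearMap.lTensor A (q (k := k) r) ((Coalgebra.comul (R := k) (A := A)) a) := by
  let ψ : A →ₗ[k] k := (coef1 (k := k)) ∘ₗ (r : A →ₗ[k] (LZ k))
  let F : A ⊗[k] (A ⊗[k] A) →ₗ[k] A ⊗[k] A := ((TensorProduct.rid k A).toLinearMap ∘ₗ ψ.lTensor A).lTensor A
  have h1 : ∀ z : A ⊗[k] A, (Coalgebra.comul (R := k) (A := A)) ((TensorProduct.rid k A) (ψ.lTensor A z)) =
      F (TensorProduct.assoc k A A A (Coalgebra.comul.rTensor A z)) := by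
    intro z
    induction z using TensorProduct.induction_on with
    | zero => simp
    | add x y hx hy => simp only [map_add, hx, hy]
    | tmul x y =>
      rw [LinearMap.lTensor_tmul, TensorProduct.rid_tmul, map_smul, LinearMap.rTensor_tmul]
      generalize (Coalgebra.comul (R := k) (A := A)) x = w
      induction w using TensorProduct.induction_on with
      | zero => simp
      | add p p' hp hp' => simp only [add_tmul, map_add, smul_add, hp, hp']
      | tmul p p' => simp [F, TensorProduct.smul_tmul']
  change (Coalgebra.comul (R := k) (A := A)) ((TensorProduct.rid k A) (ψ.lTensor A ((Coalgebra.comul (R := k) (A := A)) a))) = _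
  rw [h1, Coalgebra.coassoc_apply]
  change F (Coalgebra.comul.lTensor A ((Coalgebra.comul (R := k) (A := A)) a)) = _
  rw [← LinearMap.comp_apply, ← LinearMap.lTensor_comp]
  rfl

/-- `q a` has weight one. -/
theorem weight_q (a : A) : (r : A →ₗ[k] (LZ k)).lTensor A ((Coalgebra.comul (R := k) (A := A)) (q (k := k) r a)) = q (k := k) r a ⊗ₜ[k] T k := by
  rw [comul_q r a, ← LinearMap.comp_apply ((r : A →ₗ[k] (LZ k)).lTensor A), ← LinearMap.lTensor_comp]
  have h1 : ∀ b : A, r (q r b) = coef1 (r b) • T k := by
    intro b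
    have h := congrArg (TensorProduct.rid k (LZ k)) (coef1_comul (k := k) (r b))
    rw [map_smul, TensorProduct.rid_tmul, one_smul] at h
    rw [← h, ← CoalgHomClass.map_comp_comul_apply r b]
    change r ((TensorProduct.rid k A) ((coef1 ∘ₗ (r : A →ₗ[k] (LZ k))).lTensor A ((Coalgebra.comul (R := k) (A := A)) b))) = _
    generalize (Coalgebra.comul (R := k) (A := A)) b = z
    induction z using TensorProduct.induction_on with
    | zero => simp
    | add x y hx hy => simp only [map_add, hx, hy]
    | tmul x y =>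
      simp only [TensorProduct.map_tmul, LinearMap.lTensor_tmul, TensorProduct.rid_tmul, LinearMap.comp_apply, map_smul]
      rfl
  let R := Coalgebra.Repr.arbitrary k a
  rw [← R.eq, map_sum, q_eq r a R, sum_tmul]
  refine Finset.sum_congr rfl fun i _ => ?_
  rw [LinearMap.lTensor_tmul]
  change R.left i ⊗ₜ[k] r (q r (R.right i)) = _
  rw [h1, ← TensorProduct.smul_tmul]

/-- The determinant of a multiplicative matrix is group-like. -/
theorem isGroupLikeElem_det {ι : Type*} [Fintype ι] [DecidableEq ι] (c : Matrix ι ι A)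
    (hΔ : ∀ j l, (Coalgebra.comul (R := k) (A := A)) (c j l) = ∑ m, c j m ⊗ₜ[k] c m l)
    (hε : ∀ j l, Coalgebra.counit (R := k) (c j l) = if j = l then 1 else 0) : IsGroupLikeElem k c.det := by
  refine ⟨?_, ?_⟩
  · have h := RingHom.map_det (Bialgebra.counitAlgHom k A).toRingHom c
    change Coalgebra.counit (R := k) c.det = _ at h
    rw [h, show (Bialgebra.counitAlgHom k A).toRingHom.mapMatrix c = 1 from
      Matrix.ext fun j l => (hε j l).trans (Matrix.one_apply).symm, Matrix.det_one]
  · let i₁ : A →ₐ[k] A ⊗[k] A := Algebra.TensorProduct.includeLeft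
    let i₂ : A →ₐ[k] A ⊗[k] A := Algebra.TensorProduct.includeRight
    have h := RingHom.map_det (Bialgebra.comulAlgHom k A).toRingHom c
    change (Coalgebra.comul (R := k) (A := A)) c.det = _ at h
    have e : (Bialgebra.comulAlgHom k A).toRingHom.mapMatrix c =
        i₁.toRingHom.mapMatrix c * i₂.toRingHom.mapMatrix c := Matrix.ext fun j l => by
      refine (hΔ j l).trans ?_
      rw [Matrix.mul_apply]
      refine Finset.sum_congr rfl fun m _ => ?_
      change _ = (c j m ⊗ₜ[k] (1 : A)) * ((1 : A) ⊗ₜ[k] c m l)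
      rw [Algebra.TensorProduct.tmul_mul_tmul, mul_one, one_mul]
    rw [h, e, Matrix.det_mul, ← RingHom.map_det, ← RingHom.map_det]
    change (c.det ⊗ₜ[k] (1 : A)) * ((1 : A) ⊗ₜ[k] c.det) = _
    rw [Algebra.TensorProduct.tmul_mul_tmul, mul_one, one_mul]

/-- Comatrix of a subspace with comultiplication into `A ⊗ W`. -/
theorem exists_matrix {ι : Type*} [Fintype ι] [DecidableEq ι] {W : Submodule k A} (b : Module.Basis ι k W)
    (hW : ∀ w : W, (Coalgebra.comul (R := k) (A := A)) (w : A) ∈ LinearMap.range (W.subtype.lTensor A)) :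
    ∃ c : Matrix ι ι A, (∀ j, (Coalgebra.comul (R := k) (A := A)) (b j : A) = ∑ l, c j l ⊗ₜ[k] (b l : A)) ∧
      (∀ j l, (Coalgebra.comul (R := k) (A := A)) (c j l) = ∑ m, c j m ⊗ₜ[k] c m l) ∧
      ∀ j l, Coalgebra.counit (R := k) (c j l) = if j = l then 1 else 0 := by
  choose z hz using fun j => hW (b j)
  let co : ι → A ⊗[k] W →ₗ[k] A := fun l => (TensorProduct.rid k A).toLinearMap ∘ₗ (b.coord l).lTensor A
  let c : Matrix ι ι A := fun j l => co l (z j)
  have hdec : ∀ z : A ⊗[k] W, z = ∑ l, co l z ⊗ₜ[k] b l := by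
    intro z
    induction z using TensorProduct.induction_on with
    | zero => simp
    | add x y hx hy =>
      simp only [map_add, add_tmul, Finset.sum_add_distrib]
      rw [← hx, ← hy]
    | tmul x w =>
      simp only [co, LinearMap.comp_apply, LinearMap.lTensor_tmul, LinearEquiv.coe_coe, TensorProduct.rid_tmul,
        TensorProduct.smul_tmul, Module.Basis.coord_apply]
      rw [← tmul_sum, b.sum_repr]
  have hc : ∀ j, (Coalgebra.comul (R := k) (A := A)) (b j : A) = ∑ l, c j l ⊗ₜ[k] (b l : A) := fun j => by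
    rw [← hz j]
    conv_lhs => rw [hdec (z j)]
    rw [map_sum]
    rfl
  obtain ⟨θ, hθ⟩ : ∃ θ : ι → (A →ₗ[k] k), ∀ l m, θ l (b m : A) = if m = l then 1 else 0 := by
    choose θ hθ using fun l => LinearMap.exists_extend (b.coord l)
    refine ⟨θ, fun l m => ?_⟩
    have h := LinearMap.congr_fun (hθ l) (b m)
    rw [LinearMap.comp_apply, Submodule.subtype_apply, Module.Basis.coord_apply, b.repr_self, Finsupp.single_apply] at h
    exact h
  have key : ∀ j l, (Coalgebra.comul (R := k) (A := A)) (c j l) = ∑ m, c j m ⊗ₜ[k] c m l := by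
    intro j l
    let Φ : A ⊗[k] (A ⊗[k] A) →ₗ[k] A ⊗[k] A := ((TensorProduct.rid k A).toLinearMap ∘ₗ (θ l).lTensor A).lTensor A
    have h1 := congrArg Φ (Coalgebra.coassoc_apply (R := k) (b j : A))
    rw [hc j, map_sum, map_sum, map_sum, map_sum, map_sum] at h1
    have hL : ∀ m (w : A ⊗[k] A), Φ (TensorProduct.assoc k A A A (w ⊗ₜ[k] (b m : A))) = θ l (b m : A) • w := by
      intro m w
      induction w using TensorProduct.induction_on with
      | zero => simp
      | add p p' hp hp' => simp only [add_tmul, map_add, smul_add, hp, hp']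
      | tmul p p' => simp [Φ, TensorProduct.smul_tmul']
    simp only [LinearMap.rTensor_tmul, LinearMap.lTensor_tmul, hL] at h1
    rw [Finset.sum_eq_single l (fun m _ hm => by rw [hθ, if_neg hm, zero_smul]) (by simp), hθ, if_pos rfl,
      one_smul] at h1
    rw [h1]
    refine Finset.sum_congr rfl fun m _ => ?_
    simp only [Φ, LinearMap.lTensor_tmul]
    congr 1
    rw [hc m, map_sum, Finset.sum_eq_single l (fun m' _ hm => by simp [hθ, hm]) (by simp)]
    simp [hθ]
  refine ⟨c, hc, key, fun j l => ?_⟩
  have h1 := congrArg (θ l) (congrArg (TensorProduct.lid k A) (Coalgebra.rTensor_counit_comul (R := k) (b j : A)))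
  rw [hc j, map_sum, map_sum, map_sum] at h1
  simp only [LinearMap.rTensor_tmul, TensorProduct.lid_tmul, map_smul, hθ, smul_eq_mul, mul_ite, mul_one, mul_zero,
    Finset.sum_ite_eq', Finset.mem_univ, if_true] at h1
  exact h1

/-- A cocentral quotient `k[ℤ]` is detected by a group-like element. -/
theorem exists_groupLike (hr : Function.Surjective r)
    (hc : ∀ a : A, (r : A →ₗ[k] (LZ k)).lTensor A ((Coalgebra.comul (R := k) (A := A)) a) =
      TensorProduct.comm k (LZ k) A ((r : A →ₗ[k] (LZ k)).rTensor A ((Coalgebra.comul (R := k) (A := A)) a))) :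
    ∃ (g : A) (n : ℕ), IsGroupLikeElem k g ∧ 1 ≤ n ∧ r g = T k ^ n := by
  classical
  obtain ⟨a₀, ha₀⟩ := hr (T k)
  obtain ⟨C, hfin, haC, hC⟩ := Groth.L08.exists_finite_subcoalg (k := k) ({a₀} : Finset A)
  haveI := hfin
  let W : Submodule k A := C.map (q r)
  haveI : Module.Finite k W := Module.Finite.of_fg (Submodule.FG.map _ (Module.Finite.iff_fg.1 hfin))
  let ι := Fin (Module.finrank k W)
  let b : Module.Basis ι k W := Module.finBasis k W
  have hW : ∀ w : W, (Coalgebra.comul (R := k) (A := A)) (w : A) ∈ LinearMap.range (W.subtype.lTensor A) := by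
    rintro ⟨_, x, hx, rfl⟩
    change (Coalgebra.comul (R := k) (A := A)) (q r x) ∈ _
    rw [comul_q]
    obtain ⟨z, hz⟩ := hC x hx
    let qC : C →ₗ[k] W := ((q r).comp C.subtype).codRestrict W fun c => ⟨c, c.2, rfl⟩
    refine ⟨TensorProduct.map C.subtype qC z, ?_⟩
    rw [← hz]
    clear hz
    induction z using TensorProduct.induction_on with
    | zero => simp
    | add p p' hp hp' => simp only [map_add, hp, hp']
    | tmul p p' => simp only [TensorProduct.map_tmul, LinearMap.lTensor_tmul]; rfl
  obtain ⟨c, hcb, hΔ, hε⟩ := exists_matrix b hW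
  have hrc : ∀ j l, r (c j l) = if j = l then T k else 0 := by
    intro j l
    obtain ⟨x, -, hx⟩ := (b j).2
    have h1 : (r : A →ₗ[k] (LZ k)).rTensor A ((Coalgebra.comul (R := k) (A := A)) (b j : A)) = T k ⊗ₜ[k] (b j : A) := by
      apply (TensorProduct.comm k (LZ k) A).injective
      rw [← hc, ← hx, weight_q, TensorProduct.comm_tmul]
    rw [hcb j, map_sum] at h1
    obtain ⟨θ, hθ⟩ := LinearMap.exists_extend (b.coord l)
    have h2 := congrArg (fun z => TensorProduct.rid k (LZ k) (θ.lTensor (LZ k) z)) h1
    have hθ' : ∀ m, θ (b m : A) = if m = l then 1 else 0 := fun m => by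
      have h := LinearMap.congr_fun hθ (b m)
      rw [LinearMap.comp_apply, Submodule.subtype_apply, Module.Basis.coord_apply, b.repr_self,
        Finsupp.single_apply] at h
      exact h
    simp only [map_sum, LinearMap.rTensor_tmul, LinearMap.lTensor_tmul, TensorProduct.rid_tmul, hθ', ite_smul,
      one_smul, zero_smul] at h2
    refine Eq.trans ?_ h2
    rw [Finset.sum_eq_single l (fun m _ hm => if_neg hm) (fun h => absurd (Finset.mem_univ _) h), if_pos rfl]
    rfl
  have hn : 1 ≤ Module.finrank k W := by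
    rw [Nat.one_le_iff_ne_zero]
    intro h0
    haveI := Module.finrank_zero_iff.1 h0
    have h1 : q r a₀ = 0 := congrArg Subtype.val (Subsingleton.elim
      (⟨q r a₀, a₀, haC (Finset.mem_singleton_self a₀), rfl⟩ : W) 0)
    have h2 := congrArg (Coalgebra.counit (R := k)) h1
    let R := Coalgebra.Repr.arbitrary k a₀
    rw [q_eq r a₀ R, map_sum, map_zero] at h2
    simp only [map_smul, smul_eq_mul] at h2
    have h3 : coef1 (r a₀) = 0 := by
      conv_lhs => rw [← Coalgebra.sum_counit_smul R]
      rw [map_sum, map_sum, ← h2]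
      refine Finset.sum_congr rfl fun i _ => ?_
      rw [map_smul, map_smul, smul_eq_mul, mul_comm]
    rw [ha₀, coef1_T] at h3
    exact one_ne_zero h3
  refine ⟨c.det, Module.finrank k W, isGroupLikeElem_det c hΔ hε, hn, ?_⟩
  have h := RingHom.map_det (r : A →ₐ[k] (LZ k)).toRingHom c
  refine h.trans ?_
  rw [show (r : A →ₐ[k] (LZ k)).toRingHom.mapMatrix c = Matrix.diagonal fun _ => T k from
    Matrix.ext fun j l => (hrc j l).trans (by rw [Matrix.diagonal_apply]), Matrix.det_diagonal]
  simp [ι]

end Groth.L08.CentralGm
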