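import Groth.Agent.L26.AV.RelHom
import Groth.Agent.L26.AV.Albanese
import Groth.Agent.L18.KerReduced
import Mathlib.AlgebraicGeometry.Group.Abelian
import Mathlib.RingTheory.Artinian.Module

/-!
# Translations and connected components of fibres of morphisms out of an abelian variety
-/

set_option autoImplicit false

noncomputable section

universe u

open CategoryTheory CategoryTheory.Limits MonoidalCategory CartesianMonoidalCategory MonObj AlgebraicGeometry

namespace Groth.L08.FibreTranslate

variable {k : Type u} [Field k]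

theorem idempotent_trivial {Z : Scheme.{u}} [IsReduced Z] [ConnectedSpace Z] {e : Γ(Z, ⊤)}
    (he : e * e = e) : e = 0 ∨ e = 1 := by
  have h0 : Z.basicOpen e ⊓ Z.basicOpen (1 - e) = ⊥ := by
    rw [← Scheme.basicOpen_mul, mul_sub, _root_.mul_one, he, sub_self, Scheme.basicOpen_zero]
  have h1 : ∀ z : Z, z ∈ Z.basicOpen e ∨ z ∈ Z.basicOpen (1 - e) := by
    intro z
    rw [Z.mem_basicOpen (U := ⊤) _ z trivial, Z.mem_basicOpen (U := ⊤) _ z trivial]
    refine IsLocalRing.isUnit_or_isUnit_of_isUnit_add ?_
    rw [← map_add, add_sub_cancel, map_one]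
    exact isUnit_one
  have hc : IsClopen (Z.basicOpen e : Set Z) := by
    refine ⟨?_, (Z.basicOpen e).2⟩
    have : (Z.basicOpen e : Set Z) = (Z.basicOpen (1 - e) : Set Z)ᶜ := by
      ext z
      refine ⟨fun h h' => ?_, fun h => (h1 z).resolve_right h⟩
      have : z ∈ Z.basicOpen e ⊓ Z.basicOpen (1 - e) := ⟨h, h'⟩
      rw [h0] at this
      exact this
    rw [this, isClosed_compl_iff]
    exact (Z.basicOpen (1 - e)).2
  rcases isClopen_iff.1 hc with h | h
  · left
    rw [← basicOpen_eq_bot_iff]
    exact TopologicalSpace.Opens.ext h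
  · right
    have : Z.basicOpen (1 - e) = ⊥ := by
      rw [← h0]
      refine le_antisymm (le_inf (fun z _ => ?_) le_rfl) inf_le_right
      show z ∈ (Z.basicOpen e : Set Z)
      rw [h]
      trivial
    rw [basicOpen_eq_bot_iff, sub_eq_zero] at this
    exact this.symm

/-- A reduced connected universally closed scheme over a field with a rational point has only
constant functions. -/
theorem bijective_appTop (Z : Over (Spec (CommRingCat.of k))) [UniversallyClosed Z.hom]
    [IsReduced Z.left] [ConnectedSpace Z.left]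
    (z : 𝟙_ (Over (Spec (CommRingCat.of k))) ⟶ Z) : Function.Bijective Z.hom.appTop.hom := by
  have hret : ∀ c, z.left.appTop.hom (Z.hom.appTop.hom c) = c := by
    intro c
    have h0 : z.left ≫ Z.hom = 𝟙 (Spec (CommRingCat.of k)) := Over.w z
    have h := congrArg (fun φ : Spec (CommRingCat.of k) ⟶ Spec (CommRingCat.of k) => φ.appTop.hom c) h0
    rw [Scheme.Hom.comp_appTop, Scheme.Hom.id_appTop] at h
    exact h
  refine ⟨fun a b hab => by rw [← hret a, ← hret b, hab], fun x => ⟨z.left.appTop.hom x, ?_⟩⟩
  by_contra hne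
  set y := x - Z.hom.appTop.hom (z.left.appTop.hom x) with hy
  have hy0 : y ≠ 0 := fun h => hne (sub_eq_zero.1 h).symm
  have hzy : z.left.appTop.hom y = 0 := by rw [hy, map_sub, hret, sub_self]
  have hK : IsField Γ(Spec (CommRingCat.of k), ⊤) := MulEquiv.isField (Field.toIsField k)
    (Scheme.ΓSpecIso (CommRingCat.of k)).commRingCatIsoToRingEquiv.toMulEquiv
  let K₀ := Γ(Spec (CommRingCat.of k), ⊤)
  letI : Field K₀ := hK.toField
  let R := Γ(Z.left, ⊤)
  letI : Algebra K₀ R := Z.hom.appTop.hom.toAlgebra
  haveI : Algebra.IsIntegral K₀ R := ⟨fun r => isIntegral_appTop_of_universallyClosed Z.hom r⟩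
  let S := Algebra.adjoin K₀ ({y} : Set R)
  haveI : Module.Finite K₀ S :=
    ⟨(Submodule.fg_top _).2 (Algebra.IsIntegral.isIntegral (R := K₀) y).fg_adjoin_singleton⟩
  haveI : IsArtinianRing S := IsArtinianRing.of_finite K₀ S
  let yS : S := ⟨y, Algebra.subset_adjoin rfl⟩
  obtain ⟨n, c, hc⟩ := IsArtinian.exists_pow_succ_smul_dvd yS (1 : S)
  have hc' : y ^ n.succ * (c : R) = y ^ n := by
    have := congrArg (fun s : S => (s : R)) hc
    simpa [yS] using this
  have h1 : y * (1 - y * c) = 0 := by
    refine IsReduced.eq_zero _ ⟨n + 1, ?_⟩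
    have h2 : y ^ n * (1 - y * c) = 0 := by
      rw [mul_sub, _root_.mul_one, ← _root_.mul_assoc, ← pow_succ, hc', sub_self]
    rw [mul_pow, pow_succ y n, pow_succ' (1 - y * (c : R)) n]
    linear_combination (y * (1 - y * (c : R)) ^ n) * h2
  have he : (y * c) * (y * c) = y * c := by linear_combination (-(c : R)) * h1
  rcases idempotent_trivial he with h | h
  · apply hy0
    linear_combination h1 + y * h
  · have := congrArg z.left.appTop.hom h
    rw [map_mul, hzy, zero_mul, map_one] at this
    exact absurd this (zero_ne_one (α := K₀))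

variable (A : Over (Spec (CommRingCat.of k))) [GrpObj A] [IsProper A.hom] [GeometricallyIntegral A.hom]
  {Y : Scheme.{u}} (q : Y ⟶ Spec (CommRingCat.of k)) [IsSeparated q] (f : A.left ⟶ Y) (hf : f ≫ q = A.hom)

include hf in
/-- Translation by `b * a⁻¹` maps the component of `a` in its fibre into the fibre of `b`. -/
theorem map_component_subset (a b : 𝟙_ (Over (Spec (CommRingCat.of k))) ⟶ A) :
    ∀ w ∈ connectedComponentIn (f ⁻¹' {f (a.left (IsLocalRing.closedPoint k))})
        (a.left (IsLocalRing.closedPoint k)),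
      f ((((toUnit A ≫ (b * a⁻¹)) * 𝟙 A : A ⟶ A)).left w) = f (b.left (IsLocalRing.closedPoint k)) := by
  let pt : ↥(𝟙_ (Over (Spec (CommRingCat.of k)))).left := IsLocalRing.closedPoint k
  have hsub1 : Subsingleton ↥(𝟙_ (Over (Spec (CommRingCat.of k)))).left :=
    inferInstanceAs (Subsingleton (PrimeSpectrum k))
  let S := Spec (CommRingCat.of k)
  let y₀ := f (a.left pt)
  have hy₀ : IsClosed ({y₀} : Set Y) := by
    have hsec : (a.left ≫ f) ≫ q = 𝟙 _ := by
      rw [Category.assoc, hf]
      exact Over.w a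
    have := isClosedImmersion_of_comp_eq_id (Y := S) q (a.left ≫ f) hsec
    have hc := (a.left ≫ f).isClosedEmbedding.isClosed_range
    have : Set.range (a.left ≫ f) = {y₀} := by
      ext z
      refine ⟨?_, fun hz => ⟨pt, hz.symm⟩⟩
      rintro ⟨w, rfl⟩
      rw [Subsingleton.elim w pt]
      rfl
    rwa [this] at hc
  have hfib : IsClosed (f ⁻¹' {y₀}) := hy₀.preimage f.continuous
  let F0 : Set A.left := connectedComponentIn (f ⁻¹' {y₀}) (a.left pt)
  have he₀ : a.left pt ∈ F0 := mem_connectedComponentIn (by simp [y₀])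
  have hF0c : IsClosed F0 := by
    rw [← closure_eq_iff_isClosed]
    exact subset_antisymm (isPreconnected_connectedComponentIn.closure.subset_connectedComponentIn
      (subset_closure he₀) (closure_minimal (connectedComponentIn_subset _ _) hfib)) subset_closure
  let Z : TopologicalSpace.Closeds A.left := ⟨F0, hF0c⟩
  let I := Scheme.IdealSheafData.vanishingIdeal Z
  have hrange : Set.range I.subschemeι = F0 := by
    rw [Scheme.IdealSheafData.range_subschemeι, Groth.L18.support_vanishingIdeal]
    rfl
  have : IsReduced I.subscheme := Groth.L18.isReduced_vanishingIdeal_subscheme Z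
  let F : Over S := Over.mk (I.subschemeι ≫ A.hom)
  let i : F ⟶ A := Over.homMk I.subschemeι rfl
  obtain ⟨a', ha'⟩ : ∃ a' : 𝟙_ (Over S) ⟶ F, a' ≫ i = a := by
    have hle := Groth.L18.vanishingIdeal_le_ker (X := S) a.left Z (by
      rintro _ ⟨w, rfl⟩
      rw [Subsingleton.elim w pt]
      exact he₀)
    have hker : I.subschemeι.ker ≤ a.left.ker := by
      rw [Scheme.IdealSheafData.ker_subschemeι]; exact hle
    refine ⟨Over.homMk (IsClosedImmersion.lift I.subschemeι a.left hker) ?_, ?_⟩
    · show _ ≫ I.subschemeι ≫ A.hom = _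
      rw [← Category.assoc, IsClosedImmersion.lift_fac, Over.w a]
    · ext1
      exact IsClosedImmersion.lift_fac _ _ _
  have : IsProper F.hom := inferInstanceAs (IsProper (I.subschemeι ≫ A.hom))
  have : Surjective F.hom := ⟨fun s => ⟨a'.left pt, Subsingleton.elim (α := PrimeSpectrum k) _ _⟩⟩
  have : Flat F.hom := inferInstanceAs (Flat (I.subschemeι ≫ A.hom : _ ⟶ Spec (CommRingCat.of k)))
  have : IsReduced F.left := ‹IsReduced I.subscheme›
  have : ConnectedSpace F.left := by
    rw [connectedSpace_iff_univ]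
    refine ⟨⟨a'.left pt, trivial⟩, ?_⟩
    have hemb := I.subschemeι.isClosedEmbedding.isInducing
    rw [← hemb.isPreconnected_image, Set.image_univ, hrange]
    exact isPreconnected_connectedComponentIn
  have hΓ : Function.Bijective F.hom.appTop.hom := bijective_appTop F a'
  have h0 : ∀ s, Groth.Agent.AV.FibConst F.hom s := by
    intro s
    have : CompactSpace F.left := (quasiCompact_iff_compactSpace F.hom).mp inferInstance
    have : QuasiSeparatedSpace F.left := quasiSeparatedSpace_of_quasiSeparated F.hom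
    exact Groth.Agent.AV.surjective_appTop_of_isPullback_field (k := k) (K := S.residueField s)
      (Spec.preimage (S.fromSpecResidueField s)) (g := Limits.pullback.fst _ _)
      (j := F.hom) (by rw [Spec.map_preimage]; exact IsPullback.of_hasPullback _ _) hΓ.2
  let G : Over S := Over.mk q
  have : IsSeparated G.hom := inferInstanceAs (IsSeparated q)
  let fG : A ⟶ G := Over.homMk f hf
  have hi0 : i ≫ fG = toUnit F ≫ a ≫ fG := by
    have h1 := Groth.Agent.AV.eq_const_of_singleton hΓ a' (i ≫ fG) (by
      rintro _ ⟨c, rfl⟩ _ ⟨d, rfl⟩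
      have hF : F0 ⊆ f ⁻¹' {y₀} := connectedComponentIn_subset _ _
      have hc : f (I.subschemeι c) = y₀ := hF (hrange ▸ ⟨c, rfl⟩)
      have hd : f (I.subschemeι d) = y₀ := hF (hrange ▸ ⟨d, rfl⟩)
      exact hc.trans hd.symm)
    rw [reassoc_of% ha'] at h1
    exact h1
  let d : F ⊗ A ⟶ G := (snd F A * (toUnit (F ⊗ A) ≫ a⁻¹) * (fst F A ≫ i)) ≫ fG
  have hd : lift (𝟙 F) (toUnit F ≫ a) ≫ d = toUnit F ≫ a ≫ fG := by
    rw [← hi0]
    simp only [d, ← Category.assoc]
    congr 1
    simp only [MonObj.comp_mul, lift_snd, lift_fst_assoc, Category.id_comp, ← Category.assoc,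
      comp_toUnit, GrpObj.comp_inv]
    rw [mul_inv_cancel, _root_.one_mul, lift_fst, Category.id_comp]
  have : IsLocallyNoetherian A.left := LocallyOfFiniteType.isLocallyNoetherian A.hom
  have : ConnectedSpace A.left := by
    have : IrreducibleSpace A.left := GeometricallyIrreducible.irreducibleSpace_of_subsingleton A.hom
    infer_instance
  obtain ⟨h, hh⟩ := Groth.Agent.AV.exists_eq_snd_comp F A G h0 a (a ≫ fG) (fun C hC he =>
    IsClopen.eq_univ hC ⟨a.left pt, he ⟨pt, rfl⟩⟩) d hd
  -- `h = fG`
  have hfh : h = fG := by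
    have := congrArg (fun φ => lift (toUnit A ≫ a') (𝟙 A) ≫ φ) hh
    simp only [d, ← Category.assoc, MonObj.comp_mul, lift_snd, lift_fst, comp_toUnit,
      GrpObj.comp_inv] at this
    rw [Category.id_comp, Category.assoc (toUnit A) a' i, ha', inv_mul_cancel_right,
      Category.id_comp] at this
    exact this.symm
  intro w hw
  obtain ⟨w, rfl⟩ : w ∈ Set.range I.subschemeι := hrange ▸ hw
  have h2 : i ≫ ((toUnit A ≫ (b * a⁻¹)) * 𝟙 A) ≫ fG = toUnit F ≫ b ≫ fG := by
    have := congrArg (fun φ => lift (𝟙 F) (toUnit F ≫ b) ≫ φ) hh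
    simp only [d, hfh, ← Category.assoc, MonObj.comp_mul, lift_snd, lift_fst, comp_toUnit,
      GrpObj.comp_inv, Category.id_comp] at this
    simp only [← Category.assoc, MonObj.comp_mul, comp_toUnit, Category.comp_id, GrpObj.comp_inv]
    exact this
  have := congrArg (fun φ : F ⟶ G => φ.left w) h2
  refine this.trans ?_
  change f (b.left ((toUnit F).left w)) = f (b.left pt)
  rw [Subsingleton.elim ((toUnit F).left w) pt]

end Groth.L08.FibreTranslate
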