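import Groth.Agent.L08.HopfDim

/-!
# `dim G ≤ dim Lie G` with equality exactly for smooth groups
-/

universe u v

open TensorProduct IsLocalRing

noncomputable section

namespace Groth.L08.HopfSmooth

variable {k : Type u} [Field k] {A : Type v} [CommRing A] [HopfAlgebra k A] [Algebra.FiniteType k A]
  (K : Type u) [Field K] [Algebra k K]

theorem ringKrullDim_baseChange : ringKrullDim (K ⊗[k] A) = ringKrullDim A := by
  obtain ⟨A', i1, i2, i3, ⟨e⟩⟩ := HopfDim.exists_small (k := k) A
  rw [← ringKrullDim_eq_of_ringEquiv e.toRingEquiv, ← Groth.L21.CurvFib.ringKrullDim_tensor_field k K A']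
  exact (ringKrullDim_eq_of_ringEquiv ((Algebra.TensorProduct.comm k A' K).toRingEquiv.trans
    (Algebra.TensorProduct.congr (AlgEquiv.refl (R := k) (A₁ := K)) e).toRingEquiv)).symm

local notation "εK" => Bialgebra.counitAlgHom K (K ⊗[k] A)

theorem counit_tmul (c : K) (a : A) : εK (c ⊗ₜ[k] a) = c * algebraMap k K (Bialgebra.counitAlgHom k A a) := by
  simp [TensorProduct.counit_tmul, Algebra.smul_def, mul_comm]

theorem finrank_cotangent :
    Module.finrank K (Ideal.Cotangent (RingHom.ker εK)) =
      Module.finrank k (Ideal.Cotangent (RingHom.ker (Bialgebra.counitAlgHom k A))) := by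
  classical
  obtain ⟨x, w, hx, hw, hwx, hspan⟩ := AugGraded.exists_coords k A
  have hxK : ∀ i, (1 : K) ⊗ₜ[k] x i ∈ RingHom.ker εK := fun i => by
    rw [RingHom.mem_ker, counit_tmul, RingHom.mem_ker.1 (hx i), map_zero, mul_zero]
  let v := fun i => (RingHom.ker εK).toCotangent ⟨_, hxK i⟩
  let W := fun i => (Algebra.TensorProduct.rid k K K).toLinearMap ∘ₗ (w i).baseChange K
  have hW : ∀ i, ∀ c a, W i (c ⊗ₜ[k] a) = c * algebraMap k K (w i a) := fun i c a => by
    simp [W, Algebra.smul_def, mul_comm]
  have hWt : ∀ i, AugGraded.IsTangent K (K ⊗[k] A) (W i) := fun i a b => by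
    induction a using TensorProduct.induction_on with
    | zero => simp
    | add p q hp hq => simp only [add_mul, map_add, hp, hq]; ring
    | tmul c a =>
      induction b using TensorProduct.induction_on with
      | zero => simp
      | add p q hp hq => simp only [mul_add, map_add, hp, hq]; ring
      | tmul d b =>
        rw [Algebra.TensorProduct.tmul_mul_tmul, hW, hW, hW, counit_tmul, counit_tmul, hw i a b, map_add, map_mul, map_mul]
        ring
  have hW2 : ∀ i, ∀ z ∈ (RingHom.ker εK) ^ 2, W i z = 0 := fun i z hz => by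
    rw [pow_two] at hz
    refine Submodule.mul_induction_on hz (fun a ha b hb => ?_) (fun a b ha hb => by rw [map_add, ha, hb, add_zero])
    rw [hWt i, RingHom.mem_ker.1 ha, RingHom.mem_ker.1 hb, zero_mul, zero_mul, add_zero]
  have hli : LinearIndependent K v := by
    rw [Fintype.linearIndependent_iff]
    intro g hg i
    have h0 : (RingHom.ker εK).toCotangent (∑ j, g j • (⟨_, hxK j⟩ : RingHom.ker εK)) = 0 := by
      rw [map_sum, ← hg]
      exact Finset.sum_congr rfl fun j _ => LinearMap.map_smul_of_tower _ _ _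
    rw [Ideal.toCotangent_eq_zero] at h0
    have h1 := hW2 i _ h0
    simp only [Submodule.coe_sum, Submodule.coe_smul_of_tower, map_sum, map_smul, hW, hwx, one_mul] at h1
    simpa [apply_ite (algebraMap k K), Finset.sum_ite_eq] using h1
  have htop : Submodule.span K (Set.range v) = ⊤ := by
    rw [eq_top_iff]
    intro c _
    obtain ⟨⟨z, hz⟩, rfl⟩ := Ideal.toCotangent_surjective _ c
    have key : ∀ z : K ⊗[k] A, ∃ g : Fin (Module.finrank k (Ideal.Cotangent (RingHom.ker (Bialgebra.counitAlgHom k A)))) → K,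
        z - algebraMap K (K ⊗[k] A) (εK z) - ∑ i, g i • ((1 : K) ⊗ₜ[k] x i) ∈ (RingHom.ker εK) ^ 2 := by
      intro z
      induction z using TensorProduct.induction_on with
      | zero => exact ⟨0, by simp⟩
      | add p q hp hq =>
        obtain ⟨g, hg⟩ := hp
        obtain ⟨g', hg'⟩ := hq
        refine ⟨g + g', ?_⟩
        convert add_mem hg hg' using 1
        simp only [map_add, Pi.add_apply, add_smul, Finset.sum_add_distrib]
        abel
      | tmul d a =>
        obtain ⟨g, hg⟩ := hspan _ (AugGraded.sub_mem (k := k) a)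
        refine ⟨fun i => d * algebraMap k K (g i), ?_⟩
        have h1 : ((1 : K) ⊗ₜ[k] (a - algebraMap k A (Bialgebra.counitAlgHom k A a) - ∑ i, g i • x i)) ∈ (RingHom.ker εK) ^ 2 := by
          have := Ideal.mem_map_of_mem (Algebra.TensorProduct.includeRight : A →ₐ[k] K ⊗[k] A) hg
          rw [Ideal.map_pow] at this
          refine Ideal.pow_right_mono (Ideal.map_le_iff_le_comap.2 fun b hb => ?_) 2 this
          rw [Ideal.mem_comap, RingHom.mem_ker]
          show εK ((1 : K) ⊗ₜ[k] b) = 0
          rw [counit_tmul, RingHom.mem_ker.1 hb, map_zero, mul_zero]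
        have h2 := Submodule.smul_of_tower_mem (RingHom.ker εK ^ 2) d h1
        have e1 : ∀ (c : k) (b : A), d • ((1 : K) ⊗ₜ[k] (c • b)) = (d * algebraMap k K c) • ((1 : K) ⊗ₜ[k] b) := fun c b => by
          rw [TensorProduct.tmul_smul, ← algebraMap_smul K c ((1 : K) ⊗ₜ[k] b), smul_smul]
        rw [tmul_sub, tmul_sub, tmul_sum, smul_sub, smul_sub, Finset.smul_sum] at h2
        simp only [e1] at h2
        rw [Algebra.algebraMap_eq_smul_one (A := A), e1] at h2
        rw [counit_tmul, Algebra.algebraMap_eq_smul_one (A := K ⊗[k] A)]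
        rw [show d • ((1 : K) ⊗ₜ[k] a) = d ⊗ₜ[k] a by rw [TensorProduct.smul_tmul', smul_eq_mul, mul_one],
          ← Algebra.TensorProduct.one_def] at h2
        exact h2
    obtain ⟨g, hg⟩ := key z
    rw [show εK z = 0 from hz, map_zero, sub_zero] at hg
    have h2 : (RingHom.ker εK).toCotangent ⟨z, hz⟩ = ∑ i, g i • v i := by
      simp only [v, ← LinearMap.map_smul_of_tower, ← map_sum]
      rw [Ideal.toCotangent_eq]
      simpa [Submodule.coe_sum, Submodule.coe_smul_of_tower] using hg
    rw [h2]
    exact Submodule.sum_mem _ fun i _ => Submodule.smul_mem _ _ (Submodule.subset_span ⟨i, rfl⟩)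
  rw [Module.finrank_eq_card_basis (Module.Basis.mk hli htop.ge), Fintype.card_fin]

theorem dim_le_and_iff_aux [IsAlgClosed K] :
    ringKrullDim A ≤ (Module.finrank k (Ideal.Cotangent (RingHom.ker (Bialgebra.counitAlgHom k A))) : WithBot ℕ∞) ∧
      (ringKrullDim A = (Module.finrank k (Ideal.Cotangent (RingHom.ker (Bialgebra.counitAlgHom k A))) : WithBot ℕ∞) ↔
        Algebra.FormallySmooth k A) := by
  rw [← finrank_cotangent K, ← ringKrullDim_baseChange (k := k) (A := A) K]
  refine ⟨HopfDim.ringKrullDim_le K (K ⊗[k] A), ?_⟩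
  rw [← HopfDim.regular_iff]
  obtain ⟨B', i1, i2, i3, ⟨e⟩⟩ := HopfDim.exists_small (k := K) (K ⊗[k] A)
  constructor
  · intro hr
    haveI : Algebra.Smooth K B' := Groth.L12.CotTLib.smooth_of_regular_maximal fun m hm => by
      haveI : (m.comap e.symm.toRingEquiv.toRingHom).IsMaximal := Ideal.comap_isMaximal_of_surjective _ e.symm.surjective
      exact HopfDim.regular_congr_equiv e.symm.toRingEquiv m _ rfl (HopfDim.regular_atPrime K hr)
    haveI : Algebra.Smooth K (K ⊗[k] A) := .of_equiv e
    exact (Algebra.Smooth.of_smooth_tensorProduct_of_faithfullyFlat (R := k) (S := A) K).formallySmooth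
  · intro hs
    haveI : Algebra.Smooth k A := ⟨hs, Algebra.FinitePresentation.of_finiteType.1 ‹_›⟩
    haveI : Algebra.Smooth K B' := .of_equiv e.symm
    haveI : ((RingHom.ker εK).comap e.toRingEquiv.toRingHom).IsPrime := Ideal.comap_isPrime _ _
    exact HopfDim.regular_congr_equiv e.toRingEquiv _ _ rfl
      (Groth.L12.CotTLib.regular_iff_formallySmooth.2 (Algebra.Smooth.formallySmooth (R := K) (A := B')) _)

variable (k A) in
theorem dim_le_and_iff :
    ringKrullDim A ≤ (Module.finrank k (Ideal.Cotangent (RingHom.ker (Bialgebra.counitAlgHom k A))) : WithBot ℕ∞) ∧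
      (ringKrullDim A = (Module.finrank k (Ideal.Cotangent (RingHom.ker (Bialgebra.counitAlgHom k A))) : WithBot ℕ∞) ↔
        Algebra.FormallySmooth k A) :=
  dim_le_and_iff_aux (AlgebraicClosure k)

end Groth.L08.HopfSmooth
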