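import Groth.Agent.L26.AV.FormalRigidity
import Groth.Agent.L08.Albanese.Descent
import Groth.Agent.L25.Actions
import Groth.Agent.L18.DominatingDVR
import Mathlib.AlgebraicGeometry.SpreadingOut
import Mathlib.AlgebraicGeometry.AlgClosed.Basic

/-!
# Rigidity for schemes with only constant functions, over a connected base
-/

set_option autoImplicit false
set_option backward.isDefEq.respectTransparency.types false
set_option linter.style.haveILetI false

universe u

open CategoryTheory CategoryTheory.Limits MonoidalCategory CartesianMonoidalCategory MonObj AlgebraicGeometry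

noncomputable section

namespace Groth.L08.AntiAffRigid

variable {k : Type u} [Field k] {X Y Z : Over (Spec (CommRingCat.of k))}

/-- Constant on one fibre implies constant near it. -/
theorem exists_nhd [CompactSpace X.left] [QuasiSeparatedSpace X.left] [LocallyOfFiniteType Y.hom] [IsSeparated Z.hom]
    (hX : Function.Surjective X.hom.appTop.hom) (x₀ : 𝟙_ (Over (Spec (CommRingCat.of k))) ⟶ X)
    (y₀ : 𝟙_ (Over (Spec (CommRingCat.of k))) ⟶ Y) (f : X ⊗ Y ⟶ Z)
    (hf : (X ◁ y₀) ≫ f = (X ◁ y₀) ≫ snd X Y ≫ lift (toUnit Y ≫ x₀) (𝟙 Y) ≫ f) :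
    ∃ V : Y.left.Opens, y₀.left (IsLocalRing.closedPoint k) ∈ V ∧
      (X ◁ (Over.homMk V.ι rfl : Over.mk (V.ι ≫ Y.hom) ⟶ Y)) ≫ f =
        (X ◁ (Over.homMk V.ι rfl : Over.mk (V.ι ≫ Y.hom) ⟶ Y)) ≫ snd X Y ≫ lift (toUnit Y ≫ x₀) (𝟙 Y) ≫ f := by
  let pt : ↥(Spec (CommRingCat.of k)) := IsLocalRing.closedPoint k
  haveI : IsLocallyNoetherian Y.left := LocallyOfFiniteType.isLocallyNoetherian Y.hom
  let y : Y.left := y₀.left pt
  obtain ⟨V, hyV, hV, hinj⟩ := Y.left.exists_germ_injective y
  refine ⟨V, hyV, ?_⟩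
  let g : Y ⟶ Z := lift (toUnit Y ≫ x₀) (𝟙 Y) ≫ f
  let G : X ⊗ Y ⟶ Z := snd X Y ≫ g
  let z₀ : Z.left := g.left y
  have hx₀ : x₀.left ≫ X.hom = 𝟙 (Spec (CommRingCat.of k)) := Over.w x₀
  have hP : IsPullback (X ◁ y₀).left (snd X (𝟙_ _)).left (snd X Y).left y₀.left := by
    refine IsPullback.of_right (h₁₂ := (fst X Y).left) ?_ ?_ (IsPullback.of_hasPullback X.hom Y.hom)
    · rw [← Over.comp_left, whiskerLeft_fst, Over.w y₀]
      exact IsPullback.of_hasPullback X.hom (𝟙_ (Over (Spec (CommRingCat.of k)))).hom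
    · rw [← Over.comp_left, whiskerLeft_snd, Over.comp_left]
  have keyg : ∀ p : (X ⊗ Y).left, (snd X Y).left p = y → G.left p = z₀ := fun p hp => congrArg g.left hp
  have keyf : ∀ p : (X ⊗ Y).left, (snd X Y).left p = y → f.left p = z₀ := by
    intro p hp
    obtain ⟨z, hz, hz'⟩ := Scheme.Pullback.exists_preimage_pullback p pt hp
    have hx : (X ◁ y₀).left (hP.isoPullback.inv z) = p := by
      rw [← hz]
      exact congrArg (fun φ => φ z) hP.isoPullback_inv_fst
    rw [← keyg p hp, ← hx]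
    exact congr(($hf).left (hP.isoPullback.inv z))
  -- agreement over the local ring at the point
  let A := Y.left.presheaf.stalk y
  let φ : CommRingCat.of k ⟶ A := Spec.preimage (Y.left.fromSpecStalk y ≫ Y.hom)
  have hφ : Spec.map φ = Y.left.fromSpecStalk y ≫ Y.hom := Spec.map_preimage _
  let mA : pullback X.hom (Spec.map φ) ⟶ (X ⊗ Y).left :=
    pullback.lift (pullback.fst _ _) (pullback.snd _ _ ≫ Y.left.fromSpecStalk y)
      (by rw [Category.assoc, ← hφ, pullback.condition])
  have hA : mA ≫ f.left = mA ≫ G.left := by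
    refine Groth.Agent.AV.eq_of_collapse' (A := A) X.hom hX x₀.left hx₀ φ _ _ Z.hom
      (by simp only [Category.assoc, Over.w f, Over.w G]) ?_ z₀ (fun p hp => ?_) (fun p hp => ?_)
    · let σ := pullback.lift (f := X.hom) (g := Spec.map φ) (Spec.map φ ≫ x₀.left) (𝟙 _)
        (by rw [Category.assoc, hx₀, Category.comp_id, Category.id_comp])
      have hσ : σ ≫ mA = Y.left.fromSpecStalk y ≫ (lift (toUnit Y ≫ x₀) (𝟙 Y)).left := by
        apply pullback.hom_ext
        · show (σ ≫ mA) ≫ pullback.fst X.hom Y.hom = (_ ≫ _) ≫ (fst X Y).left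
          rw [Category.assoc, pullback.lift_fst, pullback.lift_fst, Category.assoc, ← Over.comp_left, lift_fst,
            Over.comp_left, Over.toUnit_left, hφ, Category.assoc]
        · show (σ ≫ mA) ≫ pullback.snd X.hom Y.hom = (_ ≫ _) ≫ (snd X Y).left
          rw [Category.assoc, pullback.lift_snd, pullback.lift_snd_assoc, Category.id_comp, Category.assoc,
            ← Over.comp_left, lift_snd, Over.id_left, Category.comp_id]
      show σ ≫ mA ≫ f.left = σ ≫ mA ≫ G.left
      rw [reassoc_of% hσ, reassoc_of% hσ, ← Over.comp_left, ← Over.comp_left]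
      simp only [G, g, lift_snd_assoc, Category.id_comp]
    · refine keyf _ ?_
      show (mA ≫ pullback.snd X.hom Y.hom) p = y
      rw [pullback.lift_snd, Scheme.Hom.comp_apply, hp]
      exact Scheme.fromSpecStalk_closedPoint
    · refine keyg _ ?_
      show (mA ≫ pullback.snd X.hom Y.hom) p = y
      rw [pullback.lift_snd, Scheme.Hom.comp_apply, hp]
      exact Scheme.fromSpecStalk_closedPoint
  let φV : CommRingCat.of k ⟶ Γ(Y.left, V) := Spec.preimage (hV.fromSpec ≫ Y.hom)
  have hφV : Spec.map φV = hV.fromSpec ≫ Y.hom := Spec.map_preimage _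
  let gV : Γ(Y.left, V) ⟶ A := Y.left.presheaf.germ V y hyV
  let mV : pullback X.hom (Spec.map φV) ⟶ (X ⊗ Y).left :=
    pullback.map _ _ _ _ (𝟙 _) hV.fromSpec (𝟙 _) (by simp) (by simp [hφV])
  have hVeq : mV ≫ f.left = mV ≫ G.left := by
    refine Groth.Agent.AV.eq_of_injective_extension' (R := Γ(Y.left, V)) (K := A) X.hom φV gV hinj _ _ Z.hom
      (by simp only [Category.assoc, Over.w f, Over.w G]) fun {T} u v w => ?_
    have hK : Spec.map gV ≫ hV.fromSpec = Y.left.fromSpecStalk y := by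
      rw [← IsAffineOpen.fromSpecStalk_eq_fromSpecStalk hV hyV]
      rfl
    let l : T ⟶ pullback X.hom (Spec.map φ) := pullback.lift u v
        (by rw [hφ, ← reassoc_of% hK, w, Category.assoc, hφV])
    have hl : pullback.lift u (v ≫ Spec.map gV) w ≫ mV = l ≫ mA := by
      apply pullback.hom_ext
      · rw [Category.assoc, pullback.lift_fst, Category.comp_id, pullback.lift_fst, Category.assoc]
        erw [pullback.lift_fst, pullback.lift_fst]
      · rw [Category.assoc, pullback.lift_snd, pullback.lift_snd_assoc, Category.assoc, Category.assoc, hK]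
        erw [pullback.lift_snd, pullback.lift_snd_assoc]
    have h1 := congrArg (· ≫ f.left) hl
    have h2 := congrArg (· ≫ G.left) hl
    simp only [Category.assoc] at h1 h2
    exact h1.trans ((congrArg (l ≫ ·) hA).trans h2.symm)
  let U : Over (Spec (CommRingCat.of k)) := Over.mk (V.ι ≫ Y.hom)
  let i : U ⟶ Y := Over.homMk V.ι rfl
  let θ : (X ⊗ U).left ⟶ pullback X.hom (Spec.map φV) :=
    pullback.map X.hom (V.ι ≫ Y.hom) X.hom (Spec.map φV) (𝟙 _) hV.isoSpec.hom (𝟙 _) (by simp)
      (by rw [hφV, Category.comp_id, IsAffineOpen.isoSpec_hom_fromSpec_assoc])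
  have hθ : θ ≫ mV = (X ◁ i).left := by
    apply pullback.hom_ext
    · show (θ ≫ mV) ≫ pullback.fst X.hom Y.hom = (X ◁ i).left ≫ (fst X Y).left
      rw [← Over.comp_left, whiskerLeft_fst, Category.assoc, pullback.lift_fst, Category.comp_id]
      erw [pullback.lift_fst, Category.comp_id]
      rfl
    · show (θ ≫ mV) ≫ pullback.snd X.hom Y.hom = (X ◁ i).left ≫ (snd X Y).left
      rw [← Over.comp_left, whiskerLeft_snd, Category.assoc, pullback.lift_snd]
      erw [pullback.lift_snd_assoc]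
      rw [Category.assoc, IsAffineOpen.isoSpec_hom_fromSpec]
      rfl
  show (X ◁ i) ≫ f = (X ◁ i) ≫ G
  ext1
  rw [Over.comp_left, Over.comp_left, ← hθ, Category.assoc, Category.assoc, hVeq]

/-- Equality on a dense piece of an integral factor is equality. -/
theorem eq_of_dense [IsIntegral Y.left] [LocallyOfFiniteType Y.hom] [IsSeparated Z.hom] (V : Y.left.Opens)
    (hV : (V : Set Y.left).Nonempty) (a b : X ⊗ Y ⟶ Z)
    (h : (X ◁ (Over.homMk V.ι rfl : Over.mk (V.ι ≫ Y.hom) ⟶ Y)) ≫ a =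
      (X ◁ (Over.homMk V.ι rfl : Over.mk (V.ι ≫ Y.hom) ⟶ Y)) ≫ b) : a = b := by
  let i : Over.mk (V.ι ≫ Y.hom) ⟶ Y := Over.homMk V.ι rfl
  haveI : IsLocallyNoetherian Y.left := LocallyOfFiniteType.isLocallyNoetherian Y.hom
  haveI : IsDominant V.ι := ⟨by
    rw [DenseRange, V.range_ι]; exact V.2.dense hV⟩
  haveI : IsSchemeTheoreticallyDominant V.ι := IsSchemeTheoreticallyDominant.of_isDominant _
  haveI : IsSchemeTheoreticallyDominant i.left := ‹IsSchemeTheoreticallyDominant V.ι›
  haveI : QuasiCompact i.left := inferInstanceAs (QuasiCompact V.ι)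
  haveI : Flat (snd X Y).left := inferInstanceAs (Flat (pullback.snd X.hom Y.hom))
  have hP : IsPullback (X ◁ i).left (snd X _).left (snd X Y).left i.left := by
    refine IsPullback.of_right (h₁₂ := (fst X Y).left) ?_ ?_ (IsPullback.of_hasPullback X.hom Y.hom)
    · rw [← Over.comp_left, whiskerLeft_fst, Over.w i]
      exact IsPullback.of_hasPullback X.hom (V.ι ≫ Y.hom)
    · rw [← Over.comp_left, whiskerLeft_snd, Over.comp_left]
  haveI : IsSchemeTheoreticallyDominant (X ◁ i).left := IsSchemeTheoreticallyDominant.of_isPullback hP.flip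
  let δ : Z ⟶ Z ⊗ Z := lift (𝟙 Z) (𝟙 Z)
  haveI : IsClosedImmersion δ.left := by
    show IsClosedImmersion (pullback.diagonal Z.hom)
    infer_instance
  obtain ⟨w, hw⟩ := Groth.L08.Albanese.exists_factor_dominant (X ◁ i).left (lift a b).left δ.left
    ((X ◁ i) ≫ a).left (by
      rw [← Over.comp_left, ← Over.comp_left, comp_lift, comp_lift, Category.comp_id, h])
  have h1 := congrArg (· ≫ (fst Z Z).left) hw
  have h2 := congrArg (· ≫ (snd Z Z).left) hw
  simp only [δ, Category.assoc, ← Over.comp_left, lift_fst, lift_snd, Over.id_left, Category.comp_id] at h1 h2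
  exact Over.OverMorphism.ext (h1.symm.trans h2)

/-- **Rigidity**: if `O(X) = k`, `Y` is connected and `f` is constant on one fibre, then `f` factors through `Y`. -/
theorem existsUnique_factor_snd [IsAlgClosed k] [LocallyOfFiniteType X.hom] [QuasiCompact X.hom]
    [LocallyOfFiniteType Y.hom] [QuasiCompact Y.hom] [ConnectedSpace Y.left] [IsSeparated Z.hom]
    (hX : Function.Bijective ((Scheme.ΓSpecIso (CommRingCat.of k)).inv ≫ X.hom.appTop).hom)
    (f : X ⊗ Y ⟶ Z) (y₀ : 𝟙_ (Over (Spec (CommRingCat.of k))) ⟶ Y) (z₀ : 𝟙_ (Over (Spec (CommRingCat.of k))) ⟶ Z)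
    (hf : (X ◁ y₀) ≫ f = toUnit _ ≫ z₀) : ∃! g : Y ⟶ Z, f = snd X Y ≫ g := by
  let pt : ↥(Spec (CommRingCat.of k)) := IsLocalRing.closedPoint k
  have hX' : Function.Surjective X.hom.appTop.hom := fun b => by obtain ⟨c, hc⟩ := hX.2 b; exact ⟨_, hc⟩
  haveI : CompactSpace X.left := (quasiCompact_iff_compactSpace X.hom).mp inferInstance
  haveI : IsLocallyNoetherian X.left := LocallyOfFiniteType.isLocallyNoetherian X.hom
  haveI : IsLocallyNoetherian Y.left := LocallyOfFiniteType.isLocallyNoetherian Y.hom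
  haveI : CompactSpace Y.left := (quasiCompact_iff_compactSpace Y.hom).mp inferInstance
  haveI : IsNoetherian Y.left := ⟨⟩
  haveI : JacobsonSpace Y.left := LocallyOfFiniteType.jacobsonSpace Y.hom
  haveI : JacobsonSpace X.left := LocallyOfFiniteType.jacobsonSpace X.hom
  haveI : Nonempty X.left := by
    by_contra hne
    rw [not_nonempty_iff] at hne
    exact zero_ne_one (α := k) (hX.1 (Subsingleton.elim _ _))
  obtain ⟨xc, -, hxc⟩ := nonempty_inter_closedPoints (Z := (Set.univ : Set X.left)) Set.univ_nonempty isClosed_univ.isLocallyClosed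
  let x₀ : 𝟙_ (Over (Spec (CommRingCat.of k))) ⟶ X :=
    Over.homMk (pointOfClosedPoint X.hom xc hxc) (pointOfClosedPoint_comp X.hom xc hxc)
  let g : Y ⟶ Z := lift (toUnit Y ≫ x₀) (𝟙 Y) ≫ f
  refine ⟨g, ?_, fun g' hg' => by
    show g' = lift (toUnit Y ≫ x₀) (𝟙 Y) ≫ f
    rw [hg', lift_snd_assoc, Category.id_comp]⟩
  show f = snd X Y ≫ g
  let G : X ⊗ Y ⟶ Z := snd X Y ≫ g
  let W : TopologicalSpace.Opens Y.left := ⨆ V ∈ {V : Y.left.Opens |
    (X ◁ (Over.homMk V.ι rfl : Over.mk (V.ι ≫ Y.hom) ⟶ Y)) ≫ f = (X ◁ Over.homMk V.ι rfl) ≫ G}, V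
  have hW : ∀ {p : Y.left}, p ∈ W ↔ ∃ V : Y.left.Opens, p ∈ V ∧
      (X ◁ (Over.homMk V.ι rfl : Over.mk (V.ι ≫ Y.hom) ⟶ Y)) ≫ f = (X ◁ Over.homMk V.ι rfl) ≫ G := by
    intro p
    simp only [W, TopologicalSpace.Opens.mem_iSup, Set.mem_ofPred_eq, exists_prop]
    exact exists_congr fun V => and_comm
  have good : ∀ (y : 𝟙_ (Over (Spec (CommRingCat.of k))) ⟶ Y), (X ◁ y) ≫ f = (X ◁ y) ≫ G → y.left pt ∈ W :=
    fun y hy => hW.2 (exists_nhd hX' x₀ y f hy)
  have hne : (W : Set Y.left).Nonempty := by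
    refine ⟨_, good y₀ ?_⟩
    have h1 : y₀ ≫ g = z₀ := by
      rw [show y₀ ≫ g = lift x₀ (𝟙 _) ≫ (X ◁ y₀) ≫ f by
        rw [lift_whiskerLeft_assoc, Category.id_comp, comp_lift_assoc, Category.comp_id, comp_toUnit_assoc,
          Subsingleton.elim (toUnit (𝟙_ (Over (Spec (CommRingCat.of k))))) (𝟙 _), Category.id_comp], hf,
        comp_toUnit_assoc, Subsingleton.elim (toUnit (𝟙_ (Over (Spec (CommRingCat.of k))))) (𝟙 _), Category.id_comp]
    rw [hf, whiskerLeft_snd_assoc, h1, Subsingleton.elim (snd X (𝟙_ _)) (toUnit _)]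
  have hclosed : IsClosed (W : Set Y.left) := by
    refine isClosed_of_closure_subset fun q hq => ?_
    obtain ⟨p, hqp, hp⟩ := nonempty_inter_closedPoints (Z := closure {q}) ⟨q, subset_closure rfl⟩ isClosed_closure.isLocallyClosed
    refine (specializes_iff_mem_closure.2 hqp).mem_open W.2 ?_
    have hpW : p ∈ closure (W : Set Y.left) := closure_minimal (Set.singleton_subset_iff.2 hq) isClosed_closure hqp
    have hfin : (irreducibleComponents Y.left).Finite := TopologicalSpace.NoetherianSpace.finite_irreducibleComponents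
    rw [show (W : Set Y.left) = ⋃ C ∈ irreducibleComponents Y.left, (W : Set Y.left) ∩ C by
      rw [← Set.inter_iUnion₂, ← Set.sUnion_eq_biUnion, sUnion_irreducibleComponents, Set.inter_univ],
      hfin.closure_biUnion] at hpW
    obtain ⟨C, hC, hpC⟩ := Set.mem_iUnion₂.1 hpW
    have hCc : IsClosed C := isClosed_of_mem_irreducibleComponents C hC
    obtain ⟨w, hwW, hwC⟩ : ((W : Set Y.left) ∩ C).Nonempty := by
      rw [Set.nonempty_iff_ne_empty]; intro e; rw [e, closure_empty] at hpC; exact hpC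
    have hpC' : p ∈ C := closure_minimal Set.inter_subset_right hCc hpC
    obtain ⟨V, hwV, hV⟩ := hW.1 hwW
    let I := Scheme.IdealSheafData.vanishingIdeal ⟨C, hCc⟩
    have hr : Set.range I.subschemeι = C := by
      rw [I.range_subschemeι, Scheme.IdealSheafData.coe_support_vanishingIdeal]; rfl
    haveI : IsReduced I.subscheme := Groth.L18.isReduced_vanishingIdeal_subscheme _
    haveI : IsIntegral I.subscheme := by
      haveI : IrreducibleSpace C := isIrreducible_iff_irreducibleSpace.1 hC.1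
      let e := I.subschemeι.isEmbedding.toHomeomorph.trans (Homeomorph.setCongr hr)
      haveI : IrreducibleSpace I.subscheme := (irreducibleSpace_def _).2 (by
        rw [Set.top_eq_univ, ← Set.range_eq_univ.2 e.symm.surjective, ← Set.image_univ]
        exact (IrreducibleSpace.isIrreducible_univ C).image _ e.symm.continuous.continuousOn)
      exact isIntegral_of_irreducibleSpace_of_isReduced _
    let C' : Over (Spec (CommRingCat.of k)) := Over.mk (I.subschemeι ≫ Y.hom)
    let c : C' ⟶ Y := Over.homMk I.subschemeι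
    haveI : IsIntegral C'.left := ‹IsIntegral I.subscheme›
    haveI : LocallyOfFiniteType C'.hom := inferInstanceAs (LocallyOfFiniteType (I.subschemeι ≫ Y.hom))
    let V' : C'.left.Opens := c.left ⁻¹ᵁ V
    have hVne : (V' : Set C'.left).Nonempty := by
      obtain ⟨w', hw'⟩ := hr.symm.subset hwC
      exact ⟨w', show c.left w' ∈ V from (show c.left w' = w from hw').symm ▸ hwV⟩
    have hC' : (X ◁ c) ≫ f = (X ◁ c) ≫ G := by
      refine eq_of_dense V' hVne _ _ ?_
      let r : Over.mk (V'.ι ≫ C'.hom) ⟶ Over.mk (V.ι ≫ Y.hom) := Over.homMk (c.left ∣_ V) (by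
        show (c.left ∣_ V) ≫ V.ι ≫ Y.hom = V'.ι ≫ C'.hom
        rw [morphismRestrict_ι_assoc]; rfl)
      have e : (Over.homMk V'.ι rfl : Over.mk (V'.ι ≫ C'.hom) ⟶ C') ≫ c = r ≫ Over.homMk V.ι rfl :=
        Over.OverMorphism.ext (morphismRestrict_ι c.left V).symm
      rw [← MonoidalCategory.whiskerLeft_comp_assoc, ← MonoidalCategory.whiskerLeft_comp_assoc, e,
        MonoidalCategory.whiskerLeft_comp_assoc, MonoidalCategory.whiskerLeft_comp_assoc, hV]
    obtain ⟨p', hp'⟩ := hr.symm.subset hpC'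
    have hp'c : IsClosed ({p'} : Set C'.left) := by
      rw [show ({p'} : Set C'.left) = c.left ⁻¹' {p} by
        ext a; exact ⟨fun h => h ▸ hp', fun h => I.subschemeι.isEmbedding.injective (h.trans hp'.symm)⟩]
      exact IsClosed.preimage c.left.continuous hp
    let y' : 𝟙_ (Over (Spec (CommRingCat.of k))) ⟶ C' :=
      Over.homMk (pointOfClosedPoint C'.hom p' hp'c) (pointOfClosedPoint_comp C'.hom p' hp'c)
    have h1 := good (y' ≫ c) (by simp only [MonoidalCategory.whiskerLeft_comp_assoc, hC'])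
    have h2 : (y' ≫ c).left pt = p := (congrArg c.left (pointOfClosedPoint_apply C'.hom p' hp'c pt)).trans hp'
    exact h2 ▸ h1
  have htop : ∀ p : Y.left, p ∈ W := fun p =>
    (IsClopen.eq_univ ⟨hclosed, W.2⟩ hne).symm.subset (Set.mem_univ p)
  refine Over.OverMorphism.ext ?_
  have h0 : ∀ p : (X ⊗ Y).left, ∃ U : (X ⊗ Y).left.Opens, p ∈ U ∧ U.ι ≫ f.left = U.ι ≫ G.left := by
    intro p
    obtain ⟨V, hpV, hV⟩ := hW.1 (htop ((snd X Y).left p))
    let i : Over.mk (V.ι ≫ Y.hom) ⟶ Y := Over.homMk V.ι rfl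
    haveI : IsOpenImmersion (X ◁ i).left :=
      Groth.L25.Actions.of_whiskerLeft @IsOpenImmersion X i (inferInstanceAs (IsOpenImmersion V.ι))
    have hP : IsPullback (X ◁ i).left (snd X _).left (snd X Y).left i.left := by
      refine IsPullback.of_right (h₁₂ := (fst X Y).left) ?_ ?_ (IsPullback.of_hasPullback X.hom Y.hom)
      · rw [← Over.comp_left, whiskerLeft_fst, Over.w i]
        exact IsPullback.of_hasPullback X.hom (V.ι ≫ Y.hom)
      · rw [← Over.comp_left, whiskerLeft_snd, Over.comp_left]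
    refine ⟨(X ◁ i).left.opensRange, ?_, ?_⟩
    · obtain ⟨v, hv⟩ : (snd X Y).left p ∈ Set.range i.left := by rw [show Set.range i.left = _ from V.range_ι]; exact hpV
      obtain ⟨z, hz, -⟩ := Scheme.Pullback.exists_preimage_pullback p v hv.symm
      exact ⟨hP.isoPullback.inv z, (congrArg (fun φ => φ z) hP.isoPullback_inv_fst).trans hz⟩
    · rw [← cancel_epi (X ◁ i).left.isoOpensRange.hom, Scheme.Hom.isoOpensRange_hom_ι_assoc,
        Scheme.Hom.isoOpensRange_hom_ι_assoc]
      exact congrArg CommaMorphism.left hV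
  have := Groth.Agent.AV.opens_ι_comp_eq f.left G.left ⊤ fun p _ => h0 p
  exact (cancel_epi (X ⊗ Y).left.topIso.hom).1 this

end Groth.L08.AntiAffRigid
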