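import Groth.Agent.L08.CharExtend
import Groth.Agent.L08.TorusQuot.Affine
import Groth.Agent.L13.CGrpExt.Basic
import Groth.Agent.L26.AV.HopfFrobenius
import Groth.Prelude.Def_CGrpSh2
import Mathlib.GroupTheory.FiniteAbelian.Basic
import Mathlib.RingTheory.Finiteness.Basic

/-!
# Restriction of characters to a closed subgroup of an affine commutative group
-/

set_option autoImplicit false
set_option backward.isDefEq.respectTransparency.types false
set_option linter.style.haveILetI false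

universe u

open CategoryTheory CategoryTheory.Limits MonoidalCategory CartesianMonoidalCategory MonObj GrpObj AlgebraicGeometry
open WithConv
open Groth.L25.Bridge (P)
open Groth.L08.CentralGm (LZ T)
open Groth.L08.TorusQuot

noncomputable section

namespace Groth.L08.CharSurj

variable {k : Type u} [Field k]

theorem isGroupLikeElem_T : IsGroupLikeElem k (T k) :=
  MonoidAlgebra.isGroupLikeElem_single_one (R := k) (A := k) (Multiplicative.ofAdd (1 : ℤ))

theorem sp_eq_toPt {A B : Type u} [CommRing A] [HopfAlgebra k A] [CommRing B] [HopfAlgebra k B] (f : B →ₐc[k] A) :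
    sp f = toPt (toConv (f : B →ₐ[k] A) : Pt k B A) :=
  Over.OverMorphism.ext rfl

/-- characters lift up to a power, affine form -/
theorem exists_pow_lift {A B : Type u} [CommRing A] [HopfAlgebra k A] [CommRing B] [HopfAlgebra k B]
    [Coalgebra.IsCocomm k A] [Coalgebra.IsCocomm k B] (π : A →ₐc[k] B) (hπ : Function.Surjective π)
    (c : LZ k →ₐc[k] B) : ∃ n : ℕ, 0 < n ∧ (IsAlgClosed k → n = 1) ∧
      ∃ c' : LZ k →ₐc[k] A, sp π ≫ sp c' = sp c ^ n := by
  obtain ⟨n, hn, hk, a, ha, hab⟩ := CharExtend.exists_pow_lift π hπ (isGroupLikeElem_T.map c)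
  let g : GroupLike k A := ⟨a, ha⟩
  let c' : LZ k →ₐc[k] A :=
    MonoidAlgebra.liftGroupLikeBialgHom.comp (MonoidAlgebra.mapDomainBialgHom k (zpowersHom _ g))
  have hc' : c' (T k) = a := by simp [c', T, g]
  refine ⟨n, hn, hk, c', ?_⟩
  rw [sp_comp, sp_eq_toPt, sp_eq_toPt c, ← map_pow]
  refine congrArg toPt (ext_T ?_)
  rw [pow_apply_groupLike isGroupLikeElem_T]
  exact (congrArg π hc').trans hab

section

variable {H G : Over (Spec (CommRingCat.of k))} [GrpObj H] [GrpObj G]

/-- the isomorphism with the spectrum of the Hopf algebra -/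
theorem exists_P [IsAffine H.left] [LocallyOfFiniteType H.hom] :
    ∃ (B : Type u) (_ : CommRing B) (_ : HopfAlgebra k B) (_ : Algebra.FiniteType k B)
      (e : P k B ≅ H), IsMonHom e.hom := by
  obtain ⟨H0, ⟨e⟩⟩ := (essImage_hopfSpec (G := Grp.mk H)).mpr ‹IsAffine H.left›
  let eA : P k H0.unop ≅ H := (Grp.forget _).mapIso e
  haveI : IsIso eA.hom.left := inferInstanceAs (IsIso ((Over.forget _).map eA.hom))
  haveI : Algebra.FiniteType k H0.unop := by
    have h : LocallyOfFiniteType (P k H0.unop).hom := by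
      rw [← Over.w eA.hom]; infer_instance
    change LocallyOfFiniteType (Spec.map (CommRingCat.ofHom (algebraMap k H0.unop))) at h
    rw [HasRingHomProperty.Spec_iff (P := @LocallyOfFiniteType)] at h
    exact RingHom.finiteType_algebraMap.1 h
  exact ⟨H0.unop, inferInstance, inferInstance, inferInstance, eA, e.hom.hom.isMonHom_hom⟩

theorem isCocomm [IsCommMonObj H] {B : Type u} [CommRing B] [HopfAlgebra k B] (e : P k B ≅ H) [IsMonHom e.hom] :
    Coalgebra.IsCocomm k B := by
  haveI : IsCommMonObj (P k B) := by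
    haveI := fun T : Over (Spec (CommRingCat.of k)) => (inferInstance : CommMonoid (T ⟶ H))
    refine ⟨?_⟩
    rw [← cancel_mono e.hom]
    simp only [Category.assoc, IsMonHom.mul_hom (f := e.hom)]
    rw [← Category.assoc, ← BraidedCategory.braiding_naturality, Category.assoc, IsCommMonObj.mul_comm]
  exact Groth.Agent.AV.HopfFrobenius.isCocomm_of_isCommMonObj

/-- characters extend, up to a power -/
theorem exists_extend [IsCommMonObj H] [IsCommMonObj G] [IsAffine H.left] [LocallyOfFiniteType H.hom]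
    [IsAffine G.left] [LocallyOfFiniteType G.hom]
    (i : H ⟶ G) [IsMonHom i] [IsClosedImmersion i.left]
    (ψ : H ⟶ Red.Gm (Spec (CommRingCat.of k))) [IsMonHom ψ] :
    ∃ n : ℕ, 0 < n ∧ (IsAlgClosed k → n = 1) ∧
      ∃ φ : G ⟶ Red.Gm (Spec (CommRingCat.of k)), IsMonHom φ ∧ i ≫ φ = ψ ^ n := by
  obtain ⟨B, _, _, _, eB, heB⟩ := exists_P (H := H)
  obtain ⟨A, _, _, _, eA, heA⟩ := exists_P (H := G)
  haveI := isCocomm eA
  haveI := isCocomm eB
  let dG := Groth.L25.Bridge.dsIso.{u} k ℤ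
  haveI : IsMonHom dG.hom.hom.hom := dG.hom.hom.isMonHom_hom
  haveI : IsMonHom dG.inv.hom.hom := dG.inv.hom.isMonHom_hom
  obtain ⟨π, hπ⟩ := exists_sp (eB.hom ≫ i ≫ eA.inv)
  have hsurj : Function.Surjective π := by
    haveI : IsIso eB.hom.left := inferInstanceAs (IsIso ((Over.forget _).map eB.hom))
    haveI : IsIso eA.inv.left := inferInstanceAs (IsIso ((Over.forget _).map eA.inv))
    have h : IsClosedImmersion (Spec.map (CommRingCat.ofHom (π : A →+* B))) := by
      rw [← sp_left, hπ]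
      exact inferInstanceAs (IsClosedImmersion (eB.hom.left ≫ i.left ≫ eA.inv.left))
    haveI := h
    have h2 := (IsClosedImmersion.isAffine_surjective_of_isAffine (Spec.map (CommRingCat.ofHom (π : A →+* B)))).2
    intro y
    obtain ⟨x, hx⟩ := h2 ((Scheme.ΓSpecIso (CommRingCat.of B)).inv y)
    refine ⟨(Scheme.ΓSpecIso (CommRingCat.of A)).hom x, ?_⟩
    have h3 := ConcreteCategory.congr_hom (Scheme.ΓSpecIso_naturality (CommRingCat.ofHom (π : A →+* B))) x
    simp only [CommRingCat.hom_comp, RingHom.comp_apply] at h3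
    refine h3.symm.trans ?_
    rw [hx]
    exact (Scheme.ΓSpecIso (CommRingCat.of B)).inv_hom_id_apply y
  obtain ⟨c, hc⟩ := exists_sp (eB.hom ≫ ψ ≫ dG.hom.hom.hom)
  obtain ⟨n, hn, hk, c', hc'⟩ := exists_pow_lift π hsurj c
  refine ⟨n, hn, hk, eA.inv ≫ sp c' ≫ dG.inv.hom.hom, inferInstance, ?_⟩
  rw [hπ, hc] at hc'
  have h := congrArg (fun m => eB.inv ≫ m ≫ dG.inv.hom.hom) hc'
  simp only [MonObj.pow_comp, MonObj.comp_pow, Category.assoc, Iso.inv_hom_id_assoc] at h
  have e : dG.hom.hom.hom ≫ dG.inv.hom.hom = 𝟙 _ := congrArg (fun m => m.hom.hom) dG.hom_inv_id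
  rw [e, Category.comp_id] at h
  exact h

end

section Sheaf

variable {S : Scheme.{u}} {K : Precoverage Scheme.{u}} [(QuotSh.J K S).Subcanonical]
  {G H : Over S} [GrpObj G] [IsCommMonObj G] [GrpObj H] [IsCommMonObj H]

open Groth.L13.CGrpExt (homOf)

/-- the universal value, as a homomorphism -/
def homOfHom : (CGrpSh.pts K G ⟶ CGrpSh.pts K H) →+ Additive (G ⟶ H) where
  toFun φ := Additive.ofMul (homOf φ)
  map_zero' := rfl
  map_add' _ _ := rfl

theorem homOfHom_injective : Function.Injective (homOfHom (K := K) (G := G) (H := H)) := fun φ φ' h => by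
  have h' : homOf φ = homOf φ' := h
  rw [← Groth.L13.CGrpExt.ptsMap_homOf φ, ← Groth.L13.CGrpExt.ptsMap_homOf φ']
  congr 1

theorem homOf_nsmul (φ : CGrpSh.pts K G ⟶ CGrpSh.pts K H) (n : ℕ) : homOf (n • φ) = homOf φ ^ n :=
  congrArg Additive.toMul (map_nsmul homOfHom n φ)

theorem homOf_leftComp {L : Over S} [GrpObj L] [IsCommMonObj L] (i : G ⟶ H) [IsMonHom i]
    (φ : H ⟶ L) [IsMonHom φ] :
    CGrpSh.ptsMap K i ≫ CGrpSh.ptsMap K φ = CGrpSh.ptsMap K (i ≫ φ) :=
  (CGrpSh.ptsMap_comp K i φ).symm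

end Sheaf

/-- restricted characters reach a power of every character -/
theorem exists_preimage (H G : Over (Spec (CommRingCat.of k))) [GrpObj H] [IsCommMonObj H] [GrpObj G]
    [IsCommMonObj G] [IsAffine H.left] [LocallyOfFiniteType H.hom] [IsAffine G.left] [LocallyOfFiniteType G.hom]
    (i : H ⟶ G) [IsMonHom i] [IsClosedImmersion i.left]
    (χ : CGrpSh.pts Scheme.fppfPrecoverage H ⟶ CGrpSh2.Gm Scheme.fppfPrecoverage (Spec (CommRingCat.of k))) :
    ∃ n : ℕ, 0 < n ∧ (IsAlgClosed k → n = 1) ∧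
      n • χ ∈ (Preadditive.leftComp (CGrpSh2.Gm Scheme.fppfPrecoverage (Spec (CommRingCat.of k)))
        (CGrpSh.ptsMap Scheme.fppfPrecoverage i)).range := by
  obtain ⟨n, hn, hk, φ, hφ, he⟩ := exists_extend i (Groth.L13.CGrpExt.homOf χ)
  refine ⟨n, hn, hk, CGrpSh.ptsMap _ φ, ?_⟩
  show CGrpSh.ptsMap Scheme.fppfPrecoverage i ≫ CGrpSh.ptsMap _ φ = n • χ
  rw [homOf_leftComp, ← Groth.L13.CGrpExt.ptsMap_homOf (n • χ)]
  congr 1

/-- characters of an affine group of finite type are finitely generated -/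
theorem characters_fg (H : Over (Spec (CommRingCat.of k))) [GrpObj H] [IsCommMonObj H] [IsAffine H.left]
    [LocallyOfFiniteType H.hom] :
    Module.Finite ℤ (CGrpSh.pts Scheme.fppfPrecoverage H ⟶
      CGrpSh2.Gm Scheme.fppfPrecoverage (Spec (CommRingCat.of k))) := by
  obtain ⟨B, _, _, _, eB, heB⟩ := exists_P (H := H)
  let dG := Groth.L25.Bridge.dsIso.{u} k ℤ
  haveI : IsMonHom dG.hom.hom.hom := dG.hom.hom.isMonHom_hom
  let v : (CGrpSh.pts Scheme.fppfPrecoverage H ⟶ CGrpSh2.Gm Scheme.fppfPrecoverage (Spec (CommRingCat.of k))) →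
      Pt k (LZ k) B := fun χ => ofPt (eB.hom ≫ Groth.L13.CGrpExt.homOf χ ≫ dG.hom.hom.hom)
  have hv : ∀ χ χ', v (χ + χ') = v χ * v χ' := fun χ χ' => by
    show ofPt (eB.hom ≫ (Groth.L13.CGrpExt.homOf χ * Groth.L13.CGrpExt.homOf χ') ≫ dG.hom.hom.hom) = _
    rw [MonObj.mul_comp, MonObj.comp_mul]
    exact map_mul _ _ _
  have hgl : ∀ χ, IsGroupLikeElem k ((v χ).ofConv (T k)) := fun χ => by
    obtain ⟨c, hc⟩ := exists_sp (eB.hom ≫ Groth.L13.CGrpExt.homOf χ ≫ dG.hom.hom.hom)
    have : v χ = toConv (c : LZ k →ₐ[k] B) := by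
      show ofPt _ = _
      rw [← hc, sp_eq_toPt, ofPt_toPt]
    rw [this]
    exact isGroupLikeElem_T.map c
  let w : (CGrpSh.pts Scheme.fppfPrecoverage H ⟶ CGrpSh2.Gm Scheme.fppfPrecoverage (Spec (CommRingCat.of k))) →+
      Additive (GroupLike k B) :=
    AddMonoidHom.mk' (fun χ => Additive.ofMul ⟨(v χ).ofConv (T k), hgl χ⟩) fun χ χ' =>
      congrArg Additive.ofMul (GroupLike.val_injective (by
        show (v (χ + χ')).ofConv (T k) = _
        rw [hv, mul_apply_groupLike isGroupLikeElem_T]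
        rfl))
  haveI : Group.FG (GroupLike k B) := groupLike_fg
  haveI : Module.Finite ℤ (Additive (GroupLike k B)) :=
    Module.Finite.iff_addGroup_fg.2 inferInstance
  haveI : IsNoetherian ℤ (Additive (GroupLike k B)) := isNoetherian_of_isNoetherianRing_of_finite ℤ _
  refine Module.Finite.of_injective w.toIntLinearMap fun χ χ' h => homOfHom_injective ?_
  have h1 : (v χ).ofConv (T k) = (v χ').ofConv (T k) := congrArg (fun z => (Additive.toMul z).val) h
  have h2 := congrArg toPt (ext_T h1)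
  simp only [v, toPt_ofPt] at h2
  haveI : IsIso dG.hom.hom.hom := ((Grp.forget _).mapIso dG).isIso_hom
  exact congrArg Additive.ofMul ((cancel_mono _).1 ((cancel_epi eB.hom).1 h2))

end Groth.L08.CharSurj
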