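import Groth.Agent.L08.Deriv
import Mathlib.RingTheory.Kaehler.Basic
import Mathlib.LinearAlgebra.TensorProduct.Basis
import Mathlib.LinearAlgebra.Dimension.Free
import Mathlib.RingTheory.Unramified.Basic

/-!
# Kaehler differentials of a Hopf algebra are induced from the cotangent space at the identity
-/

universe u v w

open TensorProduct WithConv

noncomputable section

namespace Groth.L08.KaehlerHopf

open Groth.L08.Deriv

variable {R : Type u} [CommRing R] {A : Type v} [CommRing A] [HopfAlgebra R A]

variable (R A) in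
/-- the augmentation ideal -/
abbrev aug : Ideal A := RingHom.ker (Bialgebra.counitAlgHom R A)

variable (R A) in
/-- projection to the cotangent space at the identity -/
def proj : A →ₗ[R] (aug R A).Cotangent :=
  ((aug R A).toCotangent.restrictScalars R).comp
    (LinearMap.codRestrict ((aug R A).restrictScalars R)
      (LinearMap.id - Algebra.linearMap R A ∘ₗ (Coalgebra.counit (R := R) (A := A)))
      (fun a => sub_counit_mem a))

theorem proj_apply_mem (x : aug R A) : proj R A (x : A) = (aug R A).toCotangent x := by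
  have hx : Coalgebra.counit (R := R) (x : A) = 0 := x.2
  show (aug R A).toCotangent _ = _
  exact congrArg _ (Subtype.ext (show (x : A) - algebraMap R A (Coalgebra.counit (R := R) (x : A)) = _ by simp [hx]))

theorem proj_one : proj R A 1 = 0 := by
  show (aug R A).toCotangent _ = 0
  rw [← map_zero (aug R A).toCotangent]
  exact congrArg _ (Subtype.ext (show (1 : A) - algebraMap R A (Coalgebra.counit (R := R) (1 : A)) = _ by simp))

theorem map_cv {M : Type w} [AddCommGroup M] [Module R M] [Module A M] [IsScalarTower R A M]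
    {N : Type v} [AddCommGroup N] [Module R N] [Module A N] [IsScalarTower R A N]
    (f : M →ₗ[A] N) (g : A →ₗ[R] A) (m : A →ₗ[R] M) :
    f.restrictScalars R ∘ₗ cv g m = cv g (f.restrictScalars R ∘ₗ m) := by
  ext a
  simp only [cv, LinearMap.comp_apply]
  induction Coalgebra.comul (R := R) a with
  | zero => simp
  | add x y hx hy => simp only [map_add, hx, hy]
  | tmul x y => simp

/-- `Ω ≅ A ⊗ I/I²`. -/
theorem exists_equiv : Nonempty (Ω[A⁄R] ≃ₗ[A] A ⊗[R] (aug R A).Cotangent) := by
  let T := A ⊗[R] (aug R A).Cotangent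
  let ι : (aug R A).Cotangent →ₗ[R] T := TensorProduct.mk R A _ 1
  let E : A →ₗ[R] T := cv LinearMap.id (ι ∘ₗ proj R A)
  have hE : ∀ a b : A, E (a * b) = a • E b + b • E a := by
    refine cv_id_leibniz _ fun a b => ?_
    simp only [LinearMap.comp_apply, pi_leibniz (proj R A) proj_apply_mem proj_one a b, map_add,
      map_smul]
  let D : Derivation R A T := Derivation.mk' E hE
  let φ : Ω[A⁄R] →ₗ[A] T := D.liftKaehlerDifferential
  obtain ⟨l, hl, -⟩ := existsUnique_linearMap (proj R A) proj_apply_mem proj_one
    (KaehlerDifferential.D R A).toLinearMap (fun a b => (KaehlerDifferential.D R A).leibniz a b)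
  let ψ : T →ₗ[A] Ω[A⁄R] := l.liftBaseChange A
  have hφd : φ.restrictScalars R ∘ₗ (KaehlerDifferential.D R A).toLinearMap = E := by
    ext a
    exact D.liftKaehlerDifferential_comp_D a
  have hψι : ψ.restrictScalars R ∘ₗ ι = l := by
    ext y
    exact (LinearMap.liftBaseChange_tmul A l 1 y).trans (one_smul A _)
  have hφl : φ.restrictScalars R ∘ₗ l = ι := by
    obtain ⟨l', -, hu⟩ := existsUnique_linearMap (proj R A) proj_apply_mem proj_one E hE
    have h1 : cv LinearMap.id ((φ.restrictScalars R ∘ₗ l) ∘ₗ proj R A) = E := by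
      rw [LinearMap.comp_assoc, ← map_cv, hl, hφd]
    exact (hu _ h1).trans (hu ι rfl).symm
  refine ⟨LinearEquiv.ofLinear φ ψ ?_ ?_⟩
  · ext y
    have := LinearMap.congr_fun hφl y
    show φ (ψ (1 ⊗ₜ y)) = 1 ⊗ₜ y
    rw [show ψ (1 ⊗ₜ y) = l y from (LinearMap.liftBaseChange_tmul A l 1 y).trans (one_smul A _)]
    exact this
  · refine LinearMap.ext_on_range (KaehlerDifferential.span_range_derivation R A) fun a => ?_
    have h1 : ψ.restrictScalars R ∘ₗ E = (KaehlerDifferential.D R A).toLinearMap := by
      rw [map_cv, ← LinearMap.comp_assoc, hψι, hl]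
    simp only [LinearMap.comp_apply, LinearMap.id_coe, id_eq]
    rw [show φ ((KaehlerDifferential.D R A) a) = E a from LinearMap.congr_fun hφd a]
    exact LinearMap.congr_fun h1 a

theorem free_kaehler (K : Type u) [Field K] (B : Type v) [CommRing B] [HopfAlgebra K B] :
    Module.Free B (Ω[B⁄K]) := by
  obtain ⟨e⟩ := exists_equiv (R := K) (A := B)
  haveI : Module.Free K (aug K B).Cotangent := Module.Free.of_divisionRing K _
  exact Module.Free.of_equiv e.symm

end Groth.L08.KaehlerHopf

namespace Groth.L08.KaehlerHopf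

variable (R : Type u) [CommRing R] (A : Type v) [CommRing A] [HopfAlgebra R A]

/-- formally unramified iff the augmentation ideal is idempotent -/
theorem formallyUnramified_iff : Algebra.FormallyUnramified R A ↔ (aug R A) ^ 2 = aug R A := by
  obtain ⟨e⟩ := exists_equiv (R := R) (A := A)
  rw [pow_two]
  refine Iff.trans ?_ (aug R A).cotangent_subsingleton_iff
  constructor
  · intro h
    haveI : Subsingleton (A ⊗[R] (aug R A).Cotangent) := e.symm.toEquiv.subsingleton
    refine ⟨fun x y => ?_⟩
    have hx : ∀ z : (aug R A).Cotangent,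
        TensorProduct.lid R _ ((Coalgebra.counit (R := R) (A := A)).rTensor _ ((1 : A) ⊗ₜ[R] z)) = z := by
      intro z; simp
    rw [← hx x, ← hx y, Subsingleton.elim ((1 : A) ⊗ₜ[R] x) ((1 : A) ⊗ₜ[R] y)]
  · intro h
    haveI : Subsingleton (A ⊗[R] (aug R A).Cotangent) := inferInstance
    exact ⟨e.toEquiv.subsingleton⟩

end Groth.L08.KaehlerHopf
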