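import Groth.Agent.L08.PDerFunctionals
import Groth.Agent.L08.MulEtale
import Groth.Agent.L08.GrpDim
import Groth.Agent.L08.Cube.NP.UnitsProd
import Groth.Agent.S1842
import Mathlib.RingTheory.Smooth.StandardSmoothOfFree
import Mathlib.RingTheory.Kaehler.Polynomial
import Mathlib.RingTheory.Etale.Kaehler
import Groth.Agent.L21.Smooth.Scheme

/-!
# At most `p ^ g` points in the kernel of multiplication by `p`
-/

set_option autoImplicit false
set_option linter.style.haveILetI false
set_option maxSynthPendingDepth 3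

universe u

open CategoryTheory AlgebraicGeometry Limits MonObj CartesianMonoidalCategory TrivSqZeroExt Module

open scoped TensorProduct

noncomputable section

namespace Groth.L08.PRankBound

open Groth.L25.GrpDeriv Groth.L25.Component Groth.L08.EtalePoint Groth.L08.TangentUnit Groth.L08.MulEtale

/-- Dual derivations on an algebra étale over a polynomial algebra. -/
theorem exists_dual_derivations (K : Type u) [Field K] (n : ℕ) (S : Type u) [CommRing S] [Algebra K S]
    (e : MvPolynomial (Fin n) K →ₐ[K] S) (he : e.Etale) :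
    ∃ D : Fin n → Derivation K S S, ∀ i j, D i (e (MvPolynomial.X j)) = if i = j then 1 else 0 := by
  letI := e.toRingHom.toAlgebra
  haveI : IsScalarTower K (MvPolynomial (Fin n) K) S := IsScalarTower.of_algebraMap_eq fun c => (e.commutes c).symm
  haveI : Algebra.Etale (MvPolynomial (Fin n) K) S := he
  let eqv := KaehlerDifferential.tensorKaehlerEquivOfFormallyEtale K (MvPolynomial (Fin n) K) S
  let b := (KaehlerDifferential.mvPolynomialBasis K (Fin n)).baseChange S
  let b' := b.map eqv
  refine ⟨fun i => (b'.coord i).compDer (KaehlerDifferential.D K S), fun i j => ?_⟩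
  have h1 : b' j = KaehlerDifferential.D K S (e (MvPolynomial.X j)) := by
    refine eqv.symm.injective ?_
    simp only [b', b, Basis.map_apply, LinearEquiv.symm_apply_apply, Basis.baseChange_apply]
    rw [show e (MvPolynomial.X j) = algebraMap (MvPolynomial (Fin n) K) S (MvPolynomial.X j) from rfl,
      KaehlerDifferential.tensorKaehlerEquivOfFormallyEtale_symm_D_algebraMap]
    congr 1
    refine (KaehlerDifferential.mvPolynomialBasis K (Fin n)).repr.injective ?_
    rw [Basis.repr_self, KaehlerDifferential.mvPolynomialBasis_repr_D_X]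
  show b'.coord i (KaehlerDifferential.D K S (e (MvPolynomial.X j))) = _
  rw [← h1, Basis.coord_apply, Basis.repr_self, Finsupp.single_apply]
  simp [eq_comm]

variable {K : Type u} [Field K] [IsAlgClosed K] {G : Over (Spec (CommRingCat.of K))} [GrpObj G] [IsCommMonObj G]
  {p : ℕ} [CharP K p]

/-- Multiplication by `p` kills tangent vectors. -/
theorem tangent_pow_eq (t : sp (K := K) (DualNumber K) ⟶ G) :
    t ≫ (𝟙 G ^ (p : ℤ)) =
      spMap (inlAlgHom K K K) ≫ spMap (fstHom K K K) ≫ t ≫ (𝟙 G ^ (p : ℤ)) := by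
  let qc : sp (K := K) (DualNumber K) ⟶ G := spMap (inlAlgHom K K K) ≫ spMap (fstHom K K K) ≫ t
  let y := t * qc⁻¹
  have hy : spMap (fstHom K K K) ≫ y = 1 := by
    have h : (fstHom K K K).comp (inlAlgHom K K K) = AlgHom.id K K := AlgHom.ext fun a => by simp
    show spMap (fstHom K K K) ≫ (t * qc⁻¹) = 1
    rw [MonObj.comp_mul, GrpObj.comp_inv]
    simp only [qc]
    rw [← Category.assoc (spMap (fstHom K K K)) (spMap (inlAlgHom K K K)), spMap_comp, h, spMap_id,
      Category.id_comp, mul_inv_cancel]
  obtain ⟨A, _, _, u', _, χ, hχ, -⟩ := exists_chart (G := G) ⊤ trivial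
  obtain ⟨w, hw, hwy⟩ := exists_pt (u' := u') χ hχ y hy
  have hy1 : y ^ (p : ℤ) = 1 := by
    rw [← hwy, ← pt_zsmul χ hχ w hw (p : ℤ)]
    have h0 : ((p : ℤ) : K) • w = 0 := by simp
    have : ∀ {a : A →ₗ[K] K} (ha : IsPtDer χ a), a = 0 → pt u' χ a ha = 1 := by
      rintro a ha rfl; exact pt_zero χ hχ ha
    exact this _ h0
  have ht : t = y * qc := by simp [y]
  rw [show spMap (inlAlgHom K K K) ≫ spMap (fstHom K K K) ≫ t ≫ (𝟙 G ^ (p : ℤ)) = qc ≫ (𝟙 G ^ (p : ℤ)) by
    simp [qc]]
  rw [GrpObj.comp_zpow, GrpObj.comp_zpow, Category.comp_id, Category.comp_id, ht, mul_zpow, hy1, _root_.one_mul]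

/-- Local functionals at a point, linear over functions coming from the target of multiplication by `p`. -/
theorem exists_point_functionals [Smooth G.hom] {g : ℕ} (hg : topologicalKrullDim G.left = g)
    {A B : Type u} [CommRing A] [Algebra K A] [CommRing B] [Algebra K B]
    (uA : sp (K := K) A ⟶ G) [IsOpenImmersion uA.left] (uB : sp (K := K) B ⟶ G) [IsOpenImmersion uB.left]
    (φ : A →ₐ[K] B) (hφ : spMap φ ≫ uA = uB ≫ (𝟙 G ^ (p : ℤ))) (χ : B →ₐ[K] K) [Fact p.Prime] :
    ∃ (M : ℕ) (V : Type u) (_ : AddCommGroup V) (_ : Module K V) (_ : FiniteDimensional K V)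
      (Φ : B →ₗ[K] V), (∀ a b, Φ (φ a * b) = χ (φ a) • Φ b) ∧ (∀ b ∈ RingHom.ker χ ^ M, Φ b = 0) ∧
      p ^ g ≤ finrank K (LinearMap.range Φ) := by
  haveI := smooth_of_chart uB
  haveI hmax : (RingHom.ker χ).IsMaximal :=
    RingHom.ker_isMaximal_of_surjective χ fun c => ⟨algebraMap K B c, χ.commutes c⟩
  haveI : Algebra.FinitePresentation K B := inferInstance
  haveI : Algebra.IsSmoothAt K (RingHom.ker χ) := inferInstance
  obtain ⟨h, hh, hstd⟩ := Algebra.IsSmoothAt.exists_notMem_isStandardSmooth K (RingHom.ker χ)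
  let S := Localization.Away h
  obtain ⟨n, gR, hgC, hgE⟩ :=
    (RingHom.isStandardSmooth_algebraMap.2 hstd : (algebraMap K S).IsStandardSmooth).exists_etale_mvPolynomial
  let e : MvPolynomial (Fin n) K →ₐ[K] S := { gR with commutes' := fun c => RingHom.congr_fun hgC c }
  obtain ⟨D, hD⟩ := exists_dual_derivations K n S e hgE
  have hu : IsUnit (χ h) := isUnit_iff_ne_zero.2 hh
  let χS : S →ₐ[K] K := IsLocalization.liftAlgHom (M := Submonoid.powers h) (S := S) (f := χ)
    (by rintro ⟨_, m, rfl⟩; simpa using hu.pow m)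
  have hχS : ∀ b, χS (algebraMap B S b) = χ b := fun b => by simp [χS]
  obtain ⟨M, V, _, _, _, Φ, hΦc, hΦk, hΦr⟩ := Groth.L08.PDer.exists_functionals D
    (fun j => e (MvPolynomial.X j)) hD χS (p := p)
  let loc : B →ₗ[K] S := (IsScalarTower.toAlgHom K B S).toLinearMap
  have hker : RingHom.ker χ ≤ (RingHom.ker χS).comap (algebraMap B S) := fun b hb =>
    Ideal.mem_comap.2 (RingHom.mem_ker.2 ((hχS b).trans hb))
  have hconst : ∀ a i, D i (algebraMap B S (φ a)) = 0 := by
    intro a i
    haveI : _root_.IsReduced S := by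
      haveI : _root_.IsReduced B := by
        haveI : AlgebraicGeometry.IsReduced (Spec (CommRingCat.of B)) := by
          have hsm : Smooth (Spec.map (CommRingCat.ofHom (algebraMap K B))) :=
            (HasRingHomProperty.Spec_iff (P := @Smooth)).2 (RingHom.smooth_algebraMap.2 inferInstance)
          haveI : ∀ x : Spec (CommRingCat.of B), _root_.IsReduced ((Spec (CommRingCat.of B)).presheaf.stalk x) := fun x => by
            haveI := Groth.L21.Smooth.isDomain_stalk (Spec.map (CommRingCat.ofHom (algebraMap K B))) x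
            infer_instance
          exact isReduced_of_isReduced_stalk _
        exact (affine_isReduced_iff (CommRingCat.of B)).1 inferInstance
      exact inferInstanceAs (_root_.IsReduced (Localization (Submonoid.powers h)))
    refine Groth.L08.Cube.NP.eq_zero_of_forall_point (k := K) fun v => ?_
    let vB : B →ₐ[K] K := v.comp (IsScalarTower.toAlgHom K B S)
    let w : B →ₗ[K] K := v.toLinearMap.comp (((D i).toLinearMap).comp loc)
    have hw : IsPtDer vB w := fun b c => by
      show v (D i (algebraMap B S (b * c))) = vB b * v (D i (algebraMap B S c)) + vB c * v (D i (algebraMap B S b))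
      rw [map_mul, (D i).leibniz, map_add, smul_eq_mul, smul_eq_mul, map_mul, map_mul]
      rfl
    have ht := tangent_pow_eq (p := p) (spMap (omega vB w hw) ≫ uB)
    simp only [Category.assoc, ← hφ] at ht
    simp only [← Category.assoc, spMap_comp] at ht
    have h1 := spMap_inj (u' := uA) _ _ ht
    have h2 := congrArg snd (DFunLike.congr_fun h1 a)
    simp only [AlgHom.comp_apply, snd_omega] at h2
    exact h2.trans (by simp)
  refine ⟨M, V, inferInstance, inferInstance, inferInstance, Φ.comp loc, fun a b => ?_, fun b hb => ?_, ?_⟩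
  · show Φ (algebraMap B S (φ a * b)) = _
    rw [map_mul, hΦc _ (hconst a), hχS]
    rfl
  · exact hΦk _ ((Ideal.le_comap_pow (algebraMap B S) M) (Ideal.pow_right_mono hker M hb))
  · -- the image does not change under localisation
    have hrange : LinearMap.range Φ ≤ LinearMap.range (Φ.comp loc) := by
      rintro _ ⟨s, rfl⟩
      obtain ⟨⟨b, ⟨_, m, rfl⟩⟩, hb⟩ := IsLocalization.surj (Submonoid.powers h) s
      have hb' : s * algebraMap B S h ^ m = algebraMap B S b := by rw [← map_pow]; exact hb
      have htop : RingHom.ker χ ^ M ⊔ Ideal.span {h} = ⊤ := by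
        rcases M.eq_zero_or_pos with rfl | hM
        · simp
        by_contra hne
        obtain ⟨P, hP, hle⟩ := Ideal.exists_le_maximal _ hne
        have h1 : RingHom.ker χ ≤ P := hP.isPrime.le_of_pow_le (le_sup_left.trans hle)
        have h2 : RingHom.ker χ = P := hmax.eq_of_le hP.ne_top h1
        exact hh (h2 ▸ hle (Ideal.mem_sup_right (Ideal.mem_span_singleton_self h)))
      obtain ⟨q, hq, r, hr, hqr⟩ := Submodule.mem_sup.1 (htop ▸ Submodule.mem_top : (1 : B) ∈ RingHom.ker χ ^ M ⊔ Ideal.span {h})
      obtain ⟨c, rfl⟩ := Ideal.mem_span_singleton'.1 hr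
      have hch : (c * h) ^ m - 1 ∈ RingHom.ker χ ^ M := by
        obtain ⟨d, hd⟩ := sub_dvd_pow_sub_pow (c * h) 1 m
        rw [one_pow] at hd
        rw [hd]
        refine Ideal.mul_mem_right _ _ ?_
        rw [show c * h - 1 = -q by rw [← hqr]; ring]
        exact (RingHom.ker χ ^ M).neg_mem hq
      refine ⟨b * c ^ m, ?_⟩
      show Φ (algebraMap B S (b * c ^ m)) = Φ s
      rw [← sub_eq_zero, ← map_sub]
      refine hΦk _ ?_
      rw [map_mul, ← hb', show s * algebraMap B S h ^ m * algebraMap B S (c ^ m) - s =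
        s * algebraMap B S ((c * h) ^ m - 1) by rw [map_sub, map_one, map_pow, map_pow, map_mul]; ring]
      exact Ideal.mul_mem_left _ _ ((Ideal.le_comap_pow (algebraMap B S) M) (Ideal.pow_right_mono hker M hch))
    refine le_trans ?_ (Submodule.finrank_mono hrange)
    refine le_trans (Nat.pow_le_pow_right (Fact.out : p.Prime).pos ?_) hΦr
    -- the dimension
    let q := RingHom.ker χS
    haveI : q.IsMaximal := RingHom.ker_isMaximal_of_surjective χS fun c => ⟨algebraMap K S c, χS.commutes c⟩
    letI := gR.toAlgebra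
    haveI : Algebra.Etale (MvPolynomial (Fin n) K) S := hgE
    have hle : ringKrullDim (Localization.AtPrime q) ≤ n := by
      rw [(Groth.L21.Smooth.regular_localization_of_etale (MvPolynomial (Fin n) K) S q).2]
      refine le_trans ?_ (le_of_eq (show ringKrullDim (MvPolynomial (Fin n) K) = n by
        rw [MvPolynomial.ringKrullDim_of_isNoetherianRing, ringKrullDim_eq_zero_of_field, zero_add]; simp))
      rw [IsLocalization.AtPrime.ringKrullDim_eq_height (q.under (MvPolynomial (Fin n) K))]
      exact Ideal.height_le_ringKrullDim_of_ne_top (Ideal.IsPrime.ne_top inferInstance)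
    rw [IsLocalization.AtPrime.ringKrullDim_eq_height q] at hle
    have hcomap : q.under B = RingHom.ker χ := Ideal.ext fun b => by
      simp only [q, Ideal.mem_comap, RingHom.mem_ker, hχS, Ideal.under]
    rw [← IsLocalization.height_under (Submonoid.powers h) q, hcomap] at hle
    let jB : Spec (CommRingCat.of B) ⟶ G.left := uB.left
    haveI : IsOpenImmersion jB := ‹IsOpenImmersion uB.left›
    let x : Spec (CommRingCat.of B) := ⟨RingHom.ker χ, hmax.isPrime⟩
    have hdim : ringKrullDim (G.left.presheaf.stalk (jB x)) = (RingHom.ker χ).height := by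
      rw [ringKrullDim_eq_of_ringEquiv (asIso (jB.stalkMap x)).commRingCatIsoToRingEquiv]
      haveI := StructureSheaf.IsLocalization.to_stalk B x; exact IsLocalization.AtPrime.ringKrullDim_eq_height x.asIdeal ((Spec.structureSheaf B).presheaf.stalk x)
    have hclosed : IsClosed ({jB x} : Set G.left) := by
      haveI : JacobsonSpace G.left := LocallyOfFiniteType.jacobsonSpace G.hom
      exact mem_closedPoints_iff.1 ((jB.isOpenEmbedding.preimage_closedPoints ▸
        (PrimeSpectrum.isClosed_singleton_iff_isMaximal x).2 hmax : x ∈ jB ⁻¹' closedPoints G.left))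
    rw [Groth.L08.GrpDim.ringKrullDim_stalk G (jB x) hclosed, hg] at hdim
    rw [← hdim] at hle
    exact_mod_cast hle

/-- The kernel of multiplication by `p` has at most `p ^ g` rational points. -/
theorem card_le [Smooth G.hom] [IsProper G.hom] [GeometricallyIntegral G.hom] {g : ℕ}
    (hg : topologicalKrullDim G.left = g) [Fact p.Prime] (s : Finset (sp (K := K) K ⟶ G))
    (hs : ∀ x ∈ s, x ≫ (𝟙 G ^ (p : ℤ)) = 1) : s.card ≤ p ^ g := by
  classical
  obtain ⟨hfin, hflat, hrank⟩ := Groth.Agent.S1842.result K G g hg (p : ℤ)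
    (by exact_mod_cast (Fact.out : p.Prime).ne_zero)
  obtain ⟨A, _, _, uA, _, χA, hχA, -⟩ := exists_chart (G := G) ⊤ trivial
  let f := (𝟙 G ^ (p : ℤ)).left
  haveI : IsFinite f := hfin
  haveI : Flat f := hflat
  let jA : Spec (CommRingCat.of A) ⟶ G.left := uA.left
  haveI : IsOpenImmersion jA := ‹IsOpenImmersion uA.left›
  have hV : IsAffineOpen (f ⁻¹ᵁ jA.opensRange) := (isAffineOpen_opensRange jA).preimage f
  let B := Γ(G.left, f ⁻¹ᵁ jA.opensRange)
  haveI : IsOpenImmersion hV.fromSpec := hV.isOpenImmersion_fromSpec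
  letI : Algebra K B := (Spec.preimage (hV.fromSpec ≫ G.hom)).hom.toAlgebra
  let uB : sp (K := K) B ⟶ G := Over.homMk hV.fromSpec (Spec.map_preimage _).symm
  haveI : IsOpenImmersion uB.left := hV.isOpenImmersion_fromSpec
  obtain ⟨φ, hφ⟩ := exists_lift (u' := uA) (uB ≫ (𝟙 G ^ (p : ℤ))) (by
    rintro _ ⟨c, rfl⟩
    exact (hV.range_fromSpec.le ⟨c, rfl⟩ : hV.fromSpec c ∈ f ⁻¹ᵁ jA.opensRange))
  have hpt : ∀ x : s, ∃ χ : B →ₐ[K] K, spMap χ ≫ uB = x.1 := by
    intro x
    refine exists_lift (u' := uB) x.1 ?_
    rintro _ ⟨c, rfl⟩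
    refine hV.range_fromSpec.ge ?_
    show f (x.1.left c) ∈ Set.range jA
    refine ⟨(spMap χA).left c, ?_⟩
    have h := congrArg (fun t : sp (K := K) K ⟶ G => t.left c) (hχA.trans (hs x.1 x.2).symm)
    exact h
  choose χ hχ using hpt
  have hχφ : ∀ x a, χ x (φ a) = χA a := fun x a => by
    have h : spMap ((χ x).comp φ) ≫ uA = spMap χA ≫ uA := by
      rw [← spMap_comp, Category.assoc, hφ, ← Category.assoc, hχ x, hs x.1 x.2, hχA]
    exact DFunLike.congr_fun (spMap_inj (u' := uA) _ _ h) a
  choose M V i₁ i₂ i₃ Φ hΦc hΦk hΦr using fun x : s =>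
    exists_point_functionals (p := p) hg uA uB φ hφ (χ x)
  letI := i₁; letI := i₂; haveI := i₃
  let Ψ : B →ₗ[K] ((x : s) → V x) := LinearMap.pi Φ
  have hmax : ∀ x : s, (RingHom.ker (χ x)).IsMaximal := fun x =>
    RingHom.ker_isMaximal_of_surjective (χ x) fun c => ⟨algebraMap K B c, (χ x).commutes c⟩
  have hcop : Pairwise fun x y : s => IsCoprime (RingHom.ker (χ x) ^ M x) (RingHom.ker (χ y) ^ M y) := by
    intro x y hxy
    refine IsCoprime.pow ?_
    rw [Ideal.isCoprime_iff_sup_eq]
    refine Ideal.IsMaximal.coprime_of_ne (hmax x) (hmax y) fun h => hxy (Subtype.ext ?_)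
    have : χ x = χ y := AlgHom.ext fun b => by
      have hb : b - algebraMap K B (χ x b) ∈ RingHom.ker (χ y) := h ▸ by simp [RingHom.mem_ker]
      rw [RingHom.mem_ker, map_sub, AlgHom.commutes, sub_eq_zero] at hb
      exact hb.symm
    rw [← hχ x, ← hχ y, this]
  have hrange : Submodule.pi Set.univ (fun x => LinearMap.range (Φ x)) ≤ LinearMap.range Ψ := by
    intro v hv
    choose b hb using fun x => hv x (Set.mem_univ x)
    obtain ⟨c, hc⟩ := Ideal.exists_forall_sub_mem_ideal hcop b
    refine ⟨c, funext fun x => ?_⟩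
    show Φ x c = v x
    rw [← hb x, ← sub_eq_zero, ← map_sub]
    exact hΦk x _ (hc x)
  have hlow : s.card * p ^ g ≤ finrank K (LinearMap.range Ψ) := by
    calc s.card * p ^ g = ∑ _x : s, p ^ g := by simp
      _ ≤ ∑ x : s, finrank K (LinearMap.range (Φ x)) := Finset.sum_le_sum fun x _ => hΦr x
      _ = finrank K ((x : s) → LinearMap.range (Φ x)) := (Module.finrank_pi_fintype K).symm
      _ ≤ _ := by
        refine LinearMap.finrank_le_finrank_of_injective
          (f := (LinearMap.pi fun x => ((LinearMap.range (Φ x)).subtype).comp (LinearMap.proj x)).codRestrict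
            (LinearMap.range Ψ) fun v => hrange fun x _ => (v x).2) ?_
        intro v v' h
        funext x
        exact Subtype.ext (congrFun (congrArg Subtype.val h) x)
  -- the upper bound
  letI : Algebra A B := φ.toRingHom.toAlgebra
  haveI : IsScalarTower K A B := IsScalarTower.of_algebraMap_eq fun r => (φ.commutes r).symm
  letI : Algebra A K := χA.toRingHom.toAlgebra
  haveI : IsScalarTower K A K := IsScalarTower.of_algebraMap_eq fun r => (χA.commutes r).symm
  let J : Ideal B := (RingHom.ker χA).map φ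
  haveI : IsScalarTower A K (B ⧸ J) := IsScalarTower.of_algebraMap_eq fun a => by
    show Ideal.Quotient.mk J (φ a) = Ideal.Quotient.mk J (algebraMap K B (χA a))
    rw [Ideal.Quotient.mk_eq_mk_iff_sub_mem, ← φ.commutes, ← map_sub]
    exact Ideal.mem_map_of_mem _ (by simp [RingHom.mem_ker])
  let β : K ⊗[A] B →ₐ[K] B ⧸ J :=
    Algebra.TensorProduct.lift (Algebra.ofId K _) (IsScalarTower.toAlgHom A B (B ⧸ J)) fun _ _ => Commute.all _ _
  have hβ : Function.Surjective β := fun z => by
    obtain ⟨b, rfl⟩ := Ideal.Quotient.mk_surjective z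
    exact ⟨1 ⊗ₜ b, by simp [β]⟩
  have hJ : (J.restrictScalars K) ≤ LinearMap.ker Ψ := by
    intro b hb
    have : ∀ r : B, Ψ (r * b) = 0 := by
      refine Submodule.span_induction (p := fun b _ => ∀ r : B, Ψ (r * b) = 0) ?_ (fun r => by simp)
        (fun u v _ _ hu hv r => by rw [mul_add, map_add, hu, hv, add_zero])
        (fun c u _ hu r => by rw [smul_eq_mul, ← _root_.mul_assoc, hu]) hb
      rintro _ ⟨a, ha, rfl⟩ r
      refine funext fun x => ?_
      show Φ x (r * φ a) = 0
      rw [_root_.mul_comm, hΦc, hχφ, show χA a = 0 from ha, zero_smul]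
    simpa using this 1
  have hlin : LinearMap.range Ψ = LinearMap.range (Submodule.liftQ (J.restrictScalars K) Ψ hJ) :=
    (Submodule.range_liftQ _ _ _).symm
  have hTP : Module.Finite A B ∧ Module.Flat A B ∧
      Module.rankAtStalk B (⟨RingHom.ker χA, RingHom.ker_isPrime _⟩ : PrimeSpectrum A) = p ^ (2 * g) := by
    let F : Spec (CommRingCat.of B) ⟶ Spec (CommRingCat.of A) := Spec.map (CommRingCat.ofHom (algebraMap A B))
    have sq : IsPullback F hV.fromSpec jA f := by
      refine IsOpenImmersion.isPullback F hV.fromSpec jA f ?_ ?_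
      · exact (congrArg (fun t : sp (K := K) B ⟶ G => t.left) hφ).symm
      · exact (TopologicalSpace.Opens.ext (by rw [Scheme.Hom.coe_opensRange, hV.range_fromSpec]))
    have h1 : IsFinite F := MorphismProperty.of_isPullback sq.flip inferInstance
    have h2 : Flat F := MorphismProperty.of_isPullback sq.flip inferInstance
    have h1' : Module.Finite A B := RingHom.finite_algebraMap.1 ((IsFinite.SpecMap_iff _).1 h1)
    have h2' : Module.Flat A B := RingHom.flat_algebraMap_iff.1 ((HasRingHomProperty.Spec_iff (P := @Flat)).1 h2)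
    refine ⟨h1', h2', ?_⟩
    haveI := h1'; haveI := h2'
    rw [← Scheme.Hom.finrank_SpecMap_algebraMap, Scheme.Hom.finrank_of_isPullback _ _ f jA sq.flip, hrank]
    simp
  obtain ⟨hF, hFl, hR⟩ := hTP
  haveI := hF; haveI := hFl
  haveI : Module.Free K (K ⊗[A] B) := inferInstance
  have hT : finrank K (K ⊗[A] B) = p ^ (2 * g) := by
    have h := congrFun (Module.rankAtStalk_eq_finrank_of_free (R := K) (M := K ⊗[A] B)) (default : PrimeSpectrum K)
    simp only [Pi.natCast_apply, Nat.cast_id] at h
    rw [← hR, ← h, Module.rankAtStalk_baseChange]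
    congr 1
    refine PrimeSpectrum.ext ?_
    show ((default : PrimeSpectrum K).asIdeal).comap (algebraMap A K) = RingHom.ker χA
    rw [Ideal.eq_bot_of_prime (default : PrimeSpectrum K).asIdeal]
    rfl
  have hup : finrank K (LinearMap.range Ψ) ≤ p ^ (2 * g) := by
    haveI : Module.Finite K (K ⊗[A] B) := inferInstance
    haveI : Module.Finite K (B ⧸ J) := Module.Finite.of_surjective β.toLinearMap hβ
    haveI : Module.Finite K (B ⧸ J.restrictScalars K) :=
      Module.Finite.equiv (Submodule.Quotient.restrictScalarsEquiv K J).symm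
    rw [hlin, ← hT]
    refine (LinearMap.finrank_range_le _).trans ?_
    rw [LinearEquiv.finrank_eq (Submodule.Quotient.restrictScalarsEquiv K J)]
    exact β.toLinearMap.finrank_le_finrank_of_surjective hβ
  have := hlow.trans hup
  rw [two_mul, pow_add] at this
  exact Nat.le_of_mul_le_mul_right this (pow_pos (Fact.out : p.Prime).pos _)

end Groth.L08.PRankBound
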