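import Groth.Agent.L25.Actions
import Mathlib.AlgebraicGeometry.Morphisms.Separated
import Mathlib.AlgebraicGeometry.Morphisms.UniversallyOpen
import Mathlib.AlgebraicGeometry.ResidueField

/-!
# Separatedness of schemes with a group action: translating pairs of points into a separated open
-/

set_option autoImplicit false
set_option backward.isDefEq.respectTransparency.types false

universe u

open CategoryTheory CategoryTheory.Limits AlgebraicGeometry MonoidalCategory MonObj CartesianMonoidalCategory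

noncomputable section

namespace Groth.L08.ActSep

/-- A point in the range of a preimmersion lifts with the same residue field. -/
theorem exists_factor {X Y : Scheme.{u}} (j : X ⟶ Y) [IsPreimmersion j] (x : X) :
    ∃ l : Spec (Y.residueField (j x)) ⟶ X, l ≫ j = Y.fromSpecResidueField (j x) := by
  haveI : IsIso (j.residueFieldMap x) := by
    rw [ConcreteCategory.isIso_iff_bijective]
    refine ⟨RingHom.injective _, ?_⟩
    intro r
    obtain ⟨s, rfl⟩ := X.residue_surjective x r
    obtain ⟨t, rfl⟩ := j.stalkMap_surjective x s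
    exact ⟨Y.residue (j x) t, congr(($(Scheme.residue_residueFieldMap j x)) t)⟩
  refine ⟨Spec.map (inv (j.residueFieldMap x)) ≫ X.fromSpecResidueField x, ?_⟩
  rw [Category.assoc, ← Scheme.Hom.SpecMap_residueFieldMap_fromSpecResidueField, ← Category.assoc, ← Spec.map_comp,
    IsIso.hom_inv_id, Spec.map_id, Category.id_comp]

variable {S : Scheme.{u}}

/-- The diagonal in `Over S`. -/
abbrev diag (X : Over S) : X ⟶ X ⊗ X := lift (𝟙 X) (𝟙 X)

theorem diag_left (X : Over S) : (diag X).left = pullback.diagonal X.hom := by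
  apply pullback.hom_ext
  · simp only [Over.lift_left, pullback.lift_fst]; rw [pullback.diagonal_fst]; rfl
  · simp only [Over.lift_left, pullback.lift_snd]; rw [pullback.diagonal_snd]; rfl

instance (X : Over S) : IsImmersion (diag X).left := by rw [diag_left]; infer_instance

/-- The spectrum of the residue field of a point, over `S`. -/
abbrev ptObj (X : Over S) (x : X.left) : Over S := Over.mk (X.left.fromSpecResidueField x ≫ X.hom)

/-- The tautological point. -/
abbrev ptMor (X : Over S) (x : X.left) : ptObj X x ⟶ X := Over.homMk (X.left.fromSpecResidueField x)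

theorem ptMor_apply (X : Over S) (x : X.left) (c : (ptObj X x).left) : (ptMor X x).left c = x :=
  Scheme.fromSpecResidueField_apply x c

/-- A field-valued point whose image lies in the range of the diagonal has equal coordinates. -/
theorem eq_of_mem_range_diag {X T : Over S} (y : T ⟶ X ⊗ X) [Subsingleton T.left] [IsReduced T.left] (c : T.left)
    (h : y.left c ∈ Set.range (diag X).left) : y ≫ fst X X = y ≫ snd X X := by
  have hsur : Surjective (pullback.fst y.left (diag X).left) := ⟨fun d => by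
    obtain rfl : d = c := Subsingleton.elim _ _
    obtain ⟨x, hx⟩ := h
    obtain ⟨z, hz, -⟩ := Scheme.Pullback.exists_preimage_pullback d x hx.symm
    exact ⟨z, hz⟩⟩
  haveI : IsClosedImmersion (pullback.fst y.left (diag X).left) :=
    .of_isPreimmersion _ (by rw [hsur.surj.range_eq]; exact isClosed_univ)
  haveI : IsIso (pullback.fst y.left (diag X).left) := isIso_of_isClosedImmersion_of_surjective _
  apply Over.OverMorphism.ext
  have e : y.left = (inv (pullback.fst y.left (diag X).left) ≫ pullback.snd _ _) ≫ (diag X).left := by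
    rw [Category.assoc, ← pullback.condition, IsIso.inv_hom_id_assoc]
  rw [Over.comp_left, Over.comp_left, e]
  simp only [Category.assoc, ← Over.comp_left, lift_fst, lift_snd]

theorem comp_apply {X Y Z : Over S} (f : X ⟶ Y) (g : Y ⟶ Z) (c : X.left) :
    (f ≫ g).left c = g.left (f.left c) := rfl

/-- A point over the closure of the diagonal, mapped by two agreeing maps into a separated open, gets equal values. -/
theorem comp_eq_of_mem_closure {P X : Over S} (π : P ⟶ X ⊗ X) [UniversallyOpen π.left] (Ψ₁ Ψ₂ : P ⟶ X)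
    (U : X.left.Opens) (hU : IsSeparated (U.ι ≫ X.hom))
    (hΨ : ∀ {T : Over S} (y : T ⟶ P), y ≫ π ≫ fst X X = y ≫ π ≫ snd X X → y ≫ Ψ₁ = y ≫ Ψ₂)
    {T' : Over S} [Subsingleton T'.left] [IsReduced T'.left] (ω : T' ⟶ P) (c' : T'.left)
    (hπ : π.left (ω.left c') ∈ closure (Set.range (diag X).left))
    (h1 : Ψ₁.left (ω.left c') ∈ U) (h2 : Ψ₂.left (ω.left c') ∈ U) : ω ≫ Ψ₁ = ω ≫ Ψ₂ := by
  let O : P.left.Opens := (Ψ₁.left ⁻¹ᵁ U) ⊓ (Ψ₂.left ⁻¹ᵁ U)
  let UX : Over S := Over.mk (U.ι ≫ X.hom)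
  let jU : UX ⟶ X := Over.homMk U.ι
  let OX : Over S := Over.mk (O.ι ≫ P.hom)
  let jO : OX ⟶ P := Over.homMk O.ι
  have hlift : ∀ (Ψ : P ⟶ X), O ≤ Ψ.left ⁻¹ᵁ U → ∃ ψ : OX ⟶ UX, ψ ≫ jU = jO ≫ Ψ := by
    intro Ψ hle
    have hr' : Set.range (O.ι ≫ Ψ.left) ⊆ Set.range U.ι := by
      rintro _ ⟨d, rfl⟩
      rw [Scheme.Opens.range_ι]
      exact hle d.2
    refine ⟨Over.homMk (IsOpenImmersion.lift U.ι (O.ι ≫ Ψ.left) hr') ?_, Over.OverMorphism.ext ?_⟩
    · show _ ≫ U.ι ≫ X.hom = O.ι ≫ P.hom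
      rw [← Category.assoc, IsOpenImmersion.lift_fac, Category.assoc, Over.w]
    · exact IsOpenImmersion.lift_fac _ _ _
  obtain ⟨ψ₁, hψ₁⟩ := hlift Ψ₁ inf_le_left
  obtain ⟨ψ₂, hψ₂⟩ := hlift Ψ₂ inf_le_right
  let Φ : OX ⟶ UX ⊗ UX := lift ψ₁ ψ₂
  haveI : IsClosedImmersion (diag UX).left := by
    rw [diag_left]
    exact hU.isClosedImmersion_diagonal
  have hcl : IsClosed (Φ.left ⁻¹' Set.range (diag UX).left) :=
    (diag UX).left.isClosedEmbedding.isClosed_range.preimage Φ.left.continuous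
  have hsub : ∀ w : OX.left, π.left (O.ι w) ∈ Set.range (diag X).left →
      Φ.left w ∈ Set.range (diag UX).left := by
    intro w hw
    haveI : Subsingleton (ptObj OX w).left := inferInstanceAs (Subsingleton (PrimeSpectrum _))
    haveI : IsReduced (ptObj OX w).left := inferInstanceAs (IsReduced (Spec (OX.left.residueField w)))
    let c₀ : (ptObj OX w).left := IsLocalRing.closedPoint (OX.left.residueField w)
    have e := eq_of_mem_range_diag (ptMor OX w ≫ jO ≫ π) c₀ (by
      rw [comp_apply, comp_apply, ptMor_apply]; exact hw)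
    have e' : ptMor OX w ≫ ψ₁ = ptMor OX w ≫ ψ₂ := by
      haveI : Mono jU := Over.mono_of_mono_left jU
      rw [← cancel_mono jU, Category.assoc, Category.assoc, hψ₁, hψ₂, ← Category.assoc, ← Category.assoc]
      exact hΨ _ (by simpa only [Category.assoc] using e)
    refine ⟨(ptMor OX w ≫ ψ₁).left c₀, ?_⟩
    have e'' : (ptMor OX w ≫ ψ₁) ≫ diag UX = ptMor OX w ≫ Φ := by
      simp only [Φ, comp_lift, Category.comp_id, e']
    rw [← comp_apply, e'', comp_apply, ptMor_apply]
  have hωO : ω.left c' ∈ O := ⟨h1, h2⟩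
  have hωcl : ω.left c' ∈ closure (π.left ⁻¹' Set.range (diag X).left) := by
    rw [← π.left.isOpenMap.preimage_closure_eq_closure_preimage π.left.continuous]
    exact hπ
  obtain ⟨w₀, hw₀⟩ : ω.left c' ∈ Set.range O.ι := by rw [Scheme.Opens.range_ι]; exact hωO
  have hw₀cl : w₀ ∈ closure (O.ι ⁻¹' (π.left ⁻¹' Set.range (diag X).left)) := by
    rw [← O.ι.isOpenEmbedding.isOpenMap.preimage_closure_eq_closure_preimage O.ι.continuous, Set.mem_preimage, hw₀]
    exact hωcl
  have hmem : Φ.left w₀ ∈ Set.range (diag UX).left :=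
    closure_minimal (t := Φ.left ⁻¹' Set.range (diag UX).left) (fun w hw => hsub w hw) hcl hw₀cl
  have hrO : Set.range ω.left ⊆ Set.range O.ι := by
    rintro _ ⟨d, rfl⟩
    rw [Subsingleton.elim d c']
    exact ⟨w₀, hw₀⟩
  let ωO : T' ⟶ OX := Over.homMk (IsOpenImmersion.lift O.ι ω.left hrO) (by
    show _ ≫ O.ι ≫ P.hom = _
    rw [← Category.assoc, IsOpenImmersion.lift_fac, Over.w])
  have hωO' : ωO ≫ jO = ω := Over.OverMorphism.ext (IsOpenImmersion.lift_fac _ _ _)
  have hw : ωO.left c' = w₀ := O.ι.isOpenEmbedding.injective (by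
    rw [hw₀, show O.ι (ωO.left c') = jO.left (ωO.left c') from rfl, ← comp_apply, hωO'])
  have e3 := eq_of_mem_range_diag (ωO ≫ Φ) c' (by rw [comp_apply, hw]; exact hmem)
  simp only [Φ, Category.assoc, lift_fst, lift_snd] at e3
  rw [← hωO', Category.assoc, Category.assoc, ← hψ₁, ← hψ₂, ← Category.assoc, ← Category.assoc, e3]

-- Separatedness from translating pairs of points of a fibre into a separated open, with a
-- translation taken in an open on which the group is universally open.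
theorem isSeparated_of_translate {G X : Over S} [GrpObj G] (a : AlgGrp.Action G X) (W : G.left.Opens)
    [UniversallyOpen (W.ι ≫ G.hom)]
    (h : ∀ (T : Over S) [Subsingleton T.left] (x₁ x₂ : T ⟶ X) (c : T.left),
      ∃ (T' : Over S) (_ : Subsingleton T'.left) (_ : IsReduced T'.left) (q : T' ⟶ T) (c' : T'.left) (g : T' ⟶ G)
        (U : X.left.Opens), IsSeparated (U.ι ≫ X.hom) ∧ g.left c' ∈ W ∧ q.left c' = c ∧
          (lift g (q ≫ x₁) ≫ a.act).left c' ∈ U ∧ (lift g (q ≫ x₂) ≫ a.act).left c' ∈ U) :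
    IsSeparated X.hom := by
  refine ⟨?_⟩
  rw [← diag_left]
  refine IsClosedImmersion.of_isPreimmersion _ (isClosed_of_closure_subset fun z hz => ?_)
  haveI : Subsingleton (ptObj (X ⊗ X) z).left := inferInstanceAs (Subsingleton (PrimeSpectrum _))
  obtain ⟨T', _, _, q, c', g, U, hU, hgW, hqc, h1, h2⟩ :=
    h (ptObj (X ⊗ X) z) (ptMor (X ⊗ X) z ≫ fst X X) (ptMor (X ⊗ X) z ≫ snd X X) (IsLocalRing.closedPoint _)
  let WX : Over S := Over.mk (W.ι ≫ G.hom)
  let jW : WX ⟶ G := Over.homMk W.ι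
  haveI : UniversallyOpen (snd WX (X ⊗ X)).left := by
    show UniversallyOpen (pullback.snd (W.ι ≫ G.hom) (X ⊗ X).hom)
    infer_instance
  have hr : Set.range g.left ⊆ Set.range W.ι := by
    rintro _ ⟨d, rfl⟩
    rw [Scheme.Opens.range_ι, Subsingleton.elim d c']
    exact hgW
  let gW : T' ⟶ WX := Over.homMk (IsOpenImmersion.lift W.ι g.left hr) (by
    show _ ≫ W.ι ≫ G.hom = _
    rw [← Category.assoc, IsOpenImmersion.lift_fac, Over.w])
  have hgW' : gW ≫ jW = g := Over.OverMorphism.ext (IsOpenImmersion.lift_fac _ _ _)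
  let p₁ : WX ⊗ (X ⊗ X) ⟶ X := lift (fst _ _ ≫ jW) (snd _ _ ≫ fst X X) ≫ a.act
  let p₂ : WX ⊗ (X ⊗ X) ⟶ X := lift (fst _ _ ≫ jW) (snd _ _ ≫ snd X X) ≫ a.act
  let ω : T' ⟶ WX ⊗ (X ⊗ X) := lift gW (q ≫ ptMor (X ⊗ X) z)
  have eπ : ω ≫ snd _ _ = q ≫ ptMor (X ⊗ X) z := lift_snd _ _
  have e1 : ω ≫ p₁ = lift g (q ≫ ptMor (X ⊗ X) z ≫ fst X X) ≫ a.act := by
    simp only [p₁, ω, ← Category.assoc, comp_lift, lift_fst, lift_snd, hgW']
  have e2 : ω ≫ p₂ = lift g (q ≫ ptMor (X ⊗ X) z ≫ snd X X) ≫ a.act := by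
    simp only [p₂, ω, ← Category.assoc, comp_lift, lift_fst, lift_snd, hgW']
  have e4 : ω ≫ p₁ = ω ≫ p₂ := by
    refine comp_eq_of_mem_closure (snd WX (X ⊗ X)) p₁ p₂ U hU (fun y hy => ?_) ω c' ?_ ?_ ?_
    · simp only [p₁, p₂, comp_lift_assoc, hy]
    · rw [← comp_apply, eπ, comp_apply, hqc, ptMor_apply]
      exact hz
    · rw [← comp_apply, e1]; exact h1
    · rw [← comp_apply, e2]; exact h2
  rw [e1, e2] at e4
  have e5 := congrArg (fun y => lift g⁻¹ y ≫ a.act) e4
  simp only [Groth.L25.Actions.inv_act] at e5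
  refine ⟨(q ≫ ptMor (X ⊗ X) z ≫ fst X X).left c', ?_⟩
  have e6 : (q ≫ ptMor (X ⊗ X) z ≫ fst X X) ≫ diag X = q ≫ ptMor (X ⊗ X) z := by
    apply CartesianMonoidalCategory.hom_ext
    · simp
    · simp only [Category.assoc, lift_snd, Category.comp_id]; exact e5
  rw [← comp_apply, e6, comp_apply, ptMor_apply]

end Groth.L08.ActSep
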