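import Groth.Agent.L08.ActSepOrbit
import Groth.Agent.L25.ConnIrred

/-!
# Transitive actions of groups with connected fibres
-/

set_option autoImplicit false
set_option backward.isDefEq.respectTransparency.types false

universe u

open CategoryTheory CategoryTheory.Limits AlgebraicGeometry MonoidalCategory MonObj CartesianMonoidalCategory

noncomputable section

namespace Groth.L08.ActSep

variable {S : Scheme.{u}} {G X : Over S} [GrpObj G]

/-- Fibres of a scheme with a transitive action of a group with connected fibres are irreducible. -/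
theorem isIrreducible_fibre (hconn : ∀ s : S, _root_.IsConnected (G.hom ⁻¹' {s})) (a : AlgGrp.Action G X)
    (hΦ : Surjective (lift a.act (snd G X)).left) (x₀ : X.left) :
    IsIrreducible (X.hom ⁻¹' {X.hom x₀}) := by
  let s := X.hom x₀
  let K := AlgebraicClosure (X.left.residueField x₀)
  let qm : Spec (CommRingCat.of K) ⟶ X.left :=
    Spec.map (CommRingCat.ofHom (algebraMap (X.left.residueField x₀) K)) ≫ X.left.fromSpecResidueField x₀
  let t : Spec (CommRingCat.of K) ⟶ S := qm ≫ X.hom
  let ψ : Spec (CommRingCat.of K) ⟶ Spec (S.residueField s) :=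
    Spec.map (CommRingCat.ofHom (algebraMap (X.left.residueField x₀) K)) ≫ Spec.map (X.hom.residueFieldMap x₀)
  have hψ : ψ ≫ S.fromSpecResidueField s = t := by
    simp only [ψ, t, qm, s, Category.assoc, Scheme.Hom.SpecMap_residueFieldMap_fromSpecResidueField]
  haveI : IrreducibleSpace ↥(pullback G.hom t) := by
    let Gs : Over (Spec (CommRingCat.of (S.residueField s))) := Red.bc (S.fromSpecResidueField s) G
    letI : GrpObj Gs := inferInstanceAs (GrpObj (Red.bc (S.fromSpecResidueField s) G))
    haveI : ConnectedSpace ↥Gs.left := by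
      haveI := Subtype.connectedSpace (hconn s)
      exact (G.hom.fiberHomeo s).symm.surjective.connectedSpace (G.hom.fiberHomeo s).symm.continuous
    haveI := Groth.L25.ConnIrred.irreducibleSpace Gs
    have hgi := Groth.L25.Component.geometricallyIrreducible Gs
    have h1 : IrreducibleSpace ↥(pullback Gs.hom ψ) :=
      pullback_of_geometrically hgi.geometrically_irreducibleSpace K ψ
    let e : pullback Gs.hom ψ ≅ pullback G.hom t :=
      pullbackLeftPullbackSndIso G.hom (S.fromSpecResidueField s) ψ ≪≫ pullback.congrHom rfl hψ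
    exact e.hom.homeomorph.irreducibleSpace_iff.mp h1
  let x : 𝟙_ (Over (Spec (CommRingCat.of K))) ⟶ Red.bc t X :=
    Over.homMk (pullback.lift qm (𝟙 _) (Category.id_comp t).symm) (pullback.lift_snd _ _ _)
  haveI : Surjective ψ := ⟨fun _ => ⟨IsLocalRing.closedPoint K, Subsingleton.elim (α := PrimeSpectrum _) _ _⟩⟩
  have ho := surjective_orbitMap a hΦ t x
  let f : pullback G.hom t ⟶ X.left := ((a.bc t).orbitMap x).left ≫ pullback.fst X.hom t
  have hr : Set.range f = X.hom ⁻¹' {s} := by
    rw [Scheme.Hom.comp_base, TopCat.coe_comp, Set.range_comp, ho.surj.range_eq, Set.image_univ,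
      Scheme.Pullback.range_fst]
    have hrt : Set.range t = {s} := by
      rw [Set.range_eq_singleton]
      intro c
      rw [← hψ]
      exact Scheme.fromSpecResidueField_apply s _
    rw [hrt]
  show IsIrreducible (X.hom ⁻¹' {s})
  rw [← hr, ← Set.image_univ]
  exact (IrreducibleSpace.isIrreducible_univ _).image _ f.continuous.continuousOn

/-- Schemes with transitive actions of universally open groups with connected fibres are separated. -/
theorem isSeparated_of_connected [LocallyOfFinitePresentation G.hom] [UniversallyOpen G.hom]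
    [LocallyOfFinitePresentation X.hom]
    (hconn : ∀ s : S, _root_.IsConnected (G.hom ⁻¹' {s})) (a : AlgGrp.Action G X)
    (hΦ : Surjective (lift a.act (snd G X)).left) : IsSeparated X.hom := by
  haveI : UniversallyOpen ((⊤ : G.left.Opens).ι ≫ G.hom) := inferInstance
  refine isSeparated_of_dense ⊤ (fun _ => trivial) a hΦ (fun s => inferInstanceAs (LocallyOfFiniteType (pullback.snd _ _)))
    fun s hs => ?_
  obtain ⟨x₀, hx₀⟩ := hs
  have hx₀ : X.hom x₀ = s := hx₀
  obtain ⟨_, ⟨U, hU, rfl⟩, hxU, -⟩ := X.left.isBasis_affineOpens.exists_subset_of_mem_open (Set.mem_univ x₀) isOpen_univ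
  haveI : IsAffine (Scheme.Opens.toScheme U) := hU
  refine ⟨U, ?_, ?_⟩
  · haveI : IsSeparated ((Scheme.Opens.ι U ≫ X.hom) ≫ terminal.from S) := by
      rw [terminal.comp_from]; exact inferInstanceAs (IsSeparated _)
    exact IsSeparated.of_comp _ (terminal.from S)
  · intro x hx
    rw [Set.mem_preimage, Set.mem_singleton_iff] at hx
    have hirr := isIrreducible_fibre hconn a hΦ x₀
    rw [mem_closure_iff]
    intro O hO hxO
    obtain ⟨y, hy, hyO, hyU⟩ := hirr.2 O U hO U.2 ⟨x, by rw [Set.mem_preimage, Set.mem_singleton_iff, hx, hx₀], hxO⟩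
      ⟨x₀, rfl, hxU⟩
    exact ⟨y, hyO, hyU, by rw [Set.mem_preimage, Set.mem_singleton_iff] at hy ⊢; rw [hy, hx₀]⟩

end Groth.L08.ActSep
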