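import Groth.Agent.L08.HomogScheme
import Groth.Agent.L08.GrpQC

/-!
# Transitive actions with irreducible fibres
-/

set_option autoImplicit false
set_option backward.isDefEq.respectTransparency.types false

universe u

open CategoryTheory CategoryTheory.Limits AlgebraicGeometry MonoidalCategory MonObj CartesianMonoidalCategory

noncomputable section

namespace Groth.L08.Homog

theorem irreducibleSpace_fiber {S X : Scheme.{u}} {f : X ⟶ S} {s : S} (h : IsIrreducible (f ⁻¹' {s})) :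
    IrreducibleSpace ↥(f.fiber s) := by
  rw [irreducibleSpace_def]
  refine ⟨?_, fun U V hU hV hu hv => ?_⟩
  · obtain ⟨x, hx⟩ := h.1
    exact ⟨(f.fiberHomeo s).symm ⟨x, hx⟩, trivial⟩
  · obtain ⟨U', hU', rfl⟩ := (f.fiberι s).isEmbedding.isInducing.isOpen_iff.mp hU
    obtain ⟨V', hV', rfl⟩ := (f.fiberι s).isEmbedding.isInducing.isOpen_iff.mp hV
    obtain ⟨a, -, ha⟩ := hu
    obtain ⟨b, -, hb⟩ := hv
    obtain ⟨c, hc, hc'⟩ := h.2 U' V' hU' hV' ⟨f.fiberι s a, (f.range_fiberι s).le ⟨a, rfl⟩, ha⟩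
      ⟨f.fiberι s b, (f.range_fiberι s).le ⟨b, rfl⟩, hb⟩
    obtain ⟨c', rfl⟩ := (f.range_fiberι s).ge hc
    exact ⟨c', trivial, hc'⟩

end Groth.L08.Homog

namespace Groth.L08.ActSep

variable {S : Scheme.{u}}

theorem dense_preimage_of_irreducible {G X : Over S} [GrpObj G] [LocallyOfFiniteType G.hom] (a : AlgGrp.Action G X)
    (hΦ : Surjective (lift a.act (snd G X)).left) {K : Type u} [Field K] [IsAlgClosed K]
    (t : Spec (CommRingCat.of K) ⟶ S) (s : S) (ht : ∀ c, t c = s) (hirr : IsIrreducible (X.hom ⁻¹' {s}))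
    {U : Set X.left} (hU : IsOpen U) (hne : (U ∩ X.hom ⁻¹' {s}).Nonempty)
    (x : 𝟙_ (Over (Spec (CommRingCat.of K))) ⟶ Red.bc t X) :
    Dense (((a.bc t).orbitMap x).left ⁻¹' (pullback.fst X.hom t ⁻¹' U)) := by
  let GK : Over (Spec (CommRingCat.of K)) := Red.bc t G
  letI : GrpObj GK := inferInstanceAs (GrpObj (Red.bc t G))
  haveI : LocallyOfFiniteType GK.hom := inferInstanceAs (LocallyOfFiniteType (pullback.snd G.hom t))
  obtain ⟨ψ, rfl⟩ : ∃ ψ : Spec (CommRingCat.of K) ⟶ Spec (S.residueField s), ψ ≫ S.fromSpecResidueField s = t := by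
    refine ⟨Spec.map ((Scheme.SpecToEquivOfField K S t).2) ≫ Spec.map (S.residueFieldCongr
      (show s = (Scheme.SpecToEquivOfField K S t).1 from (ht _).symm)).hom, ?_⟩
    rw [Category.assoc, Scheme.residueFieldCongr_fromSpecResidueField]
    exact (Scheme.SpecToEquivOfField K S).symm_apply_apply t
  let φ := Homog.bcMap X (S.fromSpecResidueField s) ψ
  haveI : Flat φ := MorphismProperty.of_isPullback (Homog.isPullback_bcMap X (S.fromSpecResidueField s) ψ).flip (inferInstance : Flat ψ)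
  refine Groth.L19.Limit.dense_of_isMaxPt_mem fun ξ hξ => ?_
  have hm := Homog.isMaxPt_orbit (G := GK) (a.bc _) x (surjective_orbitMap a hΦ _ x) hξ
  let F := X.hom.fiber s
  haveI : IrreducibleSpace ↥F := Homog.irreducibleSpace_fiber hirr
  haveI : IrreducibleSpace ↥(Red.bc (S.fromSpecResidueField s) X).left := Homog.irreducibleSpace_fiber hirr
  have hm' : Groth.L19.Limit.IsMaxPt (φ (((a.bc _).orbitMap x).left ξ)) := Homog.isMaxPt_map φ hm
  have e : φ (((a.bc _).orbitMap x).left ξ) = genericPoint F := (hm' _ (genericPoint_specializes _)).symm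
  show pullback.fst X.hom _ (((a.bc _).orbitMap x).left ξ) ∈ U
  rw [show pullback.fst X.hom (ψ ≫ S.fromSpecResidueField s) (((a.bc _).orbitMap x).left ξ) =
    X.hom.fiberι s (φ (((a.bc _).orbitMap x).left ξ)) from
      congr(($((pullback.lift_fst _ _ _).trans (Category.comp_id (pullback.fst X.hom (ψ ≫ S.fromSpecResidueField s))))) _).symm, e]
  obtain ⟨z, hzU, hz⟩ := hne
  obtain ⟨z', rfl⟩ : z ∈ Set.range (X.hom.fiberι s) := by rw [X.hom.range_fiberι]; exact hz
  exact ((genericPoint_specializes z').map (X.hom.fiberι s).continuous).mem_open hU hzU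

theorem isSeparated_of_irreducible {G X : Over S} [GrpObj G] [LocallyOfFinitePresentation G.hom] (W : G.left.Opens)
    (hW : ∀ p : ↥(𝟙_ (Over S)).left, η[G].left p ∈ W) [UniversallyOpen (W.ι ≫ G.hom)]
    (a : AlgGrp.Action G X) (hΦ : Surjective (lift a.act (snd G X)).left)
    (hirr : ∀ s : S, (X.hom ⁻¹' {s}).Nonempty → IsIrreducible (X.hom ⁻¹' {s})) :
    IsSeparated X.hom := by
  refine isSeparated_of_translate a W fun T _ x₁ x₂ c => ?_
  let s := T.hom c
  have hne : (X.hom ⁻¹' {s}).Nonempty := ⟨x₁.left c, congr(($(Over.w x₁)) c)⟩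
  obtain ⟨x₀, hx₀⟩ := hne
  obtain ⟨_, ⟨U, hU, rfl⟩, hxU, -⟩ := X.left.isBasis_affineOpens.exists_subset_of_mem_open (Set.mem_univ x₀) isOpen_univ
  haveI : IsAffine (Scheme.Opens.toScheme U) := hU
  have hUsep : IsSeparated (Scheme.Opens.ι U ≫ X.hom) := by
    haveI : IsSeparated ((Scheme.Opens.ι U ≫ X.hom) ≫ terminal.from S) := by
      rw [terminal.comp_from]; exact inferInstanceAs (IsSeparated _)
    exact IsSeparated.of_comp _ (terminal.from S)
  let K := AlgebraicClosure (T.left.residueField c)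
  let qm : Spec (CommRingCat.of K) ⟶ T.left :=
    Spec.map (CommRingCat.ofHom (algebraMap (T.left.residueField c) K)) ≫ T.left.fromSpecResidueField c
  let t : Spec (CommRingCat.of K) ⟶ S := qm ≫ T.hom
  let T' : Over S := (Over.map t).obj (𝟙_ (Over (Spec (CommRingCat.of K))))
  let q : T' ⟶ T := Over.homMk qm (by show qm ≫ T.hom = 𝟙 _ ≫ t; rw [Category.id_comp])
  let c' : T'.left := IsLocalRing.closedPoint K
  have hqc : q.left c' = c := Scheme.fromSpecResidueField_apply c _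
  haveI : Subsingleton T'.left := inferInstanceAs (Subsingleton (PrimeSpectrum K))
  haveI : IsReduced T'.left := inferInstanceAs (IsReduced (Spec (CommRingCat.of K)))
  let GK : Over (Spec (CommRingCat.of K)) := Red.bc t G
  let XK : Over (Spec (CommRingCat.of K)) := Red.bc t X
  letI : GrpObj GK := inferInstanceAs (GrpObj (Red.bc t G))
  haveI : LocallyOfFiniteType GK.hom := inferInstanceAs (LocallyOfFiniteType (pullback.snd G.hom t))
  let UK : Set XK.left := pullback.fst X.hom t ⁻¹' (U : Set X.left)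
  have hUKo : IsOpen UK := U.2.preimage (pullback.fst X.hom t).continuous
  have hts : ∀ c₁, t c₁ = s := fun c₁ => by
    show T.hom (qm c₁) = s
    rw [show qm c₁ = c from Scheme.fromSpecResidueField_apply c _]
  let eG := (Over.mapPullbackAdj t).homEquiv (𝟙_ (Over (Spec (CommRingCat.of K)))) G
  let eX := (Over.mapPullbackAdj t).homEquiv (𝟙_ (Over (Spec (CommRingCat.of K)))) X
  let WK : Set GK.left := pullback.fst G.hom t ⁻¹' (W : Set G.left)
  have hWKne : WK.Nonempty := by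
    refine ⟨(eG 1).left c', ?_⟩
    show pullback.fst G.hom t ((eG 1).left c') ∈ W
    rw [he_apply]
    exact hW _
  have hd₁ := dense_preimage_of_irreducible a hΦ t s hts (hirr s ⟨x₀, hx₀⟩) U.2 ⟨x₀, hxU, hx₀⟩ (eX (q ≫ x₁))
  have hd₂ := dense_preimage_of_irreducible a hΦ t s hts (hirr s ⟨x₀, hx₀⟩) U.2 ⟨x₀, hxU, hx₀⟩ (eX (q ≫ x₂))
  have ho₁ := hUKo.preimage ((a.bc t).orbitMap (eX (q ≫ x₁))).left.continuous
  have ho₂ := hUKo.preimage ((a.bc t).orbitMap (eX (q ≫ x₂))).left.continuous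
  have hne' := (hd₁.inter_of_isOpen_left hd₂ ho₁).inter_open_nonempty WK (W.2.preimage (pullback.fst G.hom t).continuous) hWKne
  haveI := LocallyOfFiniteType.jacobsonSpace GK.hom
  obtain ⟨g₀, ⟨hgW, hg₁, hg₂⟩, hg₀⟩ := nonempty_inter_closedPoints hne'
    (((W.2.preimage (pullback.fst G.hom t).continuous).inter (ho₁.inter ho₂)).isLocallyClosed)
  let sg : 𝟙_ (Over (Spec (CommRingCat.of K))) ⟶ GK :=
    Over.homMk _ ((pointEquivClosedPoint GK.hom).symm ⟨g₀, hg₀⟩).2
  have hsg : sg.left c' = g₀ :=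
    congrArg Subtype.val ((pointEquivClosedPoint GK.hom).apply_symm_apply ⟨g₀, hg₀⟩)
  let γ : T' ⟶ G := eG.symm sg
  have hγ : eG γ = sg := eG.apply_symm_apply sg
  have key : ∀ x : T' ⟶ X, ((a.bc t).orbitMap (eX x)).left g₀ ∈ UK → (lift γ x ≫ a.act).left c' ∈ U := by
    intro x hx
    rw [← hsg, ← comp_apply, AlgGrp.Action.orbitMap, comp_lift_assoc, Category.comp_id, ← Category.assoc,
      toUnit_unique (sg ≫ toUnit _) (𝟙 _), Category.id_comp, ← hγ, AlgGrp.Action.lift_homEquiv_bc_act] at hx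
    rw [← he_apply t (lift γ x ≫ a.act) c']
    exact hx
  refine ⟨T', inferInstance, inferInstance, q, c', γ, U, hUsep, ?_, hqc, key _ hg₁, key _ hg₂⟩
  rw [← he_apply t γ c']
  show pullback.fst G.hom t ((eG γ).left c') ∈ W
  rw [hγ, hsg]
  exact hgW

theorem he_inv {G : Over S} [GrpObj G] {S' : Scheme.{u}} (t : S' ⟶ S) {T : Over S'} (γ : (Over.map t).obj T ⟶ G) :
    (Over.mapPullbackAdj t).homEquiv T G γ⁻¹ = ((Over.mapPullbackAdj t).homEquiv T G γ)⁻¹ := by
  have h1 : (Over.mapPullbackAdj t).homEquiv T G (1 : (Over.map t).obj T ⟶ G) = 1 := by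
    have h := AlgGrp.Action.homEquiv_mul t (T' := T) (1 : (Over.map t).obj T ⟶ G) 1
    rw [_root_.mul_one] at h
    exact left_eq_mul.mp h
  refine (inv_eq_of_mul_eq_one_right ?_).symm
  rw [← AlgGrp.Action.homEquiv_mul, mul_inv_cancel, h1]

/-- Transitive actions with irreducible fibres and an open, quasi-compact over the base, meeting all fibres. -/
theorem quasiCompact_of_irreducible {G X : Over S} [GrpObj G] [LocallyOfFinitePresentation G.hom] (W : G.left.Opens)
    (hW : ∀ p : ↥(𝟙_ (Over S)).left, η[G].left p ∈ W) [UniversallyOpen (W.ι ≫ G.hom)]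
    (a : AlgGrp.Action G X) (hΦ : Surjective (lift a.act (snd G X)).left)
    (hirr : ∀ s : S, (X.hom ⁻¹' {s}).Nonempty → IsIrreducible (X.hom ⁻¹' {s}))
    (V : X.left.Opens) (hVq : QuasiCompact (V.ι ≫ X.hom))
    (hV : ∀ s : S, (X.hom ⁻¹' {s}).Nonempty → ((V : Set X.left) ∩ X.hom ⁻¹' {s}).Nonempty) :
    QuasiCompact X.hom := by
  classical
  rw [quasiCompact_iff_forall_isAffineOpen]
  intro U hU
  haveI : IsAffine (Scheme.Opens.toScheme U) := hU
  have hA : ∀ s : U, ∃ A : G.left.affineOpens, (A.1 : Set G.left) ⊆ (W : Set G.left) ∩ G.hom ⁻¹' (U : Set S) ∧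
      η[G].left s.1 ∈ A.1 := fun s => by
    have h0 : η[G].left s.1 ∈ (W : Set G.left) ∩ G.hom ⁻¹' (U : Set S) := by
      refine ⟨hW _, ?_⟩
      rw [Set.mem_preimage, show G.hom (η[G].left s.1) = s.1 from congr(($(Over.w η[G])) s.1)]
      exact s.2
    obtain ⟨_, ⟨A, hAa, rfl⟩, hgA, hle⟩ := G.left.isBasis_affineOpens.exists_subset_of_mem_open h0
      (W.2.inter (U.2.preimage G.hom.continuous))
    exact ⟨⟨A, hAa⟩, hle, hgA⟩
  choose A hAle hAη using hA
  have hopen : ∀ s : U, IsOpen (G.hom '' ((A s).1 : Set G.left)) := fun s => by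
    have h := (W.ι ≫ G.hom).isOpenMap _ ((A s).1.2.preimage W.ι.continuous)
    rw [Scheme.Hom.comp_base, TopCat.coe_comp, Set.image_comp, Set.image_preimage_eq_inter_range, Scheme.Opens.range_ι] at h
    erw [Set.inter_eq_left.mpr (fun g hg => (hAle s hg).1)] at h
    exact h
  obtain ⟨F, hF⟩ := hU.isCompact.elim_finite_subcover (fun s : U => G.hom '' ((A s).1 : Set G.left))
    hopen (fun x hx => Set.mem_iUnion.mpr ⟨⟨x, hx⟩, _, hAη ⟨x, hx⟩, congr(($(Over.w η[G])) x)⟩)
  -- finitely many affines covering `V` over `U`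
  have hB : ∀ y : ↥((V : Set X.left) ∩ X.hom ⁻¹' (U : Set S)), ∃ B : X.left.affineOpens,
      (B.1 : Set X.left) ⊆ (V : Set X.left) ∩ X.hom ⁻¹' (U : Set S) ∧ y.1 ∈ B.1 := fun y => by
    obtain ⟨_, ⟨B, hBa, rfl⟩, hyB, hle⟩ := X.left.isBasis_affineOpens.exists_subset_of_mem_open y.2
      (V.2.inter (U.2.preimage X.hom.continuous))
    exact ⟨⟨B, hBa⟩, hle, hyB⟩
  choose B hBle hBy using hB
  have hVc : IsCompact ((V : Set X.left) ∩ X.hom ⁻¹' (U : Set S)) := by
    have h : IsCompact ((V.ι ≫ X.hom) ⁻¹' (U : Set S)) := quasiCompact_iff_forall_isAffineOpen.mp hVq U hU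
    have h' := h.image V.ι.continuous
    rwa [show (V.ι ≫ X.hom) ⁻¹' (U : Set S) = V.ι ⁻¹' (X.hom ⁻¹' (U : Set S)) from rfl,
      Set.image_preimage_eq_inter_range, Scheme.Opens.range_ι, Set.inter_comm] at h'
  obtain ⟨E, hE⟩ := hVc.elim_finite_subcover (fun y => ((B y).1 : Set X.left)) (fun y => (B y).1.2)
    (fun x hx => Set.mem_iUnion.mpr ⟨⟨x, hx⟩, hBy ⟨x, hx⟩⟩)
  let AX : U → Over S := fun s => Over.mk ((A s).1.ι ≫ G.hom)
  let BX : ↥((V : Set X.left) ∩ X.hom ⁻¹' (U : Set S)) → Over S := fun y => Over.mk ((B y).1.ι ≫ X.hom)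
  let m : ∀ i j, AX i ⊗ BX j ⟶ X := fun i j =>
    lift (fst _ _ ≫ Over.homMk (A i).1.ι) (snd _ _ ≫ Over.homMk (B j).1.ι) ≫ a.act
  have hcpt : ∀ i j, CompactSpace ↥(AX i ⊗ BX j).left := by
    intro i j
    obtain ⟨l₁, hl₁⟩ : ∃ l : (A i).1.toScheme ⟶ Scheme.Opens.toScheme U, l ≫ Scheme.Opens.ι U = (A i).1.ι ≫ G.hom :=
      ⟨_, IsOpenImmersion.lift_fac (Scheme.Opens.ι U) ((A i).1.ι ≫ G.hom) (by
        rintro _ ⟨d, rfl⟩; rw [Scheme.Opens.range_ι]; exact (hAle i d.2).2)⟩
    obtain ⟨l₂, hl₂⟩ : ∃ l : (B j).1.toScheme ⟶ Scheme.Opens.toScheme U, l ≫ Scheme.Opens.ι U = (B j).1.ι ≫ X.hom :=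
      ⟨_, IsOpenImmersion.lift_fac (Scheme.Opens.ι U) ((B j).1.ι ≫ X.hom) (by
        rintro _ ⟨d, rfl⟩; rw [Scheme.Opens.range_ι]; exact (hBle j d.2).2)⟩
    haveI : IsAffine (A i).1.toScheme := (A i).2
    haveI : IsAffine (B j).1.toScheme := (B j).2
    haveI := compactSpace_pullback_of_affine l₁ l₂
    let e : pullback l₁ l₂ ≅ pullback ((A i).1.ι ≫ G.hom) ((B j).1.ι ≫ X.hom) :=
      { hom := pullback.lift (pullback.fst _ _) (pullback.snd _ _) (by rw [← hl₁, ← hl₂, pullback.condition_assoc])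
        inv := pullback.lift (pullback.fst _ _) (pullback.snd _ _) (by
          rw [← cancel_mono (Scheme.Opens.ι U), Category.assoc, Category.assoc, hl₁, hl₂, pullback.condition])
        hom_inv_id := by apply pullback.hom_ext <;> simp [pullback.lift_fst, pullback.lift_snd]
        inv_hom_id := by apply pullback.hom_ext <;> simp [pullback.lift_fst, pullback.lift_snd] }
    haveI : IsIso e.hom := e.isIso_hom
    exact e.hom.homeomorph.compactSpace
  suffices h : X.hom ⁻¹' (U : Set S) = ⋃ i ∈ F, ⋃ j ∈ E, Set.range (m i j).left by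
    show IsCompact (X.hom ⁻¹' (U : Set S))
    rw [h]
    exact F.isCompact_biUnion fun i _ => E.isCompact_biUnion fun j _ =>
      haveI := hcpt i j
      isCompact_range (m i j).left.continuous
  refine subset_antisymm (fun y hy => ?_) ?_
  · obtain ⟨i, hiF, g₁, hg₁, hg₁s⟩ := Set.mem_iUnion₂.mp (hF (show X.hom y ∈ (U : Set S) from hy))
    let K := AlgebraicClosure (X.left.residueField y)
    let qy : Spec (CommRingCat.of K) ⟶ X.left :=
      Spec.map (CommRingCat.ofHom (algebraMap (X.left.residueField y) K)) ≫ X.left.fromSpecResidueField y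
    let t : Spec (CommRingCat.of K) ⟶ S := qy ≫ X.hom
    have hts : ∀ c₁, t c₁ = X.hom y := fun c₁ => congrArg X.hom (Scheme.fromSpecResidueField_apply y _)
    let GK : Over (Spec (CommRingCat.of K)) := Red.bc t G
    letI : GrpObj GK := inferInstanceAs (GrpObj (Red.bc t G))
    haveI : LocallyOfFiniteType GK.hom := inferInstanceAs (LocallyOfFiniteType (pullback.snd G.hom t))
    haveI := LocallyOfFiniteType.jacobsonSpace GK.hom
    let eG := (Over.mapPullbackAdj t).homEquiv (𝟙_ (Over (Spec (CommRingCat.of K)))) G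
    let eX := (Over.mapPullbackAdj t).homEquiv (𝟙_ (Over (Spec (CommRingCat.of K)))) X
    let T' : Over S := (Over.map t).obj (𝟙_ (Over (Spec (CommRingCat.of K))))
    let yT : T' ⟶ X := Over.homMk qy (by show qy ≫ X.hom = 𝟙 _ ≫ t; rw [Category.id_comp])
    let c' : T'.left := IsLocalRing.closedPoint K
    haveI : Subsingleton T'.left := inferInstanceAs (Subsingleton (PrimeSpectrum K))
    have hd := dense_preimage_of_irreducible a hΦ t (X.hom y) hts (hirr _ ⟨y, rfl⟩) V.2 (hV _ ⟨y, rfl⟩) (eX yT)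
    let inv' : GK ⟶ GK := GrpObj.inv
    have hAo : IsOpen (inv'.left ⁻¹' (pullback.fst G.hom t ⁻¹' ((A i).1 : Set G.left))) :=
      ((A i).1.2.preimage (pullback.fst G.hom t).continuous).preimage inv'.left.continuous
    have hAne : (inv'.left ⁻¹' (pullback.fst G.hom t ⁻¹' ((A i).1 : Set G.left))).Nonempty := by
      obtain ⟨z, hz⟩ : g₁ ∈ Set.range (pullback.fst G.hom t) := by
        rw [Scheme.Pullback.range_fst]
        exact ⟨IsLocalRing.closedPoint K, (hts _).trans hg₁s.symm⟩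
      obtain ⟨z', rfl⟩ : z ∈ Set.range inv'.left := by
        have e : (inv'.left ≫ inv'.left) z = z := by
          rw [← Over.comp_left, show inv' ≫ inv' = 𝟙 GK by
            simp only [inv', GrpObj.inv_comp_inv]]
          rfl
        exact ⟨inv'.left z, e⟩
      exact ⟨z', show pullback.fst G.hom t (inv'.left z') ∈ (A i).1 by rw [hz]; exact hg₁⟩
    have ho := V.2.preimage ((pullback.fst X.hom t).continuous.comp ((a.bc t).orbitMap (eX yT)).left.continuous)
    obtain ⟨h₀, ⟨hh₁, hh₂⟩, hh₀⟩ := nonempty_inter_closedPoints (hd.inter_open_nonempty _ hAo hAne)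
      (hAo.inter ho).isLocallyClosed
    let sh : 𝟙_ (Over (Spec (CommRingCat.of K))) ⟶ GK :=
      Over.homMk _ ((pointEquivClosedPoint GK.hom).symm ⟨h₀, hh₀⟩).2
    have hsh : sh.left c' = h₀ :=
      congrArg Subtype.val ((pointEquivClosedPoint GK.hom).apply_symm_apply ⟨h₀, hh₀⟩)
    let γ : T' ⟶ G := eG.symm sh
    have hγ : eG γ = sh := eG.apply_symm_apply sh
    have hv : (lift γ yT ≫ a.act).left c' ∈ V := by
      have h' : pullback.fst X.hom t (((a.bc t).orbitMap (eX yT)).left h₀) ∈ V := hh₂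
      rw [← hsh, ← comp_apply, AlgGrp.Action.orbitMap, comp_lift_assoc, Category.comp_id, ← Category.assoc,
        toUnit_unique (sh ≫ toUnit _) (𝟙 _), Category.id_comp, ← hγ, AlgGrp.Action.lift_homEquiv_bc_act] at h'
      rw [← he_apply t (lift γ yT ≫ a.act) c']
      exact h'
    have hg : γ⁻¹.left c' ∈ (A i).1 := by
      rw [← he_apply t γ⁻¹ c', he_inv]
      show pullback.fst G.hom t (((eG γ)⁻¹).left c') ∈ (A i).1
      rw [hγ, show sh⁻¹ = sh ≫ inv' from Hom.inv_def sh, comp_apply, hsh]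
      exact hh₁
    have hvU : (lift γ yT ≫ a.act).left c' ∈ X.hom ⁻¹' (U : Set S) := by
      rw [Set.mem_preimage, show X.hom ((lift γ yT ≫ a.act).left c') = T'.hom c' from congr(($(Over.w (lift γ yT ≫ a.act))) c'),
        show T'.hom c' = t c' from rfl, hts]
      exact hy
    obtain ⟨j, hjE, hjB⟩ := Set.mem_iUnion₂.mp (hE ⟨hv, hvU⟩)
    have hl : ∀ (Y : Over S) (O : Y.left.Opens) (ζ : T' ⟶ Y), ζ.left c' ∈ O →
        ∃ l : T' ⟶ Over.mk (O.ι ≫ Y.hom), l ≫ Over.homMk O.ι = ζ := by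
      intro Y O ζ hζ
      have hr : Set.range ζ.left ⊆ Set.range O.ι := by
        rintro _ ⟨d, rfl⟩
        rw [Scheme.Opens.range_ι, show d = c' from Subsingleton.elim (α := T'.left) _ _]
        exact hζ
      refine ⟨Over.homMk (IsOpenImmersion.lift O.ι ζ.left hr) ?_, Over.OverMorphism.ext (IsOpenImmersion.lift_fac _ _ _)⟩
      show _ ≫ O.ι ≫ Y.hom = _
      rw [← Category.assoc, IsOpenImmersion.lift_fac, Over.w]
    obtain ⟨la, hla⟩ := hl G (A i).1 γ⁻¹ hg
    obtain ⟨lb, hlb⟩ := hl X (B j).1 (lift γ yT ≫ a.act) hjB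
    refine Set.mem_iUnion₂.mpr ⟨i, hiF, Set.mem_iUnion₂.mpr ⟨j, hjE, (lift la lb).left c', ?_⟩⟩
    have e : lift la lb ≫ m i j = yT := by
      simp only [m, comp_lift_assoc]
      erw [← Category.assoc (lift la lb) (fst (AX i) (BX j)), ← Category.assoc (lift la lb) (snd (AX i) (BX j)), lift_fst, lift_snd, hla, hlb]
      exact Groth.L25.Actions.inv_act a γ yT
    rw [← comp_apply, e]
    exact Scheme.fromSpecResidueField_apply y _
  · refine Set.iUnion₂_subset fun i _ => Set.iUnion₂_subset fun j _ => ?_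
    rintro _ ⟨w, rfl⟩
    show X.hom ((m i j).left w) ∈ (U : Set S)
    rw [show X.hom ((m i j).left w) = (AX i ⊗ BX j).hom w from congr(($(Over.w (m i j))) w),
      show (AX i ⊗ BX j).hom w = (AX i).hom ((fst (AX i) (BX j)).left w) from congr(($(Over.w (fst (AX i) (BX j)))) w).symm]
    exact (hAle i (Subtype.prop _)).2

end Groth.L08.ActSep
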