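import Groth.Prelude.Def_AlphaP
import Mathlib.Algebra.CharP.Lemmas
import Mathlib.Data.ZMod.Basic
import Mathlib.Algebra.Field.ZMod
import Mathlib.RingTheory.TensorProduct.Basic

/-!
# The linear form dual to `x` on the Hopf algebra of α_p, and its derivation
-/

universe u

open TensorProduct

noncomputable section

namespace Groth.L08.AlphaPBasic

variable (p : ℕ) [hp : Fact p.Prime] (R : Type u) [CommRing R] [CharP R p]

theorem isUnit_natCast {i : ℕ} (h0 : 0 < i) (hi : i < p) : IsUnit (i : R) := by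
  have h : (i : ZMod p) ≠ 0 := by
    rw [Ne, ZMod.natCast_eq_zero_iff]
    exact Nat.not_dvd_of_pos_of_lt h0 hi
  simpa using (isUnit_iff_ne_zero.2 h).map (ZMod.castHom (dvd_refl p) R)

theorem pow_eq (f : AlphaP.A p R) :
    f ^ p = algebraMap R (AlphaP.A p R) (Coalgebra.counit (R := R) f ^ p) := by
  obtain ⟨P, rfl⟩ := AlphaP.mk_surjective p R f
  have hX : AlphaP.mk p R Polynomial.X = AlphaP.x p R := AlphaP.mk_X p R
  haveI : ExpChar (AlphaP.A p R) p := ExpChar.prime hp.out
  haveI : ExpChar R p := ExpChar.prime hp.out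
  induction P using Polynomial.induction_on' with
  | add a b ha hb => simp only [map_add, add_pow_char, ha, hb]
  | monomial n c =>
    rw [← Polynomial.C_mul_X_pow_eq_monomial, map_mul, map_pow, hX, Polynomial.C_eq_algebraMap,
      AlgHom.commutes, mul_pow, ← pow_mul, mul_comm n p, pow_mul, AlphaP.x_pow]
    rcases Nat.eq_zero_or_pos n with rfl | hn
    · simp
    · rw [zero_pow hn.ne', mul_zero, Bialgebra.counit_mul, Bialgebra.counit_pow, AlphaP.counit_x,
        zero_pow hn.ne', mul_zero, zero_pow hp.out.ne_zero, map_zero]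

variable [Nontrivial R]

omit [CharP R p] in
theorem coord_x_pow (i : Fin p) (j : ℕ) :
    (AlphaP.basis p R).coord i (AlphaP.x p R ^ j) = if j = i then 1 else 0 := by
  rcases lt_or_ge j p with hj | hj
  · rw [show AlphaP.x p R ^ j = AlphaP.basis p R ⟨j, hj⟩ by rw [AlphaP.basis_apply],
      Module.Basis.coord_apply, Module.Basis.repr_self, Finsupp.single_apply]
    simp [Fin.ext_iff]
  · rw [AlphaP.x_pow_of_le p R hj, map_zero, if_neg (by omega)]

/-- the coefficient of `x` -/
def δ : AlphaP.A p R →ₗ[R] R := (AlphaP.basis p R).coord ⟨1, hp.out.one_lt⟩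

omit [CharP R p] in
theorem δ_x_pow (i : ℕ) : δ p R (AlphaP.x p R ^ i) = if i = 1 then 1 else 0 :=
  coord_x_pow p R _ i

omit [CharP R p] in
theorem δ_x : δ p R (AlphaP.x p R) = 1 := by
  simpa using δ_x_pow p R 1

omit [CharP R p] in
theorem δ_one : δ p R 1 = 0 := by
  simpa using δ_x_pow p R 0

/-- contraction of the comultiplication with `δ`: the derivation `d/dx` -/
def L : AlphaP.A p R →ₗ[R] AlphaP.A p R :=
  (TensorProduct.lid R (AlphaP.A p R)).toLinearMap ∘ₗ TensorProduct.map (δ p R) LinearMap.id ∘ₗ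
    Coalgebra.comul

theorem L_x_pow (i : ℕ) : L p R (AlphaP.x p R ^ i) = (i : R) • AlphaP.x p R ^ (i - 1) := by
  simp only [L, LinearMap.comp_apply, LinearEquiv.coe_coe]
  rw [Bialgebra.comul_pow, AlphaP.comul_x, add_pow, map_sum, map_sum]
  rw [Finset.sum_congr rfl (g := fun m => (i.choose m : R) •
    ((if m = 1 then (1 : R) else 0) • AlphaP.x p R ^ (i - m)))]
  · rw [Finset.sum_eq_single 1]
    · simp
    · intro b _ hb; simp [hb]
    · intro h
      have : i = 0 := by simp at h; omega
      simp [this]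
  · intro m _
    rw [Algebra.TensorProduct.tmul_pow, Algebra.TensorProduct.tmul_pow, one_pow, one_pow,
      Algebra.TensorProduct.tmul_mul_tmul, one_mul, mul_one, ← map_natCast (algebraMap R
      (AlphaP.A p R ⊗[R] AlphaP.A p R)), ← Algebra.commutes, ← Algebra.smul_def, map_smul, map_smul,
      TensorProduct.map_tmul, TensorProduct.lid_tmul, δ_x_pow]
    rfl

theorem L_pow_x_pow (j i : ℕ) :
    (L p R ^ j) (AlphaP.x p R ^ i) = (i.descFactorial j : R) • AlphaP.x p R ^ (i - j) := by
  induction j with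
  | zero => simp
  | succ j ih =>
    rw [pow_succ', Module.End.mul_apply, ih, map_smul, L_x_pow, smul_smul, Nat.descFactorial_succ,
      Nat.sub_sub]
    push_cast
    ring_nf

theorem L_pow_p : L p R ^ p = 0 := by
  refine (AlphaP.basis p R).ext fun i => ?_
  rw [AlphaP.basis_apply, L_pow_x_pow, Nat.descFactorial_eq_zero_iff_lt.2 i.2]
  simp

theorem isNilpotent_δ_groupLike {y : AlphaP.A p R} (hc : Coalgebra.counit (R := R) y = 1)
    (hy : Coalgebra.comul (R := R) y = y ⊗ₜ[R] y) : IsNilpotent (δ p R y) := by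
  have h : ∀ j, (L p R ^ j) y = δ p R y ^ j • y := by
    intro j
    induction j with
    | zero => simp
    | succ j ih =>
      rw [pow_succ', Module.End.mul_apply, ih, map_smul, pow_succ, ← smul_smul]
      simp [L, hy]
  refine ⟨p, ?_⟩
  have := h p
  rw [L_pow_p, LinearMap.zero_apply] at this
  simpa [hc] using (congrArg (Coalgebra.counit (R := R)) this).symm

theorem primitive_eq {z : AlphaP.A p R}
    (hz : Coalgebra.comul (R := R) z = z ⊗ₜ[R] 1 + 1 ⊗ₜ[R] z) (hc : Coalgebra.counit (R := R) z = 0) :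
    z = δ p R z • AlphaP.x p R := by
  have hL : L p R z = δ p R z • 1 := by simp [L, hz, δ_one]
  set w := z - δ p R z • AlphaP.x p R with hw
  have hw0 : L p R w = 0 := by
    rw [hw, map_sub, map_smul, hL]
    have := L_x_pow p R 1
    simp only [pow_one, Nat.cast_one, one_smul, Nat.sub_self, pow_zero] at this
    rw [this, sub_self]
  have hwc : Coalgebra.counit (R := R) w = 0 := by simp [hw, hc]
  refine sub_eq_zero.1 (?_ : w = 0)
  have hsum := (AlphaP.basis p R).sum_repr w
  have hcoef : ∀ i : Fin p, (i : ℕ) ≠ 0 → (AlphaP.basis p R).repr w i = 0 := by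
    intro i hi
    have h1 : (AlphaP.basis p R).coord ⟨(i : ℕ) - 1, by omega⟩ (L p R w) = 0 := by rw [hw0, map_zero]
    rw [← hsum, map_sum, map_sum, Finset.sum_eq_single i] at h1
    · rw [map_smul, AlphaP.basis_apply, L_x_pow, map_smul, map_smul, coord_x_pow, if_pos rfl,
        smul_eq_mul, smul_eq_mul, mul_one] at h1
      exact (isUnit_natCast p R (by omega) i.2).mul_left_eq_zero.1 h1
    · intro j _ hj
      rw [map_smul, AlphaP.basis_apply, L_x_pow, map_smul, map_smul, coord_x_pow]
      rcases Nat.eq_zero_or_pos (j : ℕ) with h0 | h0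
      · simp [h0]
      · have : (j : ℕ) - 1 ≠ (i : ℕ) - 1 := fun h => hj (Fin.ext (by omega))
        simp [this]
    · intro h; exact absurd (Finset.mem_univ i) h
  have hz0 : (⟨0, hp.out.pos⟩ : Fin p) ∈ Finset.univ := Finset.mem_univ _
  rw [Finset.sum_eq_single_of_mem _ hz0 fun j _ hj => by
    rw [hcoef j (fun h => hj (Fin.ext h)), zero_smul]] at hsum
  rw [AlphaP.basis_apply] at hsum
  simp only [pow_zero] at hsum
  rw [← hsum]
  have := congrArg (Coalgebra.counit (R := R)) hsum
  simp [hwc] at this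
  simp [this]

end Groth.L08.AlphaPBasic
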