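import Groth.Agent.L08.FTDescent
import Groth.Agent.L08.HomLocus

/-!
# A group scheme over a field with a non-empty open locally of finite type is locally of finite type
-/

set_option autoImplicit false
set_option backward.isDefEq.respectTransparency.types false

universe u

open CategoryTheory CategoryTheory.Limits AlgebraicGeometry MonoidalCategory MonObj CartesianMonoidalCategory TensorProduct
open scoped CategoryTheory.Obj

noncomputable section

namespace Groth.L08.GrpLFT

/-- The chart of `X_L` over an affine chart of `X`. -/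
abbrev chart {K : Type u} [Field K] {X : Over (Spec (CommRingCat.of K))} (L : Type u) [Field L] [Algebra K L]
    {C : Type u} [CommRing C] [Algebra K C] (j : Spec (CommRingCat.of C) ⟶ X.left)
    (hj : j ≫ X.hom = Spec.map (CommRingCat.ofHom (algebraMap K C))) :
    Spec (CommRingCat.of (C ⊗[K] L)) ⟶ pullback X.hom (Spec.map (CommRingCat.ofHom (algebraMap K L))) :=
  (pullbackSpecIso K C L).inv ≫ pullback.map _ _ _ _ j (𝟙 _) (𝟙 _) (by rw [Category.comp_id, hj]) (by simp)

variable {K : Type u} [Field K] {X : Over (Spec (CommRingCat.of K))} {L : Type u} [Field L] [Algebra K L]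
  {C : Type u} [CommRing C] [Algebra K C] {j : Spec (CommRingCat.of C) ⟶ X.left}
  (hj : j ≫ X.hom = Spec.map (CommRingCat.ofHom (algebraMap K C)))

theorem chart_fst : chart L j hj ≫ pullback.fst _ _ =
    Spec.map (CommRingCat.ofHom Algebra.TensorProduct.includeLeftRingHom) ≫ j := by
  rw [Category.assoc, pullback.lift_fst, ← Category.assoc, pullbackSpecIso_inv_fst]

theorem chart_snd : chart L j hj ≫ pullback.snd _ _ =
    Spec.map (CommRingCat.ofHom (Algebra.TensorProduct.includeRight : L →ₐ[K] C ⊗[K] L).toRingHom) := by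
  rw [Category.assoc, pullback.lift_snd, Category.comp_id, pullbackSpecIso_inv_snd]
  rfl

theorem mem_range_chart {z : ↥(pullback X.hom (Spec.map (CommRingCat.ofHom (algebraMap K L))))}
    (hz : pullback.fst X.hom (Spec.map (CommRingCat.ofHom (algebraMap K L))) z ∈ Set.range j) :
    z ∈ Set.range (chart L j hj) := by
  rw [Scheme.Hom.comp_base, TopCat.coe_comp, Set.range_comp,
    (pullbackSpecIso K C L).inv.surjective.range_eq, Set.image_univ, Scheme.Pullback.range_map]
  exact ⟨hz, ⟨_, rfl⟩⟩

/-- Being locally of finite type descends pointwise along field extensions. -/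
theorem exists_lft_nhd {v : ↥(pullback X.hom (Spec.map (CommRingCat.ofHom (algebraMap K L))))}
    (V : (pullback X.hom (Spec.map (CommRingCat.ofHom (algebraMap K L)))).Opens) (hv : v ∈ V)
    (hV : LocallyOfFiniteType (V.ι ≫ pullback.snd _ _)) :
    ∃ O : X.left.Opens, pullback.fst X.hom (Spec.map (CommRingCat.ofHom (algebraMap K L))) v ∈ O ∧
      LocallyOfFiniteType (O.ι ≫ X.hom) := by
  let x := pullback.fst X.hom (Spec.map (CommRingCat.ofHom (algebraMap K L))) v
  obtain ⟨_, ⟨U, hU, rfl⟩, hxU, -⟩ := X.left.isBasis_affineOpens.exists_subset_of_mem_open (Set.mem_univ x) isOpen_univ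
  obtain ⟨α, hα⟩ := Spec.map_surjective (hU.fromSpec ≫ X.hom)
  letI := α.hom.toAlgebra
  have hj : hU.fromSpec ≫ X.hom = Spec.map (CommRingCat.ofHom (algebraMap K Γ(X.left, U))) := hα.symm
  let g := chart L hU.fromSpec hj
  obtain ⟨w, hw⟩ := mem_range_chart hj (L := L) (z := v) (by rw [hU.range_fromSpec]; exact hxU)
  obtain ⟨_, ⟨b, rfl⟩, hwb, hbV⟩ := PrimeSpectrum.isTopologicalBasis_basic_opens.exists_subset_of_mem_open
    (show w ∈ g ⁻¹' (V : Set _) by show g w ∈ V; rw [hw]; exact hv) (V.2.preimage g.continuous)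
  let cm := PrimeSpectrum.comap (algebraMap Γ(X.left, U) (Γ(X.left, U) ⊗[K] L))
  have hopen : IsOpen (cm '' (PrimeSpectrum.basicOpen b : Set _)) :=
    PrimeSpectrum.isOpenMap_comap_algebraMap_tensorProduct_of_field _ (PrimeSpectrum.basicOpen b).2
  obtain ⟨_, ⟨h, rfl⟩, hwh, hh⟩ := PrimeSpectrum.isTopologicalBasis_basic_opens.exists_subset_of_mem_open
    (⟨w, hwb, rfl⟩ : cm w ∈ cm '' (PrimeSpectrum.basicOpen b : Set _)) hopen
  let C' := Localization.Away h
  let j' : Spec (CommRingCat.of C') ⟶ X.left :=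
    Spec.map (CommRingCat.ofHom (algebraMap Γ(X.left, U) C')) ≫ hU.fromSpec
  have hj' : j' ≫ X.hom = Spec.map (CommRingCat.ofHom (algebraMap K C')) := by
    rw [Category.assoc, hj, ← Spec.map_comp, ← CommRingCat.ofHom_comp, ← IsScalarTower.algebraMap_eq]
  let k : Γ(X.left, U) ⊗[K] L →ₐ[K] C' ⊗[K] L :=
    Algebra.TensorProduct.map (IsScalarTower.toAlgHom K Γ(X.left, U) C') (AlgHom.id K L)
  let g' := chart L j' hj'
  have hg : Spec.map (CommRingCat.ofHom k.toRingHom) ≫ g = g' := by
    apply pullback.hom_ext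
    · rw [Category.assoc, chart_fst, chart_fst, ← Category.assoc, ← Spec.map_comp, ← CommRingCat.ofHom_comp]
      rw [← Category.assoc, ← Spec.map_comp, ← CommRingCat.ofHom_comp]
      congr 2
    · rw [Category.assoc, chart_snd, chart_snd, ← Spec.map_comp, ← CommRingCat.ofHom_comp]
      congr 2
      ext l
      show k (1 ⊗ₜ l) = 1 ⊗ₜ l
      simp [k]
  let D := Localization.Away (k b)
  let p : Spec (CommRingCat.of D) ⟶ Spec (CommRingCat.of (C' ⊗[K] L)) :=
    Spec.map (CommRingCat.ofHom (algebraMap _ D))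
  haveI : IsOpenImmersion p := IsOpenImmersion.of_isLocalization (k b)
  haveI : IsOpenImmersion j' := by
    have := IsOpenImmersion.of_isLocalization (S := C') h
    infer_instance
  have hrange : Set.range (p ≫ g') ⊆ Set.range V.ι := by
    rintro _ ⟨z, rfl⟩
    rw [Scheme.Opens.range_ι]
    refine (?_ : g' (p z) ∈ V)
    rw [← hg]
    refine hbV ?_
    show k b ∉ (p z).asIdeal
    intro hc
    exact z.2.ne_top (Ideal.eq_top_of_isUnit_mem _ (show algebraMap _ D (k b) ∈ z.asIdeal from hc)
      (IsLocalization.Away.algebraMap_isUnit (k b)))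
  have hft : LocallyOfFiniteType (p ≫ g' ≫ pullback.snd _ _) := by
    rw [← Category.assoc, ← IsOpenImmersion.lift_fac V.ι (p ≫ g') hrange, Category.assoc]
    infer_instance
  rw [chart_snd, ← Spec.map_comp, ← CommRingCat.ofHom_comp] at hft
  have hD := (HasRingHomProperty.Spec_iff (P := @LocallyOfFiniteType)).mp hft
  have hsurj : Function.Surjective (PrimeSpectrum.comap (FTDescent.fromC (K := K) (L := L) (C := C') (D := D))) := by
    intro y
    have hy : PrimeSpectrum.comap (algebraMap Γ(X.left, U) C') y ∈ (PrimeSpectrum.basicOpen h : Set _) := by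
      rw [← PrimeSpectrum.localization_away_comap_range C' h]; exact ⟨y, rfl⟩
    obtain ⟨w', hw'b, hw'⟩ := hh hy
    have hin : pullback.fst X.hom (Spec.map (CommRingCat.ofHom (algebraMap K L))) (g w') ∈ Set.range j' := by
      refine ⟨y, ?_⟩
      show hU.fromSpec (PrimeSpectrum.comap (algebraMap Γ(X.left, U) C') y) = _
      rw [← hw']
      exact (congr(($(chart_fst (L := L) hj)) w')).symm
    obtain ⟨z, hz⟩ := mem_range_chart hj' (L := L) hin
    have hkz : PrimeSpectrum.comap k.toRingHom z = w' := by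
      apply g.isOpenEmbedding.injective
      refine Eq.trans ?_ hz
      exact congr(($hg) z)
    have hzb : z ∈ Set.range (PrimeSpectrum.comap (algebraMap (C' ⊗[K] L) D)) := by
      rw [PrimeSpectrum.localization_away_comap_range D (k b)]
      show b ∉ (PrimeSpectrum.comap k.toRingHom z).asIdeal
      rw [hkz]; exact hw'b
    obtain ⟨r, hr⟩ := hzb
    refine ⟨r, ?_⟩
    apply (PrimeSpectrum.localization_comap_injective C' (Submonoid.powers h))
    refine Eq.trans ?_ hw'
    rw [← hkz]
    show PrimeSpectrum.comap (algebraMap Γ(X.left, U) C')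
      (PrimeSpectrum.comap Algebra.TensorProduct.includeLeftRingHom (PrimeSpectrum.comap (algebraMap (C' ⊗[K] L) D) r)) =
      PrimeSpectrum.comap Algebra.TensorProduct.includeLeftRingHom (PrimeSpectrum.comap k.toRingHom z)
    rw [hr, ← PrimeSpectrum.comap_comp_apply, ← PrimeSpectrum.comap_comp_apply]
    congr 1
  haveI := FTDescent.finiteType_of_away (K := K) (L := L) (C := C') (D := D) (k b) hD hsurj
  refine ⟨j'.opensRange, ?_, ?_⟩
  · obtain ⟨y, hy⟩ : cm w ∈ Set.range (PrimeSpectrum.comap (algebraMap Γ(X.left, U) C')) := by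
      rw [PrimeSpectrum.localization_away_comap_range C' h]; exact hwh
    refine ⟨y, ?_⟩
    show hU.fromSpec (PrimeSpectrum.comap (algebraMap Γ(X.left, U) C') y) = _
    rw [hy, ← hw]
    exact (congr(($(chart_fst (L := L) hj)) w)).symm
  · have hf : LocallyOfFiniteType (j' ≫ X.hom) := by
      rw [hj']
      exact (HasRingHomProperty.Spec_iff (P := @LocallyOfFiniteType)).mpr (RingHom.finiteType_algebraMap.mpr ‹_›)
    rw [← MorphismProperty.cancel_left_of_respectsIso @LocallyOfFiniteType (j'.isoOpensRange).hom, ← Category.assoc,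
      Scheme.Hom.isoOpensRange_hom_ι]
    exact hf

open Groth.L08.ProfiniteImage in
/-- A group scheme over a field with a non-empty open locally of finite type is locally of finite type. -/
theorem locallyOfFiniteType_of_open {K : Type u} [Field K] (G : Over (Spec (CommRingCat.of K))) [GrpObj G]
    (W : G.left.Opens) (hW : (W : Set G.left).Nonempty) [LocallyOfFiniteType (W.ι ≫ G.hom)] :
    LocallyOfFiniteType G.hom := by
  refine Groth.L05.Point.of_forall_nhd (P := @LocallyOfFiniteType) fun g => ?_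
  obtain ⟨φ, hφ⟩ := Spec.map_surjective (G.left.fromSpecResidueField g ≫ G.hom)
  let L := AlgebraicClosure (G.left.residueField g)
  let ε : G.left.residueField g ⟶ CommRingCat.of L :=
    CommRingCat.ofHom (algebraMap (G.left.residueField g) L)
  letI : Algebra K L := (φ ≫ ε).hom.toAlgebra
  let t : Spec (CommRingCat.of L) ⟶ Spec (CommRingCat.of K) := Spec.map (CommRingCat.ofHom (algebraMap K L))
  let pt' : Spec (CommRingCat.of L) ⟶ pullback G.hom t :=
    pullback.lift (Spec.map ε ≫ G.left.fromSpecResidueField g) (𝟙 _)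
      (by rw [Category.assoc, ← hφ, Category.id_comp]; exact (Spec.map_comp φ ε).symm)
  let G' : Over (Spec (CommRingCat.of L)) := Red.bc t G
  letI : GrpObj G' := inferInstanceAs (GrpObj (Red.bc t G))
  let sg : 𝟙_ (Over (Spec (CommRingCat.of L))) ⟶ G' := Over.homMk pt' (pullback.lift_snd _ _ _)
  haveI : Surjective t := ⟨fun x => ⟨IsLocalRing.closedPoint L, Subsingleton.elim (α := PrimeSpectrum K) _ _⟩⟩
  haveI : Surjective (pullback.fst G.hom t) := MorphismProperty.pullback_fst G.hom t ‹Surjective t›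
  let W' : G'.left.Opens := pullback.fst G.hom t ⁻¹ᵁ W
  have hW' : (W' : Set G'.left).Nonempty := by
    obtain ⟨x, hx⟩ := hW
    obtain ⟨z, hz⟩ := (pullback.fst G.hom t).surjective x
    exact ⟨z, show pullback.fst G.hom t z ∈ W from hz ▸ hx⟩
  haveI hft : LocallyOfFiniteType (W'.ι ≫ G'.hom) :=
    MorphismProperty.of_isPullback
      ((isPullback_morphismRestrict (pullback.fst G.hom t) W).paste_vert (IsPullback.of_hasPullback G.hom t))
      ‹LocallyOfFiniteType (W.ι ≫ G.hom)›
  haveI := LocallyOfFiniteType.jacobsonSpace (W'.ι ≫ G'.hom)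
  haveI : Nonempty W'.toScheme := hW'.to_subtype
  obtain ⟨x, -, hx⟩ := nonempty_inter_closedPoints (Z := (Set.univ : Set W'.toScheme)) Set.univ_nonempty
    isOpen_univ.isLocallyClosed
  let px := (pointEquivClosedPoint (W'.ι ≫ G'.hom)).symm ⟨x, hx⟩
  let sx : 𝟙_ (Over (Spec (CommRingCat.of L))) ⟶ G' := Over.homMk (px.1 ≫ W'.ι) (by rw [Category.assoc]; exact px.2)
  have hsx : pt sx ∈ W' := by
    rw [← SetLike.mem_coe, ← Scheme.Opens.range_ι]
    exact ⟨_, rfl⟩
  let r := (rt (sg⁻¹ * sx)).left
  haveI : IsIso r := isIso_rt _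
  have hgW : pt sg ∈ r ⁻¹ᵁ W' := by
    show r (pt sg) ∈ W'
    rw [pt_rt, mul_inv_cancel_left]
    exact hsx
  have hV : LocallyOfFiniteType ((r ⁻¹ᵁ W').ι ≫ G'.hom) := by
    rw [← Over.w (rt (sg⁻¹ * sx)), ← Category.assoc, ← morphismRestrict_ι, Category.assoc]
    infer_instance
  obtain ⟨O, hgO, hO⟩ := exists_lft_nhd (r ⁻¹ᵁ W') hgW hV
  refine ⟨O, ?_, hO⟩
  have e0 : pt' ≫ pullback.fst G.hom t = Spec.map ε ≫ G.left.fromSpecResidueField g := pullback.lift_fst _ _ _
  have e : pullback.fst G.hom t (pt sg) = g :=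
    (congr(($e0) _)).trans (Scheme.fromSpecResidueField_apply g _)
  exact e ▸ hgO

end Groth.L08.GrpLFT
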