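import Groth.Agent.L08.ArtinLiftScheme
import Groth.Agent.L08.GrpLFT

/-!
# Homomorphisms of group schemes over an artinian local base: spreading from an open
-/

set_option autoImplicit false
set_option backward.isDefEq.respectTransparency.types false

universe u

open CategoryTheory CategoryTheory.Limits AlgebraicGeometry MonoidalCategory MonObj CartesianMonoidalCategory IsLocalRing
open scoped CategoryTheory.Obj

noncomputable section

namespace Groth.L08.ArtinGroup

variable {A : CommRingCat.{u}} [IsArtinianRing A] [IsLocalRing A]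

theorem isNilpotent_maximal : IsNilpotent (maximalIdeal A) := by
  rw [← jacobson_eq_maximalIdeal ⊥ bot_ne_top]
  exact IsArtinianRing.isNilpotent_jacobson_bot

theorem surjective_red : Surjective (ArtinLift.red (maximalIdeal A)) :=
  ⟨fun x => ⟨IsLocalRing.closedPoint (ResidueField A), Subsingleton.elim (α := PrimeSpectrum A) _ _⟩⟩

/-- A local descending property of a homomorphism on a non-empty open holds on the closed fibre. -/
theorem red_of_open {P : MorphismProperty Scheme.{u}} [IsZariskiLocalAtSource P] [P.IsStableUnderBaseChange]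
    [P.DescendsAlong (@Surjective ⊓ @Flat ⊓ @QuasiCompact)] {G H : Over (Spec A)} [GrpObj G] [GrpObj H]
    [LocallyOfFiniteType G.hom] (u : G ⟶ H) [IsMonHom u] (W : G.left.Opens) (hW : (W : Set G.left).Nonempty)
    (hP : P (W.ι ≫ u.left)) : P ((Over.pullback (ArtinLift.red (maximalIdeal A))).map u).left := by
  let t := ArtinLift.red (maximalIdeal A)
  letI : Field (A ⧸ maximalIdeal A) := Ideal.Quotient.field _
  let G' : Over (Spec (CommRingCat.of (A ⧸ maximalIdeal A))) := Red.bc t G
  let H' : Over (Spec (CommRingCat.of (A ⧸ maximalIdeal A))) := Red.bc t H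
  letI : GrpObj G' := inferInstanceAs (GrpObj (Red.bc t G))
  letI : GrpObj H' := inferInstanceAs (GrpObj (Red.bc t H))
  haveI : LocallyOfFiniteType G'.hom := inferInstanceAs (LocallyOfFiniteType (pullback.snd G.hom t))
  let u' : G' ⟶ H' := (Over.pullback t).map u
  haveI : IsMonHom u' := Functor.map.instIsMonHom (F := Over.pullback t) (f := u)
  haveI : Surjective t := surjective_red
  haveI : Surjective (pullback.fst G.hom t) := MorphismProperty.pullback_fst G.hom t ‹Surjective t›
  let W' : G'.left.Opens := pullback.fst G.hom t ⁻¹ᵁ W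
  have hW' : (W' : Set G'.left).Nonempty := by
    obtain ⟨x, hx⟩ := hW
    obtain ⟨z, hz⟩ := (pullback.fst G.hom t).surjective x
    exact ⟨z, show pullback.fst G.hom t z ∈ W from hz ▸ hx⟩
  exact HomLocus.of_open u' W' hW'
    (MorphismProperty.of_isPullback
      ((isPullback_morphismRestrict (pullback.fst G.hom t) W).paste_vert (HomLocus.isPullback_bc t u)) hP)

/-- A group scheme over an artinian local ring with a non-empty open locally of finite type is so. -/
theorem lft_of_open (G : Over (Spec A)) [GrpObj G] (W : G.left.Opens) (hW : (W : Set G.left).Nonempty)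
    [LocallyOfFiniteType (W.ι ≫ G.hom)] : LocallyOfFiniteType G.hom := by
  let t := ArtinLift.red (maximalIdeal A)
  letI : Field (A ⧸ maximalIdeal A) := Ideal.Quotient.field _
  let G' : Over (Spec (CommRingCat.of (A ⧸ maximalIdeal A))) := Red.bc t G
  letI : GrpObj G' := inferInstanceAs (GrpObj (Red.bc t G))
  haveI : Surjective t := surjective_red
  haveI : Surjective (pullback.fst G.hom t) := MorphismProperty.pullback_fst G.hom t ‹Surjective t›
  let W' : G'.left.Opens := pullback.fst G.hom t ⁻¹ᵁ W
  have hW' : (W' : Set G'.left).Nonempty := by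
    obtain ⟨x, hx⟩ := hW
    obtain ⟨z, hz⟩ := (pullback.fst G.hom t).surjective x
    exact ⟨z, show pullback.fst G.hom t z ∈ W from hz ▸ hx⟩
  haveI : LocallyOfFiniteType (W'.ι ≫ G'.hom) :=
    MorphismProperty.of_isPullback
      ((isPullback_morphismRestrict (pullback.fst G.hom t) W).paste_vert (IsPullback.of_hasPullback G.hom t))
      ‹LocallyOfFiniteType (W.ι ≫ G.hom)›
  have h := GrpLFT.locallyOfFiniteType_of_open G' W' hW'
  have h' : LocallyOfFiniteType ((Over.pullback t).map (toUnit G)).left := by
    haveI : LocallyOfFiniteType (((Over.pullback t).map (toUnit G)).left ≫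
        ((Over.pullback t).obj (𝟙_ (Over (Spec A)))).hom) := by
      rw [Over.w]; exact h
    exact locallyOfFiniteType_of_comp _ ((Over.pullback t).obj (𝟙_ (Over (Spec A)))).hom
  have h'' := ArtinLift.locallyOfFiniteType isNilpotent_maximal (toUnit G) h'
  rw [← Over.w (toUnit G)]
  haveI : IsIso (𝟙_ (Over (Spec A))).hom := inferInstanceAs (IsIso (𝟙 (Spec A)))
  infer_instance

end Groth.L08.ArtinGroup
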