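import Groth.Agent.L20.ThickeningDescent
import Groth.Agent.L07.TransFibre
import Groth.Agent.L20.Nilpotent
import Groth.Agent.L20.FibreStalk
import Mathlib.RingTheory.FinitePresentation

/-!
# Lifting finite presentation and flatness along nilpotent thickenings of the base
-/

set_option autoImplicit false
set_option backward.isDefEq.respectTransparency.types false

universe u

open TensorProduct

noncomputable section

namespace Groth.L08.ArtinLift

theorem fg_of_le_sup_smul {P : Type u} [CommRing P] {K J G : Ideal P} (hK : IsNilpotent K) (hG : G ≤ J)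
    (h : J ≤ G ⊔ K • J) : J = G := by
  refine le_antisymm ?_ hG
  obtain ⟨m, hm⟩ := hK
  suffices ∀ i, J ≤ G ⊔ K ^ i • J by
    have := this m
    rwa [hm, Ideal.zero_eq_bot, Submodule.bot_smul, sup_bot_eq] at this
  intro i
  induction i with
  | zero => simp
  | succ i ih =>
    refine ih.trans (sup_le le_sup_left ?_)
    calc K ^ i • J ≤ K ^ i • (G ⊔ K • J) := Submodule.smul_mono le_rfl h
      _ = K ^ i • G ⊔ K ^ (i + 1) • J := by rw [Submodule.smul_sup, pow_succ, Submodule.mul_smul]
      _ ≤ G ⊔ K ^ (i + 1) • J := sup_le_sup Submodule.smul_le_right le_rfl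

variable (A : Type u) {B C : Type u} [CommRing A] [CommRing B] [CommRing C] [Algebra A B] [Algebra B C]
  [Algebra A C] [IsScalarTower A B C]

theorem finiteType_of_quotient (n : Ideal A) (hn : IsNilpotent n)
    (h : Algebra.FiniteType (B ⧸ n.map (algebraMap A B)) (C ⧸ (n.map (algebraMap A B)).map (algebraMap B C))) :
    Algebra.FiniteType B C := by
  let I := n.map (algebraMap A B)
  refine Groth.L20.Thick.finiteType_of_baseChange (A₀ := B ⧸ I) Ideal.Quotient.mk_surjective ?_ ?_
  · rw [Ideal.Quotient.algebraMap_eq, Ideal.mk_ker]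
    obtain ⟨m, hm⟩ := hn
    exact ⟨m, by rw [← Ideal.map_pow, hm]; exact Ideal.map_bot⟩
  · exact Algebra.FiniteType.equiv h (Algebra.TensorProduct.quotIdealMapEquivQuotTensor C I)

theorem finitePresentation_of_quotient (n : Ideal A) (hn : IsNilpotent n) [Module.Flat A C]
    (h : Algebra.FinitePresentation (B ⧸ n.map (algebraMap A B))
      (C ⧸ (n.map (algebraMap A B)).map (algebraMap B C))) : Algebra.FinitePresentation B C := by
  classical
  let I := n.map (algebraMap A B)
  let Cb := C ⧸ I.map (algebraMap B C)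
  haveI := h
  have hft := finiteType_of_quotient A n hn (B := B) (C := C) inferInstance
  obtain ⟨d, f, hf⟩ := Algebra.FiniteType.iff_quotient_mvPolynomial''.mp hft
  let P := MvPolynomial (Fin d) B
  letI : Algebra P C := f.toRingHom.toAlgebra
  haveI : IsScalarTower A P C := IsScalarTower.of_algebraMap_eq fun a => by
    show _ = f (algebraMap A P a)
    rw [IsScalarTower.algebraMap_apply A B P, f.commutes, ← IsScalarTower.algebraMap_apply]
  let K := n.map (algebraMap A P)
  let ψ : P →+* MvPolynomial (Fin d) (B ⧸ I) := MvPolynomial.map (Ideal.Quotient.mk I)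
  have hψ : Function.Surjective ψ := MvPolynomial.map_surjective _ Ideal.Quotient.mk_surjective
  have hKψ : RingHom.ker ψ = K := by
    rw [MvPolynomial.ker_map, Ideal.mk_ker]
    simp only [I, K, Ideal.map_map]
    rfl
  let fb : MvPolynomial (Fin d) (B ⧸ I) →ₐ[B ⧸ I] Cb :=
    MvPolynomial.aeval fun i => Ideal.Quotient.mk _ (f (MvPolynomial.X i))
  have hcomm : fb.toRingHom.comp ψ = (Ideal.Quotient.mk _).comp f.toRingHom := by
    refine MvPolynomial.ringHom_ext (fun b => ?_) fun i => ?_
    · show fb (ψ (MvPolynomial.C b)) = Ideal.Quotient.mk _ (f (MvPolynomial.C b))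
      rw [show f (MvPolynomial.C b) = algebraMap B C b from f.commutes b,
        show ψ (MvPolynomial.C b) = MvPolynomial.C (Ideal.Quotient.mk I b) from MvPolynomial.map_C _ _]
      exact (MvPolynomial.aeval_C _ _).trans rfl
    · show fb (ψ (MvPolynomial.X i)) = Ideal.Quotient.mk _ (f (MvPolynomial.X i))
      rw [show ψ (MvPolynomial.X i) = MvPolynomial.X i from MvPolynomial.map_X _ _]
      exact MvPolynomial.aeval_X _ _
  have hc' : ∀ p, fb (ψ p) = Ideal.Quotient.mk _ (f p) := fun p => RingHom.congr_fun hcomm p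
  have hfb : Function.Surjective fb := fun c => by
    obtain ⟨c, rfl⟩ := Ideal.Quotient.mk_surjective c
    obtain ⟨p, rfl⟩ := hf c
    exact ⟨ψ p, hc' p⟩
  obtain ⟨s, hs⟩ := Algebra.FinitePresentation.ker_fg_of_mvPolynomial fb hfb
  let J := RingHom.ker f.toRingHom
  have hKC : I.map (algebraMap B C) = K.map f.toRingHom := by
    simp only [I, K, Ideal.map_map]
    congr 1
    exact RingHom.ext fun a => (f.commutes (algebraMap A B a)).symm
  have hlift : ∀ z ∈ s, ∃ q ∈ J, ψ q = z := by
    intro z hz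
    obtain ⟨p, rfl⟩ := hψ z
    have hz' : fb (ψ p) = 0 := (hs ▸ Ideal.subset_span hz : ψ p ∈ RingHom.ker fb.toRingHom)
    rw [hc', Ideal.Quotient.eq_zero_iff_mem, hKC] at hz'
    obtain ⟨q, hq, hqp⟩ := (Ideal.mem_map_iff_of_surjective f.toRingHom hf).mp hz'
    have hq' : ψ q = 0 := RingHom.mem_ker.mp (hKψ ▸ hq)
    exact ⟨p - q, by rw [RingHom.mem_ker, map_sub]; exact sub_eq_zero.2 hqp.symm,
      by rw [map_sub, hq', sub_zero]⟩
  choose q hq hqz using hlift
  let G : Ideal P := Ideal.span (s.attach.image fun z => q z.1 z.2 : Finset P)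
  have hG : G ≤ J := Ideal.span_le.2 fun x hx => by
    obtain ⟨z, -, rfl⟩ := Finset.mem_image.1 hx
    exact hq z.1 z.2
  have hJ : J ≤ G ⊔ K • J := by
    intro x hx
    have h1 : ψ x ∈ G.map ψ := by
      have h2 : ψ x ∈ Ideal.span (s : Set (MvPolynomial (Fin d) (B ⧸ I))) := by
        rw [show Ideal.span (s : Set (MvPolynomial (Fin d) (B ⧸ I))) = RingHom.ker fb.toRingHom from hs]
        show fb (ψ x) = 0
        rw [hc', show f x = 0 from hx, map_zero]
      refine Ideal.span_le.2 (fun z hz => ?_) h2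
      rw [SetLike.mem_coe, ← hqz z hz]
      exact Ideal.mem_map_of_mem _ (Ideal.subset_span (Finset.mem_image.2 ⟨⟨z, hz⟩, Finset.mem_attach _ _, rfl⟩))
    obtain ⟨g, hg, hgx⟩ := (Ideal.mem_map_iff_of_surjective ψ hψ).mp h1
    rw [show x = g + (x - g) by ring]
    refine Submodule.add_mem_sup hg ?_
    refine Groth.L07.TransFibre.mem_smul_of_flat A P C hf n (x - g) ?_ (sub_mem hx (hG hg))
    show x - g ∈ K
    rw [← hKψ, RingHom.mem_ker, map_sub, hgx, sub_self]
  refine Algebra.FinitePresentation.of_surjective hf ?_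
  rw [fg_of_le_sup_smul (J := RingHom.ker f.toRingHom) ?_ hG hJ]
  · exact ⟨_, rfl⟩
  · obtain ⟨m, hm⟩ := hn
    exact ⟨m, by rw [← Ideal.map_pow, hm]; exact Ideal.map_bot⟩

theorem flat_of_quotient {M : Type u} [AddCommGroup M] [Module A M] [Module B M] [IsScalarTower A B M]
    [Module.Flat A M] (n : Ideal A) (hn : IsNilpotent n)
    [Module.Flat (B ⧸ n.map (algebraMap A B)) ((B ⧸ n.map (algebraMap A B)) ⊗[B] M)] : Module.Flat B M := by
  refine Groth.L20.flat_of_nilpotent (n.map (algebraMap A B)) ?_ fun j => ?_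
  · obtain ⟨m, hm⟩ := hn
    exact ⟨m, by rw [← Ideal.map_pow, hm]; exact Ideal.map_bot⟩
  · rw [← Ideal.map_pow]
    exact Groth.L20.rTensor_map_injective_of_flat (n ^ j)

end Groth.L08.ArtinLift

namespace Groth.L08.ArtinLift

section Rings

variable {A : Type u} {B C : Type u} [CommRing A] [CommRing B] [CommRing C] [Algebra A B] [Algebra B C]
  [Algebra A C] [IsScalarTower A B C] (n : Ideal A) (hn : IsNilpotent n)

include hn

theorem map_le_prime (p : Ideal B) [p.IsPrime] : n.map (algebraMap A B) ≤ p := by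
  intro x hx
  obtain ⟨m, hm⟩ := hn
  refine ‹p.IsPrime›.mem_of_pow_mem m ?_
  have h := Ideal.pow_mem_pow hx m
  rw [← Ideal.map_pow, hm, Ideal.zero_eq_bot, Ideal.map_bot, Ideal.mem_bot] at h
  rw [h]
  exact p.zero_mem

/-- Fibres only see the reduction. -/
theorem exists_fibreEquiv (p : Ideal B) [p.IsPrime] :
    ∃ (_ : Algebra (B ⧸ n.map (algebraMap A B)) p.ResidueField)
      (_ : IsScalarTower B (B ⧸ n.map (algebraMap A B)) p.ResidueField),
      Nonempty (p.Fiber C ≃ₐ[p.ResidueField]
        p.ResidueField ⊗[B ⧸ n.map (algebraMap A B)] ((B ⧸ n.map (algebraMap A B)) ⊗[B] C)) := by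
  let f : B ⧸ n.map (algebraMap A B) →+* p.ResidueField :=
    Ideal.Quotient.lift _ (algebraMap B p.ResidueField) fun x hx =>
      Ideal.algebraMap_residueField_eq_zero.2 (map_le_prime n hn p hx)
  letI := f.toAlgebra
  haveI : IsScalarTower B (B ⧸ n.map (algebraMap A B)) p.ResidueField := IsScalarTower.of_algebraMap_eq fun _ => rfl
  exact ⟨inferInstance, inferInstance, ⟨(Algebra.TensorProduct.cancelBaseChange _ _ _ _ _).symm⟩⟩

theorem quasiFinite_of_quotient
    (h : Algebra.QuasiFinite (B ⧸ n.map (algebraMap A B)) ((B ⧸ n.map (algebraMap A B)) ⊗[B] C)) :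
    Algebra.QuasiFinite B C := by
  refine ⟨fun p hp => ?_⟩
  obtain ⟨_, _, ⟨e⟩⟩ := exists_fibreEquiv n hn (C := C) p
  haveI := h
  haveI : Algebra.QuasiFinite p.ResidueField
      (p.ResidueField ⊗[B ⧸ n.map (algebraMap A B)] ((B ⧸ n.map (algebraMap A B)) ⊗[B] C)) := inferInstance
  haveI : Algebra.QuasiFinite p.ResidueField (p.Fiber C) := .of_surjective_algHom (S := (p.ResidueField ⊗[B ⧸ n.map (algebraMap A B)] ((B ⧸ n.map (algebraMap A B)) ⊗[B] C))) e.symm.toAlgHom e.symm.surjective
  exact Module.Finite.of_quasiFinite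

theorem smooth_of_quotient [Module.Flat A C]
    (h : Algebra.Smooth (B ⧸ n.map (algebraMap A B)) ((B ⧸ n.map (algebraMap A B)) ⊗[B] C)) :
    Algebra.Smooth B C := by
  haveI := h
  haveI := finitePresentation_of_quotient A n hn (B := B) (C := C)
    (Algebra.FinitePresentation.equiv (Algebra.TensorProduct.quotIdealMapEquivQuotTensor C _).symm)
  haveI : Module.Flat B C := flat_of_quotient A n hn
  refine Algebra.Smooth.of_formallySmooth_fiber fun p hp => ?_
  obtain ⟨_, _, ⟨e⟩⟩ := exists_fibreEquiv n hn (C := C) p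
  exact Algebra.FormallySmooth.of_equiv (A := (p.ResidueField ⊗[B ⧸ n.map (algebraMap A B)] ((B ⧸ n.map (algebraMap A B)) ⊗[B] C))) e.symm

end Rings

end Groth.L08.ArtinLift
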