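import Groth.Agent.L08.ArtinLift
import Groth.Agent.L08.HomLocus
import Mathlib.RingTheory.Kaehler.TensorProduct
import Mathlib.AlgebraicGeometry.Morphisms.FormallyUnramified
import Mathlib.AlgebraicGeometry.Morphisms.QuasiFinite
import Mathlib.AlgebraicGeometry.Morphisms.Etale

/-!
# Lifting properties of morphisms along nilpotent thickenings of the base
-/

set_option autoImplicit false
set_option backward.isDefEq.respectTransparency.types false

universe u

open CategoryTheory CategoryTheory.Limits AlgebraicGeometry TensorProduct Opposite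

noncomputable section

namespace Groth.L08.ArtinLift

theorem formallyUnramified_of_quotient {A B C : Type u} [CommRing A] [CommRing B] [CommRing C] [Algebra A B]
    [Algebra B C] (n : Ideal A) (hn : IsNilpotent n)
    (h : Algebra.FormallyUnramified (B ⧸ n.map (algebraMap A B)) ((B ⧸ n.map (algebraMap A B)) ⊗[B] C)) :
    Algebra.FormallyUnramified B C := by
  let I := n.map (algebraMap A B)
  refine ⟨?_⟩
  haveI := h
  letI := Algebra.TensorProduct.rightAlgebra (R := B) (A := B ⧸ I) (B := C)
  let e := KaehlerDifferential.tensorKaehlerEquivBase B (B ⧸ I) C ((B ⧸ I) ⊗[B] C)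
  haveI : Subsingleton ((B ⧸ I) ⊗[B] Ω[C⁄B]) := e.toEquiv.subsingleton
  have h1 : Subsingleton (Ω[C⁄B] ⧸ I • (⊤ : Submodule B Ω[C⁄B])) :=
    (TensorProduct.quotTensorEquivQuotSMul _ I).symm.toEquiv.subsingleton
  have h2 : I • (⊤ : Submodule B Ω[C⁄B]) = ⊤ := Submodule.Quotient.subsingleton_iff.1 h1
  have h3 : ∀ i : ℕ, I ^ i • (⊤ : Submodule B Ω[C⁄B]) = ⊤ := by
    intro i
    induction i with
    | zero => simp
    | succ i ih => rw [pow_succ, Submodule.mul_smul, h2, ih]
  obtain ⟨m, hm⟩ := hn
  have h4 := h3 m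
  rw [← Ideal.map_pow, hm, Ideal.zero_eq_bot, Ideal.map_bot, Submodule.bot_smul] at h4
  exact Submodule.subsingleton_iff B |>.mp (subsingleton_of_bot_eq_top h4)

/-- The reduction of `X` modulo `n`. -/
abbrev red {A : CommRingCat.{u}} (n : Ideal A) : Spec (CommRingCat.of (A ⧸ n)) ⟶ Spec A :=
  Spec.map (CommRingCat.ofHom (Ideal.Quotient.mk n))

theorem ringHom_quotient {P : MorphismProperty Scheme.{u}}
    {Q : ∀ {R S : Type u} [CommRing R] [CommRing S], (R →+* S) → Prop} [HasRingHomProperty P Q]
    [P.IsStableUnderBaseChange] {A : CommRingCat.{u}} (n : Ideal A) {X Y : Over (Spec A)} (u : X ⟶ Y)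
    (hu : P ((Over.pullback (red n)).map u).left) {B C : Type u} [CommRing B] [CommRing C] [Algebra A B]
    [Algebra B C] (b : Spec (CommRingCat.of B) ⟶ Y.left) [IsOpenImmersion b]
    (c : Spec (CommRingCat.of C) ⟶ X.left) [IsOpenImmersion c]
    (hb : b ≫ Y.hom = Spec.map (CommRingCat.ofHom (algebraMap A B)))
    (hc : c ≫ u.left = Spec.map (CommRingCat.ofHom (algebraMap B C)) ≫ b) :
    Q (algebraMap (B ⧸ n.map (algebraMap A B)) ((B ⧸ n.map (algebraMap A B)) ⊗[B] C)) := by
  let I := n.map (algebraMap A B)
  let q := Spec.map (CommRingCat.ofHom (algebraMap B (B ⧸ I)))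
  let φ := Spec.map (CommRingCat.ofHom (algebraMap B C))
  let i := q ≫ b
  have hi : i ≫ Y.hom = Spec.map (CommRingCat.ofHom (algebraMap (A ⧸ n) (B ⧸ I))) ≫ red n := by
    simp only [i, q, red, Category.assoc, hb, ← Spec.map_comp, ← CommRingCat.ofHom_comp]
    rfl
  let uk := ((Over.pullback (red n)).map u).left
  let j : Spec (CommRingCat.of (B ⧸ I)) ⟶ ((Over.pullback (red n)).obj Y).left := pullback.lift i _ hi
  have hj : j ≫ pullback.fst Y.hom (red n) = i := pullback.lift_fst _ _ _
  have sq := ((IsPullback.of_hasPullback j uk).flip.paste_horiz (HomLocus.isPullback_bc (red n) u)).flip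
  rw [hj] at sq
  have h1 : P (pullback.fst i u.left) := by
    rw [← P.cancel_left_of_respectsIso sq.isoPullback.hom, sq.isoPullback_hom_fst]
    exact MorphismProperty.pullback_fst (P := P) _ _ hu
  let g : pullback q φ ⟶ pullback i u.left :=
    pullback.map q φ i u.left (𝟙 _) c b (Category.id_comp _).symm hc.symm
  have hg : IsOpenImmersion g := inferInstance
  have h2 : P (pullback.fst q φ) := by
    have := IsZariskiLocalAtSource.comp (P := P) h1 g
    rwa [show g ≫ pullback.fst i u.left = pullback.fst q φ ≫ 𝟙 _ from pullback.lift_fst _ _ _, Category.comp_id] at this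
  have h3 : P (Spec.map (CommRingCat.ofHom (Algebra.TensorProduct.includeLeftRingHom :
      B ⧸ I →+* (B ⧸ I) ⊗[B] C))) := by
    rw [← pullbackSpecIso_inv_fst B (B ⧸ I) C, P.cancel_left_of_respectsIso]
    exact h2
  exact (HasRingHomProperty.Spec_iff (P := P)).mp h3

theorem of_red {P : MorphismProperty Scheme.{u}}
    {Q : ∀ {R S : Type u} [CommRing R] [CommRing S], (R →+* S) → Prop} [HasRingHomProperty P Q]
    [P.IsStableUnderBaseChange] {A : CommRingCat.{u}} (n : Ideal A) {X Y : Over (Spec A)} (u : X ⟶ Y)
    (hQ : ∀ (B C : Type u) [CommRing B] [CommRing C] [Algebra A B] [Algebra B C] [Algebra A C]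
      [IsScalarTower A B C], (Flat X.hom → Module.Flat A C) →
      Q (algebraMap (B ⧸ n.map (algebraMap A B)) ((B ⧸ n.map (algebraMap A B)) ⊗[B] C)) → Q (algebraMap B C))
    (hu : P ((Over.pullback (red n)).map u).left) : P u.left := by
  refine (HasRingHomProperty.iff_appLE (P := P)).mpr fun U V e => ?_
  obtain ⟨U, hU⟩ := U
  obtain ⟨V, hV⟩ := V
  obtain ⟨α, hα⟩ := Spec.map_surjective (hU.fromSpec ≫ Y.hom)
  letI := α.hom.toAlgebra
  letI := (u.left.appLE U V e).hom.toAlgebra
  letI := (α ≫ u.left.appLE U V e).hom.toAlgebra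
  haveI : IsScalarTower A Γ(Y.left, U) Γ(X.left, V) := IsScalarTower.of_algebraMap_eq fun _ => rfl
  have hc := (IsAffineOpen.SpecMap_appLE_fromSpec u.left hU hV e).symm
  refine hQ Γ(Y.left, U) Γ(X.left, V) (fun hf => ?_)
    (ringHom_quotient (P := P) n u hu hU.fromSpec hV.fromSpec hα.symm hc)
  refine RingHom.flat_algebraMap_iff.mp ((HasRingHomProperty.Spec_iff (P := @Flat)).mp ?_ :
    (α ≫ u.left.appLE U V e).hom.Flat)
  rw [Spec.map_comp, hα, ← Category.assoc, IsAffineOpen.SpecMap_appLE_fromSpec u.left hU hV e, Category.assoc, Over.w]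
  infer_instance

variable {A : CommRingCat.{u}} {n : Ideal A} (hn : IsNilpotent n) {X Y : Over (Spec A)} (u : X ⟶ Y)

include hn

theorem flat [Flat X.hom] (h : Flat ((Over.pullback (red n)).map u).left) : Flat u.left :=
  of_red n u (fun B C _ _ _ _ _ _ hf hQ => by
    haveI := hf inferInstance
    haveI := RingHom.flat_algebraMap_iff.mp hQ
    exact RingHom.flat_algebraMap_iff.mpr (flat_of_quotient A n hn)) h

theorem locallyOfFiniteType (h : LocallyOfFiniteType ((Over.pullback (red n)).map u).left) :
    LocallyOfFiniteType u.left :=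
  of_red n u (fun B C _ _ _ _ _ _ _ hQ => by
    haveI := RingHom.finiteType_algebraMap.mp hQ
    exact RingHom.finiteType_algebraMap.mpr (finiteType_of_quotient A n hn
      (Algebra.FiniteType.equiv inferInstance (Algebra.TensorProduct.quotIdealMapEquivQuotTensor C _).symm))) h

theorem locallyOfFinitePresentation [Flat X.hom]
    (h : LocallyOfFinitePresentation ((Over.pullback (red n)).map u).left) :
    LocallyOfFinitePresentation u.left :=
  of_red n u (fun B C _ _ _ _ _ _ hf hQ => by
    haveI := hf inferInstance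
    haveI := RingHom.finitePresentation_algebraMap.mp hQ
    exact RingHom.finitePresentation_algebraMap.mpr (finitePresentation_of_quotient A n hn
      (Algebra.FinitePresentation.equiv (Algebra.TensorProduct.quotIdealMapEquivQuotTensor C _).symm))) h

theorem locallyQuasiFinite (h : LocallyQuasiFinite ((Over.pullback (red n)).map u).left) :
    LocallyQuasiFinite u.left :=
  of_red n u (fun B C _ _ _ _ _ _ _ hQ =>
    RingHom.quasiFinite_algebraMap.mpr (quasiFinite_of_quotient n hn (RingHom.quasiFinite_algebraMap.mp hQ))) h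

theorem formallyUnramified (h : FormallyUnramified ((Over.pullback (red n)).map u).left) :
    FormallyUnramified u.left :=
  of_red n u (fun B C _ _ _ _ _ _ _ hQ =>
    RingHom.formallyUnramified_algebraMap.mpr
      (formallyUnramified_of_quotient n hn (RingHom.formallyUnramified_algebraMap.mp hQ))) h

theorem smooth [Flat X.hom] (h : Smooth ((Over.pullback (red n)).map u).left) : Smooth u.left :=
  of_red n u (fun B C _ _ _ _ _ _ hf hQ => by
    haveI := hf inferInstance
    exact RingHom.smooth_algebraMap.mpr (smooth_of_quotient n hn (RingHom.smooth_algebraMap.mp hQ))) h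

theorem etale [Flat X.hom] (h : Etale ((Over.pullback (red n)).map u).left) : Etale u.left := by
  have := flat hn u inferInstance
  have := formallyUnramified hn u inferInstance
  have := locallyOfFinitePresentation hn u inferInstance
  exact Etale.iff_flat_and_formallyUnramified.mpr ⟨‹_›, ‹_›, ‹_›⟩

end Groth.L08.ArtinLift
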