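import Mathlib.Algebra.Module.LinearMap.End
import Mathlib.Algebra.BigOperators.GroupWithZero.Action
import Mathlib.SetTheory.Cardinal.Finite
import Mathlib.GroupTheory.GroupAction.Defs
import Mathlib.Data.Fintype.BigOperators
import Mathlib.LinearAlgebra.TensorProduct.Map

/-!
# Averaging over a finite group of invertible order
-/

universe u v w w'

open TensorProduct

noncomputable section

namespace Groth.L08

variable {A : Type u} [CommRing A] {Γ : Type v} [Group Γ] [Finite Γ] {M : Type w} [AddCommGroup M]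
  [Module A M]

/-- The averaging operator. -/
def avg (hΓ : IsUnit (Nat.card Γ : A)) (σ : Γ →* Module.End A M) : Module.End A M :=
  letI := Fintype.ofFinite Γ
  ((hΓ.unit⁻¹ : Aˣ) : A) • ∑ γ : Γ, σ γ

theorem avg_fixed (hΓ : IsUnit (Nat.card Γ : A)) (σ : Γ →* Module.End A M) (γ : Γ) (m : M) :
    σ γ (avg hΓ σ m) = avg hΓ σ m := by
  letI := Fintype.ofFinite Γ
  simp only [avg, LinearMap.smul_apply, LinearMap.sum_apply, map_smul, map_sum,
    ← Module.End.mul_apply, ← map_mul]
  congr 1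
  exact Fintype.sum_equiv (Equiv.mulLeft γ) _ _ fun _ => rfl

theorem avg_of_fixed (hΓ : IsUnit (Nat.card Γ : A)) (σ : Γ →* Module.End A M) {m : M}
    (hm : ∀ γ, σ γ m = m) : avg hΓ σ m = m := by
  letI := Fintype.ofFinite Γ
  simp only [avg, LinearMap.smul_apply, LinearMap.sum_apply, hm, Finset.sum_const, Finset.card_univ,
    ← Nat.cast_smul_eq_nsmul A, smul_smul, Nat.card_eq_fintype_card.symm]
  rw [IsUnit.val_inv_mul, one_smul]

theorem avg_natural {N : Type w'} [AddCommGroup N] [Module A N] (hΓ : IsUnit (Nat.card Γ : A))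
    (σ : Γ →* Module.End A M) (τ : Γ →* Module.End A N) (f : M →ₗ[A] N)
    (hf : ∀ γ m, f (σ γ m) = τ γ (f m)) (m : M) : f (avg hΓ σ m) = avg hΓ τ (f m) := by
  simp [avg, LinearMap.sum_apply, map_sum, hf]

theorem avg_sub (hΓ : IsUnit (Nat.card Γ : A)) (σ : Γ →* Module.End A M) {U : Submodule A M} {m : M}
    (hm : ∀ γ, σ γ m - m ∈ U) : avg hΓ σ m - m ∈ U := by
  letI := Fintype.ofFinite Γ
  have e : avg hΓ σ m - m = ((hΓ.unit⁻¹ : Aˣ) : A) • ∑ γ : Γ, (σ γ m - m) := by
    simp only [Finset.sum_sub_distrib, Finset.sum_const, Finset.card_univ, smul_sub,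
      ← Nat.cast_smul_eq_nsmul A, smul_smul, Nat.card_eq_fintype_card.symm, avg,
      LinearMap.smul_apply, LinearMap.sum_apply]
    rw [IsUnit.val_inv_mul, one_smul]
  rw [e]
  exact U.smul_mem _ (sum_mem fun γ _ => hm γ)

theorem range_avg (hΓ : IsUnit (Nat.card Γ : A)) (σ : Γ →* Module.End A M) :
    LinearMap.range (avg hΓ σ) = ⨅ γ, LinearMap.eqLocus (σ γ) LinearMap.id := by
  ext m
  simp only [LinearMap.mem_range, Submodule.mem_iInf, LinearMap.mem_eqLocus, LinearMap.id_apply]
  exact ⟨fun ⟨x, hx⟩ γ => hx ▸ avg_fixed hΓ σ γ x, fun h => ⟨m, avg_of_fixed hΓ σ h⟩⟩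

variable (A M) in
/-- A linear action as a homomorphism into endomorphisms. -/
def actHom (Γ : Type v) [Monoid Γ] [DistribMulAction Γ M] [SMulCommClass Γ A M] :
    Γ →* Module.End A M :=
  DistribMulAction.toModuleEnd A M

/-- The extension of an action to a tensor product. -/
def lTensorHom' (S : Type w') [AddCommGroup S] [Module A S] (σ : Γ →* Module.End A M) :
    Γ →* Module.End A (S ⊗[A] M) where
  toFun γ := (σ γ).lTensor S
  map_one' := by rw [map_one]; exact LinearMap.lTensor_id S M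
  map_mul' γ δ := by rw [map_mul]; exact LinearMap.lTensor_comp S (σ γ) (σ δ)

theorem avg_lTensor (S : Type w') [AddCommGroup S] [Module A S] (hΓ : IsUnit (Nat.card Γ : A))
    (σ : Γ →* Module.End A M) (s : S) (m : M) :
    avg hΓ (lTensorHom' S σ) (s ⊗ₜ m) = s ⊗ₜ avg hΓ σ m :=
  (avg_natural hΓ σ (lTensorHom' S σ) (TensorProduct.mk A S M s) (fun _ _ => rfl) m).symm

end Groth.L08
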