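import Groth.Prelude.Def_HopfRep
import Groth.Prelude.Def_Hoch
import Mathlib.RingTheory.Coalgebra.Convolution
import Mathlib.LinearAlgebra.TensorProduct.Basis
import Mathlib.LinearAlgebra.Basis.VectorSpace
import Mathlib.RingTheory.SimpleModule.Basic
import Mathlib.LinearAlgebra.FiniteDimensional.Basic

/-!
# Comodules as modules over the dual convolution algebra
-/

universe u v w w'

open TensorProduct WithConv

noncomputable section

namespace Groth.L08

section Comm

variable {k : Type u} [CommRing k] {A : Type v} [AddCommGroup A] [Module k A] [Coalgebra k A]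
  {V : Type w} [AddCommGroup V] [Module k V] [HopfRep.Comod k A V]

local notation "ρ" => HopfRep.Comod.coact (k := k) (A := A)

variable (V) in
/-- action of a functional -/
def fAct (φ : A →ₗ[k] k) : V →ₗ[k] V :=
  (TensorProduct.rid k V).toLinearMap ∘ₗ φ.lTensor V ∘ₗ ρ

theorem fAct_apply (φ : A →ₗ[k] k) (v : V) :
    fAct V φ v = TensorProduct.rid k V (φ.lTensor V (ρ v)) := rfl

theorem coassoc_apply (v : V) :
    TensorProduct.assoc k V A A ((ρ : V →ₗ[k] V ⊗[k] A).rTensor A (ρ v)) =
      (Coalgebra.comul (R := k) (A := A)).lTensor V (ρ v) :=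
  LinearMap.congr_fun (HopfRep.Comod.coassoc (k := k) (A := A) (V := V)) v

theorem counit_apply (v : V) :
    (Coalgebra.counit (R := k) (A := A)).lTensor V (ρ v) = v ⊗ₜ[k] (1 : k) :=
  LinearMap.congr_fun (HopfRep.Comod.counit_comp (k := k) (A := A) (V := V)) v

@[simp] theorem fAct_counit : fAct V (Coalgebra.counit (R := k) (A := A)) = LinearMap.id := by
  ext v
  simp [fAct_apply, counit_apply]

theorem coact_injective : Function.Injective (ρ : V →ₗ[k] V ⊗[k] A) := by
  intro x y h
  have hx := LinearMap.congr_fun (fAct_counit (k := k) (A := A) (V := V)) x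
  have hy := LinearMap.congr_fun (fAct_counit (k := k) (A := A) (V := V)) y
  rw [fAct_apply, h, ← fAct_apply, hy] at hx
  exact hx.symm

variable (V) in
/-- `fAct` as a linear map -/
def fActL : (A →ₗ[k] k) →ₗ[k] V →ₗ[k] V where
  toFun := fAct V
  map_add' φ ψ := by ext v; simp [fAct_apply, LinearMap.lTensor_add]
  map_smul' c φ := by ext v; simp [fAct_apply, LinearMap.lTensor_smul]

/-- The functional `x ↦ (φ ⊗ ψ) x` applied after coassociativity. -/
theorem fAct_comp (φ ψ : A →ₗ[k] k) :
    fAct V (LinearMap.mul' k k ∘ₗ TensorProduct.map φ ψ ∘ₗ Coalgebra.comul) =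
      fAct V φ ∘ₗ fAct V ψ := by
  let T : V ⊗[k] (A ⊗[k] A) →ₗ[k] V :=
    (TensorProduct.rid k V).toLinearMap ∘ₗ (LinearMap.mul' k k ∘ₗ TensorProduct.map φ ψ).lTensor V
  have hT : ∀ y : V ⊗[k] A,
      T (TensorProduct.assoc k V A A ((ρ : V →ₗ[k] V ⊗[k] A).rTensor A y)) =
        fAct V φ (TensorProduct.rid k V (ψ.lTensor V y)) := by
    intro y
    induction y with
    | zero => simp
    | add a b ha hb => simp only [map_add, ha, hb]
    | tmul w a =>
      simp only [LinearMap.rTensor_tmul, LinearMap.lTensor_tmul, TensorProduct.rid_tmul, map_smul,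
        fAct_apply]
      induction (ρ w) with
      | zero => simp
      | add a b ha hb => simp only [map_add, add_tmul, ha, hb, smul_add]
      | tmul u b => simp [T, smul_smul, mul_comm]
  ext v
  rw [LinearMap.comp_apply, fAct_apply, fAct_apply ψ, ← hT, coassoc_apply]
  simp only [T, LinearMap.comp_apply, LinearEquiv.coe_coe, ← LinearMap.lTensor_comp_apply]
  rfl

theorem fAct_mul (φ ψ : WithConv (A →ₗ[k] k)) :
    fAct V (φ * ψ).ofConv = fAct V φ.ofConv ∘ₗ fAct V ψ.ofConv :=
  fAct_comp φ.ofConv ψ.ofConv

theorem fAct_one : fAct V (1 : WithConv (A →ₗ[k] k)).ofConv = LinearMap.id := by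
  rw [show (1 : WithConv (A →ₗ[k] k)).ofConv = Coalgebra.counit from by ext; simp, fAct_counit]

variable (k A) in
/-- The convolution algebra of functionals on a coalgebra, with its ring structure as the only
semiring structure found by instance search. -/
def Dl : Type max u v := WithConv (A →ₗ[k] k)

instance Dl.instRing : Ring (Dl k A) := inferInstanceAs (Ring (WithConv (A →ₗ[k] k)))

instance Dl.instAlgebra : Algebra k (Dl k A) :=
  inferInstanceAs (Algebra k (WithConv (A →ₗ[k] k)))

/-- The functional underlying an element of the dual algebra. -/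
def Dl.fn (φ : Dl k A) : A →ₗ[k] k := WithConv.ofConv φ

/-- A functional as an element of the dual algebra. -/
def Dl.of (φ : A →ₗ[k] k) : Dl k A := WithConv.toConv φ

@[simp] theorem Dl.fn_of (φ : A →ₗ[k] k) : (Dl.of φ).fn = φ := rfl
@[simp] theorem Dl.of_fn (φ : Dl k A) : Dl.of φ.fn = φ := rfl

variable (k A V) in
/-- The module over the dual algebra attached to a comodule. -/
@[reducible] def comodModule : Module (Dl k A) V where
  smul φ v := fAct V φ.fn v
  one_smul v := LinearMap.congr_fun fAct_one v
  mul_smul φ ψ v := LinearMap.congr_fun (fAct_mul φ ψ) v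
  smul_zero φ := map_zero (fAct V φ.fn)
  smul_add φ x y := map_add (fAct V φ.fn) x y
  add_smul φ ψ v := LinearMap.congr_fun ((fActL V).map_add φ.fn ψ.fn) v
  zero_smul v := LinearMap.congr_fun ((fActL (k := k) (A := A) V).map_zero) v

scoped instance instComodModule : Module (Dl k A) V := comodModule k A V

theorem smul_def (φ : Dl k A) (v : V) : φ • v = fAct V φ.fn v := rfl

theorem of_smul (φ : A →ₗ[k] k) (v : V) : Dl.of φ • v = fAct V φ v := rfl

scoped instance instComodTower : IsScalarTower k (Dl k A) V where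
  smul_assoc c φ v := LinearMap.congr_fun ((fActL V).map_smul c φ.fn) v

/-- A comodule map commutes with every `fAct`. -/
theorem fAct_comm_of_isComodHom {W : Type w'} [AddCommGroup W] [Module k W] [HopfRep.Comod k A W]
    {f : V →ₗ[k] W} (hf : Hoch.IsComodHom A f) (φ : A →ₗ[k] k) (v : V) :
    f (fAct V φ v) = fAct W φ (f v) := by
  have h : ρ (f v) = f.rTensor A (ρ v) := LinearMap.congr_fun hf v
  rw [fAct_apply, fAct_apply, h]
  induction (ρ v) with
  | zero => simp
  | add a b ha hb => simp only [map_add, ha, hb]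
  | tmul w a => simp

theorem fAct_mem_of_isSubcomod {W : Submodule k V} (hW : HopfRep.IsSubcomod (k := k) (A := A) W)
    (φ : A →ₗ[k] k) {v : V} (hv : v ∈ W) : fAct V φ v ∈ W := by
  obtain ⟨y, hy⟩ := hW v hv
  rw [fAct_apply, ← hy]
  clear hy
  induction y with
  | zero => simp
  | add a b ha hb => simpa only [map_add] using add_mem ha hb
  | tmul w a => simpa using W.smul_mem _ w.2

/-- matrix coefficient -/
def cf (f : Module.Dual k V) : V →ₗ[k] A :=
  (TensorProduct.lid k A).toLinearMap ∘ₗ f.rTensor A ∘ₗ ρ

theorem cf_apply (f : Module.Dual k V) (v : V) :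
    cf (A := A) f v = TensorProduct.lid k A (f.rTensor A (ρ v)) := rfl

theorem cf_add (f g : Module.Dual k V) : cf (A := A) (f + g) = cf f + cf g := by
  ext v; simp [cf_apply, LinearMap.rTensor_add]

theorem cf_smul (c : k) (f : Module.Dual k V) : cf (A := A) (c • f) = c • cf f := by
  ext v; simp [cf_apply, LinearMap.rTensor_smul]

theorem apply_cf (φ : A →ₗ[k] k) (f : Module.Dual k V) (v : V) :
    φ (cf f v) = f (fAct V φ v) := by
  rw [cf_apply, fAct_apply]
  induction (ρ v) with
  | zero => simp
  | add a b ha hb => simp only [map_add, ha, hb]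
  | tmul w a => simp [mul_comm]

/-- The matrix coefficient map is a map of comodules into the regular comodule. -/
theorem isComodHom_cf (f : Module.Dual k V) : Hoch.IsComodHom A (cf (A := A) f) := by
  unfold Hoch.IsComodHom
  ext v
  let T : V ⊗[k] (A ⊗[k] A) →ₗ[k] A ⊗[k] A :=
    (TensorProduct.lid k (A ⊗[k] A)).toLinearMap ∘ₗ f.rTensor (A ⊗[k] A)
  have h1 : ∀ y : V ⊗[k] A, T ((Coalgebra.comul (R := k) (A := A)).lTensor V y) =
      Coalgebra.comul (TensorProduct.lid k A (f.rTensor A y)) := by
    intro y
    induction y with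
    | zero => simp
    | add a b ha hb => simp only [map_add, ha, hb]
    | tmul w a => simp [T]
  have h2 : ∀ y : V ⊗[k] A, T (TensorProduct.assoc k V A A ((ρ : V →ₗ[k] V ⊗[k] A).rTensor A y)) =
      (cf (A := A) f).rTensor A y := by
    intro y
    induction y with
    | zero => simp
    | add a b ha hb => simp only [map_add, ha, hb]
    | tmul w a =>
      simp only [LinearMap.rTensor_tmul, cf_apply]
      induction (ρ w) with
      | zero => simp
      | add a b ha hb => simp only [map_add, add_tmul, ha, hb]
      | tmul u b => simp [T, TensorProduct.smul_tmul']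
  change Coalgebra.comul (cf f v) = _
  rw [LinearMap.comp_apply, cf_apply, ← h1, ← coassoc_apply, h2]

end Comm

section Field

/-- Extension of a linear map along an injective one. -/
theorem exists_extend_inj {k : Type u} [Field k] {X : Type v} [AddCommGroup X] [Module k X]
    {Y : Type w} [AddCommGroup Y] [Module k Y] {Z : Type w'} [AddCommGroup Z] [Module k Z]
    {f : X →ₗ[k] Y} (hf : LinearMap.ker f = ⊥) (h : X →ₗ[k] Z) :
    ∃ g : Y →ₗ[k] Z, g ∘ₗ f = h := by
  obtain ⟨l, hl⟩ := f.exists_leftInverse_of_injective hf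
  exact ⟨h ∘ₗ l, by rw [LinearMap.comp_assoc, hl, LinearMap.comp_id]⟩

variable {k : Type u} [Field k] {A : Type v} [AddCommGroup A] [Module k A]
  {V : Type w} [AddCommGroup V] [Module k V]

theorem mem_range_rTensor_subtype_iff (W : Submodule k V) (x : V ⊗[k] A) :
    x ∈ LinearMap.range (W.subtype.rTensor A) ↔
      ∀ φ : A →ₗ[k] k, TensorProduct.rid k V (φ.lTensor V x) ∈ W := by
  classical
  constructor
  · rintro ⟨y, rfl⟩ φ
    induction y with
    | zero => simp
    | add a b ha hb => simpa only [map_add] using add_mem ha hb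
    | tmul w a => simpa using W.smul_mem _ w.2
  · intro h
    let b := Module.Basis.ofVectorSpace k A
    obtain ⟨c, hc⟩ := TensorProduct.eq_repr_basis_right b x
    have hc' : TensorProduct.equivFinsuppOfBasisRight b x = c := by
      rw [← hc, ← TensorProduct.equivFinsuppOfBasisRight_symm_apply, LinearEquiv.apply_symm_apply]
    have hm : ∀ i, c i ∈ W := fun i => by
      rw [← hc', TensorProduct.equivFinsuppOfBasisRight_apply]; exact h _
    rw [← hc]
    exact sum_mem fun i _ => ⟨(⟨c i, hm i⟩ : W) ⊗ₜ[k] b i, rfl⟩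

theorem mem_range_lTensor_subtype_iff (D : Submodule k A) (x : V ⊗[k] A) :
    x ∈ LinearMap.range (LinearMap.lTensor V D.subtype) ↔
      ∀ f : V →ₗ[k] k, TensorProduct.lid k A (f.rTensor A x) ∈ D := by
  classical
  constructor
  · rintro ⟨y, rfl⟩ f
    induction y with
    | zero => simp
    | add a b ha hb => simpa only [map_add] using add_mem ha hb
    | tmul w a => simpa using D.smul_mem _ a.2
  · intro h
    let b := Module.Basis.ofVectorSpace k V
    obtain ⟨c, hc⟩ := TensorProduct.eq_repr_basis_left b x
    have hm : ∀ i, c i ∈ D := fun i => by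
      have := h (b.coord i)
      rw [← TensorProduct.equivFinsuppOfBasisLeft_apply, ← hc] at this
      have hsymm := TensorProduct.equivFinsuppOfBasisLeft_symm_apply b c
      rw [← hsymm, LinearEquiv.apply_symm_apply] at this
      exact this
    rw [← hc]
    exact sum_mem fun i _ => ⟨b i ⊗ₜ[k] (⟨c i, hm i⟩ : D), rfl⟩

variable [Coalgebra k A] [HopfRep.Comod k A V]

theorem isSubcomod_iff {W : Submodule k V} :
    HopfRep.IsSubcomod (k := k) (A := A) W ↔
      ∀ φ : A →ₗ[k] k, ∀ v ∈ W, fAct V φ v ∈ W :=
  ⟨fun h φ _ hv => fAct_mem_of_isSubcomod h φ hv,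
    fun h v hv => (mem_range_rTensor_subtype_iff W _).2 fun φ => h φ v hv⟩

theorem isComodHom_iff {W : Type w'} [AddCommGroup W] [Module k W] [HopfRep.Comod k A W]
    {f : V →ₗ[k] W} :
    Hoch.IsComodHom A f ↔ ∀ (φ : A →ₗ[k] k) (v : V), f (fAct V φ v) = fAct W φ (f v) := by
  classical
  refine ⟨fun h φ v => fAct_comm_of_isComodHom h φ v, fun h => ?_⟩
  refine LinearMap.ext fun v => ?_
  let b := Module.Basis.ofVectorSpace k A
  refine (TensorProduct.equivFinsuppOfBasisRight b).injective (Finsupp.ext fun i => ?_)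
  rw [TensorProduct.equivFinsuppOfBasisRight_apply, TensorProduct.equivFinsuppOfBasisRight_apply,
    LinearMap.comp_apply, ← fAct_apply, ← h, LinearMap.comp_apply, fAct_apply]
  induction (HopfRep.Comod.coact (k := k) (A := A) v) with
  | zero => simp
  | add a b ha hb => simp only [map_add, ha, hb]
  | tmul w a => simp

variable (k A V) in
/-- Subcomodules are the submodules over the dual algebra. -/
def subEquiv :
    {W : Submodule k V // HopfRep.IsSubcomod (k := k) (A := A) W} ≃o
      Submodule (Dl k A) V where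
  toFun W :=
    { carrier := W.1
      add_mem' := W.1.add_mem
      zero_mem' := W.1.zero_mem
      smul_mem' := fun φ _ hv => fAct_mem_of_isSubcomod W.2 φ.fn hv }
  invFun M := ⟨M.restrictScalars k, isSubcomod_iff.2 fun φ _ hv => M.smul_mem (Dl.of φ) hv⟩
  left_inv _ := rfl
  right_inv _ := rfl
  map_rel_iff' := Iff.rfl

/-- The submodule over the dual algebra of a subcomodule. -/
def toSub {W : Submodule k V} (hW : HopfRep.IsSubcomod (k := k) (A := A) W) :
    Submodule (Dl k A) V := subEquiv k A V ⟨W, hW⟩

@[simp] theorem restrictScalars_toSub {W : Submodule k V}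
    (hW : HopfRep.IsSubcomod (k := k) (A := A) W) : (toSub hW).restrictScalars k = W := rfl

@[simp] theorem mem_toSub {W : Submodule k V} (hW : HopfRep.IsSubcomod (k := k) (A := A) W) {v : V} :
    v ∈ toSub hW ↔ v ∈ W := Iff.rfl

theorem isSubcomod_restrictScalars (M : Submodule (Dl k A) V) :
    HopfRep.IsSubcomod (k := k) (A := A) (M.restrictScalars k) := ((subEquiv k A V).symm M).2

theorem isSubcomod_bot : HopfRep.IsSubcomod (k := k) (A := A) (⊥ : Submodule k V) := by
  simpa using isSubcomod_restrictScalars (⊥ : Submodule (Dl k A) V)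

theorem isSubcomod_top : HopfRep.IsSubcomod (k := k) (A := A) (⊤ : Submodule k V) :=
  isSubcomod_iff.2 fun _ _ _ => trivial

theorem isSubcomod_inf {W W' : Submodule k V} (h : HopfRep.IsSubcomod (k := k) (A := A) W)
    (h' : HopfRep.IsSubcomod (k := k) (A := A) W') :
    HopfRep.IsSubcomod (k := k) (A := A) (W ⊓ W') :=
  isSubcomod_iff.2 fun φ _ hv => ⟨fAct_mem_of_isSubcomod h φ hv.1, fAct_mem_of_isSubcomod h' φ hv.2⟩

theorem isSubcomod_sup {W W' : Submodule k V} (h : HopfRep.IsSubcomod (k := k) (A := A) W)
    (h' : HopfRep.IsSubcomod (k := k) (A := A) W') :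
    HopfRep.IsSubcomod (k := k) (A := A) (W ⊔ W') := by
  simpa using isSubcomod_restrictScalars (toSub h ⊔ toSub h')

theorem isSubcomod_iSup {ι : Sort*} {W : ι → Submodule k V}
    (h : ∀ i, HopfRep.IsSubcomod (k := k) (A := A) (W i)) :
    HopfRep.IsSubcomod (k := k) (A := A) (⨆ i, W i) := by
  simpa [Submodule.restrictScalars_iSup] using isSubcomod_restrictScalars (⨆ i, toSub (h i))

section Hom

variable {W : Type w'} [AddCommGroup W] [Module k W] [HopfRep.Comod k A W]

/-- A comodule map as a linear map over the dual algebra. -/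
def homToMod {f : V →ₗ[k] W} (hf : Hoch.IsComodHom A f) : V →ₗ[Dl k A] W where
  toFun := f
  map_add' := f.map_add
  map_smul' φ v := fAct_comm_of_isComodHom hf φ.fn v

@[simp] theorem homToMod_apply {f : V →ₗ[k] W} (hf : Hoch.IsComodHom A f) (v : V) :
    homToMod hf v = f v := rfl

@[simp] theorem range_homToMod {f : V →ₗ[k] W} (hf : Hoch.IsComodHom A f) :
    (LinearMap.range (homToMod hf)).restrictScalars k = LinearMap.range f := rfl

@[simp] theorem ker_homToMod {f : V →ₗ[k] W} (hf : Hoch.IsComodHom A f) :
    (LinearMap.ker (homToMod hf)).restrictScalars k = LinearMap.ker f := rfl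

theorem isComodHom_restrictScalars (f : V →ₗ[Dl k A] W) :
    Hoch.IsComodHom A (f.restrictScalars k) :=
  isComodHom_iff.2 fun φ v => f.map_smul (Dl.of φ) v

theorem isSubcomod_range {f : V →ₗ[k] W} (hf : Hoch.IsComodHom A f) :
    HopfRep.IsSubcomod (k := k) (A := A) (LinearMap.range f) :=
  isSubcomod_restrictScalars (LinearMap.range (homToMod hf))

theorem isSubcomod_ker {f : V →ₗ[k] W} (hf : Hoch.IsComodHom A f) :
    HopfRep.IsSubcomod (k := k) (A := A) (LinearMap.ker f) :=
  isSubcomod_restrictScalars (LinearMap.ker (homToMod hf))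

end Hom

theorem isSimpleComod_iff :
    HopfRep.IsSimpleComod k A V ↔ IsSimpleModule (Dl k A) V := by
  rw [isSimpleModule_iff]
  constructor
  · rintro ⟨hn, h⟩
    exact { eq_bot_or_eq_top := fun M =>
              (h _ (isSubcomod_restrictScalars M)).imp
                (fun e => Submodule.restrictScalars_injective k _ _ (by simpa using e))
                (fun e => Submodule.restrictScalars_injective k _ _ (by simpa using e)) }
  · intro h
    refine ⟨(Submodule.nontrivial_iff (R := Dl k A)).1 h.toNontrivial, fun W hW => ?_⟩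
    exact (h.eq_bot_or_eq_top (toSub hW)).imp
      (fun e => by simpa using congrArg (Submodule.restrictScalars k) e)
      (fun e => by simpa using congrArg (Submodule.restrictScalars k) e)

theorem isCompl_restrictScalars_iff {M N : Submodule (Dl k A) V} :
    IsCompl (M.restrictScalars k) (N.restrictScalars k) ↔ IsCompl M N := by
  rw [isCompl_iff, isCompl_iff, disjoint_iff, codisjoint_iff, disjoint_iff, codisjoint_iff,
    ← Submodule.restrictScalars_inf, ← Submodule.restrictScalars_sup,
    Submodule.restrictScalars_eq_bot_iff, Submodule.restrictScalars_eq_top_iff]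

theorem isSemisimpleComod_iff :
    HopfRep.IsSemisimpleComod k A V ↔ IsSemisimpleModule (Dl k A) V := by
  rw [isSemisimpleModule_iff]
  constructor
  · intro h
    refine ⟨fun M => ?_⟩
    obtain ⟨W', hW', hc⟩ := h _ (isSubcomod_restrictScalars M)
    exact ⟨toSub hW', isCompl_restrictScalars_iff.1 hc⟩
  · intro h W hW
    obtain ⟨N, hN⟩ := h.exists_isCompl (toSub hW)
    exact ⟨_, isSubcomod_restrictScalars N, isCompl_restrictScalars_iff.2 hN⟩

/-- The finiteness theorem. -/
theorem exists_finite_subcomod_of_finset (s : Finset V) :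
    ∃ W : Submodule k V, Module.Finite k W ∧ (s : Set V) ⊆ W ∧
      HopfRep.IsSubcomod (k := k) (A := A) W := by
  classical
  choose S hS using fun v : V => TensorProduct.exists_finset (HopfRep.Comod.coact (k := k) (A := A) v)
  let G : Submodule k V := Submodule.span k (↑(s.biUnion fun v => (S v).image Prod.fst) : Set V)
  let M : Submodule (Dl k A) V := Submodule.span _ (s : Set V)
  have hG : ∀ v ∈ s, ∀ φ : A →ₗ[k] k, fAct V φ v ∈ G := fun v hv φ => by
    rw [fAct_apply, hS v]
    simp only [map_sum, LinearMap.lTensor_tmul, TensorProduct.rid_tmul]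
    exact sum_mem fun i hi => G.smul_mem _ (Submodule.subset_span
      (Finset.mem_biUnion.2 ⟨v, hv, Finset.mem_image_of_mem _ hi⟩))
  have hMN : M.restrictScalars k ≤ G := by
    intro x hx
    obtain ⟨c, -, rfl⟩ := (Submodule.mem_span_finset (R := Dl k A)).1 hx
    exact sum_mem fun v hv => hG v hv _
  exact ⟨M.restrictScalars k, Submodule.finiteDimensional_of_le hMN, Submodule.subset_span,
    isSubcomod_restrictScalars M⟩

theorem exists_finite_subcomod (v : V) :
    ∃ W : Submodule k V, Module.Finite k W ∧ v ∈ W ∧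
      HopfRep.IsSubcomod (k := k) (A := A) W := by
  obtain ⟨W, h1, h2, h3⟩ := exists_finite_subcomod_of_finset (k := k) (A := A) {v}
  exact ⟨W, h1, h2 (by simp), h3⟩

theorem finite_of_isSimpleComod (h : HopfRep.IsSimpleComod k A V) : Module.Finite k V := by
  obtain ⟨hn, hs⟩ := h
  obtain ⟨v, hv⟩ := exists_ne (0 : V)
  obtain ⟨W, h1, h2, h3⟩ := exists_finite_subcomod (k := k) (A := A) v
  rcases hs W h3 with rfl | rfl
  · exact absurd ((Submodule.mem_bot k).1 h2) hv
  · exact Module.Finite.equiv Submodule.topEquiv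

end Field

end Groth.L08
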