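import Groth.Agent.L08.Flag
import Mathlib.RingTheory.HopfAlgebra.Convolution

/-!
# Points of unipotent groups have no torsion prime to the characteristic
-/

universe u v

open TensorProduct WithConv

noncomputable section

namespace Groth.L08

variable {k : Type u} [Field k] {A : Type v} [CommRing A] [Bialgebra k A] {R : Type*} [CommRing R] [Algebra k R]

theorem convMul_flag_eq_zero (y : WithConv (A →ₗ[k] R)) (hy : y.ofConv 1 = 0) {F : ℕ → Submodule k A}
    (h0 : F 0 = ⊥) (hs : ∀ i, Step (k := k) (A := A) (V := A) (1 : A) (F i) (F (i + 1))) :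
    ∀ (n : ℕ) (z : WithConv (A →ₗ[k] R)), ∀ a ∈ F n, (z * y ^ n).ofConv a = 0
  | 0, z, a, ha => by
    rw [h0, Submodule.mem_bot] at ha
    rw [ha, map_zero]
  | n + 1, z, a, ha => by
    have hr := step_iff_range.1 (hs n) a ha
    obtain ⟨w, hw⟩ := hr
    rw [pow_succ, ← mul_assoc, LinearMap.convMul_apply]
    have hd : CoalgebraStruct.comul (R := k) a = a ⊗ₜ[k] (1 : A) + (F n).subtype.rTensor A w := by
      rw [hw]
      show _ = _ + (CoalgebraStruct.comul (R := k) a - _)
      rw [add_sub_cancel]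
    rw [hd, map_add, map_add, TensorProduct.map_tmul, LinearMap.mul'_apply, hy, mul_zero, zero_add]
    clear hw hd
    induction w with
    | zero => simp
    | tmul b c =>
      rw [LinearMap.rTensor_tmul, TensorProduct.map_tmul, LinearMap.mul'_apply, Submodule.subtype_apply,
        convMul_flag_eq_zero y hy h0 hs n z b b.2, zero_mul]
    | add p q hp hq => rw [map_add, map_add, map_add, hp, hq, add_zero]

theorem eq_one_of_pow_eq_one (hU : HopfRep.IsUnipotent k A) (x : WithConv (A →ₐ[k] R)) {m : ℕ}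
    (hm : (m : k) ≠ 0) (hx : x ^ m = 1) : x = 1 := by
  let ι : WithConv (A →ₐ[k] R) →* WithConv (A →ₗ[k] R) :=
    { toFun := fun f => toConv f.ofConv.toLinearMap
      map_one' := rfl
      map_mul' := fun f g => by
        rw [AlgHom.toLinearMap_convMul] }
  let y : WithConv (A →ₗ[k] R) := ι x - 1
  have hy : y.ofConv 1 = 0 := by
    show x.ofConv 1 - (1 : WithConv (A →ₗ[k] R)).ofConv 1 = 0
    rw [LinearMap.convOne_apply, map_one]
    simp
  have hyx : ι x = 1 + y := by simp [y]
  -- the geometric sum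
  have hgeo : (∑ i ∈ Finset.range m, ι x ^ i) * y = 0 := by
    rw [show y = ι x - 1 from rfl, geom_sum_mul, ← map_pow, hx, map_one, sub_self]
  have hsum : ∀ i : ℕ, ∃ v, ι x ^ i = 1 + v * y := fun i => by
    induction i with
    | zero => exact ⟨0, by simp⟩
    | succ i ih =>
      obtain ⟨v, hv⟩ := ih
      refine ⟨1 + v + v * y, ?_⟩
      rw [pow_succ, hv, hyx]
      noncomm_ring
  choose v hv using hsum
  let V := ∑ i ∈ Finset.range m, v i
  have h1 : (m : k) • y = -(V * (y * y)) := by
    rw [eq_neg_iff_add_eq_zero, ← hgeo]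
    simp only [hv, Finset.sum_add_distrib, ← Finset.sum_mul, Finset.sum_const, Finset.card_range, V]
    rw [add_mul, mul_assoc, smul_mul_assoc, one_mul, Nat.cast_smul_eq_nsmul]
  let w : WithConv (A →ₗ[k] R) := -((m : k)⁻¹ • V)
  have h2 : y = w * (y * y) := by
    rw [neg_mul, smul_mul_assoc, ← smul_neg, ← h1, smul_smul, inv_mul_cancel₀ hm, one_smul]
  have h3 : ∀ n, ∃ z, y = z * y ^ n := fun n => by
    induction n with
    | zero => exact ⟨y, by simp⟩
    | succ n ih =>
      obtain ⟨z, hz⟩ := ih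
      rcases n with _ | n
      · exact ⟨1, by simp⟩
      refine ⟨z * w, ?_⟩
      have e : y ^ (n + 1) = w * y ^ (n + 2) := by
        rw [pow_succ' y (n + 1), pow_succ' y n, ← mul_assoc, ← mul_assoc, mul_assoc w, ← h2]
      rw [mul_assoc, ← e, ← hz]
  refine WithConv.ofConv_injective (AlgHom.ext fun a => ?_)
  obtain ⟨n, F, h0, ha, hs⟩ := hasFlag_of_isUnipotent hU a
  have hs' : ∀ i, Step (k := k) (A := A) (V := A) (1 : A) (F i) (F (i + 1)) := fun i => by
    obtain ⟨g, rfl, hg⟩ := hs i
    exact hg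
  obtain ⟨z, hz⟩ := h3 n
  have := convMul_flag_eq_zero y hy h0 hs' n z a ha
  rw [← hz] at this
  exact sub_eq_zero.1 this

end Groth.L08
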