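import Groth.Agent.L08.InvFinite
import Mathlib.RingTheory.HopfAlgebra.Convolution
import Mathlib.RingTheory.Bialgebra.Convolution
import Mathlib.LinearAlgebra.Charpoly.ToMatrix
import Mathlib.LinearAlgebra.Determinant
import Mathlib.RingTheory.TensorProduct.Free
import Mathlib.RingTheory.Ideal.GoingDown
import Mathlib.RingTheory.Ideal.GoingUp
import Mathlib.RingTheory.LocalRing.ResidueField.Ideal
import Mathlib.RingTheory.Artinian.Module

/-!
# Actions of a finite group scheme on an affine scheme: integrality, transitivity, going down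
-/

universe u v w w'

open TensorProduct Polynomial WithConv

noncomputable section

namespace Groth.L08.FinScheme

variable {k : Type u} [Field k] {H : Type v} [CommRing H] [HopfAlgebra k H] [Module.Finite k H]
  {R : Type w} [CommRing R] [Algebra k R] {S : Type w'} [CommRing S] [Algebra k S]

/-- characteristic polynomial of multiplication on `R ⊗ H` over `R` -/
def poly (c : R ⊗[k] H) : R[X] := (Algebra.lmul R (R ⊗[k] H) c).charpoly

theorem map_poly (φ : R →ₐ[k] S) (c : R ⊗[k] H) :
    (poly c).map φ.toRingHom = poly (Algebra.TensorProduct.map φ (AlgHom.id k H) c) := by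
  classical
  let e := Module.finBasis k H
  let bR := Algebra.TensorProduct.basis R e
  let bS := Algebra.TensorProduct.basis S e
  let Φ := Algebra.TensorProduct.map φ (AlgHom.id k H)
  have hrepr : ∀ (z : R ⊗[k] H) i, bS.repr (Φ z) i = φ (bR.repr z i) := by
    intro z i
    induction z using TensorProduct.induction_on with
    | zero => simp
    | add u v hu hv => simp [hu, hv]
    | tmul r h =>
      simp only [Φ, bR, bS, Algebra.TensorProduct.map_tmul, AlgHom.id_apply,
        Algebra.TensorProduct.basis_repr_tmul, Finsupp.smul_apply, Finsupp.mapRange_apply,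
        smul_eq_mul, map_mul, AlgHom.commutes]
  rw [poly, poly, ← LinearMap.charpoly_toMatrix _ bR, ← LinearMap.charpoly_toMatrix _ bS, ← Matrix.charpoly_map]
  congr 1
  ext i j
  rw [Matrix.map_apply, LinearMap.toMatrix_apply, LinearMap.toMatrix_apply,
    show bS j = Φ (bR j) from by simp [bS, bR, Φ, Algebra.TensorProduct.basis_apply]]
  exact (hrepr _ i).symm.trans (congrArg (fun z => bS.repr z i) (map_mul Φ _ _))

theorem poly_algEquiv (e : R ⊗[k] H ≃ₐ[R] R ⊗[k] H) (c : R ⊗[k] H) : poly (e c) = poly c := by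
  rw [poly, poly, ← LinearEquiv.charpoly_conj e.toLinearEquiv.symm]
  congr 1
  refine LinearMap.ext fun z => ?_
  simp [LinearEquiv.conj_apply]

theorem coeff_zero_eq_zero_of_not_isUnit {K : Type w'} [Field K] [Algebra k K] {c : K ⊗[k] H}
    (h : (poly c).coeff 0 = 0) : ¬ IsUnit c := by
  intro hc
  have h1 : IsUnit (LinearMap.det (Algebra.lmul K (K ⊗[k] H) c)) := (hc.map (Algebra.lmul K (K ⊗[k] H))).map _
  rw [LinearMap.det_eq_sign_charpoly_coeff] at h1
  exact h1.ne_zero (by rw [show (Algebra.lmul K (K ⊗[k] H) c).charpoly.coeff 0 = 0 from h, mul_zero])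

variable (R) in
/-- the Galois automorphism `s ⊗ h ↦ s · ∑ (1 ⊗ h₁) ⊗ h₂` -/
def gal : (R ⊗[k] H) ⊗[k] H ≃ₐ[R ⊗[k] H] (R ⊗[k] H) ⊗[k] H :=
  let T := (R ⊗[k] H) ⊗[k] H
  let j1 : H →ₐ[k] T := Algebra.TensorProduct.includeLeft.comp Algebra.TensorProduct.includeRight
  let j2 : H →ₐ[k] T := Algebra.TensorProduct.includeRight
  let j1' : H →ₐ[k] T := j1.comp (HopfAlgebra.antipodeAlgHom k H)
  let F : T →ₐ[R ⊗[k] H] T := Algebra.TensorProduct.lift (Algebra.ofId _ _) (toConv j1 * toConv j2).ofConv
    (fun _ _ => Commute.all _ _)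
  let G : T →ₐ[R ⊗[k] H] T := Algebra.TensorProduct.lift (Algebra.ofId _ _) (toConv j1' * toConv j2).ofConv
    (fun _ _ => Commute.all _ _)
  have hinv : toConv j1 * toConv j1' = 1 ∧ toConv j1' * toConv j1 = 1 := by
    have h1 := mul_inv_cancel (toConv (AlgHom.id k H) : WithConv (H →ₐ[k] H))
    have h2 := inv_mul_cancel (toConv (AlgHom.id k H) : WithConv (H →ₐ[k] H))
    constructor
    · have h := congrArg (fun f : WithConv (H →ₐ[k] H) => j1.comp f.ofConv) h1
      simp only [AlgHom.comp_convMul_distrib] at h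
      exact WithConv.ext (h.trans (AlgHom.ext fun a => j1.commutes _))
    · have h := congrArg (fun f : WithConv (H →ₐ[k] H) => j1.comp f.ofConv) h2
      simp only [AlgHom.comp_convMul_distrib] at h
      exact WithConv.ext (h.trans (AlgHom.ext fun a => j1.commutes _))
  have hF1 : ∀ f : H →ₐ[k] R ⊗[k] H, (F.restrictScalars k).comp (Algebra.TensorProduct.includeLeft.comp f) =
      Algebra.TensorProduct.includeLeft.comp f := fun f => AlgHom.ext fun h => by simp [F, T]
  have hG1 : ∀ f : H →ₐ[k] R ⊗[k] H, (G.restrictScalars k).comp (Algebra.TensorProduct.includeLeft.comp f) =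
      Algebra.TensorProduct.includeLeft.comp f := fun f => AlgHom.ext fun h => by simp [G, T]
  have hF2 : (F.restrictScalars k).comp j2 = (toConv j1 * toConv j2).ofConv := AlgHom.ext fun h => by simp [F, T, j2]
  have hG2 : (G.restrictScalars k).comp j2 = (toConv j1' * toConv j2).ofConv := AlgHom.ext fun h => by simp [G, T, j2]
  AlgEquiv.ofAlgHom F G
    (Algebra.TensorProduct.ext (AlgHom.ext fun s => by simp [F, G, T]) <| by
      show ((F.comp G).restrictScalars k).comp j2 = j2
      change (F.restrictScalars k).comp ((G.restrictScalars k).comp j2) = j2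
      rw [hG2, AlgHom.comp_convMul_distrib, hF2,
        show (F.restrictScalars k).comp j1' = j1' from hF1 (Algebra.TensorProduct.includeRight.comp (HopfAlgebra.antipodeAlgHom k H))]
      simp only [WithConv.toConv_ofConv]
      exact congrArg WithConv.ofConv ((mul_assoc (toConv j1') (toConv j1) (toConv j2)).symm.trans
        ((congrArg (· * toConv j2) hinv.2).trans (one_mul (M := WithConv (H →ₐ[k] T)) (toConv j2)))))
    (Algebra.TensorProduct.ext (AlgHom.ext fun s => by simp [F, G, T]) <| by
      show ((G.comp F).restrictScalars k).comp j2 = j2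
      change (G.restrictScalars k).comp ((F.restrictScalars k).comp j2) = j2
      rw [hF2, AlgHom.comp_convMul_distrib, hG2,
        show (G.restrictScalars k).comp j1 = j1 from hG1 Algebra.TensorProduct.includeRight]
      simp only [WithConv.toConv_ofConv]
      exact congrArg WithConv.ofConv ((mul_assoc (toConv j1) (toConv j1') (toConv j2)).symm.trans
        ((congrArg (· * toConv j2) hinv.1).trans (one_mul (M := WithConv (H →ₐ[k] T)) (toConv j2)))))

variable [HopfRep.Comod k H R] [GLin.IsCoactAlg k H R]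

variable (k H R) in
abbrev co : R →ₐ[k] R ⊗[k] H := GLin.coactAlgHom k H R

variable (k H R) in
abbrev inl : R →ₐ[k] R ⊗[k] H := Algebra.TensorProduct.includeLeft

theorem gal_map_inl (c : R ⊗[k] H) :
    gal R (Algebra.TensorProduct.map (inl k H R) (AlgHom.id k H) c) =
      (TensorProduct.assoc k R H H).symm (LinearMap.lTensor R Coalgebra.comul c) := by
  induction c using TensorProduct.induction_on with
  | zero => simp
  | add u v hu hv => simp only [map_add, hu, hv]
  | tmul r h =>
    simp only [gal, Algebra.TensorProduct.map_tmul, AlgEquiv.ofAlgHom_apply, Algebra.TensorProduct.lift_tmul,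
      AlgHom.id_apply, LinearMap.lTensor_tmul, AlgHom.convMul_apply]
    induction Coalgebra.comul (R := k) h using TensorProduct.induction_on with
    | zero => simp
    | add u v hu hv => simp only [map_add, mul_add, tmul_add, hu, hv]
    | tmul u v =>
      simp [Algebra.TensorProduct.tmul_mul_tmul, Algebra.TensorProduct.algebraMap_apply, Algebra.ofId_apply]

theorem map_co_co (f : R) :
    Algebra.TensorProduct.map (co k H R) (AlgHom.id k H) (co k H R f) =
      gal R (Algebra.TensorProduct.map (inl k H R) (AlgHom.id k H) (co k H R f)) := by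
  rw [gal_map_inl]
  have h3 := LinearMap.congr_fun (HopfRep.Comod.coassoc (k := k) (A := H) (V := R)) f
  simp only [LinearMap.comp_apply, LinearEquiv.coe_coe] at h3
  apply (TensorProduct.assoc k R H H).injective
  rw [LinearEquiv.apply_symm_apply]
  exact h3

theorem coact_coeff (f : R) (n : ℕ) : (poly (co k H R f)).coeff n ∈ GLin.invariants k H R := by
  have h : (poly (co k H R f)).map (co k H R).toRingHom = (poly (co k H R f)).map (inl k H R).toRingHom := by
    rw [map_poly, map_poly, map_co_co, poly_algEquiv]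
  have := congrArg (fun p => p.coeff n) h
  simp only [coeff_map] at this
  exact this

/-- the counit on the second factor -/
def eps : R ⊗[k] H →ₐ[R] R :=
  Algebra.TensorProduct.lift (AlgHom.id R R) ((Algebra.ofId k R).comp (Bialgebra.counitAlgHom k H))
    (fun _ _ => Commute.all _ _)

theorem eps_co (f : R) : eps (k := k) (H := H) (co k H R f) = f := by
  have h : ∀ z : R ⊗[k] H, eps z = TensorProduct.rid k R (LinearMap.lTensor R (Coalgebra.counit (R := k)) z) := by
    intro z
    induction z using TensorProduct.induction_on with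
    | zero => simp
    | add u v hu hv => simp only [map_add, hu, hv]
    | tmul r h => simp [eps, Algebra.smul_def, mul_comm]
  rw [h, show LinearMap.lTensor R (Coalgebra.counit (R := k)) (co k H R f) = f ⊗ₜ[k] (1 : k) from
    LinearMap.congr_fun (HopfRep.Comod.counit_comp (k := k) (A := H) (V := R)) f, TensorProduct.rid_tmul, one_smul]

theorem aeval_poly (f : R) : (poly (co k H R f)).eval f = 0 := by
  have h1 := LinearMap.aeval_self_charpoly (Algebra.lmul R (R ⊗[k] H) (co k H R f))
  rw [aeval_algHom_apply] at h1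
  have h2 := LinearMap.congr_fun h1 1
  simp only [Algebra.lmul, LinearMap.zero_apply] at h2
  have h3 : aeval (co k H R f) (poly (co k H R f)) = 0 := by simpa [poly, Algebra.lmul] using h2
  have h4 := congrArg (eps (k := k) (H := H) (R := R)) h3
  rwa [← aeval_algHom_apply, eps_co, map_zero, coe_aeval_eq_eval] at h4

variable (k H R) in
theorem isIntegral : Algebra.IsIntegral (GLin.invariants k H R) R := by
  refine ⟨fun f => ?_⟩
  have hl : poly (co k H R f) ∈ Polynomial.lifts (algebraMap (GLin.invariants k H R) R) :=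
    (Polynomial.lifts_iff_coeff_lifts _).2 fun n => ⟨⟨_, coact_coeff f n⟩, rfl⟩
  obtain ⟨q, hq, -, hm⟩ := Polynomial.lifts_and_natDegree_eq_and_monic hl (LinearMap.charpoly_monic _)
  refine ⟨q, hm, ?_⟩
  rw [eval₂_eq_eval_map, hq]
  exact aeval_poly f

variable (k H R) in
theorem finite [Algebra.FiniteType k R] : Module.Finite (GLin.invariants k H R) R := by
  haveI := isIntegral k H R
  haveI : Algebra.FiniteType (GLin.invariants k H R) R :=
    Algebra.FiniteType.of_restrictScalars_finiteType k (GLin.invariants k H R) R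
  exact Algebra.IsIntegral.finite

theorem co_eq_inl {a : R} (ha : a ∈ GLin.invariants k H R) : co k H R a = inl k H R a := ha

/-- primes over the same invariant prime are conjugate -/
theorem exists_conj (q q' : Ideal R) [q.IsPrime] [q'.IsPrime]
    (h : q.comap (algebraMap (GLin.invariants k H R) R) = q'.comap (algebraMap (GLin.invariants k H R) R)) :
    ∃ Q : Ideal (R ⊗[k] H), Q.IsPrime ∧ Q.comap (inl k H R) = q ∧ Q.comap (co k H R) = q' := by
  classical
  let K := q.ResidueField
  let φ : R →ₐ[k] K := IsScalarTower.toAlgHom k R K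
  have hker : ∀ r, φ r = 0 ↔ r ∈ q := fun r => Ideal.algebraMap_residueField_eq_zero
  let Φ : R ⊗[k] H →ₐ[k] K ⊗[k] H := Algebra.TensorProduct.map φ (AlgHom.id k H)
  haveI : Module.Finite K (K ⊗[k] H) := inferInstance
  haveI : IsArtinianRing (K ⊗[k] H) := IsArtinianRing.of_finite K _
  have hinl : ∀ (M : Ideal (K ⊗[k] H)), M ≠ ⊤ → (M.comap Φ).comap (inl k H R) = q := by
    intro M hM
    ext r
    simp only [Ideal.mem_comap, inl, Φ, Algebra.TensorProduct.includeLeft_apply, Algebra.TensorProduct.map_tmul, map_one]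
    constructor
    · intro hr
      by_contra hrq
      have hu : IsUnit (φ r) := isUnit_iff_ne_zero.2 fun e => hrq ((hker r).1 e)
      exact hM (Ideal.eq_top_of_isUnit_mem _ hr (hu.map (algebraMap K (K ⊗[k] H))))
    · intro hr
      rw [(hker r).2 hr, TensorProduct.zero_tmul]
      exact zero_mem _
  let s : Finset (Ideal (K ⊗[k] H)) := (IsArtinianRing.setOf_isMaximal_finite (K ⊗[k] H)).toFinset
  have hsub : (q' : Set R) ⊆ ⋃ M ∈ (s : Set (Ideal (K ⊗[k] H))), ((M.comap Φ).comap (co k H R) : Set R) := by
    intro f hf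
    have hP0 : (poly (co k H R f)).coeff 0 ∈ q' := by
      have h0 := aeval_poly (k := k) (H := H) f
      rw [← X_mul_divX_add (poly (co k H R f)), eval_add, eval_mul, eval_X, eval_C, add_eq_zero_iff_eq_neg'] at h0
      rw [h0]
      exact neg_mem (Ideal.mul_mem_right _ _ hf)
    have hq0 : (poly (co k H R f)).coeff 0 ∈ q :=
      (h.ge (show (⟨_, coact_coeff f 0⟩ : GLin.invariants k H R) ∈ q'.comap (algebraMap _ R) from hP0) :)
    have hnu : ¬ IsUnit (Φ (co k H R f)) := coeff_zero_eq_zero_of_not_isUnit (by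
      rw [← map_poly, coeff_map]
      exact (hker _).2 hq0)
    obtain ⟨M, hM, hle⟩ := exists_max_ideal_of_mem_nonunits hnu
    exact Set.mem_iUnion₂.2 ⟨M, by simpa [s] using hM, hle⟩
  obtain ⟨M, hMs, hMq⟩ := (Ideal.subset_union_prime (f := fun M : Ideal (K ⊗[k] H) => (M.comap Φ).comap (co k H R)) ⊥ ⊥
    (fun M hM _ _ => by
      haveI : M.IsMaximal := by simpa [s] using hM
      infer_instance)).1 hsub
  haveI hMm : M.IsMaximal := by simpa [s] using hMs
  refine ⟨M.comap Φ, inferInstance, hinl M hMm.ne_top, ?_⟩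
  have hQA : ((M.comap Φ).comap (co k H R)).comap (algebraMap (GLin.invariants k H R) R) =
      q'.comap (algebraMap (GLin.invariants k H R) R) := by
    rw [← h]
    conv_rhs => rw [← hinl M hMm.ne_top]
    ext a
    simp only [Ideal.mem_comap]
    rw [show algebraMap (GLin.invariants k H R) R a = (a : R) from rfl, co_eq_inl a.2]
  haveI := isIntegral k H R
  by_contra hne
  obtain ⟨z, hz1, hz2⟩ := SetLike.exists_of_lt (lt_of_le_of_ne hMq (Ne.symm hne))
  exact (Ideal.comap_lt_comap_of_integral_mem_sdiff hMq ⟨hz1, hz2⟩ (Algebra.IsIntegral.isIntegral z)).ne hQA.symm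

/-- `r ⊗ h ↦ coact r · h` is bijective -/
theorem exists_equiv : ∃ e : R ⊗[k] H ≃ₐ[k] R ⊗[k] H, ∀ r, e (inl k H R r) = co k H R r := by
  let θ : R ⊗[k] H →ₐ[k] R ⊗[k] H :=
    Algebra.TensorProduct.lift (co k H R) Algebra.TensorProduct.includeRight (fun _ _ => Commute.all _ _)
  let θ' : R ⊗[k] H →ₐ[k] R ⊗[k] H :=
    Algebra.TensorProduct.lift ((Algebra.TensorProduct.map (AlgHom.id k R)
      (HopfAlgebra.antipodeAlgHom k H)).comp (co k H R)) Algebra.TensorProduct.includeRight
      (fun _ _ => Commute.all _ _)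
  have hcu : ∀ s : R, (Coalgebra.counit (R := k) (A := H)).lTensor R (HopfRep.Comod.coact (k := k) (A := H) s)
      = s ⊗ₜ[k] (1 : k) := LinearMap.congr_fun (HopfRep.Comod.counit_comp (k := k) (A := H) (V := R))
  have hca : ∀ s : R, TensorProduct.assoc k R H H ((HopfRep.Comod.coact (k := k) (A := H)).rTensor H
      (HopfRep.Comod.coact (k := k) (A := H) s)) =
      LinearMap.lTensor R Coalgebra.comul (HopfRep.Comod.coact (k := k) (A := H) s) := fun s =>
    LinearMap.congr_fun (HopfRep.Comod.coassoc (k := k) (A := H) (V := R)) s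
  have h1 : θ'.comp θ = AlgHom.id k _ := by
    refine Algebra.TensorProduct.ext (AlgHom.ext fun s => ?_) (AlgHom.ext fun h => by simp [θ, θ', GLin.IsCoactAlg.coact_one])
    let M : R ⊗[k] (H ⊗[k] H) →ₗ[k] R ⊗[k] H :=
      (LinearMap.mul' k H ∘ₗ (HopfAlgebraStruct.antipode (R := k)).rTensor H).lTensor R
    have h1 : ∀ x : R ⊗[k] H, θ' x =
        M (TensorProduct.assoc k R H H ((HopfRep.Comod.coact (k := k) (A := H)).rTensor H x)) := by
      intro x
      induction x using TensorProduct.induction_on with
      | zero => simp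
      | add x y hx hy => simp only [map_add, hx, hy]
      | tmul s h =>
        simp only [θ', Algebra.TensorProduct.lift_tmul, AlgHom.comp_apply, co, GLin.coactAlgHom_apply,
          LinearMap.rTensor_tmul]
        induction HopfRep.Comod.coact (k := k) (A := H) s with
        | zero => simp
        | add x y hx hy => simp only [map_add, add_mul, TensorProduct.add_tmul, hx, hy]
        | tmul s₀ h₀ => simp [M]
    have h2 : θ (s ⊗ₜ 1) = HopfRep.Comod.coact (k := k) (A := H) s := by
      simp [θ, ← Algebra.TensorProduct.one_def]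
    change θ' (θ (s ⊗ₜ 1)) = s ⊗ₜ[k] (1 : H)
    rw [h2, h1, hca, ← LinearMap.lTensor_comp_apply, LinearMap.comp_assoc,
      HopfAlgebra.mul_antipode_rTensor_comul, LinearMap.lTensor_comp_apply, hcu]
    simp
  have h2 : θ.comp θ' = AlgHom.id k _ := by
    refine Algebra.TensorProduct.ext (AlgHom.ext fun s => ?_) (AlgHom.ext fun h => by simp [θ, θ', GLin.IsCoactAlg.coact_one])
    let M : R ⊗[k] (H ⊗[k] H) →ₗ[k] R ⊗[k] H :=
      (LinearMap.mul' k H ∘ₗ (HopfAlgebraStruct.antipode (R := k)).lTensor H).lTensor R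
    have h1 : ∀ x : R ⊗[k] H, θ (Algebra.TensorProduct.map (AlgHom.id k R)
        (HopfAlgebra.antipodeAlgHom k H) x) =
        M (TensorProduct.assoc k R H H ((HopfRep.Comod.coact (k := k) (A := H)).rTensor H x)) := by
      intro x
      induction x using TensorProduct.induction_on with
      | zero => simp
      | add x y hx hy => simp only [map_add, hx, hy]
      | tmul s h =>
        simp only [θ, Algebra.TensorProduct.map_tmul, Algebra.TensorProduct.lift_tmul, co,
          GLin.coactAlgHom_apply, LinearMap.rTensor_tmul, AlgHom.id_apply]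
        induction HopfRep.Comod.coact (k := k) (A := H) s with
        | zero => simp
        | add x y hx hy => simp only [map_add, add_mul, TensorProduct.add_tmul, hx, hy]
        | tmul s₀ h₀ => simp [M]
    have h2 : θ' (s ⊗ₜ 1) = Algebra.TensorProduct.map (AlgHom.id k R)
        (HopfAlgebra.antipodeAlgHom k H) (HopfRep.Comod.coact (k := k) (A := H) s) := by
      simp [θ', ← Algebra.TensorProduct.one_def]
    change θ (θ' (s ⊗ₜ 1)) = s ⊗ₜ[k] (1 : H)
    rw [h2, h1, hca, ← LinearMap.lTensor_comp_apply, LinearMap.comp_assoc,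
      HopfAlgebra.mul_antipode_lTensor_comul, LinearMap.lTensor_comp_apply, hcu]
    simp
  exact ⟨AlgEquiv.ofAlgHom θ θ' h2 h1, fun r => by simp [θ, inl, ← Algebra.TensorProduct.one_def]⟩

variable (k H R) in
theorem hasGoingDown : Algebra.HasGoingDown (GLin.invariants k H R) R := by
  haveI := isIntegral k H R
  refine ⟨fun {p} _ Q _ hlt => ?_⟩
  obtain ⟨q0, -, hq0, hq0p⟩ := Ideal.exists_ideal_over_prime_of_isIntegral (S := R) p ⊥
    (by rw [← RingHom.ker_eq_comap_bot, (RingHom.injective_iff_ker_eq_bot _).1 Subtype.val_injective]; exact bot_le)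
  obtain ⟨q1, h01, hq1, hq1Q⟩ := Ideal.exists_ideal_over_prime_of_isIntegral (Q.under (GLin.invariants k H R)) q0
    (hq0p.le.trans hlt.le)
  obtain ⟨W, hW, hWl, hWc⟩ := exists_conj (k := k) (H := H) Q q1 hq1Q.symm
  obtain ⟨e, he⟩ := exists_equiv (k := k) (H := H) (R := R)
  let W' : Ideal (R ⊗[k] H) := W.comap (e : R ⊗[k] H →+* R ⊗[k] H)
  haveI : W'.IsPrime := Ideal.comap_isPrime _ _
  haveI : W'.LiesOver q1 := ⟨by
    ext r
    rw [← hWc]
    simp only [Ideal.mem_comap, Ideal.under_def, W']
    exact iff_of_eq (congrArg (· ∈ W) (he r).symm)⟩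
  obtain ⟨P', hP'W, hP', hP'q⟩ := Ideal.exists_ideal_le_liesOver_of_le (p := q0) W' h01
  let P : Ideal (R ⊗[k] H) := P'.comap (e.symm : R ⊗[k] H →+* R ⊗[k] H)
  refine ⟨P.comap (inl k H R), ?_, inferInstance, ⟨?_⟩⟩
  · rw [← hWl]
    intro r hr
    have := hP'W hr
    simpa [W'] using this
  · rw [← hq0p]
    ext a
    simp only [Ideal.mem_comap, Ideal.under_def, P]
    rw [hP'q.over, Ideal.mem_comap, show algebraMap (GLin.invariants k H R) R a = (a : R) from rfl,
      ← co_eq_inl a.2, ← he]
    refine iff_of_eq (congrArg (· ∈ P') ?_)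
    exact (e.symm_apply_apply _).symm

end Groth.L08.FinScheme
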