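import Groth.Agent.L08.InvFinite
import Groth.Prelude.Def_GLin
import Mathlib.RingTheory.Jacobson.Ring
import Mathlib.FieldTheory.IsAlgClosed.Basic

/-!
Invariants separate disjoint closed stable subsets.
-/

universe u w

open TensorProduct

noncomputable section

namespace Groth.L08.GITSep

variable {k : Type u} [Field k] {A : Type u} [CommRing A] [HopfAlgebra k A]
  {R : Type w} [CommRing R] [Algebra k R] [HopfRep.Comod k A R] [GLin.IsCoactAlg k A R]

theorem exists_point [IsAlgClosed k] (S : Type w) [CommRing S] [Algebra k S] [Algebra.FiniteType k S]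
    (J : Ideal S) (hJ : J ≠ ⊤) : ∃ g : S →ₐ[k] k, ∀ s ∈ J, g s = 0 := by
  obtain ⟨M, hM, hle⟩ := Ideal.exists_le_maximal J hJ
  letI := Ideal.Quotient.field M
  haveI : Algebra.FiniteType k (S ⧸ M) :=
    Algebra.FiniteType.of_surjective (Ideal.Quotient.mkₐ k M) Ideal.Quotient.mk_surjective
  haveI : Module.Finite k (S ⧸ M) := finite_of_finite_type_of_isJacobsonRing k (S ⧸ M)
  let e := AlgEquiv.ofBijective (Algebra.ofId k (S ⧸ M)) IsAlgClosed.algebraMap_bijective_of_isIntegral
  refine ⟨e.symm.toAlgHom.comp (Ideal.Quotient.mkₐ k M), fun s hs => ?_⟩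
  simp [Ideal.Quotient.eq_zero_iff_mem.2 (hle hs)]

theorem orbitHom_eq_cf (x : R →ₐ[k] k) (r : R) : GLin.orbitHom k A x r = cf (A := A) x.toLinearMap r := by
  rw [cf_apply, GLin.orbitHom]
  simp only [AlgHom.comp_apply, GLin.coactAlgHom_apply]
  induction HopfRep.Comod.coact (k := k) (A := A) r using TensorProduct.induction_on with
  | zero => simp
  | add p q hp hq => simp only [map_add, hp, hq]
  | tmul p q => simp [Algebra.smul_def]

theorem isSubcomod_ker_orbitHom (x : R →ₐ[k] k) :
    HopfRep.IsSubcomod (k := k) (A := A) ((RingHom.ker (GLin.orbitHom k A x)).restrictScalars k) := by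
  rw [isSubcomod_iff]
  intro φ v hv
  have hv' : GLin.orbitHom k A x v = 0 := hv
  change GLin.orbitHom k A x (fAct R φ v) = 0
  rw [orbitHom_eq_cf] at hv' ⊢
  rw [fAct_comm_of_isComodHom (isComodHom_cf (A := A) x.toLinearMap) φ v, hv', map_zero]

theorem eq_of_mem_fixedPts {x z : R →ₐ[k] k} (h : GLin.InOrbitClosure k A x z) {f : R}
    (hf : f ∈ HopfRep.fixedPts k A R) : z f = x f := by
  have hf' : HopfRep.Comod.coact (k := k) (A := A) f = f ⊗ₜ[k] (1 : A) := hf
  have hm : f - algebraMap k R (x f) ∈ RingHom.ker (GLin.orbitHom k A x) := by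
    rw [RingHom.mem_ker, map_sub, AlgHom.commutes, orbitHom_eq_cf, cf_apply, hf']
    simp [Algebra.algebraMap_eq_smul_one]
  have := h hm
  rw [RingHom.mem_ker, map_sub, AlgHom.commutes, sub_eq_zero] at this
  exact this

/-- a unit in the sum of two stable ideals gives an invariant in the first, congruent to one modulo the second -/
theorem exists_fixed_sep (hG : HopfRep.IsLinearlyReductive k A) {I J : Ideal R}
    (hI : HopfRep.IsSubcomod (k := k) (A := A) (I.restrictScalars k))
    (hJ : HopfRep.IsSubcomod (k := k) (A := A) (J.restrictScalars k)) (h : I ⊔ J = ⊤) :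
    ∃ f ∈ HopfRep.fixedPts k A R, f ∈ I ∧ 1 - f ∈ J := by
  obtain ⟨α, hα⟩ := exists_isIntegral hG
  obtain ⟨a, ha, b, hb, hab⟩ := Submodule.mem_sup.1 (h ▸ Submodule.mem_top : (1 : R) ∈ I ⊔ J)
  refine ⟨rey R α a, hα.rey_mem a, rey_mem_of_isSubcomod hI α ha, ?_⟩
  have h1 : rey R α (1 : R) = 1 := hα.rey_eq (mem_fixedPts_iff.2 (by
    rw [GLin.IsCoactAlg.coact_one, Algebra.TensorProduct.one_def]))
  have : 1 - rey R α a = rey R α b := by
    rw [sub_eq_iff_eq_add', ← map_add, hab, h1]
  rw [this]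
  exact rey_mem_of_isSubcomod hJ α hb

theorem forall_eq_iff [IsAlgClosed k] [Algebra.FiniteType k R] (hG : HopfRep.IsLinearlyReductive k A)
    (x y : R →ₐ[k] k) :
    (∀ f ∈ HopfRep.fixedPts k A R, x f = y f) ↔
      ∃ z : R →ₐ[k] k, GLin.InOrbitClosure k A x z ∧ GLin.InOrbitClosure k A y z := by
  constructor
  · intro hinv
    by_cases hJ : RingHom.ker (GLin.orbitHom k A x) ⊔ RingHom.ker (GLin.orbitHom k A y) = ⊤
    · obtain ⟨f, hf, hfx, hfy⟩ := exists_fixed_sep hG (isSubcomod_ker_orbitHom x) (isSubcomod_ker_orbitHom y) hJ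
      have hz : ∀ (z : R →ₐ[k] k) (r : R), r ∈ RingHom.ker (GLin.orbitHom k A z) → z r = 0 := by
        intro z r hr
        have := congrArg (Coalgebra.counit (R := k)) (RingHom.mem_ker.1 hr)
        rw [orbitHom_eq_cf, apply_cf, fAct_counit, map_zero] at this
        exact this
      have h1 := hz x f hfx
      have h2 := hz y _ hfy
      rw [map_sub, map_one, ← hinv f hf, h1, sub_zero] at h2
      exact absurd h2 one_ne_zero
    · obtain ⟨z, hz⟩ := exists_point (k := k) R _ hJ
      exact ⟨z, fun r hr => hz r (Ideal.mem_sup_left hr), fun r hr => hz r (Ideal.mem_sup_right hr)⟩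
  · rintro ⟨z, hx, hy⟩ f hf
    rw [← eq_of_mem_fixedPts hx hf, ← eq_of_mem_fixedPts hy hf]

theorem comap_map_eq (hG : HopfRep.IsLinearlyReductive k A) (I : Ideal (GLin.invariants k A R)) :
    (I.map (GLin.invariants k A R).val.toRingHom).comap (GLin.invariants k A R).val.toRingHom = I := by
  obtain ⟨α, hα⟩ := exists_isIntegral hG
  refine le_antisymm (fun x hx => ?_) Ideal.le_comap_map
  rw [Ideal.mem_comap] at hx
  have key : ∀ y ∈ I.map (GLin.invariants k A R).val.toRingHom, ∀ r : R,
      ∃ c ∈ I, rey R α (r * y) = (c : R) := by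
    intro y hy
    unfold Ideal.map at hy
    induction hy using Submodule.span_induction with
    | mem y hy =>
      obtain ⟨i, hi, rfl⟩ := hy
      intro r
      let c : GLin.invariants k A R := ⟨rey R α r, hα.rey_mem r⟩
      exact ⟨c * i, I.mul_mem_left c hi, rey_mul_fixed α r i.2⟩
    | zero => intro r; exact ⟨0, zero_mem _, by simp⟩
    | add p q _ _ hp hq =>
      intro r
      obtain ⟨c, hc, e⟩ := hp r
      obtain ⟨d, hd, e'⟩ := hq r
      exact ⟨c + d, add_mem hc hd, by rw [mul_add, map_add, e, e']; rfl⟩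
    | smul s p _ hp =>
      intro r
      obtain ⟨c, hc, e⟩ := hp (r * s)
      exact ⟨c, hc, by rw [smul_eq_mul, ← mul_assoc, e]⟩
  obtain ⟨c, hc, e⟩ := key _ hx 1
  rw [one_mul] at e
  have hxc : x = c := Subtype.ext ((hα.rey_eq x.2).symm.trans e)
  exact hxc ▸ hc

theorem exists_point_lift [IsAlgClosed k] [Algebra.FiniteType k R] (hG : HopfRep.IsLinearlyReductive k A)
    {I : Ideal R} (hI : HopfRep.IsSubcomod (k := k) (A := A) (I.restrictScalars k))
    (φ : GLin.invariants k A R →ₐ[k] k) (hφ : ∀ f : GLin.invariants k A R, (f : R) ∈ I → φ f = 0) :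
    ∃ x : R →ₐ[k] k, (∀ f ∈ I, x f = 0) ∧ ∀ f : GLin.invariants k A R, x (f : R) = φ f := by
  obtain ⟨α, hα⟩ := exists_isIntegral hG
  let J : Ideal R := (RingHom.ker φ).map (GLin.invariants k A R).val.toRingHom
  have hJ : I ⊔ J ≠ ⊤ := by
    intro h
    obtain ⟨a, ha, b, hb, hab⟩ := Submodule.mem_sup.1 (h ▸ Submodule.mem_top : (1 : R) ∈ I ⊔ J)
    let ra : GLin.invariants k A R := ⟨rey R α a, hα.rey_mem a⟩
    have hra : φ ra = 0 := hφ ra (rey_mem_of_isSubcomod hI α ha)
    have hrb : (1 - ra : GLin.invariants k A R) ∈ RingHom.ker φ := by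
      rw [← comap_map_eq hG (RingHom.ker φ), Ideal.mem_comap]
      change (1 : R) - rey R α a ∈ J
      have h1 : rey R α (1 : R) = 1 := hα.rey_eq (mem_fixedPts_iff.2 (by
        rw [GLin.IsCoactAlg.coact_one, Algebra.TensorProduct.one_def]))
      rw [sub_eq_iff_eq_add'.2 ((congrArg (rey R α) hab.symm).trans (map_add _ _ _) |>.symm.trans h1).symm]
      have key : ∀ y ∈ J, ∀ r : R, rey R α (r * y) ∈ J := by
        intro y hy
        change y ∈ Ideal.map _ _ at hy
        unfold Ideal.map at hy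
        induction hy using Submodule.span_induction with
        | mem y hy =>
          obtain ⟨i, hi, rfl⟩ := hy
          intro r
          change rey R α (r * (i : R)) ∈ J
          rw [rey_mul_fixed α r i.2]
          exact J.mul_mem_left _ (Ideal.mem_map_of_mem _ hi)
        | zero => intro r; simp
        | add p q _ _ hp hq => intro r; rw [mul_add, map_add]; exact add_mem (hp r) (hq r)
        | smul s p _ hp => intro r; rw [smul_eq_mul, ← mul_assoc]; exact hp (r * s)
      have := key b hb 1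
      rwa [one_mul] at this
    rw [RingHom.mem_ker, map_sub, map_one, hra, sub_zero] at hrb
    exact one_ne_zero hrb
  obtain ⟨x, hx⟩ := exists_point (k := k) R _ hJ
  refine ⟨x, fun f hf => hx f (Ideal.mem_sup_left hf), fun f => ?_⟩
  have hm : f - algebraMap k _ (φ f) ∈ RingHom.ker φ := by
    rw [RingHom.mem_ker, map_sub, AlgHom.commutes]; exact sub_self _
  have h0 : x (((f - algebraMap k _ (φ f) : GLin.invariants k A R)) : R) = 0 :=
    hx _ (Ideal.mem_sup_right (Ideal.mem_map_of_mem _ hm))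
  change x ((f : R) - algebraMap k R (φ f)) = 0 at h0
  rw [map_sub, AlgHom.commutes, sub_eq_zero] at h0
  exact h0

end Groth.L08.GITSep
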