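import Groth.Agent.L13.CentralExtTorus
import Groth.Agent.L08.AbelianGrp
import Mathlib.AlgebraicGeometry.Sites.Fpqc

/-!
# A central extension of a torus by any algebraic group is commutative
-/

set_option autoImplicit false
set_option backward.isDefEq.respectTransparency.types false
set_option linter.style.haveILetI false

universe u

open CategoryTheory CategoryTheory.Limits MonoidalCategory CartesianMonoidalCategory MonObj GrpObj
open AlgebraicGeometry Groth.L25

noncomputable section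

namespace Groth.L08.CentralExtTorus

theorem lfp_tensorHom {B : Scheme.{u}} {E S E' S' : Over B} (f : E ⟶ S) (g : E' ⟶ S')
    [LocallyOfFinitePresentation f.left] [LocallyOfFinitePresentation g.left] :
    LocallyOfFinitePresentation (f ⊗ₘ g).left := by
  have h1 := (GrpBasics.isPullback_whiskerRight f E').map (Over.forget B)
  have h2 := (GrpBasics.isPullback_whiskerLeft S g).map (Over.forget B)
  have : LocallyOfFinitePresentation (f ▷ E').left :=
    MorphismProperty.of_isPullback (P := @LocallyOfFinitePresentation) h1.flip ‹LocallyOfFinitePresentation f.left›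
  have : LocallyOfFinitePresentation (S ◁ g).left :=
    MorphismProperty.of_isPullback (P := @LocallyOfFinitePresentation) h2.flip ‹LocallyOfFinitePresentation g.left›
  rw [tensorHom_def, Over.comp_left]
  infer_instance

variable {k : Type u} [Field k] {S E : Over (Spec (CommRingCat.of k))} [GrpObj S] [GrpObj E]

theorem commute (hS : Red.IsTorus S) [IsSeparated E.hom] [LocallyOfFiniteType E.hom]
    (q : E ⟶ S) [IsMonHom q] [Flat q.left] [Surjective q.left] [LocallyOfFinitePresentation q.left]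
    (hcentral : ∀ (X : Over (Spec (CommRingCat.of k))) (z : X ⟶ E), z ≫ q = 1 →
      ∀ (X' : Over (Spec (CommRingCat.of k))) (x : X' ⟶ X) (g : X' ⟶ E), (x ≫ z) * g = g * (x ≫ z))
    (X : Over (Spec (CommRingCat.of k))) (g h : X ⟶ E) : g * h = h * g := by
  have hS' := Locus.isMultTypeFT_of_isTorus hS
  have hcen : ∀ {X : Over (Spec (CommRingCat.of k))} (z y : X ⟶ E), z ≫ q = 1 → z * y = y * z :=
    fun {X} z y hz => by simpa using hcentral X z hz X (𝟙 X) y
  have : IsAffineHom S.hom := Central.isAffineHom_of_multTypeFT hS'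
  obtain ⟨_, _⟩ := L13.CentralExtTorus.flat_surjective_tensorHom q q
  have := lfp_tensorHom q q
  have : IsRegularEpi (q ⊗ₘ q).left := inferInstance
  let c : E ⊗ E ⟶ E := fst E E * snd E E * (fst E E)⁻¹ * (snd E E)⁻¹
  have hc : ∀ {X : Over (Spec (CommRingCat.of k))} (x y : X ⟶ E),
      lift x y ≫ c = x * y * x⁻¹ * y⁻¹ := fun x y => by
    simp [c, MonObj.comp_mul, GrpObj.comp_inv]
  -- the commutator only depends on the images in `S`
  have hinv : ∀ {X : Over (Spec (CommRingCat.of k))} (a b : X ⟶ E ⊗ E),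
      a ≫ (q ⊗ₘ q) = b ≫ (q ⊗ₘ q) → a ≫ c = b ≫ c := by
    intro X a b hab
    have h1 : (a ≫ fst E E) ≫ q = (b ≫ fst E E) ≫ q := by
      simpa [Category.assoc] using congrArg (· ≫ fst S S) hab
    have h2 : (a ≫ snd E E) ≫ q = (b ≫ snd E E) ≫ q := by
      simpa [Category.assoc] using congrArg (· ≫ snd S S) hab
    rw [← lift_comp_fst_snd a, ← lift_comp_fst_snd b, hc, hc]
    generalize a ≫ fst E E = x at h1 ⊢
    generalize b ≫ fst E E = x' at h1 ⊢
    generalize a ≫ snd E E = y at h2 ⊢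
    generalize b ≫ snd E E = y' at h2 ⊢
    have hz : (x'⁻¹ * x) ≫ q = 1 := by rw [MonObj.mul_comp, GrpObj.inv_comp, h1, inv_mul_cancel]
    have hw : (y'⁻¹ * y) ≫ q = 1 := by rw [MonObj.mul_comp, GrpObj.inv_comp, h2, inv_mul_cancel]
    obtain ⟨z, rfl⟩ : ∃ z, x = x' * z := ⟨x'⁻¹ * x, by group⟩
    obtain ⟨w, rfl⟩ : ∃ w, y = y' * w := ⟨y'⁻¹ * y, by group⟩
    rw [inv_mul_cancel_left] at hz hw
    calc x' * z * (y' * w) * (x' * z)⁻¹ * (y' * w)⁻¹
        = x' * (z * (y' * w)) * z⁻¹ * x'⁻¹ * (y' * w)⁻¹ := by group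
      _ = x' * (y' * w * z) * z⁻¹ * x'⁻¹ * (y' * w)⁻¹ := by rw [hcen z _ hz]
      _ = x' * y' * (w * x'⁻¹) * w⁻¹ * y'⁻¹ := by group
      _ = x' * y' * (x'⁻¹ * w) * w⁻¹ * y'⁻¹ := by rw [hcen w _ hw]
      _ = x' * y' * x'⁻¹ * y'⁻¹ := by group
  -- descent
  let π := (q ⊗ₘ q).left
  have hπ : pullback.fst π π ≫ c.left = pullback.snd π π ≫ c.left := by
    let P : Over (Spec (CommRingCat.of k)) := Over.mk (pullback.fst π π ≫ (E ⊗ E).hom)
    let a : P ⟶ E ⊗ E := Over.homMk (pullback.fst π π) rfl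
    let b : P ⟶ E ⊗ E := Over.homMk (pullback.snd π π) (by
      show pullback.snd π π ≫ (E ⊗ E).hom = pullback.fst π π ≫ (E ⊗ E).hom
      rw [← Over.w (q ⊗ₘ q), ← Category.assoc, ← pullback.condition, Category.assoc])
    exact congrArg (fun m => m.left) (hinv a b (Over.OverMorphism.ext pullback.condition))
  have : Epi π := Flat.epi_of_flat_of_surjective _
  obtain ⟨b₀, hb₀⟩ := IsRegularEpi.exists_of_isKernelPair π (IsPullback.of_hasPullback π π) c.left hπ
  let β : S ⊗ S ⟶ E := Over.homMk b₀ (by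
    rw [← cancel_epi π, ← Category.assoc, hb₀, Over.w c]
    exact (Over.w (q ⊗ₘ q)).symm)
  have hβ : ∀ {X : Over (Spec (CommRingCat.of k))} (x y : X ⟶ E),
      lift (x ≫ q) (y ≫ q) ≫ β = x * y * x⁻¹ * y⁻¹ := fun {X} x y => by
    rw [← hc, ← lift_map, Category.assoc]
    exact congrArg (lift x y ≫ ·) (Over.OverMorphism.ext hb₀)
  have hβ1 : ∀ {X : Over (Spec (CommRingCat.of k))} (t : X ⟶ S), lift 1 t ≫ β = 1 := fun {X} t => by
    have h1 : lift (1 : S ⟶ S) (𝟙 S) ≫ β = 1 := by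
      have : Epi q.left := Flat.epi_of_flat_of_surjective _
      have h := hβ (1 : E ⟶ E) (𝟙 E)
      rw [MonObj.one_comp, Category.id_comp] at h
      have h' : q ≫ lift (1 : S ⟶ S) (𝟙 S) ≫ β = q ≫ 1 := by
        rw [comp_lift_assoc, MonObj.comp_one, Category.comp_id, h, MonObj.comp_one]
        group
      exact Over.OverMorphism.ext ((cancel_epi q.left).1 (congrArg (fun m => m.left) h'))
    have h2 := congrArg (t ≫ ·) h1
    simpa [comp_lift_assoc] using h2
  -- linearity in the second variable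
  have hlin : ∀ {X : Over (Spec (CommRingCat.of k))} (s t t' : X ⟶ S),
      lift s (t * t') ≫ β = (lift s t ≫ β) * (lift s t' ≫ β) := by
    have huniv : lift (fst S (S ⊗ S)) ((snd S (S ⊗ S) ≫ fst S S) * (snd S (S ⊗ S) ≫ snd S S)) ≫ β =
        (lift (fst S (S ⊗ S)) (snd S (S ⊗ S) ≫ fst S S) ≫ β) *
          (lift (fst S (S ⊗ S)) (snd S (S ⊗ S) ≫ snd S S) ≫ β) := by
      obtain ⟨_, _⟩ := L13.CentralExtTorus.flat_surjective_tensorHom q (q ⊗ₘ q)
      have : Epi (q ⊗ₘ (q ⊗ₘ q)).left := Flat.epi_of_flat_of_surjective _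
      let e := fst E (E ⊗ E)
      let g₁ := snd E (E ⊗ E) ≫ fst E E
      let g₂ := snd E (E ⊗ E) ≫ snd E E
      have he : (q ⊗ₘ (q ⊗ₘ q)) ≫ fst S (S ⊗ S) = e ≫ q := by simp [e]
      have hg₁ : (q ⊗ₘ (q ⊗ₘ q)) ≫ snd S (S ⊗ S) ≫ fst S S = g₁ ≫ q := by simp [g₁]
      have hg₂ : (q ⊗ₘ (q ⊗ₘ q)) ≫ snd S (S ⊗ S) ≫ snd S S = g₂ ≫ q := by simp [g₂]
      have hcom : (e * g₂ * e⁻¹ * g₂⁻¹) ≫ q = 1 := by
        simp only [MonObj.mul_comp, GrpObj.inv_comp]
        rw [Central.mul_comm_of_multTypeFT hS' (e ≫ q) (g₂ ≫ q)]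
        group
      have key : (q ⊗ₘ (q ⊗ₘ q)) ≫ (lift (fst S (S ⊗ S))
            ((snd S (S ⊗ S) ≫ fst S S) * (snd S (S ⊗ S) ≫ snd S S)) ≫ β) =
          (q ⊗ₘ (q ⊗ₘ q)) ≫ ((lift (fst S (S ⊗ S)) (snd S (S ⊗ S) ≫ fst S S) ≫ β) *
            (lift (fst S (S ⊗ S)) (snd S (S ⊗ S) ≫ snd S S) ≫ β)) := by
        simp only [MonObj.comp_mul, comp_lift_assoc, he, hg₁, hg₂, ← MonObj.mul_comp, hβ]
        calc e * (g₁ * g₂) * e⁻¹ * (g₁ * g₂)⁻¹
            = e * g₁ * e⁻¹ * (e * g₂ * e⁻¹ * g₂⁻¹ * g₁⁻¹) := by group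
          _ = e * g₁ * e⁻¹ * (g₁⁻¹ * (e * g₂ * e⁻¹ * g₂⁻¹)) := by rw [hcen _ g₁⁻¹ hcom]
          _ = e * g₁ * e⁻¹ * g₁⁻¹ * (e * g₂ * e⁻¹ * g₂⁻¹) := by group
      exact Over.OverMorphism.ext
        ((cancel_epi (q ⊗ₘ (q ⊗ₘ q)).left).1 (congrArg (fun m => m.left) key))
    intro X s t t'
    have h := congrArg (lift s (lift t t') ≫ ·) huniv
    simpa [MonObj.comp_mul, comp_lift_assoc] using h
  -- the homomorphism over `S`
  let H' := Red.bc S.hom S
  let u : H' ⟶ Red.bc S.hom E := L13.CentralExtTorus.pairHom β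
  have hmul : ∀ {Y : Over S.left} (x y : Y ⟶ H'), (x * y) ≫ u = (x ≫ u) * (y ≫ u) := fun {Y} x y => by
    rw [← NilAction.ofBase_toBase S.hom ((x * y) ≫ u), L13.CentralExtTorus.toBase_pairHom, NilAction.toBase_mul, hlin,
      ← L13.CentralExtTorus.toBase_pairHom, ← L13.CentralExtTorus.toBase_pairHom, ← NilAction.toBase_mul, NilAction.ofBase_toBase]
  have : IsMonHom u := by
    refine ⟨?_, ?_⟩
    · have h1 : (η[H'] : 𝟙_ (Over S.left) ⟶ _) = 1 := by
        rw [Hom.one_def, toUnit_unique (toUnit _) (𝟙 _), Category.id_comp]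
      have h2 := hmul (1 : 𝟙_ (Over S.left) ⟶ H') 1
      rw [_root_.one_mul] at h2
      rw [h1, left_eq_mul.1 h2, Hom.one_def, toUnit_unique (toUnit _) (𝟙 _), Category.id_comp]
    · rw [MonObj.mul_eq_mul, hmul, MonObj.mul_eq_mul, MonObj.comp_mul, tensorHom_fst, tensorHom_snd]
  have : IsSeparated (Red.bc S.hom E).hom := MorphismProperty.pullback_snd _ _ ‹IsSeparated E.hom›
  have : LocallyOfFiniteType S.hom := TrivLocus.lft_of_multTypeFT hS'
  have : IsLocallyNoetherian S.left := LocallyOfFiniteType.isLocallyNoetherian S.hom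
  obtain ⟨U, hUcl, hU, hUtriv⟩ := TrivLocus.main (MultTypeBC.isMultTypeFT_bc hS' S.hom) (Or.inl ‹_›) u
  let e : Spec (CommRingCat.of k) ⟶ S.left := η[S].left
  have he : e ≫ S.hom = 𝟙 _ := GrpBasics.unit_comp_hom S
  have htriv : TrivLocus.Triv u e := by
    intro Y p a
    have hk : L13.CentralExtTorus.kT Y = 1 := by
      apply Over.OverMorphism.ext
      show Y.hom = _
      rw [MonoFibres.one_left, ← Over.w p]
      show p.left ≫ e = ((p.left ≫ e) ≫ S.hom) ≫ e
      rw [Category.assoc, Category.assoc, reassoc_of% he]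
    rw [← NilAction.ofBase_toBase S.hom (a ≫ u), L13.CentralExtTorus.toBase_pairHom, hk, hβ1,
      ← NilAction.toBase_one S.hom (Y := Y), NilAction.ofBase_toBase]
  have : ConnectedSpace ↥S.left := L13.TorusConn.connectedSpace S hS
  let o : Spec (CommRingCat.of k) := IsLocalRing.closedPoint k
  have hmem : e o ∈ U := by
    rw [hU, ← TrivLocus.triv_iff_map]
    exact (TrivLocus.triv_field_iff u e).1 htriv
  have htop : U = ⊤ := by
    rcases isClopen_iff.1 (⟨hUcl, U.2⟩ : IsClopen (U : Set S.left)) with h | h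
    · exact absurd hmem (by simp [← SetLike.mem_coe, h])
    · exact TopologicalSpace.Opens.ext h
  subst htop
  rw [← TrivLocus.triv_iff_map] at hUtriv
  have hone := hUtriv.comp u S.left.topIso.inv S.left.topIso.inv_hom_id
  have hzero : ∀ {Y : Over S.left} (a : Y ⟶ H'), a ≫ u = 1 := fun {Y} a =>
    hone Y (Over.homMk Y.hom (Category.comp_id _)) a
  -- conclusion
  let Y : Over S.left := Over.mk (g ≫ q).left
  let cc : Over.mk (Y.hom ≫ S.hom) ⟶ X := Over.homMk (𝟙 X.left) (by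
    show 𝟙 X.left ≫ X.hom = (g ≫ q).left ≫ S.hom
    rw [Category.id_comp, Over.w (g ≫ q)])
  have : IsIso cc := by
    have : IsIso cc.left := inferInstanceAs (IsIso (𝟙 X.left))
    have : IsIso ((Over.forget _).map cc) := this
    exact isIso_of_reflects_iso cc (Over.forget _)
  have h2 := L13.CentralExtTorus.toBase_pairHom β (NilAction.ofBase S.hom (cc ≫ h ≫ q))
  rw [hzero, NilAction.toBase_one, NilAction.toBase_ofBase] at h2
  have hk : L13.CentralExtTorus.kT Y = cc ≫ g ≫ q := Over.OverMorphism.ext (Category.id_comp (g ≫ q).left).symm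
  rw [hk, ← comp_lift_assoc, hβ, eq_comm, ← MonObj.comp_one cc, cancel_epi] at h2
  exact mul_inv_eq_iff_eq_mul.1 (mul_inv_eq_one.1 h2)

end Groth.L08.CentralExtTorus
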