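import Groth.Agent.L08.Subcoalg
import Mathlib.RingTheory.Bialgebra.Hom
import Mathlib.RingTheory.Coalgebra.GroupLike
import Mathlib.RingTheory.Ideal.GoingUp
import Mathlib.RingTheory.IntegralClosure.IsIntegral.Basic
import Mathlib.RingTheory.Norm.Defs
import Mathlib.RingTheory.Norm.Basic
import Mathlib.RingTheory.TensorProduct.Free
import Mathlib.RingTheory.TensorProduct.Finite
import Mathlib.RingTheory.Coalgebra.Convolution
import Mathlib.FieldTheory.IsAlgClosed.Basic
import Mathlib.LinearAlgebra.Dimension.Finrank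

/-!
# Lifting group-like elements along a surjection of commutative cocommutative bialgebras

A group-like element of the target lifts, up to a power equal to the degree of a finite extension.
-/

set_option autoImplicit false
set_option backward.isDefEq.respectTransparency.types false
set_option linter.style.haveILetI false

universe u

open TensorProduct WithConv

noncomputable section

namespace Groth.L08.CharExtend

variable {k : Type u} [Field k]

section Sep

variable {A : Type u} [AddCommGroup A] [Module k A] {M : Type u} [AddCommGroup M] [Module k M]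

/-- the pairing with the left factor -/
def pairL (φ : A →ₗ[k] k) : A ⊗[k] M →ₗ[k] M :=
  (TensorProduct.lid k M).toLinearMap ∘ₗ φ.rTensor M

@[simp] theorem pairL_tmul (φ : A →ₗ[k] k) (a : A) (m : M) : pairL φ (a ⊗ₜ[k] m) = φ a • m := by
  simp [pairL]

theorem ext_pairL {ι : Type*} (b : Module.Basis ι k A) {z z' : A ⊗[k] M}
    (h : ∀ i, pairL (b.coord i) z = pairL (b.coord i) z') : z = z' := by
  classical
  refine (TensorProduct.equivFinsuppOfBasisLeft b).injective (Finsupp.ext fun i => ?_)
  have e : ∀ y : A ⊗[k] M, TensorProduct.equivFinsuppOfBasisLeft b y i = pairL (b.coord i) y := by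
    intro y
    induction y using TensorProduct.induction_on with
    | zero => simp
    | tmul a m => simp
    | add x y hx hy => simp [hx, hy]
  rw [e, e, h]

/-- functionals on a tensor square -/
def pair₂ (φ ψ : A →ₗ[k] k) : A ⊗[k] A →ₗ[k] k := LinearMap.mul' k k ∘ₗ TensorProduct.map φ ψ

theorem ext_pair₂ {z z' : (A ⊗[k] A) ⊗[k] M}
    (h : ∀ φ ψ : A →ₗ[k] k, pairL (pair₂ φ ψ) z = pairL (pair₂ φ ψ) z') : z = z' := by
  classical
  let b := Module.Basis.ofVectorSpace k A
  refine ext_pairL (b.tensorProduct b) fun i => ?_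
  have e : (b.tensorProduct b).coord i = pair₂ (b.coord i.1) (b.coord i.2) := by
    refine TensorProduct.ext' fun x y => ?_
    simp only [pair₂, Module.Basis.coord_apply, LinearMap.comp_apply, TensorProduct.map_tmul, LinearMap.mul'_apply]
    exact (Module.Basis.tensorProduct_repr_tmul_apply b b x y i.1 i.2).trans (mul_comm _ _)
  rw [e]
  exact h _ _

end Sep

section Norm

variable {R R' L : Type u} [CommRing R] [Algebra k R] [CommRing R'] [Algebra k R'] [CommRing L] [Algebra k L]

/-- the norm of a finite free algebra commutes with base change -/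
theorem norm_map {ι : Type*} [Fintype ι] (bL : Module.Basis ι k L) (φ : R →ₐ[k] R') (x : R ⊗[k] L) :
    Algebra.norm R' (Algebra.TensorProduct.map φ (AlgHom.id k L) x) = φ (Algebra.norm R x) := by
  classical
  rw [Algebra.norm_eq_matrix_det (Algebra.TensorProduct.basis R' bL),
    Algebra.norm_eq_matrix_det (Algebra.TensorProduct.basis R bL)]
  refine Eq.trans ?_ (RingHom.map_det (φ : R →+* R') _).symm
  congr 1
  refine Matrix.ext fun i j => ?_
  rw [RingHom.mapMatrix_apply, Matrix.map_apply, Algebra.leftMulMatrix_eq_repr_mul,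
    Algebra.leftMulMatrix_eq_repr_mul, Algebra.TensorProduct.basis_apply, Algebra.TensorProduct.basis_apply]
  induction x using TensorProduct.induction_on with
  | zero => simp
  | tmul r l => simp
  | add x y hx hy => simp only [map_add, add_mul, Finsupp.add_apply, hx, hy]

end Norm

section Char

variable {A B : Type u} [CommRing A] [Bialgebra k A] [Coalgebra.IsCocomm k A]
  [CommRing B] [Bialgebra k B] [Coalgebra.IsCocomm k B]

/-- precomposition with a coalgebra map, on dual algebras -/
def transpose (π : A →ₐc[k] B) : WithConv (B →ₗ[k] k) →ₐ[k] WithConv (A →ₗ[k] k) where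
  toFun φ := toConv (φ.ofConv ∘ₗ (π : A →ₗc[k] B).toLinearMap)
  map_one' := WithConv.ext (LinearMap.ext fun a => CoalgHomClass.counit_comp_apply π a)
  map_mul' φ ψ := by
    refine WithConv.ext ?_
    exact LinearMap.convMul_comp_coalgHom_distrib φ ψ (π : A →ₗc[k] B)
  map_zero' := WithConv.ext (LinearMap.ext fun _ => rfl)
  map_add' _ _ := WithConv.ext (LinearMap.ext fun _ => rfl)
  commutes' c := WithConv.ext (LinearMap.ext fun a => by
    simp [Algebra.algebraMap_eq_smul_one, LinearMap.convOne_def])

/-- evaluation at a group-like element -/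
def evGL {b : B} (hb : IsGroupLikeElem k b) : WithConv (B →ₗ[k] k) →ₐ[k] k where
  toFun φ := φ.ofConv b
  map_one' := by simp [LinearMap.convOne_def, hb.counit_eq_one]
  map_mul' φ ψ := by
    simp [LinearMap.convMul_def, hb.comul_eq_tmul_self]
  map_zero' := rfl
  map_add' _ _ := rfl
  commutes' c := by simp [Algebra.algebraMap_eq_smul_one, LinearMap.convOne_def, hb.counit_eq_one]

/-- a character of the dual of a finite subcoalgebra is an element -/
theorem exists_elem {L : Type u} [CommRing L] [Algebra k L] (C : Submodule k A) [Module.Finite k C]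
    (χ : WithConv (A →ₗ[k] k) →ₐ[k] L) (hχI : ∀ φ : WithConv (A →ₗ[k] k), (∀ c ∈ C, φ.ofConv c = 0) → χ φ = 0)
    (π : A →ₐc[k] B) {b : B} (hχπ : ∀ f : WithConv (B →ₗ[k] k), χ (transpose π f) = algebraMap k L (f.ofConv b)) :
    ∃ g : A ⊗[k] L,
      Algebra.TensorProduct.map (Bialgebra.comulAlgHom k A) (AlgHom.id k L) g =
        Algebra.TensorProduct.map (Algebra.TensorProduct.includeLeft : A →ₐ[k] A ⊗[k] A) (AlgHom.id k L) g *
          Algebra.TensorProduct.map (Algebra.TensorProduct.includeRight : A →ₐ[k] A ⊗[k] A) (AlgHom.id k L) g ∧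
      Algebra.TensorProduct.map (Bialgebra.counitAlgHom k A) (AlgHom.id k L) g = 1 ∧
      Algebra.TensorProduct.map (π : A →ₐ[k] B) (AlgHom.id k L) g = b ⊗ₜ[k] 1 := by
  classical
  let bc := Module.finBasis k C
  obtain ⟨Cc, hCc⟩ := Submodule.exists_isCompl C
  let e : Fin (Module.finrank k C) → WithConv (A →ₗ[k] k) := fun i =>
    toConv (bc.coord i ∘ₗ C.projectionOnto Cc hCc)
  let g : A ⊗[k] L := ∑ i, (bc i : A) ⊗ₜ[k] χ (e i)
  have hg : ∀ φ : WithConv (A →ₗ[k] k), pairL φ.ofConv g = χ φ := by
    intro φ
    have h1 : ∀ c ∈ C, (φ - ∑ i, φ.ofConv (bc i : A) • e i).ofConv c = 0 := by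
      intro c hc
      have h2 : C.projectionOnto Cc hCc c = ⟨c, hc⟩ := Submodule.projectionOnto_apply_left hCc ⟨c, hc⟩
      have h3 : ∑ i, bc.repr ⟨c, hc⟩ i • (bc i : A) = c := by
        have := congrArg (Submodule.subtype C) (bc.sum_repr ⟨c, hc⟩)
        rw [map_sum] at this
        simpa only [map_smul, Submodule.subtype_apply] using this
      simp only [WithConv.ofConv_sub, LinearMap.sub_apply, WithConv.ofConv_sum, WithConv.ofConv_smul,
        LinearMap.sum_apply, LinearMap.smul_apply, e, WithConv.ofConv_toConv, LinearMap.comp_apply, h2]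
      conv_lhs => arg 1; rw [← h3, map_sum]
      simp [Module.Basis.coord_apply, mul_comm]
    have h4 := hχI _ h1
    rw [map_sub, sub_eq_zero, map_sum] at h4
    rw [h4]
    simp [g]
  refine ⟨g, ext_pair₂ fun φ ψ => ?_, ?_, ?_⟩
  · have e1 : ∀ z : A ⊗[k] L, pairL (pair₂ φ ψ)
        (Algebra.TensorProduct.map (Bialgebra.comulAlgHom k A) (AlgHom.id k L) z) =
          pairL (toConv φ * toConv ψ).ofConv z := by
      intro z
      induction z using TensorProduct.induction_on with
      | zero => simp
      | tmul x l => simp [pair₂, LinearMap.convMul_def]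
      | add x y hx hy => simp only [map_add, hx, hy]
    rw [e1, hg, map_mul, ← hg, ← hg]
    have e2 : ∀ z w : A ⊗[k] L, pairL (pair₂ φ ψ)
        (Algebra.TensorProduct.map (Algebra.TensorProduct.includeLeft : A →ₐ[k] A ⊗[k] A) (AlgHom.id k L) z *
          Algebra.TensorProduct.map (Algebra.TensorProduct.includeRight : A →ₐ[k] A ⊗[k] A) (AlgHom.id k L) w) =
        pairL φ z * pairL ψ w := by
      intro z w
      induction z using TensorProduct.induction_on with
      | zero => simp
      | add x y hx hy => simp only [map_add, add_mul, hx, hy]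
      | tmul x l =>
        induction w using TensorProduct.induction_on with
        | zero => simp
        | add x y hx hy => simp only [map_add, mul_add, hx, hy]
        | tmul y m => simp [pair₂, smul_smul, mul_comm]
    exact (e2 g g).symm
  · refine (Algebra.TensorProduct.lid k L).injective ?_
    rw [map_one, ← map_one χ, ← hg]
    have e1 : ∀ z : A ⊗[k] L, Algebra.TensorProduct.lid k L
        (Algebra.TensorProduct.map (Bialgebra.counitAlgHom k A) (AlgHom.id k L) z) =
          pairL (1 : WithConv (A →ₗ[k] k)).ofConv z := by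
      intro z
      induction z using TensorProduct.induction_on with
      | zero => simp
      | tmul x l => simp [LinearMap.convOne_def]
      | add x y hx hy => simp only [map_add, hx, hy]
    exact e1 g
  · refine ext_pairL (Module.Basis.ofVectorSpace k B) fun i => ?_
    have e1 : ∀ z : A ⊗[k] L, pairL ((Module.Basis.ofVectorSpace k B).coord i)
        (Algebra.TensorProduct.map (π : A →ₐ[k] B) (AlgHom.id k L) z) =
          pairL (transpose π (toConv ((Module.Basis.ofVectorSpace k B).coord i))).ofConv z := by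
      intro z
      induction z using TensorProduct.induction_on with
      | zero => simp
      | tmul x l => simp [transpose]
      | add x y hx hy => simp only [map_add, hx, hy]
    rw [e1, hg, hχπ, pairL_tmul, Algebra.algebraMap_eq_smul_one]

theorem exists_maximal_over {S R : Type*} [CommRing S] [Algebra k S] [CommRing R] [Algebra k R] [Module.Finite k R]
    (ρ : S →ₐ[k] R) (P : Ideal S) [P.IsMaximal] (hP : RingHom.ker ρ.toRingHom ≤ P) :
    ∃ Q : Ideal R, Q.IsMaximal ∧ Q.comap ρ.toRingHom = P := by
  letI : Algebra S R := ρ.toRingHom.toAlgebra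
  haveI : IsScalarTower k S R := IsScalarTower.of_algebraMap_eq fun c => (ρ.commutes c).symm
  haveI : Module.Finite S R := Module.Finite.of_restrictScalars_finite k S R
  exact Ideal.exists_ideal_over_maximal_of_isIntegral (S := R) P hP

set_option maxHeartbeats 1000000 in
/-- the lift over a finite extension -/
theorem exists_lift_finite (π : A →ₐc[k] B) (hπ : Function.Surjective π) {b : B} (hb : IsGroupLikeElem k b) :
    ∃ (L : Type u) (_ : Field L) (_ : Algebra k L) (_ : Module.Finite k L) (g : A ⊗[k] L),
      Algebra.TensorProduct.map (Bialgebra.comulAlgHom k A) (AlgHom.id k L) g =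
        Algebra.TensorProduct.map (Algebra.TensorProduct.includeLeft : A →ₐ[k] A ⊗[k] A) (AlgHom.id k L) g *
          Algebra.TensorProduct.map (Algebra.TensorProduct.includeRight : A →ₐ[k] A ⊗[k] A) (AlgHom.id k L) g ∧
      Algebra.TensorProduct.map (Bialgebra.counitAlgHom k A) (AlgHom.id k L) g = 1 ∧
      Algebra.TensorProduct.map (π : A →ₐ[k] B) (AlgHom.id k L) g = b ⊗ₜ[k] 1 := by
  classical
  obtain ⟨a, ha⟩ := hπ b
  obtain ⟨C, hfin, hsub, hC⟩ := exists_finite_subcoalg (k := k) ({a} : Finset A)
  haveI := hfin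
  let I : Ideal (WithConv (A →ₗ[k] k)) :=
    { carrier := {φ | ∀ c ∈ C, φ.ofConv c = 0}
      add_mem' := fun {φ ψ} hφ hψ c hc => by simp [hφ c hc, hψ c hc]
      zero_mem' := fun c _ => rfl
      smul_mem' := fun r φ hφ c hc => by
        obtain ⟨z, hz⟩ := hC c hc
        show (r * φ).ofConv c = 0
        simp only [LinearMap.convMul_def, WithConv.ofConv_toConv, LinearMap.comp_apply]
        rw [← hz, ← LinearMap.comp_apply (TensorProduct.map r.ofConv φ.ofConv), ← TensorProduct.map_comp,
          show φ.ofConv ∘ₗ C.subtype = 0 from LinearMap.ext fun x => hφ x x.2, TensorProduct.map_zero_right]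
        simp }
  let qI := Ideal.Quotient.mkₐ k I
  haveI : Module.Finite k (WithConv (A →ₗ[k] k) ⧸ I) := by
    obtain ⟨Cc, hCc⟩ := Submodule.exists_isCompl C
    let ext : Module.Dual k C →ₗ[k] WithConv (A →ₗ[k] k) :=
      { toFun := fun f => toConv (f ∘ₗ C.projectionOnto Cc hCc)
        map_add' := fun _ _ => rfl
        map_smul' := fun _ _ => rfl }
    refine Module.Finite.of_surjective (qI.toLinearMap ∘ₗ ext) fun x => ?_
    obtain ⟨φ, rfl⟩ := Ideal.Quotient.mk_surjective x
    refine ⟨φ.ofConv ∘ₗ C.subtype, Ideal.Quotient.eq.2 fun c hc => ?_⟩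
    simp only [WithConv.ofConv_sub, LinearMap.sub_apply]
    show φ.ofConv (C.projectionOnto Cc hCc c : A) - φ.ofConv c = 0
    rw [show C.projectionOnto Cc hCc c = ⟨c, hc⟩ from
      Submodule.projectionOnto_apply_left hCc ⟨c, hc⟩, sub_self]
  let ρ := qI.comp (transpose π)
  haveI : (RingHom.ker (evGL hb)).IsMaximal :=
    RingHom.ker_isMaximal_of_surjective _ fun c => ⟨algebraMap k _ c, (evGL hb).commutes c⟩
  obtain ⟨Q, hQ, hQc⟩ := exists_maximal_over (k := k) (S := WithConv (B →ₗ[k] k)) (R := WithConv (A →ₗ[k] k) ⧸ I) ρ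
    (RingHom.ker (evGL hb)) (fun φ hφ => by
      have h1 : (transpose π φ) ∈ I := Ideal.Quotient.eq_zero_iff_mem.1 (RingHom.mem_ker.1 hφ)
      show φ.ofConv b = 0
      rw [← ha]
      exact h1 a (hsub (by simp)))
  haveI := hQ
  let L := (WithConv (A →ₗ[k] k) ⧸ I) ⧸ Q
  letI : Field L := Ideal.Quotient.field Q
  haveI : Module.Finite k L := Module.Finite.of_surjective (Ideal.Quotient.mkₐ k Q).toLinearMap
    Ideal.Quotient.mk_surjective
  let χ : WithConv (A →ₗ[k] k) →ₐ[k] L := (Ideal.Quotient.mkₐ k Q).comp qI
  have hχI : ∀ φ ∈ I, χ φ = 0 := fun φ hφ => by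
    show Ideal.Quotient.mk Q (Ideal.Quotient.mk I φ) = 0
    rw [Ideal.Quotient.eq_zero_iff_mem.2 hφ, map_zero]
  have hχπ : ∀ f : WithConv (B →ₗ[k] k), χ (transpose π f) = algebraMap k L (f.ofConv b) := by
    intro f
    have h1 : f - algebraMap k _ (f.ofConv b) ∈ RingHom.ker (evGL hb) := by
      rw [RingHom.mem_ker, map_sub, AlgHom.commutes]
      exact sub_self _
    rw [← hQc, Ideal.mem_comap] at h1
    have h2 : Ideal.Quotient.mkₐ k Q (ρ (f - algebraMap k _ (f.ofConv b))) = 0 :=
      Ideal.Quotient.eq_zero_iff_mem.2 h1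
    rw [map_sub, map_sub, AlgHom.commutes, AlgHom.commutes, sub_eq_zero] at h2
    exact h2
  exact ⟨L, inferInstance, inferInstance, inferInstance, exists_elem C χ (fun φ hφ => hχI φ hφ) π hχπ⟩

/-- **group-like elements lift, up to a power** -/
theorem exists_pow_lift (π : A →ₐc[k] B) (hπ : Function.Surjective π) {b : B} (hb : IsGroupLikeElem k b) :
    ∃ n : ℕ, 0 < n ∧ (IsAlgClosed k → n = 1) ∧ ∃ a : A, IsGroupLikeElem k a ∧ π a = b ^ n := by
  classical
  obtain ⟨L, hF, hA, hfin, g, h1, h2, h3⟩ := exists_lift_finite π hπ hb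
  let bL := Module.finBasis k L
  refine ⟨Module.finrank k L, Module.finrank_pos, fun hk => ?_, Algebra.norm A g, ⟨?_, ?_⟩, ?_⟩
  · have hbij := IsAlgClosed.algebraMap_bijective_of_isIntegral (k := k) (K := L)
    rw [← (LinearEquiv.ofBijective (Algebra.linearMap k L) hbij).finrank_eq]
    exact Module.finrank_self k
  · have h := norm_map bL (Bialgebra.counitAlgHom k A) g
    rw [h2, map_one] at h
    exact h.symm
  · have h := norm_map bL (Bialgebra.comulAlgHom k A) g
    rw [h1, map_mul, norm_map bL, norm_map bL] at h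
    exact h.symm.trans (by simp)
  · have h := norm_map bL (π : A →ₐ[k] B) g
    rw [h3] at h
    refine h.symm.trans ((?_ : Algebra.norm B (b ⊗ₜ[k] (1 : L)) = _))
    rw [show b ⊗ₜ[k] (1 : L) = algebraMap B (B ⊗[k] L) b from rfl,
      Algebra.norm_algebraMap_of_basis (Algebra.TensorProduct.basis B bL), Fintype.card_fin]

end Char

end Groth.L08.CharExtend
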