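import Groth.Agent.L08.Chevalley
import Groth.Agent.L08.CartierRed
import Groth.Agent.L01.NagataFiniteType
import Groth.Agent.L18.NormalizationField
import Mathlib.LinearAlgebra.Matrix.Charpoly.Coeff
import Mathlib.LinearAlgebra.Matrix.Charpoly.Eigs
import Mathlib.LinearAlgebra.Eigenspace.Zero
import Mathlib.LinearAlgebra.Eigenspace.Charpoly
import Mathlib.LinearAlgebra.Eigenspace.Minpoly
import Mathlib.RingTheory.TensorProduct.Maps
import Mathlib.RingTheory.IntegralClosure.IsIntegralClosure.Basic
import Mathlib.Algebra.Algebra.Bilinear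

/-!
# Characters of a closed subgroup are finite over characters of the group
-/

universe u v w

open TensorProduct Matrix

noncomputable section

namespace Groth.L08.CharFinite

open Chevalley

variable {k : Type u} [Field k] {A : Type v} [CommRing A] [HopfAlgebra k A]

/-- the character of a comodule on a coordinate space -/
def chr {d : ℕ} (c : HopfRep.Comod k A (Fin d → k)) : A :=
  ∑ i : Fin d, TensorProduct.lid k A (LinearMap.rTensor A (LinearMap.proj i) (c.coact (Pi.single i 1)))

/-- the matrix of a comodule on a coordinate space -/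
def matOf {d : ℕ} (c : HopfRep.Comod k A (Fin d → k)) : Matrix (Fin d) (Fin d) A :=
  Matrix.of fun i j => TensorProduct.lid k A (LinearMap.rTensor A (LinearMap.proj i) (c.coact (Pi.single j 1)))

theorem trace_matOf {d : ℕ} (c : HopfRep.Comod k A (Fin d → k)) : (matOf c).trace = chr c := rfl

theorem isComatrix_matOf {d : ℕ} (c : HopfRep.Comod k A (Fin d → k)) : IsComatrix (k := k) (matOf c) := by
  have hc : ∀ j, c.coact (Pi.single j 1) = ∑ i, Pi.single i 1 ⊗ₜ[k] matOf c i j := by
    intro j
    have : ∀ z : (Fin d → k) ⊗[k] A,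
        z = ∑ i, Pi.single i 1 ⊗ₜ[k] TensorProduct.lid k A (LinearMap.rTensor A (LinearMap.proj i) z) := by
      intro z
      induction z using TensorProduct.induction_on with
      | zero => simp
      | add x y hx hy =>
        simp only [map_add, tmul_add, Finset.sum_add_distrib]
        rw [← hx, ← hy]
      | tmul x a =>
        simp only [LinearMap.rTensor_tmul, TensorProduct.lid_tmul, LinearMap.proj_apply, ← smul_tmul]
        rw [← sum_tmul]
        congr 1
        exact (pi_eq_sum_univ' x)
    exact this _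
  refine ⟨fun i j => ?_, fun i j => ?_⟩
  · have h1 := LinearMap.congr_fun c.coassoc (Pi.single j (1 : k))
    simp only [LinearMap.comp_apply, LinearEquiv.coe_coe, hc, map_sum, LinearMap.rTensor_tmul,
      LinearMap.lTensor_tmul, sum_tmul, TensorProduct.assoc_tmul] at h1
    have h2 := congrArg (fun z => TensorProduct.lid k (A ⊗[k] A) (LinearMap.rTensor (A ⊗[k] A) (LinearMap.proj i) z)) h1
    simp only [map_sum, LinearMap.rTensor_tmul, TensorProduct.lid_tmul, LinearMap.proj_apply, Pi.single_apply,
      ite_smul, one_smul, zero_smul, Finset.sum_ite_eq, Finset.mem_univ, if_true] at h2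
    exact h2.symm
  · have h1 := LinearMap.congr_fun c.counit_comp (Pi.single j (1 : k))
    simp only [LinearMap.comp_apply, hc, map_sum, LinearMap.lTensor_tmul, LinearMap.flip_apply,
      TensorProduct.mk_apply] at h1
    have h2 := congrArg (fun z => TensorProduct.lid k k (LinearMap.rTensor k (LinearMap.proj i) z)) h1
    simp only [map_sum, LinearMap.rTensor_tmul, TensorProduct.lid_tmul, LinearMap.proj_apply, Pi.single_apply,
      ite_smul, one_smul, zero_smul, Finset.sum_ite_eq, Finset.mem_univ, if_true, smul_eq_mul, mul_one, ite_mul, one_mul, zero_mul] at h2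
    exact h2

theorem matOf_comodOf {d : ℕ} (a : Fin d → Fin d → A) (h : IsComatrix (k := k) a) :
    matOf (comodOf a h) = Matrix.of a := by
  ext i j
  change TensorProduct.lid k A (LinearMap.rTensor A (LinearMap.proj i) (coactOf a (Pi.single j 1))) = a i j
  simp [coactOf_single, Pi.single_apply, ite_smul]

theorem isComatrix_map {B : Type w} [CommRing B] [HopfAlgebra k B] (π : A →ₐc[k] B) {n : Type*} [Fintype n]
    [DecidableEq n] {a : n → n → A} (h : IsComatrix (k := k) a) : IsComatrix (k := k) fun i j => π (a i j) := by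
  refine ⟨fun i j => ?_, fun i j => ?_⟩
  · rw [← CoalgHomClass.map_comp_comul_apply π, h.comul_eq]
    simp
  · rw [CoalgHomClass.counit_comp_apply π, h.counit_eq]

theorem map_map_algebraMap {T : Type*} [CommRing T] [Algebra k T] (f : A →+* T)
    (hf : ∀ c, f (algebraMap k A c) = algebraMap k T c) {p q : Type*} (X : Matrix p q k) :
    (X.map (algebraMap k A)).map f = X.map (algebraMap k T) := by
  ext i j; simp [hf]

/-- a comatrix cut by an idempotent commuting with it -/
theorem exists_comod_chr {n : Type*} [Fintype n] [DecidableEq n] (a : Matrix n n A) (h : IsComatrix (k := k) a)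
    (E : Matrix n n k) (hE : E * E = E) (hcomm : E.map (algebraMap k A) * a = a * E.map (algebraMap k A)) :
    ∃ (d : ℕ) (c : HopfRep.Comod k A (Fin d → k)), chr c = (a * E.map (algebraMap k A)).trace := by
  classical
  let f := Matrix.toLin' E
  let W := LinearMap.range f
  haveI : Module.Free k W := Module.Free.of_divisionRing k W
  let b := Module.finBasis k W
  let P : Matrix n (Fin (Module.finrank k W)) k := LinearMap.toMatrix b (Pi.basisFun k n) W.subtype
  let Q : Matrix (Fin (Module.finrank k W)) n k := LinearMap.toMatrix (Pi.basisFun k n) b f.rangeRestrict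
  have hPQ : P * Q = E := by
    rw [← LinearMap.toMatrix_comp, LinearMap.subtype_comp_codRestrict]
    rw [LinearMap.toMatrix_eq_toMatrix', LinearMap.toMatrix'_toLin']
  have hQP : Q * P = 1 := by
    rw [← LinearMap.toMatrix_comp, ← LinearMap.toMatrix_id b]
    congr 1
    refine LinearMap.ext fun x => Subtype.ext ?_
    obtain ⟨y, hy⟩ := x.2
    change f x.1 = x.1
    rw [← hy]
    change Matrix.toLin' E (Matrix.toLin' E y) = _
    rw [← LinearMap.comp_apply, ← Matrix.toLin'_mul, hE]
  let a' : Matrix (Fin (Module.finrank k W)) (Fin (Module.finrank k W)) A :=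
    Q.map (algebraMap k A) * a * P.map (algebraMap k A)
  have hPQ' : P.map (algebraMap k A) * Q.map (algebraMap k A) = E.map (algebraMap k A) := by
    rw [← Matrix.map_mul, hPQ]
  have hQP' : Q.map (algebraMap k A) * P.map (algebraMap k A) = 1 := by
    rw [← Matrix.map_mul, hQP, Matrix.map_one _ (map_zero _) (map_one _)]
  let T2 := A ⊗[k] A
  let L : A →+* T2 := ((Algebra.TensorProduct.includeLeft : A →ₐ[k] A ⊗[k] A) : A →+* A ⊗[k] A)
  let Rr : A →+* T2 := ((Algebra.TensorProduct.includeRight : A →ₐ[k] A ⊗[k] A) : A →+* A ⊗[k] A)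
  let D : A →+* T2 := (Bialgebra.comulAlgHom k A : A →+* A ⊗[k] A)
  have hΔa : a.map D = a.map L * a.map Rr := by
    ext i j
    simp only [Matrix.map_apply, Matrix.mul_apply]
    refine (h.comul_eq i j).trans (Finset.sum_congr rfl fun l _ => ?_)
    simp [L, Rr]
    exact ((Algebra.TensorProduct.tmul_mul_tmul _ _ _ _).trans (by rw [mul_one, one_mul])).symm
  have hD : ∀ c, D (algebraMap k A c) = algebraMap k T2 c := (Bialgebra.comulAlgHom k A).commutes
  have hL : ∀ c, L (algebraMap k A c) = algebraMap k T2 c :=
    (Algebra.TensorProduct.includeLeft : A →ₐ[k] A ⊗[k] A).commutes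
  have hR : ∀ c, Rr (algebraMap k A c) = algebraMap k T2 c :=
    (Algebra.TensorProduct.includeRight : A →ₐ[k] A ⊗[k] A).commutes
  have hΔ : a'.map D = a'.map L * a'.map Rr := by
    have hE' : P.map (algebraMap k T2) * Q.map (algebraMap k T2) = E.map (algebraMap k T2) := by
      rw [← Matrix.map_mul, hPQ]
    have hEa : E.map (algebraMap k T2) * a.map Rr = a.map Rr * E.map (algebraMap k T2) := by
      have := congrArg (fun X : Matrix n n A => X.map Rr) hcomm
      simpa only [Matrix.map_mul, map_map_algebraMap Rr hR] using this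
    have hEP : E.map (algebraMap k T2) * P.map (algebraMap k T2) = P.map (algebraMap k T2) := by
      rw [← Matrix.map_mul, ← hPQ, Matrix.mul_assoc, hQP, Matrix.mul_one]
    simp only [a', Matrix.map_mul, map_map_algebraMap D hD, map_map_algebraMap L hL, map_map_algebraMap Rr hR, hΔa, Matrix.mul_assoc]
    congr 2
    rw [← Matrix.mul_assoc (P.map (algebraMap k T2)), hE', ← Matrix.mul_assoc (E.map (algebraMap k T2)), hEa,
      Matrix.mul_assoc, hEP]
  have hcm : IsComatrix (k := k) a' := by
    refine ⟨fun i j => ?_, fun i j => ?_⟩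
    · have := congrFun (congrFun hΔ i) j
      simp only [Matrix.map_apply, Matrix.mul_apply] at this
      refine this.trans (Finset.sum_congr rfl fun l _ => ?_)
      simp [L, Rr]
      exact ((Algebra.TensorProduct.tmul_mul_tmul _ _ _ _).trans (by rw [mul_one, one_mul]))
    · let ε : A →+* k := (Bialgebra.counitAlgHom k A : A →+* k)
      have hεa : a.map ε = 1 := by
        ext p q
        simp [Matrix.map_apply, ε, h.counit_eq, Matrix.one_apply]
      have hεc : ∀ c, ε (algebraMap k A c) = algebraMap k k c := (Bialgebra.counitAlgHom k A).commutes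
      have : a'.map ε = 1 := by
        simp only [a', Matrix.map_mul, map_map_algebraMap ε hεc, Algebra.algebraMap_self, RingHom.coe_id, Matrix.map_id, hεa, Matrix.mul_one, hQP]
      have := congrFun (congrFun this i) j
      simp only [Matrix.map_apply, Matrix.one_apply] at this
      exact this
  refine ⟨_, comodOf a' hcm, ?_⟩
  rw [← trace_matOf, matOf_comodOf]
  change a'.trace = _
  rw [show a' = Q.map (algebraMap k A) * (a * P.map (algebraMap k A)) from Matrix.mul_assoc _ _ _,
    Matrix.trace_mul_comm, Matrix.mul_assoc, hPQ']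

section Alt

variable {n : Type*} [Fintype n] [DecidableEq n]

/-- Cauchy–Binet, summing over all functions -/
theorem sum_prod_mul_det {R : Type*} [CommRing R] {j : ℕ} (C : Fin j → n → R) (X : n → Fin j → R) :
    ∑ J : Fin j → n, (∏ t, C t (J t)) * Matrix.det (Matrix.of fun t => X (J t)) =
      Matrix.det (Matrix.of fun t => ∑ l, C t l • X l) := by
  change _ = (Matrix.detRowAlternating (R := R) (n := Fin j)).toMultilinearMap (fun t => ∑ l, C t l • X l)
  rw [MultilinearMap.map_sum]
  refine Finset.sum_congr rfl fun J _ => ?_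
  rw [MultilinearMap.map_smul_univ]
  rfl

/-- the antisymmetrisation matrix on tensors -/
def dl (j : ℕ) (R : Type*) [CommRing R] : Matrix (Fin j → n) (Fin j → n) R :=
  Matrix.of fun I J => Matrix.det (Matrix.of fun t s => if I t = J s then (1 : R) else 0)

theorem dl_map (j : ℕ) {R S : Type*} [CommRing R] [CommRing S] (f : R →+* S) :
    (dl (n := n) j R).map f = dl j S := by
  ext I J
  simp only [dl, Matrix.map_apply, Matrix.of_apply, RingHom.map_det]
  congr 1
  ext t s
  simp [apply_ite f]

theorem dl_mul_dl (j : ℕ) : dl (n := n) j k * dl j k = (Nat.factorial j : k) • dl j k := by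
  ext I K
  have h1 : ∀ J, dl (n := n) j k I J = ∑ σ : Equiv.Perm (Fin j),
      ((Equiv.Perm.sign σ : ℤ) : k) * if J = (fun s => I (σ s)) then 1 else 0 := by
    intro J
    rw [dl, Matrix.of_apply, Matrix.det_apply']
    refine Finset.sum_congr rfl fun σ _ => ?_
    congr 1
    simp only [Matrix.of_apply, Finset.prod_boole, Finset.mem_univ, true_implies, funext_iff, eq_comm]
  simp only [Matrix.mul_apply, h1, Finset.sum_mul, mul_ite, mul_one, mul_zero, ite_mul, zero_mul]
  rw [Finset.sum_comm]
  simp only [Finset.sum_ite_eq', Finset.mem_univ, if_true]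
  rw [Matrix.smul_apply, smul_eq_mul]
  have hp : ∀ σ : Equiv.Perm (Fin j), dl (n := n) j k (fun s => I (σ s)) K =
      ((Equiv.Perm.sign σ : ℤ) : k) * dl (n := n) j k I K := by
    intro σ
    simp only [dl, Matrix.of_apply]
    exact Matrix.det_permute σ (Matrix.of fun t s => if I t = K s then (1 : k) else 0)
  have : ∀ σ : Equiv.Perm (Fin j), ((Equiv.Perm.sign σ : ℤ) : k) * dl (n := n) j k (fun s => I (σ s)) K =
      dl (n := n) j k I K := fun σ => by
    rw [hp, ← mul_assoc, ← Int.cast_mul]
    rcases Int.units_eq_one_or (Equiv.Perm.sign σ) with h | h <;> simp [h]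
  simp only [this, Finset.sum_const, Finset.card_univ, Fintype.card_perm, Fintype.card_fin, nsmul_eq_mul]

/-- the comatrix of a tensor power, as a matrix -/
def tMat (a : Matrix n n A) (j : ℕ) : Matrix (Fin j → n) (Fin j → n) A := Matrix.of (tpowMat a j)

theorem dl_comm (a : Matrix n n A) (j : ℕ) :
    dl (n := n) j A * tMat a j = tMat a j * dl (n := n) j A := by
  ext I K
  have e1 : (tMat a j * dl (n := n) j A) I K =
      Matrix.det (Matrix.of fun t s => a (I t) (K s)) := by
    rw [Matrix.mul_apply]
    refine (sum_prod_mul_det (fun t l => a (I t) l) (fun l s => if l = K s then (1 : A) else 0)).trans ?_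
    congr 1
    ext t s
    simp [Finset.sum_apply]
  have e2 : (dl (n := n) j A * tMat a j) I K =
      Matrix.det (Matrix.of fun t s => a (I t) (K s)) := by
    rw [Matrix.mul_apply]
    rw [← Matrix.det_transpose]
    refine Eq.trans ?_ ((sum_prod_mul_det (fun s l => a l (K s)) (fun l t => if I t = l then (1 : A) else 0)).trans ?_)
    · refine Finset.sum_congr rfl fun J _ => ?_
      rw [mul_comm, dl, Matrix.of_apply, ← Matrix.det_transpose]
      rfl
    · congr 1
      ext s t
      simp [Finset.sum_apply]
  rw [e1, e2]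

/-- sum of all principal minors over functions -/
theorem trace_tpowMat_mul_dl (a : Matrix n n A) (j : ℕ) :
    (tMat a j * dl (n := n) j A).trace =
      ∑ I : Fin j → n, (a.submatrix I I).det := by
  refine Finset.sum_congr rfl fun I _ => ?_
  rw [Matrix.diag_apply, Matrix.mul_apply]
  refine (sum_prod_mul_det (fun t l => a (I t) l) (fun l s => if l = I s then (1 : A) else 0)).trans ?_
  congr 1
  ext t s
  simp [Finset.sum_apply]

theorem sum_all_minors {R : Type*} [CommRing R] (a : Matrix n n R) (j : ℕ) :
    ∑ I : Fin j → n, (a.submatrix I I).det = j.factorial •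
      ∑ s ∈ Finset.univ.powersetCard j, (a.submatrix (Subtype.val : s → n) (Subtype.val : s → n)).det := by
  classical
  rw [← Finset.sum_subset (Finset.subset_univ (Finset.univ.filter fun I : Fin j → n => Function.Injective I))]
  swap
  · intro I _ hI
    simp only [Finset.mem_filter, Finset.mem_univ, true_and] at hI
    obtain ⟨x, y, hxy, hne⟩ := Function.not_injective_iff.1 hI
    exact Matrix.det_zero_of_row_eq hne (funext fun s => by simp [hxy])
  rw [← Finset.sum_fiberwise_of_maps_to (g := fun I : Fin j → n => Finset.univ.image I) (t := Finset.univ.powersetCard j)]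
  swap
  · intro I hI
    simp only [Finset.mem_filter, Finset.mem_univ, true_and] at hI
    simp [Finset.mem_powersetCard, Finset.card_image_of_injective _ hI]
  rw [Finset.smul_sum]
  refine Finset.sum_congr rfl fun s hs => ?_
  have hsc : s.card = j := (Finset.mem_powersetCard.1 hs).2
  let e : Fin j ≃ s := (s.equivFinOfCardEq hsc).symm
  have hval : ∀ I ∈ (Finset.univ.filter fun I : Fin j → n => Function.Injective I).filter (fun I => Finset.univ.image I = s),
      (a.submatrix I I).det = (a.submatrix (Subtype.val : s → n) (Subtype.val : s → n)).det := by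
    intro I hI
    simp only [Finset.mem_filter, Finset.mem_univ, true_and] at hI
    have hm : ∀ t, I t ∈ s := fun t => hI.2 ▸ Finset.mem_image_of_mem I (Finset.mem_univ t)
    have hb : Function.Bijective (fun t => (⟨I t, hm t⟩ : s)) := by
      refine ⟨fun x y h => hI.1 (congrArg Subtype.val h), fun x => ?_⟩
      obtain ⟨t, -, ht⟩ := Finset.mem_image.1 (hI.2.symm ▸ x.2 : x.1 ∈ Finset.univ.image I)
      exact ⟨t, Subtype.ext ht⟩
    rw [← Matrix.det_submatrix_equiv_self (Equiv.ofBijective _ hb) (a.submatrix (Subtype.val : s → n) (Subtype.val : s → n))]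
    rfl
  rw [Finset.sum_congr rfl hval, Finset.sum_const]
  congr 1
  rw [show j.factorial = (Finset.univ : Finset (Equiv.Perm (Fin j))).card by rw [Finset.card_univ, Fintype.card_perm, Fintype.card_fin]]
  symm
  refine Finset.card_bij (fun σ _ t => (e (σ t)).1) (fun σ _ => ?_) (fun σ _ τ _ h => ?_) (fun I hI => ?_)
  · simp only [Finset.mem_filter, Finset.mem_univ, true_and]
    refine ⟨fun x y h => σ.injective (e.injective (Subtype.ext h)), Finset.ext fun x => ?_⟩
    simp only [Finset.mem_image, Finset.mem_univ, true_and]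
    exact ⟨fun ⟨t, ht⟩ => ht ▸ (e (σ t)).2, fun hx => ⟨σ.symm (e.symm ⟨x, hx⟩), by simp⟩⟩
  · exact Equiv.ext fun t => e.injective (Subtype.ext (congrFun h t))
  · simp only [Finset.mem_filter, Finset.mem_univ, true_and] at hI
    have hm : ∀ t, I t ∈ s := fun t => hI.2 ▸ Finset.mem_image_of_mem I (Finset.mem_univ t)
    refine ⟨Equiv.ofBijective (fun t => e.symm ⟨I t, hm t⟩) (Finite.injective_iff_bijective.1
      fun x y h => hI.1 (congrArg Subtype.val (e.symm.injective h))), Finset.mem_univ _, ?_⟩
    funext t
    simp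

/-- in characteristic zero the coefficients of the characteristic polynomial of a comatrix are combinations of
characters -/
theorem coeff_charpoly_mem [CharZero k] (a : Matrix n n A) (h : IsComatrix (k := k) a) (i : ℕ)
    (S : Subalgebra k A) (hS : ∀ (d : ℕ) (c : HopfRep.Comod k A (Fin d → k)), chr c ∈ S) :
    a.charpoly.coeff i ∈ S := by
  nontriviality A
  by_cases hi : i ≤ Fintype.card n
  swap
  · rw [Polynomial.coeff_eq_zero_of_natDegree_lt (by rw [Matrix.charpoly_natDegree_eq_dim]; omega)]
    exact zero_mem S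
  obtain ⟨j, hj, rfl⟩ : ∃ j ≤ Fintype.card n, Fintype.card n - j = i := ⟨Fintype.card n - i, by omega, by omega⟩
  rw [Matrix.charpoly_coeff_eq_sum_minors a j hj]
  refine S.mul_mem (pow_mem (S.neg_mem S.one_mem) _) ?_
  have hf : (Nat.factorial j : k) ≠ 0 := Nat.cast_ne_zero.2 (Nat.factorial_ne_zero j)
  let E : Matrix (Fin j → n) (Fin j → n) k := (Nat.factorial j : k)⁻¹ • dl j k
  have hE : E * E = E := by
    simp only [E, Matrix.smul_mul, Matrix.mul_smul, smul_smul, dl_mul_dl]
    congr 1
    field_simp
  have hEA : E.map (algebraMap k A) = algebraMap k A (Nat.factorial j : k)⁻¹ • dl (n := n) j A := by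
    rw [← dl_map j (algebraMap k A)]
    ext I J
    simp [E]
  have hcomm : E.map (algebraMap k A) * tMat a j =
      tMat a j * E.map (algebraMap k A) := by
    rw [hEA, Matrix.smul_mul, Matrix.mul_smul, dl_comm]
  obtain ⟨d, c, hc⟩ := exists_comod_chr (tMat a j) (isComatrix_tpowMat a h j) E hE hcomm
  have := hS d c
  rw [hc, hEA, Matrix.mul_smul, Matrix.trace_smul, trace_tpowMat_mul_dl, sum_all_minors, nsmul_eq_mul, smul_eq_mul,
    ← mul_assoc, ← map_natCast (algebraMap k A), ← map_mul, inv_mul_cancel₀ hf, map_one, one_mul] at this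
  exact this

end Alt

section Integrality

variable {k : Type u} [Field k] {B : Type u} [CommRing B] [HopfAlgebra k B] {n : Type} [Fintype n] [DecidableEq n]

/-- right translation by the universal point -/
def transl : B ⊗[k] B →ₐ[B] B ⊗[k] B :=
  Algebra.TensorProduct.lift (Algebra.ofId B (B ⊗[k] B))
    ((Algebra.TensorProduct.comm k B B).toAlgHom.comp (Bialgebra.comulAlgHom k B)) fun _ _ => Commute.all _ _

/-- evaluation of the second factor at the identity -/
def evalOne : B ⊗[k] B →ₐ[B] B :=
  Algebra.TensorProduct.lift (AlgHom.id B B) ((Algebra.ofId k B).comp (Bialgebra.counitAlgHom k B))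
    fun _ _ => Commute.all _ _

theorem transl_entry {a : Matrix n n B} (h : IsComatrix (k := k) a) (i j : n) :
    transl (k := k) ((1 : B) ⊗ₜ[k] a i j) = ∑ l, a l j • ((1 : B) ⊗ₜ[k] a i l) := by
  simp [transl, h.comul_eq, TensorProduct.smul_tmul', ← Algebra.TensorProduct.one_def]

theorem transl_pow_entry {a : Matrix n n B} (h : IsComatrix (k := k) a) (N : ℕ) (i j : n) :
    (transl (k := k) (B := B))^[N] ((1 : B) ⊗ₜ[k] a i j) = ∑ l, (a ^ N) l j • ((1 : B) ⊗ₜ[k] a i l) := by
  induction N generalizing j with
  | zero => simp [Matrix.one_apply]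
  | succ N ih =>
    rw [Function.iterate_succ_apply', ih, map_sum]
    simp only [map_smul, transl_entry h, Finset.smul_sum, smul_smul]
    rw [Finset.sum_comm]
    refine Finset.sum_congr rfl fun m _ => ?_
    rw [← Finset.sum_smul, pow_succ', Matrix.mul_apply]
    congr 1
    exact Finset.sum_congr rfl fun l _ => mul_comm _ _

theorem isIntegral_trace {S B : Type*} [CommRing S] [CommRing B] [IsReduced B] [IsNoetherianRing B] [Algebra S B]
    (a : Matrix n n B) (P : Polynomial S) (hP : P.Monic) (h : Polynomial.aeval a P = 0) : IsIntegral S a.trace := by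
  classical
  have hfin : (minimalPrimes B).Finite := minimalPrimes.finite_of_isNoetherianRing B
  have hp : ∀ p ∈ minimalPrimes B, ∃ Q : Polynomial S, Q.Monic ∧ Polynomial.aeval a.trace Q ∈ p := by
    intro p hp
    haveI : p.IsPrime := Ideal.minimalPrimes_isPrime hp
    let K := AlgebraicClosure (FractionRing (B ⧸ p))
    let g : B →ₐ[S] K := (IsScalarTower.toAlgHom S (B ⧸ p) K).comp (Ideal.Quotient.mkₐ S p)
    have hM : Polynomial.aeval (g.mapMatrix a) P = 0 := by
      rw [Polynomial.aeval_algHom_apply, h, map_zero]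
    have hint : IsIntegral S (g.mapMatrix a).trace := by
      rw [Matrix.trace_eq_sum_roots_charpoly]
      refine IsIntegral.multiset_sum fun r hr => ?_
      have hr' : (g.mapMatrix a).charpoly.IsRoot r := Polynomial.isRoot_of_mem_roots hr
      rw [← Matrix.charpoly_toLin', ← Module.End.hasEigenvalue_iff_isRoot_charpoly] at hr'
      obtain ⟨v, hv⟩ := hr'.exists_hasEigenvector
      refine ⟨P, hP, ?_⟩
      have := Module.End.aeval_apply_of_hasEigenvector (p := P.map (algebraMap S K)) hv
      rw [Polynomial.aeval_map_algebraMap, show Matrix.toLin' (g.mapMatrix a) = Matrix.toLinAlgEquiv' (g.mapMatrix a) from rfl] at this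
      have h0 : Polynomial.aeval (Matrix.toLinAlgEquiv' (g.mapMatrix a)) P = 0 := by
        have e := Polynomial.aeval_algHom_apply ((Matrix.toLinAlgEquiv' (R := K) (n := n)).toAlgHom.restrictScalars S) (g.mapMatrix a) P
        rw [hM, map_zero] at e
        exact e
      rw [h0, LinearMap.zero_apply] at this
      have e0 : (P.map (algebraMap S K)).eval r = 0 :=
        (smul_eq_zero.1 this.symm).resolve_right hv.2
      rwa [Polynomial.eval_map] at e0
    obtain ⟨Q, hQ, hQ0⟩ := hint
    refine ⟨Q, hQ, ?_⟩
    have e : g (Polynomial.aeval a.trace Q) = 0 := by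
      rw [← Polynomial.aeval_algHom_apply, show g a.trace = (g.mapMatrix a).trace from
        (AddMonoidHom.map_trace g.toAddMonoidHom a)]
      exact hQ0
    have hinj : Function.Injective (algebraMap (B ⧸ p) K) := by
      rw [IsScalarTower.algebraMap_eq (B ⧸ p) (FractionRing (B ⧸ p)) K]
      exact (algebraMap (FractionRing (B ⧸ p)) K).injective.comp (IsFractionRing.injective _ _)
    exact Ideal.Quotient.eq_zero_iff_mem.1 (hinj (e.trans (map_zero _).symm))
  choose Q hQ hQp using hp
  refine ⟨∏ p : hfin.toFinset, Q p.1 (hfin.mem_toFinset.1 p.2), Polynomial.monic_prod_of_monic _ _ fun p _ => hQ _ _, ?_⟩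
  change Polynomial.aeval a.trace _ = 0
  rw [map_prod]
  refine IsReduced.eq_zero _ ?_
  rw [← mem_nilradical, nilradical, Ideal.radical_eq_sInf, Ideal.mem_sInf]
  rintro q ⟨-, hq⟩
  haveI := hq
  obtain ⟨p, hp, hpq⟩ := Ideal.exists_minimalPrimes_le (show (⊥ : Ideal B) ≤ q from bot_le)
  exact Ideal.mem_of_dvd q (Finset.dvd_prod_of_mem _ (Finset.mem_univ (⟨p, hfin.mem_toFinset.2 hp⟩ : hfin.toFinset))) (hpq (hQp p hp))

/-- vectors with finitely generated orbit span -/
theorem orbit_fg_adjoin {S : Subalgebra k B} {a : Matrix n n B} (h : IsComatrix (k := k) a)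
    (hcoef : ∀ i, a.charpoly.coeff i ∈ S) (hgen : Algebra.adjoin k (Set.range fun p : n × n => a p.1 p.2) = ⊤) (b : B) :
    ∃ N : Submodule S (B ⊗[k] B), N.FG ∧ ∀ m, (transl (k := k) (B := B))^[m] ((1 : B) ⊗ₜ[k] b) ∈ N := by
  classical
  let Φ := transl (k := k) (B := B)
  let good : Subalgebra k B :=
    { carrier := {b | ∃ N : Submodule S (B ⊗[k] B), N.FG ∧ ∀ m, Φ^[m] ((1 : B) ⊗ₜ[k] b) ∈ N}
      zero_mem' := ⟨⊥, Submodule.fg_bot, fun m => by simp [iterate_map_zero]⟩
      one_mem' := ⟨S ∙ 1, Submodule.fg_span_singleton _, fun m => by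
        rw [← Algebra.TensorProduct.one_def, iterate_map_one]; exact Submodule.mem_span_singleton_self _⟩
      add_mem' := fun {x y} ⟨N, hN, hx⟩ ⟨N', hN', hy⟩ => ⟨N ⊔ N', hN.sup hN', fun m => by
        rw [tmul_add, iterate_map_add]
        exact add_mem (Submodule.mem_sup_left (hx m)) (Submodule.mem_sup_right (hy m))⟩
      mul_mem' := fun {x y} ⟨N, hN, hx⟩ ⟨N', hN', hy⟩ => ⟨N * N', hN.mul hN', fun m => by
        rw [← one_mul (1 : B), ← Algebra.TensorProduct.tmul_mul_tmul, iterate_map_mul]
        exact Submodule.mul_mem_mul (hx m) (hy m)⟩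
      algebraMap_mem' := fun r => ⟨S ∙ algebraMap k _ r, Submodule.fg_span_singleton _, fun m => by
        have : (1 : B) ⊗ₜ[k] algebraMap k B r = algebraMap k (B ⊗[k] B) r :=
          (Algebra.TensorProduct.includeRight : B →ₐ[k] B ⊗[k] B).commutes r
        rw [this]
        have e : ∀ m, Φ^[m] (algebraMap k (B ⊗[k] B) r) = algebraMap k (B ⊗[k] B) r := by
          intro m
          induction m with
          | zero => rfl
          | succ m ih => rw [Function.iterate_succ_apply', ih]; exact (Φ.restrictScalars k).commutes r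
        rw [e]; exact Submodule.mem_span_singleton_self _⟩ }
  suffices hb : b ∈ good by
    obtain ⟨N, hN, hm⟩ := hb
    exact ⟨N, hN, hm⟩
  have htop : ⊤ ≤ good := by
    rw [← hgen]
    refine Algebra.adjoin_le ?_
    rintro _ ⟨⟨i, j⟩, rfl⟩
    haveI : Nontrivial B := (Bialgebra.counitAlgHom k B).toRingHom.domain_nontrivial
    -- Cayley--Hamilton over the subalgebra
    have hlift : a.charpoly ∈ Polynomial.lifts (algebraMap S B) :=
      (Polynomial.lifts_iff_coeff_lifts _).2 fun m => ⟨⟨_, hcoef m⟩, rfl⟩
    obtain ⟨P, hPmap, -, hPmonic⟩ := Polynomial.lifts_and_degree_eq_and_monic hlift (Matrix.charpoly_monic a)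
    have hint : IsIntegral S a := by
      refine ⟨P, hPmonic, ?_⟩
      have := Matrix.aeval_self_charpoly a
      rw [← hPmap, Polynomial.aeval_map_algebraMap] at this
      exact this
    let ev : Matrix n n B →ₗ[S] B ⊗[k] B :=
      ∑ l, LinearMap.smulRight (LinearMap.proj j ∘ₗ LinearMap.proj l) ((1 : B) ⊗ₜ[k] a i l)
    refine ⟨(Subalgebra.toSubmodule (Algebra.adjoin S {a})).map ev, (hint.fg_adjoin_singleton).map ev, fun m => ?_⟩
    refine ⟨a ^ m, pow_mem (Algebra.subset_adjoin (Set.mem_singleton a)) m, ?_⟩
    change _ = Φ^[m] _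
    rw [transl_pow_entry h]
    simp [ev]
    rfl
  exact htop trivial

/-- characters are integral over an algebra containing the characteristic coefficients of a generating comatrix -/
theorem isIntegral_trace_comatrix {S : Subalgebra k B} [IsNoetherianRing S] [IsReduced B] [IsNoetherianRing B]
    {a : Matrix n n B} (h : IsComatrix (k := k) a) (hcoef : ∀ i, a.charpoly.coeff i ∈ S)
    (hgen : Algebra.adjoin k (Set.range fun p : n × n => a p.1 p.2) = ⊤) {m : ℕ}
    (b : Matrix (Fin m) (Fin m) B) (hb : IsComatrix (k := k) b) : IsIntegral S b.trace := by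
  classical
  have hN := fun i j => orbit_fg_adjoin h hcoef hgen (b i j)
  choose N hNfg hNm using hN
  let e : B ⊗[k] B →ₗ[S] B := (evalOne (k := k)).toLinearMap.restrictScalars S
  let M : Submodule S B := ⨆ i, ⨆ j, (N i j).map e
  have hM : M.FG := Submodule.fg_iSup _ fun i => Submodule.fg_iSup _ fun j => (hNfg i j).map _
  have hpow : ∀ r i j, (b ^ r) i j ∈ M := by
    intro r i j
    refine Submodule.mem_iSup_of_mem i (Submodule.mem_iSup_of_mem j ⟨_, hNm i j r, ?_⟩)
    rw [transl_pow_entry hb]
    simp [e, evalOne, hb.counit_eq]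
  let cols : (Fin m → Fin m → M) →ₗ[S] Matrix (Fin m) (Fin m) B :=
    { toFun := fun f => Matrix.of fun i j => (f i j : B)
      map_add' := fun _ _ => rfl
      map_smul' := fun _ _ => rfl }
  haveI : Module.Finite S M := Module.Finite.iff_fg.2 hM
  haveI : IsNoetherian S (LinearMap.range cols) := isNoetherian_of_isNoetherianRing_of_finite S _
  have hle : Subalgebra.toSubmodule (Algebra.adjoin S {b}) ≤ LinearMap.range cols := by
    rw [Algebra.adjoin_eq_span, Submodule.span_le]
    intro x hx
    obtain ⟨r, rfl⟩ := Submonoid.mem_closure_singleton.1 hx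
    exact ⟨fun i j => ⟨_, hpow r i j⟩, rfl⟩
  have hfg : (Subalgebra.toSubmodule (Algebra.adjoin S {b})).FG := Submodule.FG.of_le_of_isNoetherian hle
  have hint : IsIntegral S b := IsIntegral.of_mem_of_fg _ hfg _ (Algebra.subset_adjoin (Set.mem_singleton b))
  obtain ⟨P, hP, hP0⟩ := hint
  exact isIntegral_trace b P hP hP0

end Integrality

/-- characters of a closed subgroup form a finite module over characters of the group -/
theorem exists_finset {k : Type u} [Field k] [IsAlgClosed k] [CharZero k] {A B : Type u} [CommRing A] [HopfAlgebra k A]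
    [Algebra.FiniteType k A] [CommRing B] [HopfAlgebra k B] [Algebra.FiniteType k B] (π : A →ₐc[k] B)
    (hπ : Function.Surjective π) :
    ∃ F : Finset B, (↑F : Set B) ⊆ Set.range (fun p : (Σ d : ℕ, HopfRep.Comod k B (Fin d → k)) => chr p.2) ∧
      (↑(Submodule.span k (Set.range fun p : (Σ d : ℕ, HopfRep.Comod k B (Fin d → k)) => chr p.2)) : Set B) ⊆
        ↑(Submodule.span (Algebra.adjoin k (π '' Set.range fun p : (Σ d : ℕ, HopfRep.Comod k A (Fin d → k)) => chr p.2))
          (↑F : Set B)) := by
  classical
  obtain ⟨gs, hgs⟩ := Algebra.FiniteType.out (R := k) (A := A)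
  obtain ⟨V0, hfin, hsub, hV0⟩ := exists_finite_subcomod_of_finset (k := k) (A := A) (V := A) gs
  haveI : Module.Free k V0 := Module.Free.of_divisionRing k V0
  let bV := Module.finBasis k V0
  let e := bV.equivFun
  choose y hy using fun j => hV0 _ (bV j).2
  let a0 : Matrix (Fin (Module.finrank k V0)) (Fin (Module.finrank k V0)) A :=
    Matrix.of fun i j => TensorProduct.lid k A ((bV.coord i).rTensor A (y j))
  have hsum : ∀ j, Coalgebra.comul (R := k) (bV j : A) = ∑ i, (bV i : A) ⊗ₜ[k] a0 i j := by
    intro j
    have : ∀ z : V0 ⊗[k] A, z = ∑ i, bV i ⊗ₜ[k] TensorProduct.lid k A ((bV.coord i).rTensor A z) := by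
      intro z
      induction z using TensorProduct.induction_on with
      | zero => simp
      | add x y hx hy =>
        simp only [map_add, tmul_add, Finset.sum_add_distrib]
        rw [← hx, ← hy]
      | tmul x c =>
        simp only [LinearMap.rTensor_tmul, TensorProduct.lid_tmul, Module.Basis.coord_apply, ← smul_tmul]
        rw [← sum_tmul, bV.sum_repr]
    refine ((hy j).symm.trans (congrArg (V0.subtype.rTensor A) (this (y j)))).trans ?_
    simp [a0]
  obtain ⟨l, hl⟩ := V0.subtype.exists_leftInverse_of_injective V0.ker_subtype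
  have hl' : ∀ x : V0, l (x : A) = x := fun x => LinearMap.congr_fun hl x
  have hcm : IsComatrix (k := k) a0 := by
    refine ⟨fun i j => ?_, fun i j => ?_⟩
    · have h1 := Coalgebra.coassoc_apply (R := k) (bV j : A)
      rw [hsum] at h1
      simp only [map_sum, LinearMap.rTensor_tmul, LinearMap.lTensor_tmul, hsum, sum_tmul, TensorProduct.assoc_tmul] at h1
      have h2 := congrArg (fun z => TensorProduct.lid k (A ⊗[k] A) ((bV.coord i ∘ₗ l).rTensor (A ⊗[k] A) z)) h1
      simp only [map_sum, LinearMap.rTensor_tmul, TensorProduct.lid_tmul, LinearMap.comp_apply, hl',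
        Module.Basis.coord_apply, Module.Basis.repr_self, Finsupp.single_apply, ite_smul, one_smul, zero_smul,
        Finset.sum_ite_eq', Finset.mem_univ, if_true] at h2
      exact h2.symm
    · have h1 := Coalgebra.lTensor_counit_comul (R := k) (bV j : A)
      rw [hsum] at h1
      have h2 := congrArg (fun z => TensorProduct.lid k k ((bV.coord i ∘ₗ l).rTensor k z)) h1
      simp only [map_sum, LinearMap.lTensor_tmul, LinearMap.rTensor_tmul, TensorProduct.lid_tmul, LinearMap.comp_apply, hl',
        Module.Basis.coord_apply, Module.Basis.repr_self, Finsupp.single_apply, one_smul, zero_smul,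
        Finset.sum_ite_eq', Finset.mem_univ, if_true, smul_eq_mul, mul_one, ite_mul, one_mul, zero_mul] at h2
      rw [h2]
      simp [eq_comm]
  have hgen : Algebra.adjoin k (Set.range fun p : Fin (Module.finrank k V0) × Fin (Module.finrank k V0) => a0 p.1 p.2) = ⊤ := by
    refine top_le_iff.1 (hgs.symm.trans_le (Algebra.adjoin_le fun x hx => ?_))
    have hb : ∀ j, (bV j : A) ∈ Algebra.adjoin k (Set.range fun p : Fin (Module.finrank k V0) × Fin (Module.finrank k V0) => a0 p.1 p.2) := by
      intro j
      have h1 := congrArg (TensorProduct.lid k A) (Coalgebra.rTensor_counit_comul (R := k) (bV j : A))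
      rw [hsum] at h1
      simp only [map_sum, LinearMap.rTensor_tmul, TensorProduct.lid_tmul, one_smul] at h1
      rw [← h1]
      exact Subalgebra.sum_mem _ fun i _ => Subalgebra.smul_mem _ (Algebra.subset_adjoin (show a0 i j ∈ Set.range (fun p : Fin (Module.finrank k V0) × Fin (Module.finrank k V0) => a0 p.1 p.2) from ⟨(i, j), rfl⟩)) _
    have hx' : ((⟨x, hsub hx⟩ : V0) : A) = x := rfl
    rw [← hx', ← bV.sum_repr ⟨x, hsub hx⟩, Submodule.coe_sum]
    exact Subalgebra.sum_mem _ fun i _ => Subalgebra.smul_mem _ (hb i) _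
  let aB : Matrix (Fin (Module.finrank k V0)) (Fin (Module.finrank k V0)) B := a0.map π
  have hcmB : IsComatrix (k := k) aB := isComatrix_map π hcm
  have hgenB : Algebra.adjoin k (Set.range fun p : Fin (Module.finrank k V0) × Fin (Module.finrank k V0) => aB p.1 p.2) = ⊤ := by
    have := congrArg (Subalgebra.map (π : A →ₐ[k] B)) hgen
    rw [AlgHom.map_adjoin, Algebra.map_top, (AlgHom.range_eq_top _).2 hπ, ← Set.range_comp] at this
    exact this
  let S := Algebra.adjoin k (π '' Set.range fun p : (Σ d : ℕ, HopfRep.Comod k A (Fin d → k)) => chr p.2)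
  have hcoefA : ∀ i, a0.charpoly.coeff i ∈
      Algebra.adjoin k (Set.range fun p : (Σ d : ℕ, HopfRep.Comod k A (Fin d → k)) => chr p.2) := fun i =>
    coeff_charpoly_mem a0 hcm i _ fun d c => Algebra.subset_adjoin ⟨⟨d, c⟩, rfl⟩
  have hcoef : ∀ i, aB.charpoly.coeff i ∈ S := by
    intro i
    have e : aB.charpoly.coeff i = π (a0.charpoly.coeff i) := by
      rw [show aB = a0.map (π : A →+* B) from rfl, Matrix.charpoly_map, Polynomial.coeff_map]
      rfl
    rw [e]
    have : (π : A →ₐ[k] B) (a0.charpoly.coeff i) ∈ Subalgebra.map (π : A →ₐ[k] B) _ := Subalgebra.mem_map.2 ⟨_, hcoefA i, rfl⟩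
    rw [AlgHom.map_adjoin] at this
    exact this
  -- a finitely generated algebra of characters
  let S0 := Algebra.adjoin k (Set.range fun i : Fin (Module.finrank k V0 + 1) => aB.charpoly.coeff i)
  have hS0 : S0 ≤ S := Algebra.adjoin_le (by rintro _ ⟨i, rfl⟩; exact hcoef i)
  haveI : Nontrivial B := (Bialgebra.counitAlgHom k B).toRingHom.domain_nontrivial
  have hcoef0 : ∀ i, aB.charpoly.coeff i ∈ S0 := by
    intro i
    by_cases hi : i ≤ Module.finrank k V0
    · exact Algebra.subset_adjoin ⟨⟨i, by omega⟩, rfl⟩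
    · rw [Polynomial.coeff_eq_zero_of_natDegree_lt (by rw [Matrix.charpoly_natDegree_eq_dim, Fintype.card_fin]; omega)]
      exact zero_mem S0
  haveI : Algebra.FiniteType k S0 := (Subalgebra.fg_iff_finiteType S0).1
    (Subalgebra.fg_def.2 ⟨_, Set.finite_range _, rfl⟩)
  haveI : IsNoetherianRing S0 := Algebra.FiniteType.isNoetherianRing k S0
  haveI : IsNoetherianRing B := Algebra.FiniteType.isNoetherianRing k B
  haveI : IsReduced B := CartierRed.isReduced (k := k)
  haveI : Algebra.FiniteType S0 B := Algebra.FiniteType.of_restrictScalars_finiteType k S0 B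
  haveI := Groth.L01.Nagata.finite_integralClosure_of_isNagata (R := S0) (S := B)
    (Groth.L01.Nagata.isNagata_of_finiteType (R := k) (Groth.L18.NormField.isNagata_field k))
  let M : Submodule S0 B := Submodule.span S0 (Set.range fun p : (Σ d : ℕ, HopfRep.Comod k B (Fin d → k)) => chr p.2)
  have hMle : M ≤ Subalgebra.toSubmodule (integralClosure S0 B) := by
    rw [Submodule.span_le]
    rintro _ ⟨⟨d, c⟩, rfl⟩
    show IsIntegral S0 (chr c)
    rw [← trace_matOf c]
    exact isIntegral_trace_comatrix hcmB hcoef0 hgenB (matOf c) (isComatrix_matOf c)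
  haveI : IsNoetherian S0 (Subalgebra.toSubmodule (integralClosure S0 B)) :=
    isNoetherian_of_isNoetherianRing_of_finite S0 (integralClosure S0 B)
  have hMfg : M.FG := Submodule.FG.of_le_of_isNoetherian hMle
  obtain ⟨F, hF, hFspan⟩ := Submodule.fg_span_iff_fg_span_finset_subset _ |>.1 hMfg
  refine ⟨F, hF, fun x hx => ?_⟩
  have hxM : x ∈ M := by
    refine Submodule.span_induction (p := fun x _ => x ∈ M) (fun z hz => Submodule.subset_span hz) M.zero_mem
      (fun _ _ _ _ => M.add_mem) (fun c z _ hz => ?_) hx
    have := M.smul_mem (algebraMap k S0 c) hz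
    rwa [Algebra.smul_def, ← IsScalarTower.algebraMap_apply, ← Algebra.smul_def] at this
  rw [show M = _ from hFspan] at hxM
  refine Submodule.span_induction (p := fun x _ => x ∈ Submodule.span S (↑F : Set B))
    (fun z hz => Submodule.subset_span hz) (Submodule.zero_mem _) (fun _ _ _ _ => Submodule.add_mem _)
    (fun c z _ hz => ?_) hxM
  exact (Submodule.span S (↑F : Set B)).smul_mem (⟨c.1, hS0 c.2⟩ : S) hz

end Groth.L08.CharFinite
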