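import Groth.Agent.L08.Basic
import Groth.Prelude.Def_SGA3
import Groth.Prelude.Def_Dyn
import Mathlib.RingTheory.HopfAlgebra.Convolution
import Mathlib.RingTheory.HopfAlgebra.Quotient
import Mathlib.RingTheory.Noetherian.Basic
import Mathlib.RingTheory.FiniteType
import Mathlib.RingTheory.Polynomial.Basic
import Mathlib.LinearAlgebra.StdBasis
import Mathlib.LinearAlgebra.Matrix.Adjugate
import Mathlib.LinearAlgebra.Matrix.Determinant.Basic
import Mathlib.LinearAlgebra.Prod
import Mathlib.LinearAlgebra.Dimension.Constructions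
import Mathlib.LinearAlgebra.Dimension.Free
import Mathlib.LinearAlgebra.FreeModule.Finite.Basic
import Mathlib.RingTheory.Finiteness.Finsupp

/-!
# Chevalley's theorem: a closed subgroup is the stabiliser of a line
-/

universe u v w

open TensorProduct Matrix

noncomputable section

namespace Groth.L08.Chevalley

variable {k : Type u} [Field k] {A : Type v} [CommRing A] [HopfAlgebra k A]

section Comatrix

variable {n : Type w} [Fintype n] [DecidableEq n] (a : n → n → A)

/-- a matrix with `Δ a = a ⊗ a` and `ε a = 1` -/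
structure IsComatrix : Prop where
  comul_eq : ∀ i j, Coalgebra.comul (R := k) (a i j) = ∑ l, a i l ⊗ₜ[k] a l j
  counit_eq : ∀ i j, Coalgebra.counit (R := k) (a i j) = if i = j then (1 : k) else 0

/-- the coaction of a matrix -/
def coactOf : (n → k) →ₗ[k] (n → k) ⊗[k] A :=
  (Pi.basisFun k n).constr k fun j => ∑ i, Pi.single i 1 ⊗ₜ[k] a i j

theorem coactOf_single (j : n) :
    coactOf (k := k) a (Pi.single j 1) = ∑ i, Pi.single i 1 ⊗ₜ[k] a i j := by
  rw [← Pi.basisFun_apply, coactOf, Module.Basis.constr_basis]

/-- the comodule of a comatrix -/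
@[reducible] def comodOf (h : IsComatrix (k := k) a) : HopfRep.Comod k A (n → k) where
  coact := coactOf a
  coassoc := by
    refine (Pi.basisFun k n).ext fun j => ?_
    simp only [Pi.basisFun_apply, LinearMap.comp_apply, LinearEquiv.coe_coe, coactOf_single, map_sum,
      LinearMap.rTensor_tmul, LinearMap.lTensor_tmul, h.comul_eq, sum_tmul, tmul_sum, TensorProduct.assoc_tmul]
    exact Finset.sum_comm
  counit_comp := by
    refine (Pi.basisFun k n).ext fun j => ?_
    simp [coactOf_single, h.counit_eq, tmul_ite]

variable {R : Type*} [CommRing R] [Algebra k R]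

theorem coord_coactOf (g : A →ₐ[k] R) (x : n → k) (i : n) :
    TensorProduct.lid k R ((LinearMap.proj i : (n → k) →ₗ[k] k).rTensor R (g.toLinearMap.lTensor _ (coactOf a x))) =
      ∑ j, x j • g (a i j) := by
  let T : (n → k) →ₗ[k] R := (TensorProduct.lid k R).toLinearMap ∘ₗ
    (LinearMap.proj i : (n → k) →ₗ[k] k).rTensor R ∘ₗ g.toLinearMap.lTensor _ ∘ₗ coactOf a
  let S : (n → k) →ₗ[k] R := Fintype.linearCombination k fun j => g (a i j)
  have : T = S := by
    refine (Pi.basisFun k n).ext fun j => ?_
    simp [T, S, coactOf_single, Pi.single_apply, Fintype.linearCombination_apply]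
  exact LinearMap.congr_fun this x

/-- the matrix of a point -/
def mat (g : A →ₐ[k] R) : Matrix n n R := Matrix.of fun i j => g (a i j)

theorem mat_pinv_mul (h : IsComatrix (k := k) a) (g : A →ₐ[k] R) :
    mat a (g.comp (HopfAlgebra.antipodeAlgHom k A)) * mat a g = 1 := by
  ext i j
  have := congrArg g (LinearMap.congr_fun (HopfAlgebra.mul_antipode_rTensor_comul (R := k) (A := A)) (a i j))
  simp only [LinearMap.comp_apply, h.comul_eq, map_sum, LinearMap.rTensor_tmul, LinearMap.mul'_apply, map_mul,
    Algebra.linearMap_apply, h.counit_eq, AlgHom.commutes] at this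
  simp only [Matrix.mul_apply, mat, Matrix.of_apply, AlgHom.comp_apply]
  refine this.trans ?_
  rw [Matrix.one_apply]
  split_ifs <;> simp

/-- the comatrix of a tensor power -/
def tpowMat (d : ℕ) : (Fin d → n) → (Fin d → n) → A := fun I J => ∏ t, a (I t) (J t)

theorem isComatrix_tpowMat (h : IsComatrix (k := k) a) (d : ℕ) : IsComatrix (k := k) (tpowMat a d) := by
  have hprod : ∀ (s : Finset (Fin d)) (f g : Fin d → A),
      ∏ t ∈ s, (f t ⊗ₜ[k] g t) = (∏ t ∈ s, f t) ⊗ₜ[k] (∏ t ∈ s, g t) := by
    intro s f g
    induction s using Finset.induction_on with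
    | empty => simp [Algebra.TensorProduct.one_def]
    | insert x s hx ih => simp [Finset.prod_insert hx, ih]
  refine ⟨fun I J => ?_, fun I J => ?_⟩
  · change Bialgebra.comulAlgHom k A (∏ t, a (I t) (J t)) = _
    simp only [map_prod, Bialgebra.comulAlgHom_apply, h.comul_eq]
    rw [Finset.prod_univ_sum]
    simp [tpowMat, hprod]
  · change Bialgebra.counitAlgHom k A (∏ t, a (I t) (J t)) = _
    simp only [map_prod, Bialgebra.counitAlgHom_apply, h.counit_eq]
    by_cases hIJ : I = J
    · simp [hIJ]
    · rw [if_neg hIJ]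
      obtain ⟨t, ht⟩ := Function.ne_iff.1 hIJ
      exact Finset.prod_eq_zero (Finset.mem_univ t) (if_neg ht)

end Comatrix

section Det

variable {R : Type*} [CommRing R] {d : ℕ} {m : Type w} [Fintype m] [DecidableEq m]

/-- if all maximal minors other than the one of the first `d` rows vanish for an invertible matrix, the other
entries of the first `d` columns vanish -/
theorem entry_eq_zero_of_minors (M N : Matrix (Fin d ⊕ m) (Fin d ⊕ m) R) (hNM : N * M = 1)
    (h : ∀ r : Fin d → Fin d ⊕ m, (∃ t i, r t = Sum.inr i) →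
      Matrix.det (Matrix.of fun t s => M (r t) (Sum.inl s)) = 0) (i : m) (s₀ : Fin d) :
    M (Sum.inr i) (Sum.inl s₀) = 0 := by
  classical
  let rows : Fin d ⊕ m → (Fin d → R) := fun l s => M l (Sum.inl s)
  let C : Fin d → Fin d ⊕ m → R := fun t l =>
    if t = s₀ then (if l = Sum.inr i then 1 else 0) else N (Sum.inl t) l
  have hrow : ∀ t, ∑ l, C t l • rows l = Function.update (fun t => (1 : Matrix (Fin d) (Fin d) R) t) s₀ (rows (Sum.inr i)) t := by
    intro t
    by_cases ht : t = s₀
    · subst ht; simp [C, ite_smul]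
    · rw [Function.update_of_ne ht]
      funext s
      have e := congrFun (congrFun hNM (Sum.inl t)) (Sum.inl s)
      rw [Matrix.mul_apply] at e
      simp only [C, if_neg ht, Finset.sum_apply, Pi.smul_apply, smul_eq_mul, rows]
      rw [e]
      simp [Matrix.one_apply]
  have hdet : Matrix.det (Matrix.of fun t => ∑ l, C t l • rows l) = 0 := by
    change (Matrix.detRowAlternating (R := R) (n := Fin d)).toMultilinearMap (fun t => ∑ l, C t l • rows l) = 0
    rw [MultilinearMap.map_sum]
    refine Finset.sum_eq_zero fun r _ => ?_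
    rw [MultilinearMap.map_smul_univ]
    by_cases hr : r s₀ = Sum.inr i
    · have := h r ⟨s₀, i, hr⟩
      change (∏ t, C t (r t)) • Matrix.det (Matrix.of fun t s => M (r t) (Sum.inl s)) = 0
      rw [this, smul_zero]
    · rw [Finset.prod_eq_zero (Finset.mem_univ s₀) (by simp [C, hr]), zero_smul]
  rw [show (fun t => ∑ l, C t l • rows l) = Function.update (fun t => (1 : Matrix (Fin d) (Fin d) R) t) s₀ (rows (Sum.inr i))
    from funext hrow] at hdet
  have e2 : Matrix.det ((1 : Matrix (Fin d) (Fin d) R).updateRow s₀ (rows (Sum.inr i))) = rows (Sum.inr i) s₀ := by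
    rw [← Matrix.det_transpose, ← Matrix.updateCol_transpose, Matrix.transpose_one, ← Matrix.cramer_apply, Matrix.cramer_one]
    rfl
  exact e2.symm.trans hdet

end Det

section Line

variable {d : ℕ} {m : Type w} [Fintype m] [DecidableEq m] (a : Fin d ⊕ m → Fin d ⊕ m → A)

/-- antisymmetrised product of the first `d` basis vectors -/
def lineVec : (Fin d → Fin d ⊕ m) → k := fun I =>
  Matrix.det (Matrix.of fun t s => if I t = Sum.inl s then (1 : k) else 0)

theorem lineVec_inl : lineVec (k := k) (d := d) (m := m) Sum.inl = 1 := by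
  have : (Matrix.of fun t s => if (Sum.inl t : Fin d ⊕ m) = Sum.inl s then (1 : k) else 0) = 1 := by
    ext t s; simp [Matrix.one_apply]
  rw [lineVec, this, Matrix.det_one]

theorem lineVec_eq (I : Fin d → Fin d ⊕ m) :
    lineVec (k := k) I = ∑ σ : Equiv.Perm (Fin d),
      ((Equiv.Perm.sign σ : ℤ) : k) * if I = (fun t => Sum.inl (σ t)) then 1 else 0 := by
  rw [lineVec, ← Matrix.det_transpose, Matrix.det_apply']
  refine Finset.sum_congr rfl fun σ _ => ?_
  congr 1
  simp only [Matrix.transpose_apply, Matrix.of_apply, Finset.prod_boole, Finset.mem_univ, true_implies,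
    funext_iff]

variable {R : Type*} [CommRing R] [Algebra k R]

theorem coord_lineVec (g : A →ₐ[k] R) (I : Fin d → Fin d ⊕ m) :
    ∑ J, lineVec (k := k) J • g (tpowMat a d I J) = Matrix.det (Matrix.of fun t s => g (a (I t) (Sum.inl s))) := by
  classical
  simp only [lineVec_eq, mul_ite, mul_one, mul_zero, Finset.sum_smul, ite_smul, zero_smul]
  rw [Finset.sum_comm]
  conv_rhs => rw [← Matrix.det_transpose, Matrix.det_apply']
  refine Finset.sum_congr rfl fun σ _ => ?_
  simp [tpowMat, map_prod, Algebra.smul_def]

theorem stab_iff (h : IsComatrix (k := k) a) (g : A →ₐ[k] R) :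
    (∃ c : R, g.toLinearMap.lTensor _ (coactOf (tpowMat a d) (lineVec (k := k))) =
      lineVec (k := k) ⊗ₜ[k] c) ↔ ∀ i s, g (a (Sum.inr i) (Sum.inl s)) = 0 := by
  classical
  constructor
  · rintro ⟨c, hc⟩ i s
    refine entry_eq_zero_of_minors (mat a g) _ (mat_pinv_mul a h g) (fun r hr => ?_) i s
    have := congrArg (fun z => TensorProduct.lid k R ((LinearMap.proj r : _ →ₗ[k] k).rTensor R z)) hc
    simp only [coord_coactOf, coord_lineVec, LinearMap.rTensor_tmul, TensorProduct.lid_tmul] at this
    refine this.trans ?_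
    obtain ⟨t, j, hj⟩ := hr
    have : lineVec (k := k) r = 0 := Matrix.det_eq_zero_of_row_eq_zero t fun s => by simp [hj]
    simp [this]
  · intro hz
    refine ⟨Matrix.det (Matrix.of fun s t : Fin d => g (a (Sum.inl s) (Sum.inl t))), ?_⟩
    apply (TensorProduct.comm k ((Fin d → Fin d ⊕ m) → k) R).injective
    refine ((Pi.basisFun k (Fin d → Fin d ⊕ m)).baseChange R).repr.injective (Finsupp.ext fun I => ?_)
    have key : ∀ z : ((Fin d → Fin d ⊕ m) → k) ⊗[k] R,
        ((Pi.basisFun k (Fin d → Fin d ⊕ m)).baseChange R).repr (TensorProduct.comm k _ R z) I =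
          TensorProduct.lid k R ((LinearMap.proj I : _ →ₗ[k] k).rTensor R z) := by
      intro z
      induction z using TensorProduct.induction_on with
      | zero => simp
      | add x y hx hy => simp only [map_add, Finsupp.add_apply, hx, hy]
      | tmul x y => simp
    rw [key, key, coord_coactOf, coord_lineVec, LinearMap.rTensor_tmul, TensorProduct.lid_tmul, LinearMap.proj_apply]
    by_cases hI : ∃ t i, I t = Sum.inr i
    · obtain ⟨t, i, ht⟩ := hI
      have h1 : lineVec (k := k) I = 0 := Matrix.det_eq_zero_of_row_eq_zero t fun s => by simp [ht]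
      rw [h1, zero_smul]
      exact Matrix.det_eq_zero_of_row_eq_zero t fun s => by simp [ht, hz]
    · push Not at hI
      have : ∀ t, ∃ s, I t = Sum.inl s := fun t => by
        cases h : I t with
        | inl s => exact ⟨s, rfl⟩
        | inr i => exact absurd h (hI t i)
      choose τ hτ using this
      let B : Matrix (Fin d) (Fin d) R := Matrix.of fun s t : Fin d => g (a (Sum.inl s) (Sum.inl t))
      let P : Matrix (Fin d) (Fin d) k := Matrix.of fun t s => if I t = Sum.inl s then (1 : k) else 0
      rw [show lineVec (k := k) I = P.det from rfl, Algebra.smul_def, RingHom.map_det, ← Matrix.det_mul]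
      congr 1
      ext t s
      simp [B, P, Matrix.mul_apply, hτ]

end Line

/-- A closed subgroup of an affine algebraic group is the stabiliser of a line. -/
theorem exists_line {A : Type u} [CommRing A] [HopfAlgebra k A] [Algebra.FiniteType k A]
    (I : Ideal A) [I.IsHopfIdeal k] :
    ∃ (V : Type u) (_ : AddCommGroup V) (_ : Module k V) (_ : HopfRep.Comod k A V) (_ : Module.Finite k V) (v : V),
      v ≠ 0 ∧ Dyn.Represents k A I (fun R _ _ g => SGA3.StabilizesLine k A v R g) := by
  classical
  haveI : IsNoetherianRing A := Algebra.FiniteType.isNoetherianRing k A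
  obtain ⟨gs, hgs⟩ := IsNoetherian.noetherian (R := A) I
  obtain ⟨V0, hfin, hsub, hV0⟩ := exists_finite_subcomod_of_finset (k := k) (A := A) (V := A) gs
  let W : Submodule k V0 := (I.restrictScalars k).comap V0.subtype
  obtain ⟨C, hC⟩ := Submodule.exists_isCompl W
  haveI : Module.Free k W := Module.Free.of_divisionRing k W
  haveI : Module.Free k C := Module.Free.of_divisionRing k C
  let b : Module.Basis (Fin (Module.finrank k W) ⊕ Fin (Module.finrank k C)) k V0 :=
    ((Module.finBasis k W).prod (Module.finBasis k C)).map (Submodule.prodEquivOfIsCompl W C hC)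
  have hbl : ∀ s, (b (Sum.inl s) : A) ∈ I := fun s => by
    have : b (Sum.inl s) = (Module.finBasis k W s : V0) := by simp [b]
    rw [this]
    exact (Module.finBasis k W s).2
  have hbr : ∀ i, b (Sum.inr i) = (Module.finBasis k C i : V0) := fun i => by simp [b]
  have hc : ∀ j, ∃ y : V0 ⊗[k] A, V0.subtype.rTensor A y = Coalgebra.comul (b j : A) := fun j => hV0 _ (b j).2
  choose y hy using hc
  let a : _ → _ → A := fun i j => TensorProduct.lid k A ((b.coord i).rTensor A (y j))
  have hsum : ∀ j, y j = ∑ i, b i ⊗ₜ[k] a i j := by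
    intro j
    have : ∀ z : V0 ⊗[k] A, z = ∑ i, b i ⊗ₜ[k] TensorProduct.lid k A ((b.coord i).rTensor A z) := by
      intro z
      induction z using TensorProduct.induction_on with
      | zero => simp
      | add x y hx hy =>
        simp only [map_add, tmul_add, Finset.sum_add_distrib]
        rw [← hx, ← hy]
      | tmul x c =>
        simp only [LinearMap.rTensor_tmul, TensorProduct.lid_tmul, Module.Basis.coord_apply, ← smul_tmul]
        rw [← sum_tmul, b.sum_repr]
    exact this _
  have hΔ : ∀ j, Coalgebra.comul (R := k) (b j : A) = ∑ i, (b i : A) ⊗ₜ[k] a i j := fun j => by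
    rw [← hy, hsum]; simp
  obtain ⟨l, hl⟩ := V0.subtype.exists_leftInverse_of_injective V0.ker_subtype
  have hl' : ∀ x : V0, l (x : A) = x := fun x => LinearMap.congr_fun hl x
  have hcm : IsComatrix (k := k) a := by
    refine ⟨fun i j => ?_, fun i j => ?_⟩
    · have h1 := Coalgebra.coassoc_apply (R := k) (b j : A)
      rw [hΔ] at h1
      simp only [map_sum, LinearMap.rTensor_tmul, LinearMap.lTensor_tmul, hΔ, sum_tmul, TensorProduct.assoc_tmul] at h1
      have h2 := congrArg (fun z => TensorProduct.lid k (A ⊗[k] A) ((b.coord i ∘ₗ l).rTensor (A ⊗[k] A) z)) h1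
      simp only [map_sum, LinearMap.rTensor_tmul, TensorProduct.lid_tmul, LinearMap.comp_apply, hl',
        Module.Basis.coord_apply, Module.Basis.repr_self, Finsupp.single_apply, ite_smul, one_smul, zero_smul,
        Finset.sum_ite_eq', Finset.mem_univ, if_true] at h2
      exact h2.symm
    · have h1 := Coalgebra.lTensor_counit_comul (R := k) (b j : A)
      rw [hΔ] at h1
      have h2 := congrArg (fun z => TensorProduct.lid k k ((b.coord i ∘ₗ l).rTensor k z)) h1
      simp only [map_sum, LinearMap.lTensor_tmul, LinearMap.rTensor_tmul, TensorProduct.lid_tmul, LinearMap.comp_apply, hl',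
        Module.Basis.coord_apply, Module.Basis.repr_self, Finsupp.single_apply, ite_smul, one_smul, zero_smul,
        Finset.sum_ite_eq', Finset.mem_univ, if_true, smul_eq_mul, mul_one, ite_mul, one_mul, zero_mul] at h2
      rw [h2]
      simp [eq_comm]
  refine ⟨(Fin (Module.finrank k W) → Fin (Module.finrank k W) ⊕ Fin (Module.finrank k C)) → k, inferInstance, inferInstance,
    comodOf _ (isComatrix_tpowMat a hcm _), inferInstance, lineVec, ?_, ?_⟩
  · intro h0
    have := congrFun h0 Sum.inl
    rw [lineVec_inl] at this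
    exact one_ne_zero this
  intro R _ _ g
  refine Iff.trans ?_ (stab_iff a hcm g).symm
  constructor
  · intro hg i s
    have h0 := Submodule.IsCoideal.map_mkQ_comul_eq_zero (I := I.restrictScalars k) (hbl s)
    rw [hΔ] at h0
    let G : (A ⧸ I.restrictScalars k) →ₗ[k] R := (I.restrictScalars k).liftQ g.toLinearMap fun x hx => hg x hx
    let q : V0 →ₗ[k] A ⧸ I.restrictScalars k := (I.restrictScalars k).mkQ ∘ₗ V0.subtype
    let qC : C →ₗ[k] A ⧸ I.restrictScalars k := q ∘ₗ C.subtype
    have hker : LinearMap.ker qC = ⊥ := by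
      refine LinearMap.ker_eq_bot'.2 fun x hx => ?_
      have hx' : (x : V0) ∈ W := (Submodule.Quotient.mk_eq_zero (I.restrictScalars k)).1 hx
      exact Subtype.ext ((Submodule.disjoint_def.1 hC.disjoint) _ hx' x.2)
    obtain ⟨φ, hφ⟩ := exists_extend_inj (X := ↥C) (Y := A ⧸ I.restrictScalars k) (Z := k) hker ((Module.finBasis k C).coord i)
    have h2 := congrArg (fun z => TensorProduct.lid k R (TensorProduct.map φ G z)) h0
    simp only [map_sum, TensorProduct.map_tmul, TensorProduct.lid_tmul, map_zero, G, Submodule.mkQ_apply,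
      Submodule.liftQ_apply, AlgHom.toLinearMap_apply] at h2
    rw [Fintype.sum_sum_type] at h2
    have hl0 : ∀ t, φ (Submodule.Quotient.mk (b (Sum.inl t) : A)) = 0 := fun t => by
      rw [(Submodule.Quotient.mk_eq_zero (I.restrictScalars k)).2 (hbl t), map_zero]
    have hr0 : ∀ t, φ (Submodule.Quotient.mk (b (Sum.inr t) : A)) = if t = i then 1 else 0 := fun t => by
      rw [hbr]
      refine (LinearMap.congr_fun hφ (Module.finBasis k C t)).trans ?_
      simp [Finsupp.single_apply]
    simpa [hl0, hr0, ite_smul] using h2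
  · intro hz
    have hb0 : ∀ s, g (b (Sum.inl s) : A) = 0 := by
      intro s
      have h1 := congrArg (TensorProduct.lid k A) (Coalgebra.rTensor_counit_comul (R := k) (b (Sum.inl s) : A))
      rw [hΔ] at h1
      simp only [map_sum, LinearMap.rTensor_tmul, TensorProduct.lid_tmul, one_smul] at h1
      rw [← h1, map_sum, Fintype.sum_sum_type]
      refine (congrArg₂ (· + ·) (Finset.sum_eq_zero fun t _ => ?_) (Finset.sum_eq_zero fun t _ => ?_)).trans (add_zero 0)
      · rw [Submodule.IsCoideal.counit_eq_zero (I := I.restrictScalars k) (hbl t), zero_smul, map_zero]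
      · rw [map_smul, hz t s, smul_zero]
    have hW : ∀ x : W, g ((x : V0) : A) = 0 := by
      intro x
      have : (g.toLinearMap ∘ₗ V0.subtype ∘ₗ W.subtype) = 0 := by
        refine (Module.finBasis k W).ext fun s => ?_
        have e : b (Sum.inl s) = (Module.finBasis k W s : V0) := by simp [b]
        simpa [e] using hb0 s
      exact LinearMap.congr_fun this x
    intro x hx
    have : I ≤ RingHom.ker g := by
      rw [← hgs, Submodule.span_le]
      intro z hzg
      exact hW ⟨⟨z, hsub hzg⟩, (by rw [← hgs]; exact Submodule.subset_span hzg : z ∈ I)⟩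
    exact this hx

end Groth.L08.Chevalley
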