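import Groth.Agent.L08.GITSep
import Groth.Agent.L08.CartierRed
import Groth.Agent.L25.HopfFlat
import Mathlib.RingTheory.Flat.FaithfullyFlat.Basic
import Mathlib.RingTheory.Coalgebra.GroupLike

/-!
# Closed orbits: the group is faithfully flat over the orbit; semi-invariants
-/

set_option autoImplicit false

universe u

open TensorProduct WithConv

noncomputable section

namespace Groth.L08.ClosedOrbit

open Groth.L25.HopfFlat (rt rtEquiv)

/-- a translate of an open set of freeness is flat -/
theorem flat_atPrime {k A B : Type u} [Field k] [CommRing A] [CommRing B] [Algebra k A] [Algebra k B] [Algebra B A]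
    (σA : A ≃ₐ[k] A) (σ : B ≃ₐ[k] B) (hσ : ∀ b, σA (algebraMap B A b) = algebraMap B A (σ b)) (f : B)
    [Module.Free (Localization.Away f) (Localization.Away f ⊗[B] A)] (P : Ideal A) [P.IsPrime]
    (hP : σA (algebraMap B A f) ∉ P) : Module.Flat B (Localization.AtPrime P) := by
  let Rf := Localization.Away f
  let T := Rf ⊗[B] A
  let L := Localization.Away (σA (algebraMap B A f))
  letI : Algebra A T := Algebra.TensorProduct.rightAlgebra
  haveI : IsLocalization (Submonoid.powers (algebraMap B A f)) T := by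
    have := IsLocalization.tensorRight (S := A) Rf (Submonoid.powers f)
    rwa [Algebra.algebraMapSubmonoid_powers] at this
  have hpow : (Submonoid.powers (algebraMap B A f)).map (σA.toRingEquiv : A ≃+* A).toMonoidHom =
      Submonoid.powers (σA (algebraMap B A f)) := by
    rw [Submonoid.map_powers]
    rfl
  let e : T ≃+* L := IsLocalization.ringEquivOfRingEquiv T L σA.toRingEquiv hpow
  have heq : algebraMap B L = (e.toRingHom.comp (algebraMap B T)).comp σ.symm.toRingEquiv.toRingHom := by
    refine RingHom.ext fun b => ?_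
    change algebraMap B L b = e (algebraMap B Rf (σ.symm b) ⊗ₜ[B] (1 : A))
    have h1 : algebraMap B Rf (σ.symm b) ⊗ₜ[B] (1 : A) = algebraMap A T (algebraMap B A (σ.symm b)) := by
      change _ = (1 : Rf) ⊗ₜ[B] algebraMap B A (σ.symm b)
      rw [Algebra.algebraMap_eq_smul_one, TensorProduct.smul_tmul, Algebra.algebraMap_eq_smul_one]
    rw [h1]
    refine ((IsLocalization.ringEquivOfRingEquiv_eq hpow _).trans ?_).symm
    change algebraMap A L (σA (algebraMap B A (σ.symm b))) = _
    rw [show σA (algebraMap B A (σ.symm b)) = algebraMap B A b by rw [hσ, AlgEquiv.apply_symm_apply],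
      ← IsScalarTower.algebraMap_apply]
  haveI : Module.Flat B T := Module.Flat.trans B Rf T
  have hflat : (algebraMap B L).Flat := by
    rw [heq]
    exact (RingHom.Flat.of_bijective σ.symm.bijective).comp
      (((RingHom.flat_algebraMap_iff).2 inferInstance).comp (RingHom.Flat.of_bijective e.bijective))
  haveI : Module.Flat B L := RingHom.flat_algebraMap_iff.1 hflat
  have hle : Submonoid.powers (σA (algebraMap B A f)) ≤ P.primeCompl := Submonoid.powers_le.2 hP
  have hle' : Submonoid.powers (σA (algebraMap B A f)) ≤ P.primeCompl.comap (RingHom.id A) := hle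
  letI : Algebra L (Localization.AtPrime P) :=
    (IsLocalization.map (M := Submonoid.powers (σA (algebraMap B A f))) (T := P.primeCompl) (Localization.AtPrime P)
      (RingHom.id A) hle').toAlgebra
  haveI : IsScalarTower A L (Localization.AtPrime P) := IsScalarTower.of_algebraMap_eq fun a =>
    (IsLocalization.map_eq (M := Submonoid.powers (σA (algebraMap B A f))) (T := P.primeCompl) (S := L)
      (Q := Localization.AtPrime P) (g := RingHom.id A) hle' a).symm
  haveI : IsScalarTower B L (Localization.AtPrime P) := IsScalarTower.of_algebraMap_eq fun b => by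
    rw [IsScalarTower.algebraMap_apply B A L, ← IsScalarTower.algebraMap_apply A L (Localization.AtPrime P),
      ← IsScalarTower.algebraMap_apply B A (Localization.AtPrime P)]
  haveI : IsLocalization (P.primeCompl.map (algebraMap A L)) (Localization.AtPrime P) :=
    IsLocalization.isLocalization_of_submonoid_le L (Localization.AtPrime P) (Submonoid.powers (σA (algebraMap B A f))) P.primeCompl hle
  haveI : Module.Flat L (Localization.AtPrime P) :=
    IsLocalization.flat (Localization.AtPrime P) (P.primeCompl.map (algebraMap A L))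
  exact Module.Flat.trans B L (Localization.AtPrime P)

/-- flatness spreads by translations -/
theorem flat_of_translates {k A B : Type u} [Field k] [CommRing A] [CommRing B] [Algebra k A] [Algebra k B]
    [Algebra B A] (f : B) [Module.Free (Localization.Away f) (Localization.Away f ⊗[B] A)]
    (h : ∀ P : Ideal A, P.IsMaximal → ∃ (σA : A ≃ₐ[k] A) (σ : B ≃ₐ[k] B),
      (∀ b, σA (algebraMap B A b) = algebraMap B A (σ b)) ∧ σA (algebraMap B A f) ∉ P) :
    Module.Flat B A := by
  apply Module.flat_of_isLocalized_maximal A A (fun P => Localization.AtPrime P)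
    (fun P => Algebra.linearMap A _)
  intro P hP
  haveI : P.IsPrime := hP.isPrime
  obtain ⟨σA, σ, hσ, hf⟩ := h P hP
  exact flat_atPrime σA σ hσ f P hf

variable {k : Type u} [Field k] {A : Type u} [CommRing A] [HopfAlgebra k A]
  {R : Type u} [CommRing R] [Algebra k R] [HopfRep.Comod k A R] [GLin.IsCoactAlg k A R]

variable (A) in
/-- the coordinate ring of the orbit closure inside `A` -/
abbrev orb (x : R →ₐ[k] k) : Subalgebra k A := (GLin.orbitHom k A x).range

theorem rt_eq_fAct (g : WithConv (A →ₐ[k] k)) (a : A) : rt g a = fAct A g.ofConv.toLinearMap a := by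
  rw [fAct_apply, rt, AlgHom.convMul_apply]
  change _ = TensorProduct.rid k A (g.ofConv.toLinearMap.lTensor A (Coalgebra.comul a))
  induction Coalgebra.comul (R := k) a using TensorProduct.induction_on with
  | zero => simp
  | add p q hp hq => simp only [map_add, hp, hq]
  | tmul p q => simp [Groth.L25.HopfFlat.const, Algebra.smul_def, mul_comm]

theorem rt_orbitHom (x : R →ₐ[k] k) (g : WithConv (A →ₐ[k] k)) (r : R) :
    rt g (GLin.orbitHom k A x r) = GLin.orbitHom k A x (fAct R g.ofConv.toLinearMap r) := by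
  rw [rt_eq_fAct, GITSep.orbitHom_eq_cf, GITSep.orbitHom_eq_cf,
    fAct_comm_of_isComodHom (isComodHom_cf (A := A) x.toLinearMap) _ r]

theorem rt_mem (x : R →ₐ[k] k) (g : WithConv (A →ₐ[k] k)) {b : A} (hb : b ∈ orb A x) : rt g b ∈ orb A x := by
  obtain ⟨r, rfl⟩ := hb
  exact ⟨fAct R g.ofConv.toLinearMap r, (rt_orbitHom x g r).symm⟩

theorem counit_orbitHom (x : R →ₐ[k] k) (r : R) :
    Coalgebra.counit (R := k) (GLin.orbitHom k A x r) = x r := by
  rw [GITSep.orbitHom_eq_cf, apply_cf, fAct_counit]
  rfl

theorem comul_orbitHom (x : R →ₐ[k] k) (r : R) :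
    Coalgebra.comul (R := k) (GLin.orbitHom k A x r) =
      (GLin.orbitHom k A x).toLinearMap.rTensor A (HopfRep.Comod.coact (k := k) (A := A) r) := by
  have h := LinearMap.congr_fun (isComodHom_cf (k := k) (A := A) (V := R) x.toLinearMap) r
  have e : (GLin.orbitHom k A x).toLinearMap = cf (A := A) x.toLinearMap :=
    LinearMap.ext fun z => GITSep.orbitHom_eq_cf x z
  rw [GITSep.orbitHom_eq_cf, e]
  exact h

/-- right translation as an automorphism of the orbit -/
def rtOrb (x : R →ₐ[k] k) (g : WithConv (A →ₐ[k] k)) : orb A x ≃ₐ[k] orb A x :=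
  AlgEquiv.ofAlgHom
    (((rt g).comp (orb A x).val).codRestrict (orb A x) fun b => rt_mem x g b.2)
    (((rt g⁻¹).comp (orb A x).val).codRestrict (orb A x) fun b => rt_mem x g⁻¹ b.2)
    (AlgHom.ext fun b => Subtype.ext (by
      change rt g (rt g⁻¹ b.1) = b.1
      rw [← AlgHom.comp_apply, Groth.L25.HopfFlat.rt_rt, mul_inv_cancel, Groth.L25.HopfFlat.rt_one]
      rfl))
    (AlgHom.ext fun b => Subtype.ext (by
      change rt g⁻¹ (rt g b.1) = b.1
      rw [← AlgHom.comp_apply, Groth.L25.HopfFlat.rt_rt, inv_mul_cancel, Groth.L25.HopfFlat.rt_one]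
      rfl))

variable [IsAlgClosed k] [CharZero k] [IsDomain A] [Algebra.FiniteType k A] [Algebra.FiniteType k R]

theorem flat (x : R →ₐ[k] k) : Module.Flat (orb A x) A := by
  classical
  haveI : Algebra.FiniteType k (orb A x) :=
    Algebra.FiniteType.of_surjective (GLin.orbitHom k A x).rangeRestrict (GLin.orbitHom k A x).rangeRestrict_surjective
  haveI : IsNoetherianRing (orb A x) := Algebra.FiniteType.isNoetherianRing k (orb A x)
  haveI : Algebra.FiniteType (orb A x) A := Algebra.FiniteType.of_restrictScalars_finiteType k (orb A x) A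
  obtain ⟨f, hf, hfree, -⟩ := Groth.L20.GF.exists_free_and_nearlyFP (R := orb A x) (S := A) A
  -- translates of the open set of freeness cover the group
  refine flat_of_translates (k := k) f fun P hP => ?_
  obtain ⟨χ, hχ⟩ := CartierRed.exists_point_of_isMaximal (k := k) P
  obtain ⟨ψ, hψ⟩ : ∃ ψ : A →ₐ[k] k, ψ (f : A) ≠ 0 := by
    by_contra h
    simp only [not_exists, not_not] at h
    exact hf (Subtype.ext (CartierRed.eq_zero_of_forall_point h))
  let c : WithConv (A →ₐ[k] k) := toConv χ
  let g : WithConv (A →ₐ[k] k) := c⁻¹ * toConv ψ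
  have h1 : χ (rt g (f : A)) = ψ f := by
    rw [← AlgHom.comp_apply, show χ = c.ofConv from rfl, Groth.L25.HopfFlat.point_rt,
      show g = c⁻¹ * toConv ψ from rfl, ← mul_assoc, mul_inv_cancel, one_mul]
  haveI hP' : P.IsPrime := hP.isPrime
  have hkey : rtEquiv g (algebraMap (orb A x) A f) ∉ P := by
    intro h
    have h2 := P.sub_mem h (hχ (rt g (f : A)))
    rw [show (rtEquiv g) (algebraMap (orb A x) A f) = rt g (f : A) from rfl, sub_sub_cancel, h1] at h2
    exact hP.ne_top (P.eq_top_of_isUnit_mem h2 ((isUnit_iff_ne_zero.2 hψ).map (algebraMap k A)))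
  exact ⟨rtEquiv g, rtOrb x g, fun b => rfl, hkey⟩

/-- for a closed orbit the group is faithfully flat over the orbit -/
theorem faithfullyFlat (x : R →ₐ[k] k) (hx : GLin.IsClosedOrbit k A x) : Module.FaithfullyFlat (orb A x) A := by
  haveI := flat (A := A) x
  refine ⟨fun m hm htop => hm.ne_top ?_⟩
  let φ := GLin.orbitHom k A x
  let q : R →+* orb A x := φ.rangeRestrict.toRingHom
  let p : PrimeSpectrum R := ⟨m.comap q, by
    haveI := hm.isPrime
    exact Ideal.IsPrime.comap q⟩
  let η : PrimeSpectrum R := PrimeSpectrum.comap φ.toRingHom ⟨⊥, Ideal.isPrime_bot⟩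
  have hη : η ∈ Set.range (PrimeSpectrum.comap φ.toRingHom) := ⟨_, rfl⟩
  have hle : η.asIdeal ≤ p.asIdeal := by
    intro r hr
    have h0 : φ r = 0 := hr
    change q r ∈ m
    rw [show q r = 0 from Subtype.ext h0]
    exact m.zero_mem
  obtain ⟨P, hP⟩ := ((PrimeSpectrum.le_iff_specializes η p).1 hle).mem_closed hx hη
  have hPm : P.asIdeal.comap (algebraMap (orb A x) A) = m := by
    ext b
    obtain ⟨r, rfl⟩ := φ.rangeRestrict_surjective b
    have e := congrArg (fun s : PrimeSpectrum R => r ∈ s.asIdeal) hP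
    exact Iff.of_eq e
  rw [Ideal.smul_top_eq_map] at htop
  have htop' : m.map (algebraMap (orb A x) A) = ⊤ := by
    rw [Ideal.eq_top_iff_one]
    have : (1 : A) ∈ (⊤ : Submodule (orb A x) A) := trivial
    rwa [← htop] at this
  exact absurd (top_le_iff.1 (htop'.symm.trans_le (Ideal.map_le_iff_le_comap.2 hPm.ge))) P.2.ne_top

/-- a character trivial on the stabiliser of a closed orbit is a function on the orbit -/
theorem mem_orb_of_groupLike (x : R →ₐ[k] k) (hx : GLin.IsClosedOrbit k A x) {χ : A}
    (hχ : IsGroupLikeElem k χ) (h : χ - 1 ∈ GLin.stabIdeal k A x) : χ ∈ orb A x := by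
  haveI := faithfullyFlat (A := A) x hx
  let B := orb A x
  let iL : A →ₐ[k] A ⊗[B] A := (Algebra.TensorProduct.includeLeft : A →ₐ[B] A ⊗[B] A).restrictScalars k
  let iR : A →ₐ[k] A ⊗[B] A := (Algebra.TensorProduct.includeRight : A →ₐ[B] A ⊗[B] A).restrictScalars k
  let Ψ : A →ₐ[k] A ⊗[B] A :=
    (Algebra.TensorProduct.lift iR (iL.comp (HopfAlgebra.antipodeAlgHom k A)) fun _ _ => Commute.all _ _).comp
      (Bialgebra.comulAlgHom k A)
  have hΨ : ∀ r : R, Ψ (GLin.orbitHom k A x r) = algebraMap k _ (x r) := by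
    intro r
    rw [← counit_orbitHom (A := A) x r]
    have hm := LinearMap.congr_fun (HopfAlgebra.mul_antipode_lTensor_comul (R := k) (A := A)) (GLin.orbitHom k A x r)
    simp only [LinearMap.comp_apply, Algebra.linearMap_apply] at hm
    rw [← AlgHom.commutes iL, ← hm]
    simp only [Ψ, AlgHom.comp_apply, Bialgebra.comulAlgHom_apply, comul_orbitHom]
    induction HopfRep.Comod.coact (k := k) (A := A) r using TensorProduct.induction_on with
    | zero => simp
    | add p q hp hq => simp only [map_add, hp, hq]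
    | tmul p q =>
      simp only [LinearMap.rTensor_tmul, LinearMap.lTensor_tmul, LinearMap.mul'_apply, AlgHom.toLinearMap_apply,
        Algebra.TensorProduct.lift_tmul, AlgHom.comp_apply, map_mul]
      congr 1
      exact ((Algebra.TensorProduct.includeLeft : A →ₐ[B] A ⊗[B] A).commutes ⟨_, ⟨p, rfl⟩⟩).trans
        ((Algebra.TensorProduct.includeRight : A →ₐ[B] A ⊗[B] A).commutes ⟨_, ⟨p, rfl⟩⟩).symm |>.symm
  have hker : GLin.stabIdeal k A x ≤ RingHom.ker Ψ := by
    rw [GLin.stabIdeal, Ideal.map_le_iff_le_comap]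
    intro r hr
    rw [Ideal.mem_comap, RingHom.mem_ker, hΨ, RingHom.mem_ker.1 hr, map_zero]
  have hS : χ * HopfAlgebraStruct.antipode k χ = 1 := by
    have := LinearMap.congr_fun (HopfAlgebra.mul_antipode_lTensor_comul (R := k) (A := A)) χ
    simpa [hχ.comul_eq_tmul_self, hχ.counit_eq_one] using this
  have h1 : Ψ χ = 1 := by
    have := RingHom.mem_ker.1 (hker h)
    rwa [map_sub, map_one, sub_eq_zero] at this
  have h2 : Ψ χ = iR χ * iL (HopfAlgebraStruct.antipode k χ) := by
    simp [Ψ, hχ.comul_eq_tmul_self]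
  have h3 : iL χ = iR χ := by
    have e : iL χ * iL (HopfAlgebraStruct.antipode k χ) = 1 := by rw [← map_mul, hS, map_one]
    calc iL χ = iL χ * (iR χ * iL (HopfAlgebraStruct.antipode k χ)) := by rw [← h2, h1, mul_one]
      _ = iR χ * (iL χ * iL (HopfAlgebraStruct.antipode k χ)) := mul_left_comm _ _ _
      _ = iR χ := by rw [e, mul_one]
  let N : Submodule B A := LinearMap.range (Algebra.linearMap B A)
  have h4 : N.mkQ χ = 0 := by
    refine Module.FaithfullyFlat.tensorProduct_mk_injective (A := B) (B := A) (M := A ⧸ N) ?_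
    have := congrArg (LinearMap.lTensor A N.mkQ) (show (χ ⊗ₜ[B] (1 : A)) = (1 : A) ⊗ₜ[B] χ from h3)
    simp only [LinearMap.lTensor_tmul] at this
    rw [show N.mkQ (1 : A) = 0 from (Submodule.Quotient.mk_eq_zero N).2 ⟨1, (algebraMap B A).map_one⟩, tmul_zero] at this
    simp only [TensorProduct.mk_apply, tmul_zero]
    exact this.symm
  obtain ⟨b, hb⟩ := (Submodule.Quotient.mk_eq_zero N).1 h4
  exact hb ▸ b.2

omit [IsAlgClosed k] [CharZero k] [IsDomain A] [Algebra.FiniteType k A] [Algebra.FiniteType k R] in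
/-- the orbit map of a semi-invariant -/
theorem orbitHom_semi (x : R →ₐ[k] k) {χ : A} {h : R}
    (hh : HopfRep.Comod.coact (k := k) (A := A) h = h ⊗ₜ[k] χ) : GLin.orbitHom k A x h = x h • χ := by
  rw [GITSep.orbitHom_eq_cf, cf_apply, hh]
  simp

omit [IsAlgClosed k] [CharZero k] [IsDomain A] [Algebra.FiniteType k A] [Algebra.FiniteType k R] in
/-- a character which is a function on the orbit lifts to a semi-invariant -/
theorem exists_semi (hG : HopfRep.IsLinearlyReductive k A) (x : R →ₐ[k] k) {χ : A}
    (hχ : IsGroupLikeElem k χ) (h : χ ∈ orb A x) :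
    ∃ f : R, HopfRep.Comod.coact (k := k) (A := A) f = f ⊗ₜ[k] χ ∧ x f = 1 := by
  obtain ⟨r, hr⟩ := h
  have hr' : GLin.orbitHom k A x r = χ := hr
  let p := homToMod (isComodHom_cf (k := k) (A := A) (V := R) x.toLinearMap)
  have hss : IsSemisimpleModule (Dl k A) R :=
    isSemisimpleComod_iff.1 (isSemisimpleComod_of_isLinearlyReductive hG R)
  obtain ⟨C, hC⟩ := hss.exists_isCompl (LinearMap.ker p)
  obtain ⟨n, hn, f, hf, hnf⟩ := Submodule.mem_sup.1 (show r ∈ LinearMap.ker p ⊔ C by rw [hC.sup_eq_top]; trivial)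
  have hpf : p f = χ := by
    have e : p r = χ := by rw [homToMod_apply, ← GITSep.orbitHom_eq_cf, hr']
    rw [← hnf, map_add, LinearMap.mem_ker.1 hn, zero_add] at e
    exact e
  refine ⟨f, ?_, ?_⟩
  · have key : ∀ φ : A →ₗ[k] k, fAct R φ f = φ χ • f := by
      intro φ
      have hmem : fAct R φ f - φ χ • f ∈ C := C.sub_mem (C.smul_mem (Dl.of φ) hf) (C.smul_of_tower_mem _ hf)
      have hker : fAct R φ f - φ χ • f ∈ LinearMap.ker p := by
        rw [LinearMap.mem_ker, map_sub, LinearMap.map_smul_of_tower, hpf, ← of_smul φ f, LinearMap.map_smul, hpf, of_smul,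
          fAct_apply]
        change TensorProduct.rid k A (φ.lTensor A (Coalgebra.comul χ)) - _ = 0
        rw [hχ.comul_eq_tmul_self]
        simp
      exact sub_eq_zero.1 ((Submodule.disjoint_def.1 hC.disjoint) _ hker hmem)
    classical
    let b := Module.Basis.ofVectorSpace k A
    refine (TensorProduct.equivFinsuppOfBasisRight b).injective (Finsupp.ext fun i => ?_)
    rw [TensorProduct.equivFinsuppOfBasisRight_apply, TensorProduct.equivFinsuppOfBasisRight_apply, ← fAct_apply,
      key]
    simp
  · have := congrArg (Coalgebra.counit (R := k)) hpf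
    rw [homToMod_apply, ← GITSep.orbitHom_eq_cf, counit_orbitHom, hχ.counit_eq_one] at this
    exact this

end Groth.L08.ClosedOrbit
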