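import Groth.Agent.L08.KilledByOrder
import Mathlib.RingTheory.Norm.Basic
import Mathlib.RingTheory.Coalgebra.Convolution
import Mathlib.RingTheory.HopfAlgebra.TensorProduct
import Mathlib.RingTheory.Coalgebra.TensorProduct
import Mathlib.RingTheory.LocalRing.Module
import Mathlib.RingTheory.TensorProduct.Finite

/-!
# Deligne: a commutative finite locally free group scheme is killed by its order

The free case follows `Groth.L15.OT.point_pow_finrank`, with independent universes.
-/

set_option autoImplicit false

noncomputable section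

universe u v w w'

open TensorProduct
open WithConv Coalgebra

namespace Groth.L08.Deligne

section free

variable {R : Type u} [CommRing R] {A : Type v} [CommRing A] [HopfAlgebra R A]

/-- post composition -/
def postH {B : Type w} {C : Type w'} [CommRing B] [Algebra R B] [CommRing C] [Algebra R C] (φ : B →ₐ[R] C) :
    WithConv (A →ₐ[R] B) →* WithConv (A →ₐ[R] C) where
  toFun f := toConv (φ.comp f.ofConv)
  map_one' := by
    apply WithConv.ext
    exact AlgHom.ext fun a => φ.commutes _
  map_mul' f g := by
    apply WithConv.ext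
    exact AlgHom.comp_convMul_distrib φ f g

variable [Coalgebra.IsCocomm R A]

/-- The inclusion of the constant functions, for convolution. -/
def dualToEnd : WithConv (A →ₗ[R] R) →+* WithConv (A →ₗ[R] A) where
  toFun f := toConv ((Algebra.ofId R A).toLinearMap ∘ₗ f.ofConv)
  map_one' := by
    apply WithConv.ext
    exact LinearMap.ext fun a => by simp
  map_mul' f g := congrArg toConv (LinearMap.algHom_comp_convMul_distrib (Algebra.ofId R A) f g)
  map_zero' := by
    apply WithConv.ext
    exact LinearMap.ext fun a => by simp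
  map_add' f g := by
    apply WithConv.ext
    exact LinearMap.ext fun a => by simp

/-- Translation by a point. -/
def transl (g : WithConv (A →ₐ[R] R)) : A →ₐ[R] A :=
  (toConv (AlgHom.id R A) * postH (Algebra.ofId R A) g).ofConv

theorem comp_transl {C : Type w} [CommRing C] [Algebra R C] (φ : A →ₐ[R] C) (g : WithConv (A →ₐ[R] R)) :
    φ.comp (transl g) = (toConv φ * postH (Algebra.ofId R C) g).ofConv := by
  have h := map_mul (postH φ) (toConv (AlgHom.id R A)) (postH (Algebra.ofId R A) g)
  have e : postH φ (postH (Algebra.ofId R A) g) = postH (Algebra.ofId R C) g := by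
    apply WithConv.ext
    exact AlgHom.ext fun a => φ.commutes _
  rw [e] at h
  exact congrArg WithConv.ofConv h

theorem transl_transl (g h : WithConv (A →ₐ[R] R)) : (transl h).comp (transl g) = transl (h * g) := by
  rw [comp_transl]
  show (toConv (AlgHom.id R A) * postH (Algebra.ofId R A) h * postH (Algebra.ofId R A) g).ofConv = _
  rw [mul_assoc, ← map_mul]
  rfl

theorem transl_one : transl (1 : WithConv (A →ₐ[R] R)) = AlgHom.id R A := by
  rw [transl, map_one, mul_one]

/-- Deligne's theorem, free case. -/
theorem point_pow_finrank [Module.Finite R A] [Module.Free R A] (g : WithConv (A →ₐ[R] R)) :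
    g ^ Module.finrank R A = 1 := by
  classical
  rcases subsingleton_or_nontrivial R with hR | hR
  · apply WithConv.ext
    exact AlgHom.ext fun a => Subsingleton.elim _ _
  let D := WithConv (A →ₗ[R] R)
  let E := WithConv (A →ₗ[R] A)
  letI : Algebra D E := (dualToEnd (R := R) (A := A)).toAlgebra
  let e := Module.finBasis R A
  let co : E ≃ₗ[D] (Fin (Module.finrank R A) → D) :=
    { toFun := fun f i => toConv (e.coord i ∘ₗ f.ofConv)
      invFun := fun v => toConv (∑ i, (LinearMap.toSpanSingleton R A (e i)) ∘ₗ (v i).ofConv)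
      map_add' := fun f f' => funext fun i => by
        apply WithConv.ext
        refine LinearMap.ext fun a => ?_
        show e.coord i (f.ofConv a + f'.ofConv a) = e.coord i (f.ofConv a) + e.coord i (f'.ofConv a)
        exact map_add _ _ _
      map_smul' := fun d f => funext fun i => by
        apply WithConv.ext
        refine LinearMap.ext fun a => ?_
        show e.coord i ((dualToEnd d * f).ofConv a) = (d * toConv (e.coord i ∘ₗ f.ofConv)).ofConv a
        rw [LinearMap.convMul_apply, LinearMap.convMul_apply, ← (ℛ R a).eq]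
        simp only [map_sum, TensorProduct.map_tmul, LinearMap.mul'_apply]
        refine Finset.sum_congr rfl fun j _ => ?_
        simp [dualToEnd, Algebra.algebraMap_eq_smul_one, smul_mul_assoc, map_smul]
      left_inv := fun f => by
        apply WithConv.ext
        refine LinearMap.ext fun a => ?_
        simp [e.sum_repr]
      right_inv := fun v => funext fun i => by
        apply WithConv.ext
        refine LinearMap.ext fun a => ?_
        simp [Finsupp.single_apply, eq_comm] }
  let B : Module.Basis (Fin (Module.finrank R A)) D E := Module.Basis.ofEquivFun co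
  let τ : A ≃ₐ[R] A := AlgEquiv.ofAlgHom (transl g) (transl g⁻¹)
    (by rw [transl_transl, mul_inv_cancel, transl_one]) (by rw [transl_transl, inv_mul_cancel, transl_one])
  let Φ : E ≃ₐ[D] E :=
    { toFun := fun f => toConv (τ.toLinearMap ∘ₗ f.ofConv)
      invFun := fun f => toConv (τ.symm.toLinearMap ∘ₗ f.ofConv)
      left_inv := fun f => by
        apply WithConv.ext
        exact LinearMap.ext fun a => τ.symm_apply_apply _
      right_inv := fun f => by
        apply WithConv.ext
        exact LinearMap.ext fun a => τ.apply_symm_apply _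
      map_mul' := fun f f' => congrArg toConv (LinearMap.algHom_comp_convMul_distrib τ.toAlgHom f f')
      map_add' := fun f f' => by
        apply WithConv.ext
        exact LinearMap.ext fun a => map_add τ _ _
      commutes' := fun d => by
        apply WithConv.ext
        exact LinearMap.ext fun a => τ.commutes _ }
  let δ : E := toConv LinearMap.id
  let gl : D := toConv g.ofConv.toLinearMap
  have hΦ : Φ δ = algebraMap D E gl * δ := by
    rw [mul_comm]
    show toConv ((transl g).toLinearMap ∘ₗ LinearMap.id) = _
    rw [LinearMap.comp_id]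
    exact AlgHom.toLinearMap_convMul _ _
  have hN := Algebra.norm_eq_of_algEquiv Φ δ
  rw [hΦ, map_mul, Algebra.norm_algebraMap_of_basis B, Fintype.card_fin] at hN
  have hδ : IsUnit δ := IsUnit.of_mul_eq_one _ LinearMap.id_mul_antipode
  have h1 : gl ^ Module.finrank R A = 1 :=
    (hδ.map (Algebra.norm D)).mul_right_cancel (hN.trans (one_mul _).symm)
  apply WithConv.ofConv_injective
  apply AlgHom.toLinearMap_injective
  apply WithConv.toConv_injective
  rw [AlgHom.toLinearMap_convPow, AlgHom.toLinearMap_convOne]
  exact h1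

end free

/-- A point in an algebra over which the group is free is killed by the rank. -/
theorem point_pow_of_free {R : Type u} [CommRing R] {A : Type v} [CommRing A] [HopfAlgebra R A]
    [Coalgebra.IsCocomm R A] (T : Type w) [CommRing T] [Algebra R T] [Module.Free T (T ⊗[R] A)]
    [Module.Finite T (T ⊗[R] A)] (f : A →ₐ[R] T) (a : A) :
    f ((toConv (AlgHom.id R A) ^ Module.finrank T (T ⊗[R] A) : WithConv (A →ₐ[R] A)).ofConv a) =
      algebraMap R T (Coalgebra.counit (R := R) a) := by
  let F : T ⊗[R] A →ₐ[T] T := Algebra.TensorProduct.lift (AlgHom.id T T) f fun _ _ => Commute.all _ _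
  let n := Module.finrank T (T ⊗[R] A)
  have hF := point_pow_finrank (R := T) (A := T ⊗[R] A) (toConv F)
  have hpost := map_pow (postH (R := T) (A := T ⊗[R] A) F) (toConv (AlgHom.id T (T ⊗[R] A))) n
  rw [show postH (R := T) (A := T ⊗[R] A) F (toConv (AlgHom.id T (T ⊗[R] A))) = toConv F from rfl, hF] at hpost
  have h1 := congrArg (fun G : WithConv (T ⊗[R] A →ₐ[T] T) => G.ofConv ((1 : T) ⊗ₜ[R] a)) hpost
  have h2 : F ((toConv (AlgHom.id T (T ⊗[R] A)) ^ n : WithConv (T ⊗[R] A →ₐ[T] T ⊗[R] A)).ofConv ((1 : T) ⊗ₜ[R] a)) =
      algebraMap R T (Coalgebra.counit (R := R) a) := by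
    refine h1.trans ?_
    simp [AlgHom.convOne_apply, Algebra.algebraMap_eq_smul_one]
  rw [KilledByOrder.id_pow_baseChange] at h2
  simpa [F] using h2

/-- A commutative finite locally free group scheme is killed by its order. -/
theorem id_pow_eq_one {R : Type u} [CommRing R] {A : Type v} [CommRing A] [HopfAlgebra R A]
    [Coalgebra.IsCocomm R A] [Module.Finite R A] [Module.Projective R A] (n : ℕ)
    (hn : ∀ p : PrimeSpectrum R, Module.rankAtStalk (R := R) A p = n) :
    (toConv (AlgHom.id R A) ^ n : WithConv (A →ₐ[R] A)) = 1 := by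
  classical
  apply WithConv.ext
  refine AlgHom.ext fun a => ?_
  refine sub_eq_zero.1 ((Module.forall_dual_apply_eq_zero_iff R _).1 fun φ => ?_)
  by_contra hne
  have hann : Ideal.torsionOf R R (φ ((toConv (AlgHom.id R A) ^ n : WithConv (A →ₐ[R] A)).ofConv a -
      (1 : WithConv (A →ₐ[R] A)).ofConv a)) ≠ ⊤ := fun h => hne ((Ideal.torsionOf_eq_top_iff (R := R) _).1 h)
  obtain ⟨p, hp, hle⟩ := Ideal.exists_le_maximal _ hann
  haveI := hp.isPrime
  let S := Localization.AtPrime p
  haveI : Module.Free S (S ⊗[R] A) := Module.free_of_flat_of_isLocalRing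
  have hS : Module.finrank S (S ⊗[R] A) = n :=
    (Module.rankAtStalk_eq_finrank_tensorProduct (M := A) (⟨p, hp.isPrime⟩ : PrimeSpectrum R)).symm.trans (hn _)
  let e : (S ⊗[R] A) ⊗[S] (S ⊗[R] A) ≃ₗ[S ⊗[R] A] (S ⊗[R] A) ⊗[R] A :=
    TensorProduct.AlgebraTensorModule.cancelBaseChange R S (S ⊗[R] A) (S ⊗[R] A) A
  haveI : Module.Free (S ⊗[R] A) ((S ⊗[R] A) ⊗[R] A) := Module.Free.of_equiv e
  haveI : Nontrivial (S ⊗[R] A) := ((Algebra.TensorProduct.lift (AlgHom.id S S)
    ((Algebra.ofId R S).comp (Bialgebra.counitAlgHom R A)) fun _ _ => Commute.all _ _).toRingHom).domain_nontrivial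
  have hT : Module.finrank (S ⊗[R] A) ((S ⊗[R] A) ⊗[R] A) = n := by
    rw [← e.finrank_eq, Module.finrank_baseChange, hS]
  have h2 := point_pow_of_free (S ⊗[R] A) (Algebra.TensorProduct.includeRight : A →ₐ[R] S ⊗[R] A) a
  rw [hT, ← AlgHom.commutes (Algebra.TensorProduct.includeRight : A →ₐ[R] S ⊗[R] A)] at h2
  simp only [Algebra.TensorProduct.includeRight_apply, ← AlgHom.convOne_apply (A := A) a] at h2
  have h3 := congrArg (fun z : S ⊗[R] A => TensorProduct.rid R S (φ.lTensor S z)) (sub_eq_zero.2 h2)
  simp only [← TensorProduct.tmul_sub, LinearMap.lTensor_tmul, TensorProduct.rid_tmul, map_zero,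
    ← Algebra.algebraMap_eq_smul_one] at h3
  rw [IsLocalization.map_eq_zero_iff p.primeCompl S] at h3
  obtain ⟨⟨t, ht⟩, htx⟩ := h3
  exact ht (hle ((Ideal.mem_torsionOf_iff _ t).2 htx))

end Groth.L08.Deligne
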