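import Mathlib.RingTheory.HopfAlgebra.Basic
import Mathlib.RingTheory.HopfAlgebra.Convolution
import Mathlib.LinearAlgebra.TensorProduct.Tower
import Mathlib.RingTheory.Ideal.Cotangent
import Mathlib.RingTheory.Derivation.Basic

/-!
# Derivations of a Hopf algebra from derivations at the identity
-/

universe u v w

open TensorProduct WithConv

noncomputable section

namespace Groth.L08.Deriv

variable {R : Type u} [CommRing R] {A : Type v} [CommRing A] [HopfAlgebra R A]
  {M : Type w} [AddCommGroup M] [Module R M] [Module A M] [IsScalarTower R A M]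

variable (R A M) in
/-- multiplication `A ⊗ M → M` -/
def mult : A ⊗[R] M →ₗ[R] M := ((LinearMap.id (R := R) (M := M)).liftBaseChange A).restrictScalars R

@[simp] theorem mult_tmul (a : A) (m : M) : mult R A M (a ⊗ₜ m) = a • m := by simp [mult]

/-- Convolution of an endomorphism with a map to a module. -/
def cv (f : A →ₗ[R] A) (m : A →ₗ[R] M) : A →ₗ[R] M :=
  mult R A M ∘ₗ TensorProduct.map f m ∘ₗ Coalgebra.comul

theorem cv_cv (f g : A →ₗ[R] A) (m : A →ₗ[R] M) :
    cv f (cv g m) = cv (toConv f * toConv g).ofConv m := by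
  ext a
  let L : A ⊗[R] (A ⊗[R] A) →ₗ[R] M :=
    mult R A M ∘ₗ TensorProduct.map f (mult R A M ∘ₗ TensorProduct.map g m)
  let L' : (A ⊗[R] A) ⊗[R] A →ₗ[R] M :=
    mult R A M ∘ₗ TensorProduct.map (LinearMap.mul' R A ∘ₗ TensorProduct.map f g) m
  have key : L ∘ₗ (TensorProduct.assoc R A A A).toLinearMap = L' := by
    refine TensorProduct.ext_threefold fun x y z => ?_
    simp [L, L', mul_smul]
  have h1 : ∀ y : A ⊗[R] A, mult R A M (TensorProduct.map f (cv g m) y) =
      L (Coalgebra.comul.lTensor A y) := by
    intro y
    induction y with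
    | zero => simp
    | add a b ha hb => simp only [map_add, ha, hb]
    | tmul x z => simp [L, cv]
  have h2 : ∀ y : A ⊗[R] A, mult R A M (TensorProduct.map (toConv f * toConv g).ofConv m y) =
      L' (Coalgebra.comul.rTensor A y) := by
    intro y
    induction y with
    | zero => simp
    | add a b ha hb => simp only [map_add, ha, hb]
    | tmul x z => simp [L', LinearMap.convMul_def]
  change mult R A M (TensorProduct.map f (cv g m) _) = mult R A M (TensorProduct.map _ m _)
  rw [h1, h2, ← key]
  exact congrArg L (Coalgebra.coassoc_apply a).symm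

theorem cv_one (m : A →ₗ[R] M) : cv (1 : WithConv (A →ₗ[R] A)).ofConv m = m := by
  ext a
  have h : ∀ y : A ⊗[R] A, mult R A M (TensorProduct.map (1 : WithConv (A →ₗ[R] A)).ofConv m y) =
      m (TensorProduct.lid R A (Coalgebra.counit.rTensor A y)) := by
    intro y
    induction y with
    | zero => simp
    | add a b ha hb => simp only [map_add, ha, hb]
    | tmul x z => simp [algebraMap_smul]
  change mult R A M (TensorProduct.map _ m _) = _
  rw [h, Coalgebra.rTensor_counit_comul]
  simp

theorem cv_id_antipode (m : A →ₗ[R] M) : cv LinearMap.id (cv (HopfAlgebra.antipode R) m) = m := by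
  rw [cv_cv, LinearMap.id_mul_antipode, cv_one]

theorem cv_antipode_id (m : A →ₗ[R] M) : cv (HopfAlgebra.antipode R) (cv LinearMap.id m) = m := by
  rw [cv_cv, LinearMap.antipode_mul_id, cv_one]

/-- Leibniz rules convolve. -/
theorem cv_mul (f g : A →ₐ[R] A) (m : A →ₗ[R] M) (hm : ∀ a b, m (a * b) = g a • m b + g b • m a)
    (a b : A) :
    cv f.toLinearMap m (a * b) =
      (toConv f.toLinearMap * toConv g.toLinearMap).ofConv a • cv f.toLinearMap m b +
        (toConv f.toLinearMap * toConv g.toLinearMap).ofConv b • cv f.toLinearMap m a := by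
  have key : ∀ x y : A ⊗[R] A, mult R A M (TensorProduct.map f.toLinearMap m (x * y)) =
      LinearMap.mul' R A (TensorProduct.map f.toLinearMap g.toLinearMap x) •
          mult R A M (TensorProduct.map f.toLinearMap m y) +
        LinearMap.mul' R A (TensorProduct.map f.toLinearMap g.toLinearMap y) •
          mult R A M (TensorProduct.map f.toLinearMap m x) := by
    intro x y
    induction x with
    | zero => simp
    | add p q hp hq =>
      simp only [add_mul, map_add, hp, hq, add_smul, smul_add]; abel
    | tmul x1 x2 =>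
      induction y with
      | zero => simp
      | add p q hp hq => simp only [mul_add, map_add, hp, hq, add_smul, smul_add]; abel
      | tmul y1 y2 =>
        simp only [Algebra.TensorProduct.tmul_mul_tmul, TensorProduct.map_tmul, mult_tmul, hm,
          LinearMap.mul'_apply, AlgHom.toLinearMap_apply, map_mul, smul_add, smul_smul]
        congr 1 <;> congr 1 <;> ring
  change mult R A M (TensorProduct.map f.toLinearMap m (Coalgebra.comul (a * b))) = _
  rw [Bialgebra.comul_mul, key]
  rfl

/-- `T m a = a₁ • m a₂` is a derivation for a derivation at the identity `m`. -/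
theorem cv_id_leibniz (m : A →ₗ[R] M)
    (hm : ∀ a b : A, m (a * b) = Coalgebra.counit (R := R) a • m b + Coalgebra.counit (R := R) b • m a)
    (a b : A) :
    cv LinearMap.id m (a * b) = a • cv LinearMap.id m b + b • cv LinearMap.id m a := by
  have h := cv_mul (AlgHom.id R A) ((Algebra.ofId R A).comp (Bialgebra.counitAlgHom R A)) m
    (fun a b => by simp [hm, algebraMap_smul]) a b
  have hid : (toConv (LinearMap.id : A →ₗ[R] A) *
      toConv ((Algebra.ofId R A).comp (Bialgebra.counitAlgHom R A)).toLinearMap).ofConv =
        LinearMap.id := by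
    have : (toConv ((Algebra.ofId R A).comp (Bialgebra.counitAlgHom R A)).toLinearMap :
        WithConv (A →ₗ[R] A)) = 1 := by ext x; simp
    rw [this, mul_one]
  rw [AlgHom.toLinearMap_id] at h
  rw [h, hid]
  rfl

/-- `a ↦ S a₁ • D a₂` is a derivation at the identity for a derivation `D`. -/
theorem cv_antipode_leibniz (D : A →ₗ[R] M) (hD : ∀ a b : A, D (a * b) = a • D b + b • D a) (a b : A) :
    cv (HopfAlgebra.antipode R) D (a * b) =
      Coalgebra.counit (R := R) a • cv (HopfAlgebra.antipode R) D b +
        Coalgebra.counit (R := R) b • cv (HopfAlgebra.antipode R) D a := by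
  have h := cv_mul (HopfAlgebra.antipodeAlgHom R A) (AlgHom.id R A) D (by simpa using hD) a b
  rw [HopfAlgebra.toLinearMap_antipodeAlgHom, AlgHom.toLinearMap_id, LinearMap.antipode_mul_id] at h
  rw [h]
  simp [algebraMap_smul]

section Cotangent

local notation "I" => RingHom.ker (Bialgebra.counitAlgHom R A)

theorem sub_counit_mem (a : A) : a - algebraMap R A (Coalgebra.counit (R := R) a) ∈ I := by
  simp [RingHom.mem_ker]

variable (π : A →ₗ[R] (RingHom.ker (Bialgebra.counitAlgHom R A)).Cotangent)
  (hπI : ∀ x : (RingHom.ker (Bialgebra.counitAlgHom R A)), π (x : A) =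
    (RingHom.ker (Bialgebra.counitAlgHom R A)).toCotangent x) (hπ1 : π 1 = 0)

include hπI hπ1

theorem pi_leibniz (a b : A) :
    π (a * b) = Coalgebra.counit (R := R) a • π b + Coalgebra.counit (R := R) b • π a := by
  let r : R := Coalgebra.counit (R := R) a
  let s : R := Coalgebra.counit (R := R) b
  have h0 : π ((a - algebraMap R A r) * (b - algebraMap R A s)) = 0 := by
    have hm := Ideal.mul_mem_mul (sub_counit_mem (R := R) a) (sub_counit_mem (R := R) b)
    rw [← pow_two] at hm
    have hmem := Ideal.pow_le_self two_ne_zero hm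
    rw [show (a - algebraMap R A r) * (b - algebraMap R A s) =
      ((⟨_, hmem⟩ : (I)) : A) from rfl, hπI, Ideal.toCotangent_eq_zero]
    exact hm
  rw [show (a - algebraMap R A r) * (b - algebraMap R A s) =
      a * b - r • b - s • a + (r * s) • (1 : A) by
    simp only [Algebra.smul_def, mul_one, map_mul]; ring] at h0
  rw [map_add, map_sub, map_sub, map_smul, map_smul, map_smul, hπ1, smul_zero, add_zero,
    sub_sub, sub_eq_zero] at h0
  exact h0

theorem pi_surjective : Function.Surjective π := fun y => by
  obtain ⟨x, rfl⟩ := (I).toCotangent_surjective y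
  exact ⟨x, hπI x⟩

theorem exists_factor (m : A →ₗ[R] M)
    (hm : ∀ a b : A, m (a * b) = Coalgebra.counit (R := R) a • m b + Coalgebra.counit (R := R) b • m a) :
    ∃ l : (I).Cotangent →ₗ[R] M, l ∘ₗ π = m := by
  have hm1 : m 1 = 0 := by
    have := hm 1 1
    simp only [mul_one, Bialgebra.counit_one, one_smul] at this
    simpa using this.symm
  have hker : LinearMap.ker π ≤ LinearMap.ker m := by
    intro a ha
    rw [LinearMap.mem_ker] at ha ⊢
    have hsq : ∀ x ∈ (I) ^ 2, m x = 0 := by
      intro x hx
      rw [pow_two] at hx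
      refine Submodule.mul_induction_on hx (fun p hp q hq => ?_) (fun p q hp hq => by rw [map_add, hp, hq, add_zero])
      have hp' : Coalgebra.counit (R := R) p = 0 := hp
      have hq' : Coalgebra.counit (R := R) q = 0 := hq
      rw [hm, hp', hq', zero_smul, zero_smul, add_zero]
    have hx : a - algebraMap R A (Coalgebra.counit (R := R) a) ∈ (I) ^ 2 := by
      rw [← Ideal.toCotangent_eq_zero (I) ⟨_, sub_counit_mem a⟩, ← hπI]
      change π (a - algebraMap R A (Coalgebra.counit (R := R) a)) = 0
      rw [Algebra.algebraMap_eq_smul_one]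
      simp [ha, hπ1]
    have := hsq _ hx
    rw [Algebra.algebraMap_eq_smul_one, map_sub, map_smul, hm1, smul_zero, sub_zero] at this
    exact this
  refine ⟨(Submodule.liftQ _ m hker).comp (π.quotKerEquivOfSurjective (pi_surjective π hπI hπ1)).symm.toLinearMap, ?_⟩
  ext a
  have h : (π.quotKerEquivOfSurjective (pi_surjective π hπI hπ1)).symm (π a) = Submodule.Quotient.mk a := by
    rw [LinearEquiv.symm_apply_eq]; rfl
  simp [h]

/-- Derivations correspond to maps out of the cotangent space at the identity. -/
theorem existsUnique_linearMap (D : A →ₗ[R] M) (hD : ∀ a b : A, D (a * b) = a • D b + b • D a) :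
    ∃! l : (I).Cotangent →ₗ[R] M, cv LinearMap.id (l ∘ₗ π) = D := by
  obtain ⟨l, hl⟩ := exists_factor π hπI hπ1 _ (cv_antipode_leibniz D hD)
  refine ⟨l, by simp only; rw [hl, cv_id_antipode], fun l' hl' => ?_⟩
  refine (LinearMap.cancel_right (pi_surjective π hπI hπ1)).1 ?_
  simp only at hl'
  rw [hl, ← hl', cv_antipode_id]

end Cotangent

end Groth.L08.Deriv
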