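import Groth.Agent.L08.DescAction

/-!
# Actions of connected groups respect the fibres of a morphism with the same functions
-/

set_option autoImplicit false
set_option backward.isDefEq.respectTransparency.types false
set_option linter.style.haveILetI false

universe u

open CategoryTheory CategoryTheory.Limits MonoidalCategory CartesianMonoidalCategory MonObj AlgebraicGeometry TopologicalSpace

noncomputable section

namespace Groth.L08.DescAction

variable {k : Type u} [Field k] {G X Y : Over (Spec (CommRingCat.of k))}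
  (f : X ⟶ Y) [IsProper f.left] (hf : ∀ U : Y.left.Opens, IsIso (f.left.app U)) [GrpObj G] (a : AlgGrp.Action G X)

/-- The unit section of `G × Y`. -/
abbrev unitSection (G Y : Over (Spec (CommRingCat.of k))) [GrpObj G] : Y ⟶ G ⊗ Y := lift (toUnit Y ≫ η[G]) (𝟙 Y)

omit [IsProper f.left] in
theorem unitSection_comp : unitSection G X ≫ (G ◁ f) = f ≫ unitSection G Y := by
  rw [lift_whiskerLeft, comp_lift, comp_toUnit_assoc, Category.comp_id, Category.id_comp]

omit [IsProper f.left] in
theorem unitSection_act : unitSection G X ≫ a.act = 𝟙 X := by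
  rw [show unitSection G X = lift (1 : X ⟶ G) (𝟙 X) by rw [Hom.one_def]]
  exact Groth.L25.Actions.one_act a (𝟙 X)

include hf

/-- Near the unit section the action factors through the base. -/
theorem exists_nhd_unit (y : Y.left) :
    ∃ (O : (G ⊗ Y).left.Opens) (u : (O : Scheme.{u}) ⟶ Y.left), (unitSection G Y).left y ∈ O ∧
      ((G ◁ f).left ⁻¹ᵁ O).ι ≫ (a.act ≫ f).left = ((G ◁ f).left ∣_ O) ≫ u := by
  obtain ⟨_, _⟩ := proper_whisker f hf G
  let F := (G ◁ f).left
  let h := (a.act ≫ f).left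
  obtain ⟨V, hV, hyV, -⟩ := exists_isAffineOpen_mem_and_subset (Opens.mem_top y)
  let O : (G ⊗ Y).left.Opens :=
    ⟨(F '' ((h ⁻¹ᵁ V : (G ⊗ X).left.Opens) : Set (G ⊗ X).left)ᶜ)ᶜ,
      (F.isClosedMap _ (h ⁻¹ᵁ V).2.isClosed_compl).isOpen_compl⟩
  have hO : F ⁻¹ᵁ O ≤ h ⁻¹ᵁ V := fun p hp => by
    by_contra hpV
    exact hp ⟨p, hpV, rfl⟩
  haveI : IsIso (F.app O) := (ConcreteCategory.isIso_iff_bijective _).2 (bijective_whisker f hf G O)
  refine ⟨O, O.toSpecΓ ≫ Spec.map (h.appLE V (F ⁻¹ᵁ O) hO ≫ inv (F.app O)) ≫ hV.fromSpec, ?_, ?_⟩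
  · rintro ⟨p, hp, hp'⟩
    obtain ⟨x, hx⟩ : p ∈ Set.range (unitSection G X).left := by
      haveI := surjective_f f hf
      have hsq : IsPullback f.left (unitSection G X).left (unitSection G Y).left (G ◁ f).left := by
        refine IsPullback.of_bot (v₂₁ := (snd G X).left) (v₂₂ := (snd G Y).left) ?_
          (by rw [← Over.comp_left, ← Over.comp_left, unitSection_comp]) (Groth.L25.Actions.isPullback_whiskerLeft_left G f)
        rw [← Over.comp_left, lift_snd, ← Over.comp_left, lift_snd, Over.id_left, Over.id_left]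
        exact IsPullback.of_vert_isIso ⟨by simp⟩
      obtain ⟨r, -, hr⟩ := Scheme.Pullback.exists_preimage_pullback (f := (unitSection G Y).left) (g := (G ◁ f).left)
        y p hp'.symm
      exact ⟨hsq.isoPullback.inv r, (congr(($(hsq.isoPullback_inv_snd)) r)).trans hr⟩
    have h1 : f.left x = y := by
      have h2 : (unitSection G Y).left (f.left x) = (unitSection G Y).left y := by
        rw [← hp', ← hx]
        exact (congr(($(unitSection_comp (G := G) f)).left x)).symm
      have h3 := congrArg (snd G Y).left h2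
      have hs : ∀ z, (snd G Y).left ((unitSection G Y).left z) = z := fun z => by
        show (unitSection G Y ≫ snd G Y).left z = z
        rw [lift_snd]; rfl
      rwa [hs, hs] at h3
    apply hp
    show h p ∈ V
    rw [← hx]
    show (unitSection G X ≫ a.act ≫ f).left x ∈ V
    rw [reassoc_of% unitSection_act a, h1]
    exact hyV
  · rw [← Scheme.Opens.toSpecΓ_naturality_assoc, ← Spec.map_comp_assoc, Category.assoc, IsIso.inv_hom_id,
      Category.comp_id, Scheme.Opens.toSpecΓ_SpecMap_appLE_assoc, IsAffineOpen.toSpecΓ_fromSpec,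
      Scheme.Hom.resLE_comp_ι]

/-- For a connected group the action respects the fibres. -/
theorem fibres_respected [LocallyOfFiniteType G.hom] [ConnectedSpace G.left] [IsSeparated Y.hom]
    (p q : ↥(G ⊗ X).left) (hpq : (G ◁ f).left p = (G ◁ f).left q) :
    (a.act ≫ f).left p = (a.act ≫ f).left q := by
  haveI : IsLocallyNoetherian G.left := LocallyOfFiniteType.isLocallyNoetherian G.hom
  haveI : IrreducibleSpace G.left := Groth.L25.Component.irreducibleSpace G
  haveI : GeometricallyIrreducible G.hom := Groth.L25.Component.geometricallyIrreducible G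
  let R := pullback f f
  let r₁ : R ⟶ X := pullback.fst f f
  let r₂ : R ⟶ X := pullback.snd f f
  let F := G ◁ f
  let d₁ : G ⊗ R ⟶ Y := (G ◁ r₁) ≫ a.act ≫ f
  let d₂ : G ⊗ R ⟶ Y := (G ◁ r₂) ≫ a.act ≫ f
  -- a point over both
  obtain ⟨s, hs₁, hs₂⟩ : ∃ s : (G ⊗ R).left, (G ◁ r₁).left s = p ∧ (G ◁ r₂).left s = q := by
    let t₁ : pullback F F ⟶ G ⊗ X := pullback.fst F F
    let t₂ : pullback F F ⟶ G ⊗ X := pullback.snd F F
    have hw : t₁ ≫ F = t₂ ≫ F := pullback.condition
    have h1 := congrArg (· ≫ fst G Y) hw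
    have h2 := congrArg (· ≫ snd G Y) hw
    simp only [F, Category.assoc, whiskerLeft_fst, whiskerLeft_snd] at h1 h2
    let φ : pullback F F ⟶ G ⊗ R := lift (t₁ ≫ fst G X)
      (pullback.lift (t₁ ≫ snd G X) (t₂ ≫ snd G X) (by simpa only [Category.assoc] using h2))
    have e1 : φ ≫ (G ◁ r₁) = t₁ := by
      rw [lift_whiskerLeft, pullback.lift_fst, ← comp_lift, lift_fst_snd, Category.comp_id]
    have e2 : φ ≫ (G ◁ r₂) = t₂ := by
      rw [lift_whiskerLeft, pullback.lift_snd, h1, ← comp_lift, lift_fst_snd, Category.comp_id]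
    have sq := (IsPullback.of_hasPullback F F).map (Over.forget _)
    obtain ⟨r, hr1, hr2⟩ := Scheme.Pullback.exists_preimage_pullback (f := F.left) (g := F.left) p q hpq
    let z := sq.isoPullback.inv r
    have z1 : t₁.left z = p := (congr(($(sq.isoPullback_inv_fst)) r)).trans hr1
    have z2 : t₂.left z = q := (congr(($(sq.isoPullback_inv_snd)) r)).trans hr2
    refine ⟨φ.left z, ?_, ?_⟩
    · rw [← z1, ← e1]; rfl
    · rw [← z2, ← e2]; rfl
  rw [← hs₁, ← hs₂]
  show d₁.left s = d₂.left s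
  let δ : Y ⟶ Y ⊗ Y := lift (𝟙 Y) (𝟙 Y)
  haveI : IsClosedImmersion δ.left := by
    show IsClosedImmersion (pullback.diagonal Y.hom)
    infer_instance
  let E : Set (G ⊗ R).left := (lift d₁ d₂).left ⁻¹' Set.range δ.left
  have hEc : IsClosed E := δ.left.isClosedEmbedding.isClosed_range.preimage (lift d₁ d₂).left.continuous
  have hEeq : ∀ e ∈ E, d₁.left e = d₂.left e := by
    rintro e ⟨y, hy⟩
    have a1 := congrArg (fst Y Y).left hy
    have a2 := congrArg (snd Y Y).left hy
    have b1 : (lift d₁ d₂ ≫ fst Y Y).left e = (δ ≫ fst Y Y).left y := a1.symm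
    have b2 : (lift d₁ d₂ ≫ snd Y Y).left e = (δ ≫ snd Y Y).left y := a2.symm
    rw [lift_fst, lift_fst] at b1
    rw [lift_snd, lift_snd] at b2
    exact b1.trans b2.symm
  refine hEeq s ?_
  let ρ := (snd G R).left s
  let σ : R ⟶ G ⊗ R := unitSection G R
  obtain ⟨O, u, hO, hu⟩ := exists_nhd_unit f hf a ((r₁ ≫ f).left ρ)
  let Ω : (G ⊗ R).left.Opens := (G ◁ (r₁ ≫ f)).left ⁻¹ᵁ O
  have hΩ : (Ω : Set (G ⊗ R).left) ⊆ E := by
    intro e he
    have hd : ∀ (r : R ⟶ X), r ≫ f = r₁ ≫ f → Ω.ι ≫ ((G ◁ r) ≫ a.act ≫ f).left =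
        (G ◁ (r₁ ≫ f)).left.resLE O Ω le_rfl ≫ u := by
      intro r hr
      have e0 : (G ◁ r).left ≫ (G ◁ f).left = (G ◁ (r₁ ≫ f)).left := by
        rw [← Over.comp_left, ← MonoidalCategory.whiskerLeft_comp, hr]
      have hle : Ω ≤ (G ◁ r).left ⁻¹ᵁ ((G ◁ f).left ⁻¹ᵁ O) := by
        show Ω ≤ ((G ◁ r).left ≫ (G ◁ f).left) ⁻¹ᵁ O
        rw [e0]
      rw [Over.comp_left, ← Scheme.Hom.resLE_comp_ι_assoc _ hle, hu, ← Category.assoc]
      congr 1
      rw [← cancel_mono O.ι, Category.assoc, morphismRestrict_ι, Scheme.Hom.resLE_comp_ι_assoc,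
        Scheme.Hom.resLE_comp_ι, e0]
    have hpre : Ω.ι ≫ d₁.left = Ω.ι ≫ d₂.left := (hd r₁ rfl).trans (hd r₂ pullback.condition.symm).symm
    have h4 : Ω.ι ≫ (lift d₁ d₂).left = (Ω.ι ≫ d₁.left) ≫ δ.left := by
      refine pullback.hom_ext ?_ ?_
      · show (Ω.ι ≫ _) ≫ (fst Y Y).left = ((Ω.ι ≫ d₁.left) ≫ δ.left) ≫ (fst Y Y).left
        rw [Category.assoc, Category.assoc, ← Over.comp_left, ← Over.comp_left, lift_fst, lift_fst, Over.id_left,
          Category.comp_id]
      · show (Ω.ι ≫ _) ≫ (snd Y Y).left = ((Ω.ι ≫ d₁.left) ≫ δ.left) ≫ (snd Y Y).left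
        rw [Category.assoc, Category.assoc, ← Over.comp_left, ← Over.comp_left, lift_snd, lift_snd, Over.id_left,
          Category.comp_id, hpre]
    exact ⟨(Ω.ι ≫ d₁.left) ⟨e, he⟩, (congr(($h4) ⟨e, he⟩)).symm⟩
  let S : Set (G ⊗ R).left := (snd G R).left ⁻¹' {ρ}
  have hS : IsIrreducible S := by
    haveI : GeometricallyIrreducible (snd G R).left :=
      inferInstanceAs (GeometricallyIrreducible (pullback.snd G.hom R.hom))
    haveI : UniversallyOpen G.hom := inferInstance
    haveI : UniversallyOpen (snd G R).left := inferInstanceAs (UniversallyOpen (pullback.snd G.hom R.hom))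
    exact (snd G R).left.isIrreducible_preimage (snd G R).left.isOpenMap isIrreducible_singleton
  have hne : (S ∩ Ω).Nonempty := by
    refine ⟨σ.left ρ, ?_, ?_⟩
    · show (σ ≫ snd G R).left ρ = ρ
      rw [lift_snd]; rfl
    · show (σ ≫ (G ◁ (r₁ ≫ f))).left ρ ∈ O
      rw [unitSection_comp]
      exact hO
  exact closure_minimal (Set.inter_subset_right.trans hΩ) hEc
    (subset_closure_inter_of_isPreirreducible_of_isOpen hS.isPreirreducible Ω.2 hne rfl)

end Groth.L08.DescAction
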