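import Groth.Agent.L08.DescActionConn
import Groth.Agent.L16.Connected.Fibre

/-!
# Descending actions of connected groups without separatedness

On each fibre the action takes at most one value in every affine open of the base, hence finitely many values,
none specialising to another; as the fibres are connected (Zariski), exactly one.
-/

set_option autoImplicit false
set_option backward.isDefEq.respectTransparency.types false
set_option linter.style.haveILetI false

universe u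

open CategoryTheory CategoryTheory.Limits MonoidalCategory CartesianMonoidalCategory MonObj AlgebraicGeometry TopologicalSpace

noncomputable section

namespace Groth.L08.DescAction

variable {k : Type u} [Field k] {G X Y : Over (Spec (CommRingCat.of k))}
  (f : X ⟶ Y) [IsProper f.left] (hf : ∀ U : Y.left.Opens, IsIso (f.left.app U)) [GrpObj G] (a : AlgGrp.Action G X)

include hf

/-- On a fibre the action takes one value in each affine open. -/
theorem eq_of_mem_affine [LocallyOfFiniteType G.hom] [ConnectedSpace G.left]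
    (p q : ↥(G ⊗ X).left) (hpq : (G ◁ f).left p = (G ◁ f).left q) {V : Y.left.Opens} (hV : IsAffineOpen V)
    (hpV : (a.act ≫ f).left p ∈ V) (hqV : (a.act ≫ f).left q ∈ V) :
    (a.act ≫ f).left p = (a.act ≫ f).left q := by
  haveI : IsLocallyNoetherian G.left := LocallyOfFiniteType.isLocallyNoetherian G.hom
  haveI : IrreducibleSpace G.left := Groth.L25.Component.irreducibleSpace G
  haveI : GeometricallyIrreducible G.hom := Groth.L25.Component.geometricallyIrreducible G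
  let R := pullback f f
  let r₁ : R ⟶ X := pullback.fst f f
  let r₂ : R ⟶ X := pullback.snd f f
  let F := G ◁ f
  let d₁ : G ⊗ R ⟶ Y := (G ◁ r₁) ≫ a.act ≫ f
  let d₂ : G ⊗ R ⟶ Y := (G ◁ r₂) ≫ a.act ≫ f
  -- a point over both
  obtain ⟨s, hs₁, hs₂⟩ : ∃ s : (G ⊗ R).left, (G ◁ r₁).left s = p ∧ (G ◁ r₂).left s = q := by
    let t₁ : pullback F F ⟶ G ⊗ X := pullback.fst F F
    let t₂ : pullback F F ⟶ G ⊗ X := pullback.snd F F
    have hw : t₁ ≫ F = t₂ ≫ F := pullback.condition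
    have h1 := congrArg (· ≫ fst G Y) hw
    have h2 := congrArg (· ≫ snd G Y) hw
    simp only [F, Category.assoc, whiskerLeft_fst, whiskerLeft_snd] at h1 h2
    let φ : pullback F F ⟶ G ⊗ R := lift (t₁ ≫ fst G X)
      (pullback.lift (t₁ ≫ snd G X) (t₂ ≫ snd G X) (by simpa only [Category.assoc] using h2))
    have e1 : φ ≫ (G ◁ r₁) = t₁ := by
      rw [lift_whiskerLeft, pullback.lift_fst, ← comp_lift, lift_fst_snd, Category.comp_id]
    have e2 : φ ≫ (G ◁ r₂) = t₂ := by
      rw [lift_whiskerLeft, pullback.lift_snd, h1, ← comp_lift, lift_fst_snd, Category.comp_id]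
    have sq := (IsPullback.of_hasPullback F F).map (Over.forget _)
    obtain ⟨r, hr1, hr2⟩ := Scheme.Pullback.exists_preimage_pullback (f := F.left) (g := F.left) p q hpq
    let z := sq.isoPullback.inv r
    have z1 : t₁.left z = p := (congr(($(sq.isoPullback_inv_fst)) r)).trans hr1
    have z2 : t₂.left z = q := (congr(($(sq.isoPullback_inv_snd)) r)).trans hr2
    refine ⟨φ.left z, ?_, ?_⟩
    · rw [← z1, ← e1]; rfl
    · rw [← z2, ← e2]; rfl
  rw [← hs₁, ← hs₂]
  show d₁.left s = d₂.left s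
  have hs₁V : d₁.left s ∈ V := by
    show (a.act ≫ f).left ((G ◁ r₁).left s) ∈ V
    rwa [hs₁]
  have hs₂V : d₂.left s ∈ V := by
    show (a.act ≫ f).left ((G ◁ r₂).left s) ∈ V
    rwa [hs₂]
  let ρ := (snd G R).left s
  let σ : R ⟶ G ⊗ R := unitSection G R
  obtain ⟨O, u, hO, hu⟩ := exists_nhd_unit f hf a ((r₁ ≫ f).left ρ)
  let Ω : (G ⊗ R).left.Opens := (G ◁ (r₁ ≫ f)).left ⁻¹ᵁ O
  have hd : ∀ (r : R ⟶ X), r ≫ f = r₁ ≫ f → Ω.ι ≫ ((G ◁ r) ≫ a.act ≫ f).left =
      (G ◁ (r₁ ≫ f)).left.resLE O Ω le_rfl ≫ u := by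
    intro r hr
    have e0 : (G ◁ r).left ≫ (G ◁ f).left = (G ◁ (r₁ ≫ f)).left := by
      rw [← Over.comp_left, ← MonoidalCategory.whiskerLeft_comp, hr]
    have hle : Ω ≤ (G ◁ r).left ⁻¹ᵁ ((G ◁ f).left ⁻¹ᵁ O) := by
      show Ω ≤ ((G ◁ r).left ≫ (G ◁ f).left) ⁻¹ᵁ O
      rw [e0]
    rw [Over.comp_left, ← Scheme.Hom.resLE_comp_ι_assoc _ hle, hu, ← Category.assoc]
    congr 1
    rw [← cancel_mono O.ι, Category.assoc, morphismRestrict_ι, Scheme.Hom.resLE_comp_ι_assoc,
      Scheme.Hom.resLE_comp_ι, e0]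
  have hpre : Ω.ι ≫ d₁.left = Ω.ι ≫ d₂.left := (hd r₁ rfl).trans (hd r₂ pullback.condition.symm).symm
  let U : (G ⊗ R).left.Opens := d₁.left ⁻¹ᵁ V ⊓ d₂.left ⁻¹ᵁ V
  have hsU : s ∈ U := ⟨hs₁V, hs₂V⟩
  let b₁ : (U : Scheme.{u}) ⟶ V := d₁.left.resLE V U inf_le_left
  let b₂ : (U : Scheme.{u}) ⟶ V := d₂.left.resLE V U inf_le_right
  haveI : IsAffine (V : Scheme.{u}) := hV
  let E : Set (U : Scheme.{u}) := Set.range (equalizer.ι b₁ b₂)
  have hEc : IsClosed E := (equalizer.ι b₁ b₂).isClosedEmbedding.isClosed_range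
  have hEeq : ∀ e ∈ E, d₁.left (U.ι e) = d₂.left (U.ι e) := by
    rintro _ ⟨z, rfl⟩
    have h1 := congrArg (fun φ => (φ ≫ V.ι) z) (equalizer.condition b₁ b₂)
    simp only [Category.assoc, b₁, b₂, Scheme.Hom.resLE_comp_ι] at h1
    exact h1
  let Ω' : (U : Scheme.{u}).Opens := U.ι ⁻¹ᵁ Ω
  have hΩE : (Ω' : Set (U : Scheme.{u})) ⊆ E := by
    have h4 : Ω'.ι ≫ b₁ = Ω'.ι ≫ b₂ := by
      rw [← cancel_mono V.ι, Category.assoc, Category.assoc, Scheme.Hom.resLE_comp_ι, Scheme.Hom.resLE_comp_ι,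
        ← Scheme.Hom.resLE_comp_ι_assoc U.ι (le_refl Ω'), ← Scheme.Hom.resLE_comp_ι_assoc U.ι (le_refl Ω'), hpre]
    intro e he
    exact ⟨equalizer.lift Ω'.ι h4 ⟨e, he⟩, (congr(($(equalizer.lift_ι Ω'.ι h4)) ⟨e, he⟩))⟩
  let S : Set (G ⊗ R).left := (snd G R).left ⁻¹' {ρ}
  have hS : IsIrreducible S := by
    haveI : GeometricallyIrreducible (snd G R).left :=
      inferInstanceAs (GeometricallyIrreducible (pullback.snd G.hom R.hom))
    haveI : UniversallyOpen G.hom := inferInstance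
    haveI : UniversallyOpen (snd G R).left := inferInstanceAs (UniversallyOpen (pullback.snd G.hom R.hom))
    exact (snd G R).left.isIrreducible_preimage (snd G R).left.isOpenMap isIrreducible_singleton
  have hne : (S ∩ Ω).Nonempty := by
    refine ⟨σ.left ρ, ?_, ?_⟩
    · show (σ ≫ snd G R).left ρ = ρ
      rw [lift_snd]; rfl
    · show (σ ≫ (G ◁ (r₁ ≫ f))).left ρ ∈ O
      rw [unitSection_comp]
      exact hO
  let S' : Set (U : Scheme.{u}) := U.ι ⁻¹' S
  have hS' : IsPreirreducible S' := hS.isPreirreducible.preimage U.ι.isOpenEmbedding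
  have hne' : (S' ∩ Ω').Nonempty := by
    obtain ⟨x, hxS, hxU, hxΩ⟩ := hS.isPreirreducible (U : Set (G ⊗ R).left) (Ω : Set (G ⊗ R).left) U.2 Ω.2
      ⟨s, rfl, hsU⟩ hne
    exact ⟨⟨x, hxU⟩, hxS, hxΩ⟩
  exact hEeq ⟨s, hsU⟩ (closure_minimal (Set.inter_subset_right.trans hΩE) hEc
    (subset_closure_inter_of_isPreirreducible_of_isOpen hS' Ω'.2 hne' (show (⟨s, hsU⟩ : (U : Scheme.{u})) ∈ S' from rfl)))

/-- For a connected group the action respects the fibres, separated or not. -/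
theorem fibres_respected' [LocallyOfFiniteType G.hom] [ConnectedSpace G.left] [QuasiCompact Y.hom]
    (p q : ↥(G ⊗ X).left) (hpq : (G ◁ f).left p = (G ◁ f).left q) :
    (a.act ≫ f).left p = (a.act ≫ f).left q := by
  haveI : CompactSpace Y.left := QuasiCompact.compactSpace_of_compactSpace Y.hom
  haveI : GeometricallyConnected (G ◁ f).left :=
    MorphismProperty.of_isPullback (Groth.L25.Actions.isPullback_whiskerLeft_left G f).flip
      (Groth.L16.Connected.geometricallyConnected f.left hf)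
  let h := (a.act ≫ f).left
  let Φ : Set (G ⊗ X).left := (G ◁ f).left ⁻¹' {(G ◁ f).left q}
  let T : Set Y.left := h '' Φ
  have haff : ∀ V : Y.left.Opens, IsAffineOpen V → (T ∩ V).Subsingleton := by
    rintro V hV _ ⟨⟨x, hx, rfl⟩, hxV⟩ _ ⟨⟨x', hx', rfl⟩, hxV'⟩
    exact eq_of_mem_affine f hf a x x' (hx.trans hx'.symm) hV hxV hxV'
  have hfin : T.Finite := by
    let 𝒰 := Y.left.affineCover.finiteSubcover
    refine ((Set.finite_univ (α := 𝒰.I₀)).biUnion fun i _ =>
      (haff (𝒰.f i).opensRange (isAffineOpen_opensRange _)).finite).subset fun t ht => ?_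
    exact Set.mem_iUnion₂.2 ⟨𝒰.idx t, trivial, ht, 𝒰.covers t⟩
  have hspec : ∀ t ∈ T, ∀ t' ∈ T, t' ∈ closure ({t} : Set Y.left) → t = t' := by
    intro t ht t' ht' hcl
    obtain ⟨V, hV, htV, -⟩ := exists_isAffineOpen_mem_and_subset (Opens.mem_top t')
    obtain ⟨x, hxV, hxt⟩ := mem_closure_iff.1 hcl V V.2 htV
    exact haff V hV ⟨ht, Set.mem_singleton_iff.1 hxt ▸ hxV⟩ ⟨ht', htV⟩
  have hΦ : _root_.IsConnected Φ := (G ◁ f).left.isConnected_preimage_singleton _
  have hT : _root_.IsPreconnected T := hΦ.isPreconnected.image h h.continuous.continuousOn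
  by_contra hne
  let t := h q
  have hqT : t ∈ T := ⟨q, rfl, rfl⟩
  let C : Set Y.left := ⋃ t' ∈ T \ {t}, closure {t'}
  have hC : IsClosed C := (hfin.subset Set.sdiff_subset).isClosed_biUnion fun _ _ => isClosed_closure
  obtain ⟨z, hzT, hz, hzC⟩ := isPreconnected_closed_iff.1 hT (closure {t}) C isClosed_closure hC
    (fun z hz => by
      by_cases e : z = t
      · exact Or.inl (e ▸ subset_closure rfl)
      · exact Or.inr (Set.mem_iUnion₂.2 ⟨z, ⟨hz, e⟩, subset_closure rfl⟩))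
    ⟨t, hqT, subset_closure rfl⟩
    ⟨h p, ⟨p, hpq, rfl⟩, Set.mem_iUnion₂.2 ⟨h p, ⟨⟨p, hpq, rfl⟩, hne⟩, subset_closure rfl⟩⟩
  obtain ⟨t', ⟨ht', hne'⟩, hzt'⟩ := Set.mem_iUnion₂.1 hzC
  exact hne' ((hspec t' ht' z hzT hzt').trans (hspec t hqT z hzT hz).symm)

end Groth.L08.DescAction
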