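import Groth.Agent.L08.MulEtale
import Mathlib.RingTheory.Smooth.StandardSmoothCotangent
import Mathlib.AlgebraicGeometry.Morphisms.Smooth
import Mathlib.RingTheory.Kaehler.Basic

/-!
# Homomorphisms of one-dimensional smooth group schemes: étale iff the tangent map is nonzero
-/

set_option autoImplicit false
set_option backward.isDefEq.respectTransparency.types false
set_option linter.style.haveILetI false

noncomputable section

universe u

open CategoryTheory AlgebraicGeometry Limits MonObj CartesianMonoidalCategory TrivSqZeroExt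

namespace Groth.L08.EtaleHom

open Groth.L25.GrpDeriv Groth.L25.Component Groth.L08.EtalePoint Groth.L08.TangentUnit Groth.L08.MulEtale

variable {K : Type u} [Field K]

theorem isPtDer_comp {A B : Type u} [CommRing A] [Algebra K A] [CommRing B] [Algebra K B] {χA : A →ₐ[K] K}
    {χB : B →ₐ[K] K} {φ : A →ₐ[K] B} (hc : χB.comp φ = χA) {w : B →ₗ[K] K} (hw : IsPtDer χB w) :
    IsPtDer χA (w.comp φ.toLinearMap) := fun a b => by
  change w (φ (a * b)) = χA a * w (φ b) + χA b * w (φ a)
  rw [map_mul, hw, ← hc]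
  rfl

/-- Functoriality of tangent vectors. -/
theorem pt_comp {G H : Over (Spec (CommRingCat.of K))} {A B : Type u} [CommRing A] [Algebra K A] [CommRing B]
    [Algebra K B] {uA : sp (K := K) A ⟶ H} {uB : sp (K := K) B ⟶ G} {χA : A →ₐ[K] K} {χB : B →ₐ[K] K}
    {φ : A →ₐ[K] B} {v : G ⟶ H} (hc : χB.comp φ = χA) (hφ : spMap φ ≫ uA = uB ≫ v)
    (w : B →ₗ[K] K) (hw : IsPtDer χB w) :
    pt uA χA (w.comp φ.toLinearMap) (isPtDer_comp hc hw) = pt uB χB w hw ≫ v := by
  have e : omega χA (w.comp φ.toLinearMap) (isPtDer_comp hc hw) = (omega χB w hw).comp φ := AlgHom.ext fun a => by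
    refine TrivSqZeroExt.ext ?_ ?_
    · rw [fst_omega, AlgHom.comp_apply, fst_omega, ← hc]; rfl
    · rw [snd_omega, AlgHom.comp_apply, snd_omega]; rfl
  rw [pt, e, ← spMap_comp, Category.assoc, hφ, pt, Category.assoc]

/-- Scaling a tangent vector. -/
abbrev scale (c : K) : DualNumber K →ₐ[K] DualNumber K := map (c • LinearMap.id)

theorem pt_smul {G : Over (Spec (CommRingCat.of K))} {A : Type u} [CommRing A] [Algebra K A]
    {uA : sp (K := K) A ⟶ G} {χ : A →ₐ[K] K} (c : K) (w : A →ₗ[K] K) (hw : IsPtDer χ w) :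
    pt uA χ (c • w) (isPtDer_smul χ c hw) = spMap (scale c) ≫ pt uA χ w hw := by
  have e : omega χ (c • w) (isPtDer_smul χ c hw) = (scale c).comp (omega χ w hw) := AlgHom.ext fun a => by
    refine TrivSqZeroExt.ext ?_ ?_
    · rw [fst_omega, AlgHom.comp_apply, fst_map, fst_omega]
    · rw [snd_omega, AlgHom.comp_apply, snd_map, snd_omega]; rfl
  rw [pt, e, ← spMap_comp, Category.assoc, pt]

/-- On a standard smooth algebra of relative dimension one the point derivations form a line. -/
theorem exists_line_alg {B : Type u} [CommRing B] [Algebra K B] [Algebra.IsStandardSmoothOfRelativeDimension 1 K B]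
    (χ : B →ₐ[K] K) :
    ∃ w₀ : B →ₗ[K] K, IsPtDer χ w₀ ∧ w₀ ≠ 0 ∧ ∀ w, IsPtDer χ w → ∃ c : K, w = c • w₀ := by
  haveI : Nontrivial B := χ.toRingHom.domain_nontrivial
  haveI : Algebra.IsStandardSmooth K B := Algebra.IsStandardSmoothOfRelativeDimension.isStandardSmooth 1
  have hr : Module.rank B Ω[B⁄K] = ((1 : ℕ) : Cardinal) :=
    Algebra.IsStandardSmoothOfRelativeDimension.rank_kaehlerDifferential 1
  let b : Module.Basis (Fin 1) B Ω[B⁄K] :=
    Module.finBasisOfFinrankEq B Ω[B⁄K] (Module.finrank_eq_of_rank_eq hr)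
  letI algBK : Algebra B K := χ.toRingHom.toAlgebra
  haveI : IsScalarTower K B K := IsScalarTower.of_algebraMap_eq fun r => (χ.commutes r).symm
  have hsmul : ∀ (r : B) (x : K), r • x = χ r * x := fun r x => Algebra.smul_def r x
  let L : Ω[B⁄K] →ₗ[B] K := b.constr ℕ fun _ => (1 : K)
  let D₀ : Derivation K B K := L.compDer (KaehlerDifferential.D K B)
  have hL : D₀.liftKaehlerDifferential = L := Derivation.liftKaehlerDifferential_unique _ _ (by
    rw [Derivation.liftKaehlerDifferential_comp])
  have hD₀ : IsPtDer χ D₀.toLinearMap := fun x y => by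
    change D₀ (x * y) = _
    rw [Derivation.leibniz, hsmul, hsmul]
    rfl
  refine ⟨D₀.toLinearMap, hD₀, fun h0 => ?_, fun w hw => ?_⟩
  · have h1 : D₀ = 0 := Derivation.ext fun x => LinearMap.congr_fun h0 x
    have h2 : L (b 0) = 0 := by
      rw [← hL, h1]
      have : (0 : Derivation K B K).liftKaehlerDifferential = 0 :=
        Derivation.liftKaehlerDifferential_unique _ _ (by ext; simp)
      rw [this, LinearMap.zero_apply]
    rw [show L (b 0) = 1 from b.constr_basis ℕ _ 0] at h2
    exact one_ne_zero h2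
  · let W : Derivation K B K := Derivation.mk' w fun x y => by
      rw [hsmul, hsmul]
      exact hw x y
    refine ⟨W.liftKaehlerDifferential (b 0), LinearMap.ext fun x => ?_⟩
    change W x = W.liftKaehlerDifferential (b 0) • D₀ x
    have key : ∀ ω, W.liftKaehlerDifferential ω = W.liftKaehlerDifferential (b 0) * L ω := fun ω => by
      obtain ⟨r, rfl⟩ : ∃ r : B, r • b 0 = ω := ⟨b.repr ω 0, by
        conv_rhs => rw [← b.sum_repr ω, Fin.sum_univ_one]⟩
      rw [map_smul, map_smul, show L (b 0) = 1 from b.constr_basis ℕ _ 0, hsmul, hsmul]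
      ring
    rw [← Derivation.liftKaehlerDifferential_comp_D W x, key, smul_eq_mul]
    rfl

variable {G : Over (Spec (CommRingCat.of K))} [GrpObj G]

/-- A nonzero tangent vector at the identity spanning all others. -/
theorem exists_line [SmoothOfRelativeDimension 1 G.hom] :
    ∃ t : sp (K := K) (DualNumber K) ⟶ G, spMap (fstHom K K K) ≫ t = 1 ∧ t ≠ 1 ∧
      ∀ s : sp (K := K) (DualNumber K) ⟶ G, spMap (fstHom K K K) ≫ s = 1 → ∃ c : K, s = spMap (scale c) ≫ t := by
  obtain ⟨A, _, _, u', _, χ, hχ, -⟩ := exists_chart (G := G) ⊤ trivial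
  have h : SmoothOfRelativeDimension (0 + 1) (u'.left ≫ G.hom) := inferInstance
  rw [Over.w u', zero_add] at h
  have h' : SmoothOfRelativeDimension 1 (Spec.map (CommRingCat.ofHom (algebraMap K A))) := h
  rw [HasRingHomProperty.Spec_iff (P := @SmoothOfRelativeDimension 1), CommRingCat.hom_ofHom] at h'
  obtain ⟨s, hs, hst⟩ := h'
  obtain ⟨f, hfs, hf⟩ : ∃ f ∈ s, χ f ≠ 0 := by
    by_contra hne
    push Not at hne
    have hle : Ideal.span s ≤ RingHom.ker χ := Ideal.span_le.2 fun f hf => hne f hf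
    rw [hs] at hle
    exact RingHom.ker_ne_top χ.toRingHom (top_le_iff.1 hle)
  let B := Localization.Away f
  have hstd : ((algebraMap A B).comp (algebraMap K A)).IsStandardSmoothOfRelativeDimension 1 := hst f hfs
  haveI : Algebra.IsStandardSmoothOfRelativeDimension 1 K B := by
    rw [← IsScalarTower.algebraMap_eq, RingHom.isStandardSmoothOfRelativeDimension_algebraMap] at hstd
    exact hstd
  let χB : B →ₐ[K] K := IsLocalization.liftAlgHom (M := Submonoid.powers f) (S := B) (f := χ)
    (by rintro ⟨_, n, rfl⟩; simpa using (isUnit_iff_ne_zero.2 hf).pow n)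
  let uB : sp (K := K) B ⟶ G := spMap (IsScalarTower.toAlgHom K A B) ≫ u'
  haveI : IsOpenImmersion (Spec.map (CommRingCat.ofHom (algebraMap A B))) := IsOpenImmersion.of_isLocalization f
  haveI : IsOpenImmersion (spMap (IsScalarTower.toAlgHom K A B)).left :=
    inferInstanceAs (IsOpenImmersion (Spec.map (CommRingCat.ofHom (algebraMap A B))))
  haveI : IsOpenImmersion uB.left :=
    inferInstanceAs (IsOpenImmersion ((spMap (IsScalarTower.toAlgHom K A B)).left ≫ u'.left))
  have hχB : spMap χB ≫ uB = 1 := by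
    rw [← Category.assoc, spMap_comp, show χB.comp (IsScalarTower.toAlgHom K A B) = χ from
      AlgHom.ext fun a => by simp [χB], hχ]
  obtain ⟨w₀, hw₀, hne, hline⟩ := exists_line_alg χB
  refine ⟨pt uB χB w₀ hw₀, spMap_fst_pt χB hχB w₀ hw₀, fun h1 => hne ?_, fun s hs => ?_⟩
  · exact pt_inj (u' := uB) χB hw₀ (isPtDer_zero χB) (h1.trans (pt_zero χB hχB _).symm)
  · obtain ⟨w, hw, rfl⟩ := exists_pt χB hχB s hs
    obtain ⟨c, rfl⟩ := hline w hw
    exact ⟨c, pt_smul c w₀ hw₀⟩

variable {H : Over (Spec (CommRingCat.of K))} [GrpObj H] (v : G ⟶ H) [IsMonHom v]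

/-- Compatible charts at the identities. -/
theorem exists_charts :
    ∃ (A : Type u) (_ : CommRing A) (_ : Algebra K A) (uA : sp (K := K) A ⟶ H)
      (_ : IsOpenImmersion uA.left) (χA : A →ₐ[K] K)
      (B : Type u) (_ : CommRing B) (_ : Algebra K B) (uB : sp (K := K) B ⟶ G)
      (_ : IsOpenImmersion uB.left) (χB : B →ₐ[K] K) (φ : A →ₐ[K] B),
      spMap χA ≫ uA = 1 ∧ spMap χB ≫ uB = 1 ∧ spMap φ ≫ uA = uB ≫ v ∧ χB.comp φ = χA := by
  obtain ⟨A, _, _, uA, _, χA, hχA, -⟩ := exists_chart (G := H) ⊤ trivial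
  have h1 : (1 : sp (K := K) K ⟶ G) ≫ v = 1 := MonObj.one_comp v
  have he : Groth.L25.Component.one G ∈ v.left ⁻¹ᵁ uA.left.opensRange := by
    show v.left (Groth.L25.Component.one G) ∈ Set.range uA.left
    have h := congrArg (fun f : sp (K := K) K ⟶ H => f.left (IsLocalRing.closedPoint K)) h1
    rw [show v.left (Groth.L25.Component.one G) = Groth.L25.Component.one H from
      (congrArg v.left (Groth.L25.Translate.one_left_apply _).symm).trans
        (h.trans (Groth.L25.Translate.one_left_apply _))]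
    exact one_mem_range uA χA hχA
  obtain ⟨B, _, _, uB, _, χB, hχB, hB⟩ := exists_chart (G := G) _ he
  obtain ⟨φ, hφ⟩ := exists_lift (u' := uA) (uB ≫ v) (by
    rintro _ ⟨c, rfl⟩
    exact hB ⟨c, rfl⟩)
  refine ⟨A, inferInstance, inferInstance, uA, inferInstance, χA, B, inferInstance, inferInstance,
    uB, inferInstance, χB, φ, hχA, hχB, hφ, spMap_inj (u' := uA) _ _ ?_⟩
  rw [← spMap_comp, Category.assoc, hφ, ← Category.assoc, hχB, h1, hχA]

/-- An étale homomorphism has injective tangent map. -/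
theorem ne_one_of_etale [Etale v.left] (t : sp (K := K) (DualNumber K) ⟶ G)
    (ht : spMap (fstHom K K K) ≫ t = 1) (hne : t ≠ 1) : t ≫ v ≠ 1 := by
  intro h1
  obtain ⟨A, _, _, uA, _, χA, B, _, _, uB, _, χB, φ, hχA, hχB, hφ, hc⟩ := exists_charts v
  obtain ⟨w, hw, rfl⟩ := exists_pt χB hχB t ht
  apply hne
  rw [← pt_comp hc hφ w hw, ← pt_zero χA hχA (isPtDer_zero χA)] at h1
  have h0 := pt_inj χA _ _ h1
  letI : Algebra A B := φ.toRingHom.toAlgebra
  haveI : IsScalarTower K A B := IsScalarTower.of_algebraMap_eq fun r => (φ.commutes r).symm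
  have hE : Etale (Spec.map (CommRingCat.ofHom (algebraMap A B))) := by
    have h2 : Etale ((spMap φ).left ≫ uA.left) := by
      rw [← Over.comp_left, hφ, Over.comp_left]
      infer_instance
    exact Etale.of_comp (spMap φ).left uA.left
  rw [HasRingHomProperty.Spec_iff (P := @Etale), CommRingCat.hom_ofHom, RingHom.etale_algebraMap] at hE
  letI algBK : Algebra B K := χB.toRingHom.toAlgebra
  haveI : IsScalarTower K B K := IsScalarTower.of_algebraMap_eq fun r => (χB.commutes r).symm
  letI algAK : Algebra A K := χA.toRingHom.toAlgebra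
  haveI : IsScalarTower A B K := IsScalarTower.of_algebraMap_eq fun a => (DFunLike.congr_fun hc a).symm
  have hA : ∀ a : A, w (φ a) = 0 := fun a => LinearMap.congr_fun h0 a
  let D : Derivation A B K := Derivation.mk'
    { toFun := w
      map_add' := map_add w
      map_smul' := fun a b => by
        change w (φ a * b) = a • w b
        rw [hw, hA, mul_zero, add_zero, Algebra.smul_def]
        show _ = χA a * w b
        rw [← hc]
        rfl }
    (fun x y => by
      rw [Algebra.smul_def, Algebra.smul_def]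
      exact hw x y)
  have hD : w = 0 := LinearMap.ext fun x => by
    show D x = 0
    rw [← Derivation.liftKaehlerDifferential_comp_D D x, Subsingleton.elim (KaehlerDifferential.D A B x) 0,
      map_zero]
  subst hD
  exact pt_zero χB hχB hw

variable [Smooth G.hom] [Smooth H.hom]

/-- A homomorphism of smooth groups with bijective tangent map is étale at the identity. -/
theorem exists_etale_nhd
    (hinj : ∀ t : sp (K := K) (DualNumber K) ⟶ G, spMap (fstHom K K K) ≫ t = 1 → t ≫ v = 1 → t = 1)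
    (hsurj : ∀ s : sp (K := K) (DualNumber K) ⟶ H, spMap (fstHom K K K) ≫ s = 1 →
      ∃ t : sp (K := K) (DualNumber K) ⟶ G, spMap (fstHom K K K) ≫ t = 1 ∧ t ≫ v = s) :
    ∃ (W : Scheme.{u}) (i : W ⟶ G.left), IsOpenImmersion i ∧ Groth.L25.Component.one G ∈ Set.range i ∧
      Etale (i ≫ v.left) := by
  obtain ⟨A, _, _, uA, _, χA, B, _, _, uB, _, χB, φ, hχA, hχB, hφ, hcomp⟩ := exists_charts v
  letI : Algebra A B := φ.toRingHom.toAlgebra
  haveI : IsScalarTower K A B := IsScalarTower.of_algebraMap_eq fun r => (φ.commutes r).symm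
  haveI := smooth_of_chart uA
  haveI := smooth_of_chart uB
  haveI : (RingHom.ker χB).IsPrime := RingHom.ker_isPrime _
  have hto : χB.comp (IsScalarTower.toAlgHom K A B) = χA := hcomp
  haveI : Algebra.IsEtaleAt A (RingHom.ker χB) := by
    refine isEtaleAt_of_ptDer χB (fun w hw h0 => ?_) fun w₀ hw₀ => ?_
    · have e0 : w.comp φ.toLinearMap = 0 := LinearMap.ext h0
      have h := hinj _ (spMap_fst_pt χB hχB w hw) (by
        rw [← pt_comp hcomp hφ w hw]
        simp only [e0]
        exact pt_zero χA hχA _)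
      exact pt_inj (u' := uB) χB hw (isPtDer_zero χB) (h.trans (pt_zero χB hχB _).symm)
    · rw [hto] at hw₀
      obtain ⟨t, ht, htv⟩ := hsurj _ (spMap_fst_pt χA hχA w₀ hw₀)
      obtain ⟨w, hw, rfl⟩ := exists_pt χB hχB t ht
      rw [← pt_comp hcomp hφ w hw] at htv
      exact ⟨w, hw, fun a => LinearMap.congr_fun (pt_inj χA _ _ htv) a⟩
  haveI : Algebra.FinitePresentation A B :=
    Algebra.FinitePresentation.of_restrict_scalars_finitePresentation K A B
  obtain ⟨f, hf, hEt⟩ := Algebra.exists_etale_of_isEtaleAt (R := A) (RingHom.ker χB)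
  let Bf := Localization.Away f
  let jA : Spec (CommRingCat.of A) ⟶ H.left := uA.left
  let jB : Spec (CommRingCat.of B) ⟶ G.left := uB.left
  haveI : IsOpenImmersion jA := ‹IsOpenImmersion uA.left›
  haveI : IsOpenImmersion jB := ‹IsOpenImmersion uB.left›
  let i : Spec (CommRingCat.of Bf) ⟶ G.left :=
    Spec.map (CommRingCat.ofHom (algebraMap B Bf)) ≫ jB
  haveI : IsOpenImmersion (Spec.map (CommRingCat.ofHom (algebraMap B Bf))) :=
    IsOpenImmersion.of_isLocalization f
  refine ⟨_, i, inferInstance, ?_, ?_⟩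
  · have hu : IsUnit (χB f) := isUnit_iff_ne_zero.2 hf
    let ξ : Bf →ₐ[K] K := IsLocalization.liftAlgHom (M := Submonoid.powers f) (S := Bf) (f := χB)
      (by rintro ⟨_, n, rfl⟩; simpa using hu.pow n)
    let P : Spec (CommRingCat.of Bf) := (spMap (K := K) ξ).left (IsLocalRing.closedPoint K)
    refine ⟨P, ?_⟩
    have hcomp' : ξ.comp (IsScalarTower.toAlgHom K B Bf) = χB := AlgHom.ext fun b => by simp [ξ]
    have h2 : (spMap (K := K) (IsScalarTower.toAlgHom K B Bf)).left P =
        (spMap χB).left (IsLocalRing.closedPoint K) := by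
      conv_rhs => rw [← hcomp', ← spMap_comp]
      rfl
    exact (congrArg uB.left h2).trans ((congrArg (fun f : sp (K := K) K ⟶ G =>
      f.left (IsLocalRing.closedPoint K)) hχB).trans (Groth.L25.Translate.one_left_apply _))
  · have hc : i ≫ v.left = Spec.map (CommRingCat.ofHom (algebraMap A Bf)) ≫ jA := by
      have h' : jB ≫ v.left = Spec.map (CommRingCat.ofHom φ.toRingHom) ≫ jA :=
        congrArg (fun f => f.left) hφ.symm
      change (Spec.map _ ≫ jB) ≫ _ = _
      rw [Category.assoc, h', ← Category.assoc, ← Spec.map_comp,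
        ← CommRingCat.ofHom_comp, IsScalarTower.algebraMap_eq A B Bf]
    rw [hc]
    haveI : Etale (Spec.map (CommRingCat.ofHom (algebraMap A Bf))) :=
      (HasRingHomProperty.Spec_iff (P := @Etale)).2 (RingHom.etale_algebraMap.2 hEt)
    infer_instance

omit [GrpObj G] [Smooth G.hom] [Smooth H.hom] in
theorem translate_comp [GrpObj G] (v : G ⟶ H) [IsMonHom v] (q : MonoidalCategoryStruct.tensorUnit _ ⟶ G) :
    (GrpObj.mulRight q).hom ≫ v = v ≫ (GrpObj.mulRight (q ≫ v)).hom := by
  have h : ∀ {X : Over (Spec (CommRingCat.of K))} [GrpObj X] (r : MonoidalCategoryStruct.tensorUnit _ ⟶ X),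
      (GrpObj.mulRight r).hom = 𝟙 X * (toUnit X ≫ r) := fun r => rfl
  rw [h, h, MonObj.mul_comp, MonObj.comp_mul, Category.id_comp, Category.comp_id, ← Category.assoc v,
    comp_toUnit, Category.assoc]

/-- Bijective tangent map at the identity gives étale everywhere. -/
theorem etale_of_bijective [IsAlgClosed K]
    (hinj : ∀ t : sp (K := K) (DualNumber K) ⟶ G, spMap (fstHom K K K) ≫ t = 1 → t ≫ v = 1 → t = 1)
    (hsurj : ∀ s : sp (K := K) (DualNumber K) ⟶ H, spMap (fstHom K K K) ≫ s = 1 →
      ∃ t : sp (K := K) (DualNumber K) ⟶ G, spMap (fstHom K K K) ≫ t = 1 ∧ t ≫ v = s) :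
    Etale v.left := by
  obtain ⟨W, i, hi, he, hEt⟩ := exists_etale_nhd v hinj hsurj
  haveI := LocallyOfFiniteType.jacobsonSpace G.hom
  have key : ∀ x : {x : G.left // IsClosed ({x} : Set G.left)}, ∃ V : G.left.Opens,
      (x : G.left) ∈ V ∧ Etale (V.ι ≫ v.left) := by
    rintro ⟨x, hx⟩
    let q : MonoidalCategoryStruct.tensorUnit (Over (Spec (CommRingCat.of K))) ⟶ G :=
      Over.homMk _ ((pointEquivClosedPoint G.hom).symm ⟨x, hx⟩).2
    have hq : q.left (IsLocalRing.closedPoint K) = x :=
      congrArg Subtype.val ((pointEquivClosedPoint G.hom).apply_symm_apply ⟨x, hx⟩)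
    have e : η[G] ≫ (GrpObj.mulRight q).hom = q := by
      simp only [GrpObj.mulRight_hom, comp_lift_assoc, Category.comp_id]
      rw [← Category.assoc η[G] (toUnit G) q, toUnit_unique (η[G] ≫ toUnit G) (𝟙 _),
        Category.id_comp, ← Category.id_comp η[G]]
      exact lift_comp_one_left _ q
    haveI : IsIso (GrpObj.mulRight q).hom.left :=
      inferInstanceAs (IsIso ((Over.forget _).map (GrpObj.mulRight q).hom))
    haveI : IsIso (GrpObj.mulRight (q ≫ v)).hom.left :=
      inferInstanceAs (IsIso ((Over.forget _).map (GrpObj.mulRight (q ≫ v)).hom))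
    let j : W ⟶ G.left := i ≫ (GrpObj.mulRight q).hom.left
    refine ⟨j.opensRange, ?_, ?_⟩
    · obtain ⟨z, hz⟩ := he
      refine ⟨z, ?_⟩
      change (GrpObj.mulRight q).hom.left (i z) = x
      rw [hz]
      exact (congr(($e).left (IsLocalRing.closedPoint K))).trans hq
    · have hh : (GrpObj.mulRight q).hom.left ≫ v.left = v.left ≫ (GrpObj.mulRight (q ≫ v)).hom.left :=
        congrArg (fun f => f.left) (translate_comp v q)
      rw [← Scheme.Hom.isoOpensRange_inv_comp j, Category.assoc]
      simp only [j, Category.assoc, hh]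
      rw [← Category.assoc i]
      infer_instance
  choose V hxV hV using key
  have hloc : IsZariskiLocalAtSource @Etale :=
    HasRingHomProperty.instIsZariskiLocalAtSource (Q := RingHom.Etale)
  refine IsZariskiLocalAtSource.of_iSup_eq_top (P := @Etale) V ?_ hV
  refine TopologicalSpace.Opens.coe_inj.1 (Set.eq_univ_iff_forall.2 fun z => ?_)
  by_contra hz
  obtain ⟨y, hy, hyc⟩ := nonempty_inter_closedPoints ⟨z, hz⟩
    (iSup V).isOpen.isClosed_compl.isLocallyClosed
  exact hy (TopologicalSpace.Opens.mem_iSup.2 ⟨⟨y, hyc⟩, hxV _⟩)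

/-- In dimension one a nonzero tangent map means étale. -/
theorem etale_of_ne_one [IsAlgClosed K] [SmoothOfRelativeDimension 1 G.hom] [SmoothOfRelativeDimension 1 H.hom]
    (t : sp (K := K) (DualNumber K) ⟶ G) (ht : spMap (fstHom K K K) ≫ t = 1)
    (hne : t ≫ v ≠ 1) : Etale v.left := by
  obtain ⟨a, ha, -, hA⟩ := exists_line (G := G)
  obtain ⟨b, hb, -, hB⟩ := exists_line (G := H)
  have hs : ∀ (c d : K) {X : Over (Spec (CommRingCat.of K))} (x : sp (K := K) (DualNumber K) ⟶ X),
      spMap (scale c) ≫ spMap (scale d) ≫ x = spMap (scale (c * d)) ≫ x := fun c d X x => by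
    rw [← Category.assoc, spMap_comp]
    congr 2
    exact AlgHom.ext fun y => TrivSqZeroExt.ext (by simp [scale]) (by simp [scale, _root_.mul_assoc])
  have hfs : ∀ c : K, (fstHom K K K).comp (scale c) = fstHom K K K := fun c =>
    AlgHom.ext fun y => by simp [scale]
  have h1 : ∀ {X : Over (Spec (CommRingCat.of K))} [GrpObj X] (x : sp (K := K) (DualNumber K) ⟶ X),
      spMap (fstHom K K K) ≫ x = 1 → spMap (scale 1) ≫ x = x ∧ spMap (scale 0) ≫ x = 1 := fun {X} _ x hx => by
    refine ⟨?_, ?_⟩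
    · rw [show scale (1 : K) = AlgHom.id K (DualNumber K) from AlgHom.ext fun y =>
        TrivSqZeroExt.ext (by simp [scale]) (by simp [scale]), spMap_id, Category.id_comp]
    · rw [show scale (0 : K) = (inlAlgHom K K K).comp (fstHom K K K) from AlgHom.ext fun y =>
        TrivSqZeroExt.ext (by simp [scale]) (by simp [scale]), ← spMap_comp, Category.assoc, hx, MonObj.comp_one]
  have hav : spMap (fstHom K K K) ≫ a ≫ v = 1 := by rw [← Category.assoc, ha, MonObj.one_comp]
  obtain ⟨e, he⟩ := hB (a ≫ v) hav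
  have he0 : e ≠ 0 := by
    rintro rfl
    apply hne
    obtain ⟨c, rfl⟩ := hA t ht
    rw [Category.assoc, he, hs, mul_zero, (h1 b hb).2]
  refine etale_of_bijective v (fun x hx hxv => ?_) fun y hy => ?_
  · obtain ⟨c, rfl⟩ := hA x hx
    rw [Category.assoc, he, hs] at hxv
    by_cases hc : c = 0
    · rw [hc, (h1 a ha).2]
    · refine absurd ?_ hne
      obtain ⟨d, rfl⟩ := hA t ht
      rw [Category.assoc, he, hs, show d * e = d / c * (c * e) by rw [← _root_.mul_assoc, div_mul_cancel₀ d hc], ← hs, hxv, MonObj.comp_one]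
  · obtain ⟨c, rfl⟩ := hB y hy
    refine ⟨spMap (scale (c / e)) ≫ a, ?_, ?_⟩
    · rw [← Category.assoc, spMap_comp, hfs, ha]
    · rw [Category.assoc, he, hs, div_mul_cancel₀ c he0]

end Groth.L08.EtaleHom
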