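import Mathlib.RingTheory.Etale.Locus
import Mathlib.RingTheory.Smooth.Basic
import Mathlib.RingTheory.Kaehler.JacobiZariski
import Mathlib.RingTheory.Nakayama
import Mathlib.RingTheory.Support
import Mathlib.LinearAlgebra.Dual.Lemmas

/-!
# Étaleness at a rational point by point derivations

A map of smooth algebras over a field `K` is étale at a `K`-point as soon as it induces a bijection
on the derivations at that point (tangent spaces).
-/

set_option autoImplicit false

universe u v w

open TensorProduct

namespace Groth.L08.EtalePoint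

variable {K : Type u} [Field K]

/-- `w` is a derivation at the point `χ`. -/
def IsPtDer {A : Type v} [CommRing A] [Algebra K A] (χ : A →ₐ[K] K) (w : A →ₗ[K] K) : Prop :=
  ∀ a b, w (a * b) = χ a * w b + χ b * w a

/-- A finite module without functionals into the residue field at `χ` is killed by an element
outside `ker χ`. -/
theorem exists_smul_eq_zero {B : Type v} [CommRing B] [Algebra K B] (χ : B →ₐ[K] K)
    (C : Type w) [AddCommGroup C] [Module B C] [Module.Finite B C]
    (h : ∀ ψ : C →+ K, (∀ (b : B) (c : C), ψ (b • c) = χ b * ψ c) → ψ = 0) :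
    ∃ g : B, χ g ≠ 0 ∧ ∀ c : C, g • c = 0 := by
  let P : Ideal B := RingHom.ker χ
  have hle : (⊤ : Submodule B C) ≤ P • ⊤ := by
    intro c _
    by_contra hc
    let Q := C ⧸ (P • ⊤ : Submodule B C)
    letI : Module K Q := Module.compHom Q (algebraMap K B)
    have hne : (Submodule.Quotient.mk c : Q) ≠ 0 := fun e =>
      hc ((Submodule.Quotient.mk_eq_zero _).1 e)
    obtain ⟨φ, hφ⟩ := Module.Projective.exists_dual_ne_zero K hne
    let ψ : C →+ K := φ.toAddMonoidHom.comp (P • ⊤ : Submodule B C).mkQ.toAddMonoidHom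
    have hψ : ψ = 0 := h ψ fun b x => by
      have hbx : (Submodule.Quotient.mk (b • x) : Q) =
          Submodule.Quotient.mk (algebraMap K B (χ b) • x) := by
        refine (Submodule.Quotient.eq _).2 ?_
        rw [← sub_smul]
        refine Submodule.smul_mem_smul ?_ Submodule.mem_top
        simp [P, RingHom.mem_ker]
      change φ (Submodule.Quotient.mk (b • x)) = χ b * φ (Submodule.Quotient.mk x)
      rw [hbx, Submodule.Quotient.mk_smul]
      exact φ.map_smul (χ b) (Submodule.Quotient.mk x : Q)
    exact hφ (DFunLike.congr_fun hψ c)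
  obtain ⟨r, hr, hr'⟩ := Submodule.exists_sub_one_mem_and_smul_eq_zero_of_fg_of_le_smul P ⊤
    Module.Finite.fg_top hle
  refine ⟨r, fun h0 => ?_, fun c => hr' c Submodule.mem_top⟩
  have : χ (r - 1) = 0 := hr
  rw [map_sub, map_one, h0, zero_sub, neg_eq_zero] at this
  exact one_ne_zero this

variable {A : Type v} [CommRing A] [Algebra K A] {B : Type v} [CommRing B] [Algebra K B]
  [Algebra A B] [IsScalarTower K A B]

theorem isEtaleAt_of_ptDer [Algebra.Smooth K A] [Algebra.Smooth K B] (χ : B →ₐ[K] K)
    (hinj : ∀ w : B →ₗ[K] K, IsPtDer χ w → (∀ a, w (algebraMap A B a) = 0) → w = 0)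
    (hsurj : ∀ w₀ : A →ₗ[K] K, IsPtDer (χ.comp (IsScalarTower.toAlgHom K A B)) w₀ →
      ∃ w : B →ₗ[K] K, IsPtDer χ w ∧ ∀ a, w (algebraMap A B a) = w₀ a)
    [(RingHom.ker χ).IsPrime] : Algebra.IsEtaleAt A (RingHom.ker χ) := by
  letI algBK : Algebra B K := χ.toRingHom.toAlgebra
  haveI : IsScalarTower K B K := IsScalarTower.of_algebraMap_eq fun r => (χ.commutes r).symm
  letI algAK : Algebra A K := (χ.comp (IsScalarTower.toAlgHom K A B)).toRingHom.toAlgebra
  haveI : IsScalarTower A B K := IsScalarTower.of_algebraMap_eq fun a => rfl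
  haveI : IsScalarTower K A K := IsScalarTower.of_algebraMap_eq fun r =>
    ((χ.comp (IsScalarTower.toAlgHom K A B)).commutes r).symm
  have hsmul : ∀ (b : B) (x : K), b • x = χ b * x := fun b x => Algebra.smul_def b x
  have hsmulA : ∀ (a : A) (x : K), a • x = χ (algebraMap A B a) * x := fun a x => Algebra.smul_def a x
  haveI : Algebra.FiniteType A B := Algebra.FiniteType.of_restrictScalars_finiteType K A B
  let f := KaehlerDifferential.mapBaseChange K A B
  -- the cokernel
  obtain ⟨g, hg, hgC⟩ := exists_smul_eq_zero χ Ω[B⁄A] fun ψ hψ => by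
    let Ψ : Ω[B⁄A] →ₗ[B] K := { ψ with map_smul' := fun b c => (hψ b c).trans (hsmul b _).symm }
    let w : B →ₗ[K] K :=
      (Ψ.restrictScalars K).comp ((KaehlerDifferential.D A B).toLinearMap.restrictScalars K)
    have hw : w = 0 := hinj w (fun a b => by
        change Ψ (KaehlerDifferential.D A B (a * b)) = _
        rw [Derivation.leibniz, map_add, map_smul, map_smul, hsmul, hsmul]
        rfl) fun a => by
        change Ψ (KaehlerDifferential.D A B (algebraMap A B a)) = 0
        rw [Derivation.map_algebraMap, map_zero]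
    have hΨ : Ψ = 0 := LinearMap.ext_on_range (KaehlerDifferential.span_range_derivation A B)
      fun b => LinearMap.congr_fun hw b
    exact AddMonoidHom.ext fun c => LinearMap.congr_fun hΨ c
  have hrange : ∀ y, g • y ∈ LinearMap.range f := fun y =>
    (KaehlerDifferential.exact_mapBaseChange_map K A B (g • y)).1 (by rw [map_smul]; exact hgC _)
  obtain ⟨s, hs⟩ := Module.projective_lifting_property f.rangeRestrict
    ((g • LinearMap.id).codRestrict (LinearMap.range f) hrange) f.surjective_rangeRestrict
  have hfs : ∀ y, f (s y) = g • y := fun y => congrArg Subtype.val (LinearMap.congr_fun hs y)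
  -- the kernel
  let π : B ⊗[A] Ω[A⁄K] →ₗ[B] B ⊗[A] Ω[A⁄K] := g • LinearMap.id - s.comp f
  have hfπ : ∀ m, f (π m) = 0 := fun m => by
    simp [π, hfs]
  obtain ⟨g', hg', hgR⟩ := exists_smul_eq_zero χ (LinearMap.range π) fun φ hφ => by
    let φ' : LinearMap.range π →ₗ[B] K :=
      { φ with map_smul' := fun b c => (hφ b c).trans (hsmul b _).symm }
    let Φ : B ⊗[A] Ω[A⁄K] →ₗ[B] K := φ'.comp π.rangeRestrict
    let w₀ : A →ₗ[K] K := (Φ.restrictScalars K).comp
      (((TensorProduct.mk A B Ω[A⁄K] 1).restrictScalars K).comp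
        (KaehlerDifferential.D K A).toLinearMap)
    obtain ⟨w, hw, hwφ⟩ := hsurj w₀ fun a b => by
      change Φ ((1 : B) ⊗ₜ[A] KaehlerDifferential.D K A (a * b)) = _
      rw [Derivation.leibniz, tmul_add, tmul_smul, tmul_smul, map_add, LinearMap.map_smul_of_tower,
        LinearMap.map_smul_of_tower, hsmulA, hsmulA]
      rfl
    let W : Derivation K B K := Derivation.mk' w fun a b => by
      rw [hsmul, hsmul]
      exact hw a b
    have hΦ : Φ = W.liftKaehlerDifferential.comp f := by
      refine TensorProduct.AlgebraTensorModule.curry_injective (LinearMap.ext_ring ?_)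
      refine LinearMap.ext_on_range (KaehlerDifferential.span_range_derivation K A) fun a => ?_
      change Φ ((1 : B) ⊗ₜ[A] KaehlerDifferential.D K A a) =
        W.liftKaehlerDifferential (f ((1 : B) ⊗ₜ[A] KaehlerDifferential.D K A a))
      rw [KaehlerDifferential.mapBaseChange_tmul, one_smul, KaehlerDifferential.map_D,
        Derivation.liftKaehlerDifferential_comp_D]
      exact (hwφ a).symm
    refine AddMonoidHom.ext fun r => ?_
    have hr0 : f (r : B ⊗[A] Ω[A⁄K]) = 0 := by
      obtain ⟨m, hm⟩ := r.2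
      rw [← hm]
      exact hfπ m
    have h1 : π.rangeRestrict (r : B ⊗[A] Ω[A⁄K]) = g • r := by
      refine Subtype.ext ?_
      change π (r : B ⊗[A] Ω[A⁄K]) = g • (r : B ⊗[A] Ω[A⁄K])
      simp [π, hr0]
    have h2 : φ' (g • r) = 0 := by
      rw [← h1]
      change Φ (r : B ⊗[A] Ω[A⁄K]) = 0
      rw [hΦ, LinearMap.comp_apply, hr0, map_zero]
    rw [map_smul, hsmul] at h2
    exact (mul_eq_zero.1 h2).resolve_left hg
  have hker : ∀ m, f m = 0 → (g' * g) • m = 0 := fun m hm => by
    have h1 : π m = g • m := by simp [π, hm]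
    rw [mul_smul, ← h1]
    exact congrArg Subtype.val (hgR ⟨π m, m, rfl⟩)
  -- conclusion
  show (⟨RingHom.ker χ, inferInstance⟩ : PrimeSpectrum B) ∈ Algebra.etaleLocus A B
  rw [Algebra.etaleLocus_eq_compl_support]
  refine ⟨Module.notMem_support_iff'.2 fun m => ⟨g, hg, hgC m⟩,
    Module.notMem_support_iff'.2 fun x => ⟨g' * g, fun h => ?_, ?_⟩⟩
  · have : χ (g' * g) = 0 := h
    rw [map_mul] at this
    exact mul_ne_zero hg' hg this
  · have hδ : Function.Injective (Algebra.H1Cotangent.δ K A B) := by
      rw [injective_iff_map_eq_zero]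
      intro y hy
      obtain ⟨z, rfl⟩ := (Algebra.H1Cotangent.exact_map_δ K A B y).1 hy
      rw [Subsingleton.elim z 0, map_zero]
    refine hδ ?_
    rw [map_zero, map_smul]
    exact hker _ (Algebra.H1Cotangent.exact_δ_mapBaseChange K A B _ |>.2 ⟨x, rfl⟩)

end Groth.L08.EtalePoint
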