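import Mathlib.RingTheory.Spectrum.Prime.Chevalley
import Mathlib.RingTheory.RingHom.FaithfullyFlat
import Mathlib.RingTheory.RingHom.FiniteType
import Mathlib.RingTheory.TensorProduct.IncludeLeftSubRight
import Groth.Agent.L01.WittEq

/-!
# Finite type descends along a field extension followed by a localization covering the base
-/

set_option autoImplicit false
set_option backward.isDefEq.respectTransparency.types false

universe u

open TensorProduct

noncomputable section

namespace Groth.L08.FTDescent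

variable {K L C : Type u} [Field K] [Field L] [Algebra K L] [CommRing C] [Algebra K C]

variable (L) in
/-- The inclusion `S ⊗ L → C ⊗ L`. -/
abbrev incl (S : Subalgebra K C) : S ⊗[K] L →ₐ[K] C ⊗[K] L := Algebra.TensorProduct.map S.val (AlgHom.id K L)

theorem incl_injective (S : Subalgebra K C) : Function.Injective (incl L S) :=
  Module.Flat.rTensor_preserves_injective_linearMap (M := L) S.val.toLinearMap Subtype.val_injective

theorem incl_comp {S T : Subalgebra K C} (h : S ≤ T) (z : S ⊗[K] L) :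
    incl L T (Algebra.TensorProduct.map (Subalgebra.inclusion h) (AlgHom.id K L) z) = incl L S z := by
  induction z using TensorProduct.induction_on with
  | zero => simp
  | tmul c l => rfl
  | add a b ha hb => simp only [map_add, ha, hb]

theorem range_mono {S T : Subalgebra K C} (h : S ≤ T) : (incl L S).range ≤ (incl L T).range := by
  rintro _ ⟨z, rfl⟩
  exact ⟨_, incl_comp h z⟩

theorem exists_fg (z : C ⊗[K] L) : ∃ S : Subalgebra K C, S.FG ∧ z ∈ (incl L S).range := by
  classical
  induction z using TensorProduct.induction_on with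
  | zero => exact ⟨⊥, Subalgebra.fg_bot, zero_mem _⟩
  | tmul c l =>
    exact ⟨Algebra.adjoin K {c}, ⟨{c}, by simp⟩, ⟨⟨c, Algebra.subset_adjoin rfl⟩ ⊗ₜ l, rfl⟩⟩
  | add a b ha hb =>
    obtain ⟨S, hS, ha⟩ := ha
    obtain ⟨T, hT, hb⟩ := hb
    exact ⟨S ⊔ T, hS.sup hT, add_mem (range_mono le_sup_left ha) (range_mono le_sup_right hb)⟩

theorem exists_fg_finset (s : Finset (C ⊗[K] L)) : ∃ S : Subalgebra K C, S.FG ∧ ∀ z ∈ s, z ∈ (incl L S).range := by
  classical
  induction s using Finset.induction_on with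
  | empty => exact ⟨⊥, Subalgebra.fg_bot, by simp⟩
  | insert a s _ ih =>
    obtain ⟨S, hS, hs⟩ := ih
    obtain ⟨T, hT, ha⟩ := exists_fg a
    refine ⟨S ⊔ T, hS.sup hT, fun z hz => ?_⟩
    rcases Finset.mem_insert.mp hz with rfl | hz
    · exact range_mono le_sup_right ha
    · exact range_mono le_sup_left (hs z hz)

variable {D : Type u} [CommRing D] [Algebra (C ⊗[K] L) D] (f : C ⊗[K] L) [IsLocalization.Away f D]

/-- `C → D`. -/
abbrev fromC : C →+* D := (algebraMap (C ⊗[K] L) D).comp Algebra.TensorProduct.includeLeftRingHom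

/-- A subalgebra over which `D` is defined. -/
def Defines (S : Subalgebra K C) : Prop :=
  f ∈ (incl L S).range ∧
    ∀ d : D, ∃ (n : ℕ) (y : S ⊗[K] L), d * algebraMap _ D f ^ n = algebraMap _ D (incl L S y)

variable {f}

theorem Defines.mono {S T : Subalgebra K C} (h : Defines (D := D) f S) (hST : S ≤ T) : Defines (D := D) f T := by
  refine ⟨range_mono hST h.1, fun d => ?_⟩
  obtain ⟨n, y, hy⟩ := h.2 d
  exact ⟨n, _, by rw [incl_comp hST]; exact hy⟩

theorem Defines.exists_equiv {S : Subalgebra K C} (h : Defines (D := D) f S) :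
    ∃ (f0 : S ⊗[K] L) (φ : Localization.Away f0 →+* D), Function.Bijective φ ∧ incl L S f0 = f ∧
      ∀ z, φ (algebraMap _ _ z) = algebraMap _ D (incl L S z) := by
  obtain ⟨⟨f0, hf0⟩, hgen⟩ := h
  have hu : IsUnit (((algebraMap (C ⊗[K] L) D).comp (incl L S).toRingHom) f0) := by
    show IsUnit (algebraMap _ D (incl L S f0))
    rw [show incl L S f0 = f from hf0]
    exact IsLocalization.Away.algebraMap_isUnit f
  refine ⟨f0, IsLocalization.Away.lift f0 hu, ⟨?_, fun d => ?_⟩, hf0, fun z => IsLocalization.Away.lift_eq f0 hu z⟩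
  · rw [injective_iff_map_eq_zero]
    intro x hx
    obtain ⟨n, z, hz⟩ := IsLocalization.Away.surj f0 x
    have h1 := congrArg (IsLocalization.Away.lift f0 hu) hz
    rw [map_mul, hx, zero_mul, IsLocalization.Away.lift_eq] at h1
    obtain ⟨⟨_, j, rfl⟩, hj⟩ := (IsLocalization.map_eq_zero_iff (Submonoid.powers f) D _).mp h1.symm
    have h2 : f0 ^ j * z = 0 := incl_injective S (by rw [map_mul, map_pow, map_zero]; rw [show incl L S f0 = f from hf0]; exact hj)
    have h3 : algebraMap (S ⊗[K] L) (Localization.Away f0) (f0 ^ j * z) = 0 := by rw [h2, map_zero]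
    have hf0u : IsUnit (algebraMap (S ⊗[K] L) (Localization.Away f0) f0) := IsLocalization.Away.algebraMap_isUnit f0
    rw [map_mul, map_pow, (hf0u.pow j).mul_right_eq_zero, ← hz, (hf0u.pow n).mul_left_eq_zero] at h3
    exact h3
  · obtain ⟨n, y, hy⟩ := hgen d
    have hf0u : IsUnit (algebraMap (S ⊗[K] L) (Localization.Away f0) f0) := IsLocalization.Away.algebraMap_isUnit f0
    refine ⟨algebraMap _ _ y * ↑(hf0u.pow n).unit⁻¹, ?_⟩
    refine (IsLocalization.Away.algebraMap_isUnit (S := D) f).pow n |>.mul_left_injective ?_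
    show _ * algebraMap _ D f ^ n = d * algebraMap _ D f ^ n
    have hff : IsLocalization.Away.lift f0 hu (algebraMap _ (Localization.Away f0) f0 ^ n) = algebraMap _ D f ^ n := by
      rw [map_pow, IsLocalization.Away.lift_eq]
      show algebraMap _ D (incl L S f0) ^ n = _
      rw [show incl L S f0 = f from hf0]
    rw [hy, ← hff, ← map_mul, mul_assoc, IsUnit.val_inv_mul, mul_one, IsLocalization.Away.lift_eq]
    rfl

theorem Defines.flat {S : Subalgebra K C} (h : Defines (D := D) f S) :
    ((fromC (K := K) (L := L) (D := D)).comp S.val.toRingHom).Flat := by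
  obtain ⟨f0, φ, hφ, -, hφz⟩ := h.exists_equiv
  have e : (fromC (K := K) (L := L) (D := D)).comp S.val.toRingHom =
      (φ.comp (algebraMap (S ⊗[K] L) (Localization.Away f0))).comp Algebra.TensorProduct.includeLeftRingHom := by
    ext s
    exact (hφz (s ⊗ₜ 1)).symm
  rw [e]
  refine RingHom.Flat.comp ?_ (RingHom.Flat.comp ?_ (RingHom.Flat.of_bijective hφ))
  · exact RingHom.flat_algebraMap_iff.mpr (inferInstance : Module.Flat S (S ⊗[K] L))
  · exact RingHom.flat_algebraMap_iff.mpr (IsLocalization.flat (Localization.Away f0) (Submonoid.powers f0))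

/-- Two homomorphisms out of a subalgebra agreeing on one defining `D` agree. -/
theorem Defines.eq_of_agree {C₀ : Subalgebra K C} (h : Defines (D := D) f C₀) {S : Subalgebra K C} (hS : C₀ ≤ S)
    {E : Type u} [CommRing E] (ψ : S →+* E) (ρ : D →+* E)
    (hψ : ∀ c : C₀, ψ (Subalgebra.inclusion hS c) = ρ (fromC (K := K) (L := L) (c : C))) (c : S) :
    ψ c = ρ (fromC (K := K) (L := L) (c : C)) := by
  obtain ⟨⟨f0, hf0⟩, hgen⟩ := h
  let ρ' : C ⊗[K] L →+* E := ρ.comp (algebraMap _ D)
  letI : Algebra K E := (ρ'.comp (algebraMap K (C ⊗[K] L))).toAlgebra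
  let ψ' : S →ₐ[K] E :=
    { ψ with commutes' := fun r => (hψ (algebraMap K C₀ r)).trans rfl }
  let ρL : L →ₐ[K] E :=
    { ρ'.comp (Algebra.TensorProduct.includeRight : L →ₐ[K] C ⊗[K] L).toRingHom with
      commutes' := fun r => congrArg ρ' (Algebra.TensorProduct.includeRight.commutes r) }
  let ι : S ⊗[K] L →ₐ[K] E := Algebra.TensorProduct.lift ψ' ρL fun _ _ => Commute.all _ _
  let j := Algebra.TensorProduct.map (Subalgebra.inclusion hS) (AlgHom.id K L)
  have hι : ∀ z : C₀ ⊗[K] L, ι (j z) = ρ' (incl L C₀ z) := by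
    intro z
    induction z using TensorProduct.induction_on with
    | zero => simp
    | tmul a l =>
      show ψ (Subalgebra.inclusion hS a) * ρ' (1 ⊗ₜ l) = ρ' ((a : C) ⊗ₜ l)
      rw [hψ, show ρ (fromC (K := K) (L := L) (a : C)) = ρ' ((a : C) ⊗ₜ 1) from rfl, ← map_mul,
        Algebra.TensorProduct.tmul_mul_tmul, mul_one, one_mul]
    | add a b ha hb => simp only [map_add, ha, hb]
  obtain ⟨n, y, hy⟩ := hgen (fromC (K := K) (L := L) (c : C))
  have hy' : algebraMap (C ⊗[K] L) D (((c : C) ⊗ₜ 1) * f ^ n) = algebraMap _ D (incl L C₀ y) := by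
    rw [map_mul, map_pow]; exact hy
  obtain ⟨k, hk⟩ := IsLocalization.Away.exists_of_eq f hy'
  have hf0' : incl L C₀ f0 = f := hf0
  have e1 : j f0 ^ k * ((c ⊗ₜ[K] (1 : L)) * j f0 ^ n) = j f0 ^ k * j y := by
    apply incl_injective S
    simp only [map_mul, map_pow]
    rw [show incl L S (j f0) = f from (incl_comp hS f0).trans hf0', show incl L S (j y) = incl L C₀ y from incl_comp hS y]
    exact hk
  have e2 := congrArg ι e1
  have e3 := congrArg ρ' hk
  simp only [map_mul, map_pow, hι, hf0'] at e2 e3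
  rw [show ι (c ⊗ₜ[K] (1 : L)) = ψ c * ρ' (1 ⊗ₜ 1) from rfl, show ((1 : C) ⊗ₜ[K] (1 : L)) = 1 from rfl, map_one,
    mul_one] at e2
  have hu : IsUnit (ρ' f) := (IsLocalization.Away.algebraMap_isUnit (S := D) f).map ρ
  exact (hu.pow n).mul_left_injective ((hu.pow k).mul_right_injective (e2.trans e3.symm))

/-- If a localization of `C ⊗ L` is of finite type over `L` and covers `Spec C`, then `C` is of finite type. -/
theorem finiteType_of_away (f : C ⊗[K] L) [IsLocalization.Away f D]
    (hD : ((algebraMap (C ⊗[K] L) D).comp (Algebra.TensorProduct.includeRight : L →ₐ[K] C ⊗[K] L).toRingHom).FiniteType)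
    (hsurj : Function.Surjective (PrimeSpectrum.comap (fromC (K := K) (L := L) (C := C) (D := D)))) :
    Algebra.FiniteType K C := by
  classical
  let b := (algebraMap (C ⊗[K] L) D).comp (Algebra.TensorProduct.includeRight : L →ₐ[K] C ⊗[K] L).toRingHom
  letI : Algebra L D := b.toAlgebra
  haveI : Algebra.FiniteType L D := hD
  obtain ⟨s, hs⟩ := Algebra.FiniteType.out (R := L) (A := D)
  choose N z hz using fun d : D => IsLocalization.Away.surj (S := D) f d
  obtain ⟨C₀, hC₀, hmem⟩ := exists_fg_finset (insert f (s.image z))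
  have hdef : Defines (D := D) f C₀ := by
    refine ⟨hmem f (Finset.mem_insert_self _ _), fun d => ?_⟩
    have hd : d ∈ Algebra.adjoin L (s : Set D) := hs ▸ Algebra.mem_top
    obtain ⟨f0, hf0⟩ := hmem f (Finset.mem_insert_self _ _)
    have hf0' : incl L C₀ f0 = f := hf0
    induction hd using Algebra.adjoin_induction with
    | mem x hx =>
      obtain ⟨y, hy⟩ := hmem (z x) (Finset.mem_insert_of_mem (Finset.mem_image_of_mem z hx))
      exact ⟨N x, y, (hz x).trans (congrArg _ hy.symm)⟩
    | algebraMap l =>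
      exact ⟨0, 1 ⊗ₜ l, by rw [pow_zero, mul_one]; rfl⟩
    | add x y _ _ hx hy =>
      obtain ⟨n, a, ha⟩ := hx
      obtain ⟨m, b, hb⟩ := hy
      refine ⟨n + m, a * f0 ^ m + b * f0 ^ n, ?_⟩
      simp only [map_add, map_mul, map_pow, hf0', ← ha, ← hb, pow_add]
      ring
    | mul x y _ _ hx hy =>
      obtain ⟨n, a, ha⟩ := hx
      obtain ⟨m, b, hb⟩ := hy
      refine ⟨n + m, a * b, ?_⟩
      simp only [map_mul, ← ha, ← hb, pow_add]
      ring
  obtain ⟨f0, φ, hφ, hf0, hφz⟩ := hdef.exists_equiv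
  let U : Set (PrimeSpectrum C₀) :=
    PrimeSpectrum.comap (algebraMap C₀ (C₀ ⊗[K] L)) '' (PrimeSpectrum.basicOpen f0 : Set _)
  have hU : IsOpen U := PrimeSpectrum.isOpenMap_comap_algebraMap_tensorProduct_of_field _ (PrimeSpectrum.basicOpen f0).2
  have hUD : U ⊆ Set.range (PrimeSpectrum.comap ((fromC (K := K) (L := L) (D := D)).comp C₀.val.toRingHom)) := by
    rintro _ ⟨q, hq, rfl⟩
    rw [← PrimeSpectrum.localization_away_comap_range (Localization.Away f0) f0] at hq
    obtain ⟨r, rfl⟩ := hq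
    let e := RingEquiv.ofBijective φ hφ
    refine ⟨PrimeSpectrum.comap e.symm.toRingHom r, ?_⟩
    rw [← PrimeSpectrum.comap_comp_apply, ← PrimeSpectrum.comap_comp_apply]
    congr 1
    ext c
    show e.symm (fromC (K := K) (L := L) (c : C)) = algebraMap _ _ (algebraMap C₀ (C₀ ⊗[K] L) c)
    rw [RingEquiv.symm_apply_eq]
    exact (hφz (c ⊗ₜ 1)).symm
  obtain ⟨I, hI⟩ := (PrimeSpectrum.isClosed_iff_zeroLocus_ideal _).mp hU.isClosed_compl
  have hI1 : I.map C₀.val.toRingHom = ⊤ := by
    by_contra hne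
    obtain ⟨P, hP, hle⟩ := Ideal.exists_le_maximal _ hne
    obtain ⟨Q, hQ⟩ := hsurj ⟨P, hP.isPrime⟩
    have hin : PrimeSpectrum.comap C₀.val.toRingHom ⟨P, hP.isPrime⟩ ∈ U := by
      refine ⟨PrimeSpectrum.comap ((algebraMap (C ⊗[K] L) D).comp (incl L C₀).toRingHom) Q, ?_, ?_⟩
      · show (algebraMap (C ⊗[K] L) D).comp (incl L C₀).toRingHom f0 ∉ Q.asIdeal
        intro hc
        exact Q.2.ne_top (Ideal.eq_top_of_isUnit_mem _ hc
          (by show IsUnit (algebraMap _ D (incl L C₀ f0)); rw [hf0]; exact IsLocalization.Away.algebraMap_isUnit f))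
      · rw [← hQ, ← PrimeSpectrum.comap_comp_apply, ← PrimeSpectrum.comap_comp_apply]
        rfl
    refine (?_ : PrimeSpectrum.comap C₀.val.toRingHom ⟨P, hP.isPrime⟩ ∉ U) hin
    rw [← Set.mem_compl_iff, hI]
    exact fun x hx => hle (Ideal.mem_map_of_mem _ hx)
  have h1 : (1 : C) ∈ Ideal.span (C₀.val.toRingHom '' (I : Set C₀)) := by
    rw [show Ideal.span (C₀.val.toRingHom '' (I : Set C₀)) = I.map C₀.val.toRingHom from rfl, hI1]
    exact Submodule.mem_top
  obtain ⟨m, x, g, hsum⟩ := Submodule.mem_span_set'.mp h1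
  let C₁ := C₀ ⊔ Algebra.adjoin K (Finset.univ.image x : Set C)
  have hle : C₀ ≤ C₁ := le_sup_left
  have hx : ∀ i, x i ∈ C₁ := fun i => (le_sup_right : _ ≤ C₁) (Algebra.subset_adjoin (by simp))
  have hfg : C₁.FG := hC₀.sup ⟨_, rfl⟩
  let a₁ : C₁ →+* D := (fromC (K := K) (L := L) (D := D)).comp C₁.val.toRingHom
  have hs₁ : Function.Surjective (PrimeSpectrum.comap a₁) := by
    intro P
    let p₀ := PrimeSpectrum.comap (Subalgebra.inclusion hle).toRingHom P
    have hp₀ : p₀ ∈ U := by
      by_contra hn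
      rw [← Set.mem_compl_iff, hI] at hn
      apply P.2.ne_top
      rw [Ideal.eq_top_iff_one]
      have h' : (∑ i, (⟨x i, hx i⟩ : C₁) * ⟨(g i).1, by obtain ⟨c, -, hc⟩ := (g i).2; rw [← hc]; exact hle c.2⟩) = 1 :=
        Subtype.ext (by simpa using hsum)
      rw [← h']
      refine Ideal.sum_mem _ fun i _ => Ideal.mul_mem_left _ _ ?_
      obtain ⟨c, hc, hc'⟩ := (g i).2
      have := hn hc
      rw [show (⟨(g i).1, _⟩ : C₁) = Subalgebra.inclusion hle c from Subtype.ext hc'.symm]
      exact this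
    obtain ⟨Q, hQ⟩ := hUD hp₀
    let χP : C₁ →+* P.asIdeal.ResidueField := algebraMap _ _
    let χQ : D →+* Q.asIdeal.ResidueField := algebraMap _ _
    let kP : p₀.asIdeal.ResidueField →+* P.asIdeal.ResidueField :=
      Ideal.ResidueField.map p₀.asIdeal P.asIdeal (Subalgebra.inclusion hle).toRingHom rfl
    let kQ : p₀.asIdeal.ResidueField →+* Q.asIdeal.ResidueField :=
      Ideal.ResidueField.map p₀.asIdeal Q.asIdeal ((fromC (K := K) (L := L) (D := D)).comp C₀.val.toRingHom)
        (congrArg PrimeSpectrum.asIdeal hQ).symm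
    letI := kP.toAlgebra
    letI := kQ.toAlgebra
    let E := P.asIdeal.ResidueField ⊗[p₀.asIdeal.ResidueField] Q.asIdeal.ResidueField
    obtain ⟨r⟩ := (inferInstance : Nonempty (PrimeSpectrum E))
    let ψ : C₁ →+* E := Algebra.TensorProduct.includeLeftRingHom.comp χP
    let ρ : D →+* E := (Algebra.TensorProduct.includeRight : _ →ₐ[p₀.asIdeal.ResidueField] E).toRingHom.comp χQ
    have hag : ∀ c : C₁, ψ c = ρ (fromC (K := K) (L := L) (c : C)) := by
      refine hdef.eq_of_agree hle ψ ρ fun c => ?_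
      have e := (Algebra.TensorProduct.includeLeftRingHom_comp_algebraMap
        (R := p₀.asIdeal.ResidueField) (A := P.asIdeal.ResidueField) (B := Q.asIdeal.ResidueField))
      have e' := RingHom.congr_fun e (algebraMap C₀ p₀.asIdeal.ResidueField c)
      show Algebra.TensorProduct.includeLeftRingHom (χP (Subalgebra.inclusion hle c)) =
        Algebra.TensorProduct.includeRight (χQ (fromC (K := K) (L := L) (c : C)))
      rw [show χP (Subalgebra.inclusion hle c) = kP (algebraMap C₀ _ c) from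
          (Ideal.ResidueField.map_algebraMap _ _ _ _ c).symm,
        show χQ (fromC (K := K) (L := L) (c : C)) = kQ (algebraMap C₀ _ c) from
          (Ideal.ResidueField.map_algebraMap p₀.asIdeal Q.asIdeal ((fromC (K := K) (L := L) (D := D)).comp C₀.val.toRingHom) (congrArg PrimeSpectrum.asIdeal hQ).symm c).symm]
      exact e'
    refine ⟨PrimeSpectrum.comap ρ r, ?_⟩
    rw [← PrimeSpectrum.comap_comp_apply, show ρ.comp a₁ = ψ from RingHom.ext fun c => (hag c).symm,
      PrimeSpectrum.comap_comp_apply]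
    refine PrimeSpectrum.ext ?_
    show Ideal.comap χP _ = P.asIdeal
    rw [PrimeSpectrum.comap_asIdeal, Ideal.eq_bot_of_prime (Ideal.comap (Algebra.TensorProduct.includeLeftRingHom : P.asIdeal.ResidueField →+* E) r.asIdeal),
      ← RingHom.ker_eq_comap_bot]
    exact Ideal.ker_algebraMap_residueField _
  have hff : a₁.FaithfullyFlat :=
    RingHom.FaithfullyFlat.iff_flat_and_comap_surjective.mpr ⟨(hdef.mono hle).flat, hs₁⟩
  have hffC : (fromC (K := K) (L := L) (C := C) (D := D)).FaithfullyFlat := by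
    refine RingHom.FaithfullyFlat.iff_flat_and_comap_surjective.mpr ⟨RingHom.Flat.comp ?_ ?_, hsurj⟩
    · exact RingHom.flat_algebraMap_iff.mpr (inferInstance : Module.Flat C (C ⊗[K] L))
    · exact RingHom.flat_algebraMap_iff.mpr (IsLocalization.flat D (Submonoid.powers f))
  suffices htop : C₁ = ⊤ from ⟨htop ▸ hfg⟩
  rw [eq_top_iff]
  intro c _
  letI := a₁.toAlgebra
  haveI : Module.FaithfullyFlat C₁ D := hff
  let ρ : D →+* D ⊗[C₁] D := (Algebra.TensorProduct.includeRight : D →ₐ[C₁] D ⊗[C₁] D).toRingHom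
  let ψ : (⊤ : Subalgebra K C) →+* D ⊗[C₁] D :=
    (Algebra.TensorProduct.includeLeftRingHom.comp (fromC (K := K) (L := L) (D := D))).comp (⊤ : Subalgebra K C).val.toRingHom
  have hag := hdef.eq_of_agree (le_top : C₀ ≤ ⊤) ψ ρ
    (fun c => RingHom.congr_fun (Algebra.TensorProduct.includeLeftRingHom_comp_algebraMap (R := C₁) (A := D) (B := D))
      (Subalgebra.inclusion hle c)) ⟨c, Algebra.mem_top⟩
  obtain ⟨r, hr⟩ := Groth.L01.WittEq.exists_algebraMap_eq (R := C₁) (fromC (K := K) (L := L) (D := D) c) hag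
  rw [← hffC.injective hr]
  exact r.2

end Groth.L08.FTDescent
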