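import Groth.Agent.L21.GorensteinBaseChangeFG
import Groth.Agent.L25.Translate
import Groth.Agent.L25.Actions

/-!
# The flat locus of a homomorphism of group schemes is a union of fibres
-/

set_option autoImplicit false
set_option backward.isDefEq.respectTransparency.types false

universe u

open CategoryTheory CategoryTheory.Limits AlgebraicGeometry MonoidalCategory MonObj CartesianMonoidalCategory
open scoped CategoryTheory.Obj

noncomputable section

namespace Groth.L08.FlatAtPoint

variable {S : Scheme.{u}} {G H : Over S} [GrpObj G] [GrpObj H]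

/-- `(h, g) ↦ h · v(g)`. -/
abbrev act (v : G ⟶ H) : H ⊗ G ⟶ H := fst H G * (snd H G ≫ v)

theorem flat_act [Flat G.hom] (v : G ⟶ H) : Flat (act v).left := by
  let σ := CartesianMonoidalCategory.lift (act v) (snd H G)
  have h1 : Flat (fst H G).left :=
    inferInstanceAs (Flat (pullback.fst H.hom G.hom))
  have : IsIso σ := by
    refine ⟨CartesianMonoidalCategory.lift (fst H G * (snd H G ≫ v)⁻¹) (snd H G), ?_, ?_⟩
    all_goals
      ext1
      · simp [σ, act, MonObj.comp_mul, GrpObj.comp_inv, _root_.mul_assoc]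
      · simp [σ]
  haveI : IsIso σ.left := inferInstanceAs (IsIso ((Over.forget S).map σ))
  have e : σ ≫ fst H G = act v := lift_fst _ _
  rw [← e, Over.comp_left]
  exact (MorphismProperty.cancel_left_of_respectsIso @Flat _ _).2 h1

theorem act_id_comp (u : G ⟶ H) [IsMonHom u] : act (𝟙 G) ≫ u = (u ▷ G) ≫ act u := by
  simp only [act, Category.comp_id, MonObj.mul_comp, MonObj.comp_mul, whiskerRight_fst, whiskerRight_snd_assoc]

/-- Flatness of a homomorphism at one point gives flatness on the whole fibre of the base. -/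
theorem flat_of_point [Flat G.hom] (u : G ⟶ H) [IsMonHom u] {x g : G.left} (hxg : G.hom x = G.hom g)
    (hx : (u.left.stalkMap x).hom.Flat) : (u.left.stalkMap g).hom.Flat := by
  obtain ⟨w, hw1, hw2⟩ := Scheme.Pullback.exists_preimage_pullback x g hxg
  let τ := CartesianMonoidalCategory.lift (fst G G) ((fst G G)⁻¹ * snd G G)
  let z : (G ⊗ G).left := τ.left w
  have hz : (fst G G).left z = x := by
    have e : τ ≫ fst G G = fst G G := lift_fst _ _
    exact (congr(($e).left w)).trans hw1
  have hm : (act (𝟙 G)).left z = g := by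
    have e : τ ≫ act (𝟙 G) = snd G G := by
      simp [τ, act, MonObj.comp_mul]
    exact (congr(($e).left w)).trans hw2
  have h1 : ((u ▷ G).left.stalkMap z).hom.Flat :=
    Groth.L21.GorensteinBaseChange.flat_stalkMap_of_isPullback
      (Groth.L25.Actions.isPullback_whiskerRight_left u G).flip z (by rw [hz]; exact hx)
  haveI := flat_act (G := G) (H := G) (𝟙 G)
  haveI := flat_act u
  have h2 : (((act (𝟙 G)).left ≫ u.left).stalkMap z).hom.Flat := by
    rw [← Over.comp_left, act_id_comp, Over.comp_left, Scheme.Hom.stalkMap_comp]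
    exact RingHom.Flat.comp (Flat.stalkMap (act u).left _) h1
  rw [Scheme.Hom.stalkMap_comp] at h2
  rw [← hm]
  let a := (u.left.stalkMap ((act (𝟙 G)).left z)).hom
  let b := ((act (𝟙 G)).left.stalkMap z).hom
  have hb : b.Flat := Flat.stalkMap (act (𝟙 G)).left _
  show a.Flat
  letI := a.toAlgebra
  letI := b.toAlgebra
  letI := (b.comp a).toAlgebra
  haveI : IsScalarTower _ _ _ :=
    IsScalarTower.of_algebraMap_eq (R := H.left.presheaf.stalk (u.left ((act (𝟙 G)).left z)))
      (S := G.left.presheaf.stalk ((act (𝟙 G)).left z)) (A := (G ⊗ G).left.presheaf.stalk z) fun _ => rfl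
  haveI : Module.Flat (H.left.presheaf.stalk (u.left ((act (𝟙 G)).left z))) ((G ⊗ G).left.presheaf.stalk z) := h2
  haveI : Module.Flat (G.left.presheaf.stalk ((act (𝟙 G)).left z)) ((G ⊗ G).left.presheaf.stalk z) := hb
  haveI : IsLocalHom (algebraMap (G.left.presheaf.stalk ((act (𝟙 G)).left z)) ((G ⊗ G).left.presheaf.stalk z)) :=
    inferInstanceAs (IsLocalHom b)
  haveI : Module.FaithfullyFlat (G.left.presheaf.stalk ((act (𝟙 G)).left z)) ((G ⊗ G).left.presheaf.stalk z) :=
    Module.FaithfullyFlat.of_flat_of_isLocalHom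
  exact Groth.L25.Translate.flat_of_comp_faithfullyFlat (T := (G ⊗ G).left.presheaf.stalk z)

end Groth.L08.FlatAtPoint
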