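import Groth.Agent.L07.Avramov
import Groth.Agent.L07.CIFibre
import Groth.Agent.L21.Smooth.Scheme
import Mathlib.AlgebraicGeometry.Morphisms.Smooth
import Mathlib.RingTheory.Spectrum.Prime.FreeLocus
import Mathlib.RingTheory.Flat.Localization
import Mathlib.RingTheory.Adjoin.Tower
import Mathlib.RingTheory.Jacobson.Ring
import Mathlib.Algebra.CharP.Lemmas
import Mathlib.FieldTheory.Perfect

/-!
# A point where a finite type algebra is flat over a regular ring of Frobenius powers
-/

set_option autoImplicit false
set_option backward.isDefEq.respectTransparency.types false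

universe u

open TensorProduct CategoryTheory AlgebraicGeometry

noncomputable section

namespace Groth.L08.FrobFlat

/-- The Frobenius power of the maximal ideal. -/
abbrev maxPow (R : Type u) [CommRing R] [IsLocalRing R] (q : ℕ) : Ideal R :=
  Ideal.span ((fun x : R => x ^ q) '' (IsLocalRing.maximalIdeal R : Set R))

variable {k : Type u} [Field k] (p : ℕ) [hp : Fact p.Prime] [CharP k p] [PerfectRing k p]

omit hp [CharP k p] [PerfectRing k p] in
theorem isRegularLocalRing_atPrime_of_mem_smoothLocus {B : Type u} [CommRing B] [Algebra k B]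
    [Algebra.FiniteType k B] [LocallyOfFinitePresentation (Spec.map (CommRingCat.ofHom (algebraMap k B)))]
    (m : PrimeSpectrum B)
    (hm : (m : ↥(Spec (CommRingCat.of B))) ∈ (Spec.map (CommRingCat.ofHom (algebraMap k B))).smoothLocus) :
    IsRegularLocalRing (Localization.AtPrime m.asIdeal) := by
  let X := Spec (CommRingCat.of B)
  let f : X ⟶ Spec (CommRingCat.of k) := Spec.map (CommRingCat.ofHom (algebraMap k B))
  haveI : LocallyOfFiniteType f := (HasRingHomProperty.Spec_iff (P := @LocallyOfFiniteType)).2
    (RingHom.finiteType_algebraMap.2 ‹Algebra.FiniteType k B›)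
  haveI : IsLocallyNoetherian X := LocallyOfFiniteType.isLocallyNoetherian f
  let U : X.Opens := f.smoothLocus
  haveI : Smooth (U.ι ≫ f) := by
    rw [← Scheme.Hom.smoothLocus_eq_top_iff, ← Scheme.Hom.preimage_smoothLocus_eq]
    ext y
    simp only [TopologicalSpace.Opens.coe_top, Set.mem_univ, iff_true]
    exact y.2
  haveI h1 := Groth.L21.Smooth.regular_stalk (U.ι ≫ f) ⟨m, hm⟩
  haveI h2 : IsRegularLocalRing (X.presheaf.stalk m) :=
    IsRegularLocalRing.of_ringEquiv (U.stalkIso ⟨m, hm⟩).commRingCatIsoToRingEquiv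
  exact IsRegularLocalRing.of_ringEquiv (R := X.presheaf.stalk m) (StructureSheaf.stalkIso B m).symm.toRingEquiv

/-- Some maximal ideal at which the complete intersection property follows from that of the
Frobenius power fibre. -/
theorem exists_ci_of_fibre (A : Type u) [CommRing A] [Nontrivial A] [Algebra k A] [Algebra.FiniteType k A] :
    ∃ (N : ℕ) (M : Ideal A) (_ : M.IsMaximal),
      ∀ [IsLocalRing (Localization.AtPrime M ⧸ maxPow (Localization.AtPrime M) (p ^ N))],
        Pi1.IsCompleteIntersection (Localization.AtPrime M ⧸ maxPow (Localization.AtPrime M) (p ^ N)) →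
        Pi1.IsCompleteIntersection (Localization.AtPrime M) := by
  classical
  haveI : IsNoetherianRing A := Algebra.FiniteType.isNoetherianRing k A
  haveI : CharP A p := charP_of_injective_algebraMap (algebraMap k A).injective p
  obtain ⟨N, hN⟩ := IsNoetherianRing.isNilpotent_nilradical A
  refine ⟨N, ?_⟩
  let q := p ^ N
  have hq : 0 < q := pow_pos hp.out.pos N
  have hNq : N ≤ q := (Nat.lt_pow_self hp.out.one_lt).le
  -- the ring of `q`-th powers
  let B : Subalgebra k A :=
    { (iterateFrobenius A p N).range.toSubsemiring with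
      algebraMap_mem' := fun c => ⟨algebraMap k A ((iterateFrobeniusEquiv k p N).symm c), by
        rw [iterateFrobenius_def, ← map_pow]
        exact congrArg _ ((iterateFrobeniusEquiv k p N).apply_symm_apply c)⟩ }
  let φ : A →+* B := (iterateFrobenius A p N).codRestrict B fun a => ⟨a, rfl⟩
  have hφ : ∀ a, (φ a : A) = a ^ q := fun a => iterateFrobenius_def p N a
  have hφs : Function.Surjective φ := fun ⟨b, a, ha⟩ => ⟨a, Subtype.ext ha⟩
  haveI : _root_.IsReduced B := ⟨fun b ⟨n, hn⟩ => by
    obtain ⟨a, rfl⟩ := hφs b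
    have h0 : IsNilpotent a := ⟨q * n, by
      rw [pow_mul, ← hφ, ← SubmonoidClass.coe_pow, hn]; rfl⟩
    refine Subtype.ext ((hφ a).trans ?_)
    have := Ideal.pow_mem_pow (mem_nilradical.2 h0) q
    rw [pow_eq_zero_of_le hNq hN] at this
    exact this⟩
  haveI : Algebra.IsIntegral B A := ⟨fun a => by
    refine IsIntegral.of_pow hq ?_
    rw [← hφ]
    exact isIntegral_algebraMap (x := φ a)⟩
  haveI : Algebra.FiniteType B A := Algebra.FiniteType.of_restrictScalars_finiteType k B A
  haveI : Module.Finite B A := Algebra.IsIntegral.finite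
  haveI : Algebra.FiniteType k B := ⟨fg_of_fg_of_fg k B A Algebra.FiniteType.out Module.Finite.fg_top Subtype.val_injective⟩
  haveI : IsNoetherianRing B := Algebra.FiniteType.isNoetherianRing k B
  haveI : Nontrivial B := ⟨⟨0, 1, fun h => zero_ne_one (α := A) (congrArg Subtype.val h)⟩⟩
  haveI : Module.FinitePresentation B A := Module.finitePresentation_of_finite B A
  -- a closed point where `A` is free over the smooth `B`
  haveI : IsJacobsonRing B := isJacobsonRing_of_finiteType (A := k)
  obtain ⟨⟨P, hP⟩⟩ : Nonempty (minimalPrimes B) := Ideal.nonempty_minimalPrimes bot_ne_top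
  haveI : P.IsPrime := hP.1.1
  let fB : Spec (CommRingCat.of B) ⟶ Spec (CommRingCat.of k) := Spec.map (CommRingCat.ofHom (algebraMap k B))
  haveI : LocallyOfFiniteType fB := (HasRingHomProperty.Spec_iff (P := @LocallyOfFiniteType)).2
    (RingHom.finiteType_algebraMap.2 ‹Algebra.FiniteType k B›)
  haveI : IsReduced (Spec (CommRingCat.of B)) := inferInstance
  haveI : PerfectField k := PerfectRing.toPerfectField k p
  have hfree : (⟨P, inferInstance⟩ : PrimeSpectrum B) ∈ Module.freeLocus B A := by
    rw [Module.mem_freeLocus]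
    have hF : IsField (Localization.AtPrime P) := by
      haveI : Ring.KrullDimLE 0 (Localization.AtPrime P) := .of_isLocalization _ hP _
      exact Ring.KrullDimLE.isField_of_isReduced
    letI := hF.toField
    exact Module.Free.of_divisionRing _ _
  let Z : Set (PrimeSpectrum B) := Module.freeLocus B A ∩ (fB.smoothLocus.carrier : Set (PrimeSpectrum B))
  have hZne : Z.Nonempty :=
    fB.dense_smoothLocus_of_perfectField.inter_open_nonempty (Module.freeLocus B A)
      Module.isOpen_freeLocus ⟨_, hfree⟩
  have hZo : IsOpen Z := (Module.isOpen_freeLocus).inter fB.smoothLocus.2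
  obtain ⟨m, hm, hmc⟩ := nonempty_inter_closedPoints hZne hZo.isLocallyClosed
  obtain ⟨hmfree, hmsm⟩ := hm
  haveI hmmax : m.asIdeal.IsMaximal := (PrimeSpectrum.isClosed_singleton_iff_isMaximal m).1 hmc
  haveI := isRegularLocalRing_atPrime_of_mem_smoothLocus (k := k) (m : PrimeSpectrum B) hmsm
  let M : Ideal A := m.asIdeal.comap φ
  haveI hM : M.IsMaximal := Ideal.comap_isMaximal_of_surjective φ hφs
  refine ⟨M, hM, ?_⟩
  intro _ hF
  have hmM : ∀ b : B, (b : A) ∈ M ↔ b ∈ m.asIdeal := fun b => by
    have : φ (b : A) = b ^ q := Subtype.ext (by rw [hφ, SubmonoidClass.coe_pow])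
    rw [Ideal.mem_comap, this]
    exact ⟨fun h => m.2.mem_of_pow_mem q h, fun h => Ideal.pow_mem_of_mem _ h q hq⟩
  let R := Localization.AtPrime M
  let S : Submonoid A := Algebra.algebraMapSubmonoid A m.asIdeal.primeCompl
  -- `A` localised over `m` is local at `M`
  haveI hloc : IsLocalization M.primeCompl (Localization S) := by
    refine IsLocalization.of_le (M := S) _ ?_ fun a ha => ?_
    · rintro _ ⟨b, hb, rfl⟩ h
      exact hb ((hmM b).1 h)
    · by_contra hu
      obtain ⟨Q, hQ, haQ⟩ := exists_max_ideal_of_mem_nonunits hu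
      have h1 : algebraMap A (Localization S) ((φ a : B) : A) ∈ Q := by
        rw [hφ, map_pow]
        exact Ideal.pow_mem_of_mem _ haQ q hq
      refine hQ.ne_top (Ideal.eq_top_of_isUnit_mem _ h1 (IsLocalization.map_units _ (⟨_, φ a, ?_, rfl⟩ : S)))
      exact fun h => ha (Ideal.mem_comap.2 h)
  haveI : Module.Flat B (Localization S) := by
    haveI : Module.Free (Localization.AtPrime m.asIdeal) (LocalizedModule m.asIdeal.primeCompl A) :=
      Module.mem_freeLocus.1 hmfree
    haveI : Module.Flat B (Localization.AtPrime m.asIdeal) := IsLocalization.flat _ m.asIdeal.primeCompl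
    haveI : Module.Flat B (LocalizedModule m.asIdeal.primeCompl A) :=
      Module.Flat.trans B (Localization.AtPrime m.asIdeal) _
    exact Module.Flat.of_linearEquiv (IsLocalizedModule.linearEquiv m.asIdeal.primeCompl
      (IsScalarTower.toAlgHom B A (Localization S)).toLinearMap
      (LocalizedModule.mkLinearMap m.asIdeal.primeCompl A))
  haveI : Module.Flat B R := Module.Flat.of_linearEquiv
    ((IsLocalization.algEquiv M.primeCompl R (Localization S)).toLinearEquiv.restrictScalars B)
  let g : Localization.AtPrime m.asIdeal →+* R :=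
    IsLocalization.lift (M := m.asIdeal.primeCompl) (g := algebraMap B R) fun b => by
      rw [IsScalarTower.algebraMap_apply B A R]
      exact IsLocalization.map_units R (⟨(b.1 : A), fun h => b.2 ((hmM b.1).1 h)⟩ : M.primeCompl)
  letI : Algebra (Localization.AtPrime m.asIdeal) R := g.toAlgebra
  haveI : IsScalarTower B (Localization.AtPrime m.asIdeal) R :=
    IsScalarTower.of_algebraMap_eq fun b => (IsLocalization.lift_eq _ b).symm
  haveI : Module.Flat (Localization.AtPrime m.asIdeal) R :=
    (Module.flat_iff_of_isLocalization (Localization.AtPrime m.asIdeal) m.asIdeal.primeCompl R).2 inferInstance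
  have hmap : (IsLocalRing.maximalIdeal (Localization.AtPrime m.asIdeal)).map
      (algebraMap (Localization.AtPrime m.asIdeal) R) = maxPow R q := by
    rw [← Localization.AtPrime.map_eq_maximalIdeal, Ideal.map_map, ← IsScalarTower.algebraMap_eq]
    refine le_antisymm (Ideal.map_le_iff_le_comap.2 fun b hb => ?_) (Ideal.span_le.2 ?_)
    · obtain ⟨a, rfl⟩ := hφs b
      rw [Ideal.mem_comap, IsScalarTower.algebraMap_apply B A R,
        show algebraMap B A (φ a) = a ^ q from hφ a, map_pow]
      refine Ideal.subset_span ⟨_, ?_, rfl⟩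
      rw [← Localization.AtPrime.map_eq_maximalIdeal]
      exact Ideal.mem_map_of_mem _ (Ideal.mem_comap.2 hb)
    · rintro _ ⟨x, hx, rfl⟩
      obtain ⟨a, s, rfl⟩ := IsLocalization.exists_mk'_eq M.primeCompl x
      have ha : a ∈ M := (IsLocalization.AtPrime.mk'_mem_maximal_iff R M a s).1 hx
      show IsLocalization.mk' R a s ^ q ∈ _
      rw [IsLocalization.mk'_eq_mul_mk'_one a s, mul_pow, ← map_pow, ← hφ]
      refine Ideal.mul_mem_right _ _ ?_
      exact Ideal.mem_map_of_mem (algebraMap B R) (Ideal.mem_comap.1 ha)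
  haveI : IsLocalHom (algebraMap (Localization.AtPrime m.asIdeal) R) := by
    refine (IsLocalRing.local_hom_TFAE _).out 0 2 |>.2 ?_
    rw [hmap]
    exact Ideal.span_le.2 (by rintro _ ⟨x, hx, rfl⟩; exact Ideal.pow_mem_of_mem _ hx q hq)
  haveI : IsNoetherianRing R := IsLocalization.isNoetherianRing M.primeCompl R inferInstance
  refine Groth.L07.Avramov.isCompleteIntersection_iff (Localization.AtPrime m.asIdeal) |>.2
    ⟨Groth.L07.CIFibre.isCompleteIntersection_of_regular _, ?_⟩
  haveI : Nontrivial (EGA4.FibRing (Localization.AtPrime m.asIdeal) R) := by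
    refine Ideal.Quotient.nontrivial_iff.2 ?_
    rw [EGA4.mB, hmap]
    exact ne_top_of_le_ne_top (IsLocalRing.maximalIdeal.isMaximal R).ne_top
      (Ideal.span_le.2 (by rintro _ ⟨x, hx, rfl⟩; exact Ideal.pow_mem_of_mem _ hx q hq))
  haveI : IsLocalRing (EGA4.FibRing (Localization.AtPrime m.asIdeal) R) :=
    .of_surjective' (Ideal.Quotient.mk _) Ideal.Quotient.mk_surjective
  exact Groth.L07.Avramov.isCompleteIntersection_of_ringEquiv (Ideal.quotEquivOfEq hmap.symm) hF

end Groth.L08.FrobFlat
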