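import Groth.Agent.L08.Basic
import Groth.Prelude.Def_ComodTens
import Groth.Prelude.Def_GLin4
import Groth.Prelude.Def_ComodDual
import Mathlib.LinearAlgebra.Dual.Lemmas
import Mathlib.LinearAlgebra.FiniteDimensional.Basic

/-!
Matrix coefficients of tensor powers; every representation is a subquotient of tensor powers of a
representation whose coefficients generate.
-/

universe u w

open TensorProduct WithConv

noncomputable section

namespace Groth.L08.TensorGen

open ComodTens Groth.L08

variable {k A : Type u} [Field k] [CommRing A]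

section Antipode

theorem map_antipode {B : Type u} [CommRing B] [HopfAlgebra k A] [HopfAlgebra k B] (π : B →ₐc[k] A)
    (b : B) :
    π (HopfAlgebraStruct.antipode (R := k) b) = HopfAlgebraStruct.antipode (R := k) (π b) := by
  let p : B →ₗ[k] A := (π : B →ₗ[k] A)
  have h1 : toConv (p ∘ₗ HopfAlgebraStruct.antipode (R := k)) * toConv p = 1 := by
    refine WithConv.ofConv_injective (LinearMap.ext fun c => ?_)
    rw [LinearMap.convMul_apply, LinearMap.convOne_apply]
    have h := HopfAlgebra.mul_antipode_rTensor_comul_apply (R := k) c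
    have : ∀ z : B ⊗[k] B, LinearMap.mul' k A (TensorProduct.map (p ∘ₗ HopfAlgebraStruct.antipode
        (R := k)) p z) = π (LinearMap.mul' k B ((HopfAlgebraStruct.antipode (R := k)).rTensor B z)) := by
      intro z
      induction z using TensorProduct.induction_on with
      | zero => simp
      | add x y hx hy => simp only [map_add, hx, hy]
      | tmul x y => simp [p]
    rw [this, h]
    exact AlgHomClass.commutes π _
  have h2 : toConv p * toConv (HopfAlgebraStruct.antipode (R := k) ∘ₗ p) = 1 := by
    refine WithConv.ofConv_injective (LinearMap.ext fun c => ?_)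
    rw [LinearMap.convMul_apply, LinearMap.convOne_apply]
    have : ∀ z : B ⊗[k] B, TensorProduct.map p (HopfAlgebraStruct.antipode (R := k) ∘ₗ p) z
        = (HopfAlgebraStruct.antipode (R := k)).lTensor A (TensorProduct.map p p z) := by
      intro z
      induction z using TensorProduct.induction_on with
      | zero => simp
      | add x y hx hy => simp only [map_add, hx, hy]
      | tmul x y => simp [p]
    rw [this]
    have hcm : TensorProduct.map p p (Coalgebra.comul (R := k) c) = Coalgebra.comul (R := k) (π c) :=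
      CoalgHomClass.map_comp_comul_apply π c
    rw [hcm, HopfAlgebra.mul_antipode_lTensor_comul_apply]
    congr 1
    exact CoalgHomClass.counit_comp_apply π c
  exact LinearMap.congr_fun (congrArg WithConv.ofConv (left_inv_eq_right_inv h1 h2)) b

end Antipode

variable [Bialgebra k A] {U : Type u} [AddCommGroup U] [Module k U] (c : HopfRep.Comod k A U)

/-- matrix coefficient for an explicit structure -/
abbrev cfx {X : Type w} [AddCommGroup X] [Module k X] (e : HopfRep.Comod k A X)
    (f : Module.Dual k X) : X →ₗ[k] A :=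
  @cf k _ A _ _ _ X _ _ e f

/-- the span of the matrix coefficients -/
def cspan {X : Type w} [AddCommGroup X] [Module k X] (e : HopfRep.Comod k A X) : Submodule k A :=
  ⨆ f : Module.Dual k X, LinearMap.range (cfx e f)

theorem cfx_mem_cspan {X : Type w} [AddCommGroup X] [Module k X] (e : HopfRep.Comod k A X)
    (f : Module.Dual k X) (x : X) : cfx e f x ∈ cspan e :=
  Submodule.mem_iSup_of_mem f ⟨x, rfl⟩

theorem cfx_ofEquiv {X Y : Type w} [AddCommGroup X] [Module k X] [AddCommGroup Y] [Module k Y]
    (e : X ≃ₗ[k] Y) (d : HopfRep.Comod k A X) (f : Module.Dual k Y) (x : X) :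
    cfx (Comod.ofEquiv e d) f (e x) = cfx d (f ∘ₗ (e : X →ₗ[k] Y)) x := by
  change TensorProduct.lid k A (f.rTensor A ((Comod.ofEquiv e d).coact (e x))) = _
  rw [ofEquiv_coact_apply, ← LinearMap.comp_apply (f.rTensor A), ← LinearMap.rTensor_comp]
  rfl

theorem cfx_tensor {X Y : Type w} [AddCommGroup X] [Module k X] [AddCommGroup Y] [Module k Y]
    (d : HopfRep.Comod k A X) (d' : HopfRep.Comod k A Y) (f : Module.Dual k X) (g : Module.Dual k Y)
    (x : X) (y : Y) :
    cfx (Comod.tensor d d') ((TensorProduct.lid k k).toLinearMap ∘ₗ TensorProduct.map f g) (x ⊗ₜ y)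
      = cfx d f x * cfx d' g y := by
  change TensorProduct.lid k A (LinearMap.rTensor A _ ((Comod.tensor d d').coact (x ⊗ₜ y))) =
    TensorProduct.lid k A (f.rTensor A (d.coact x)) * TensorProduct.lid k A (g.rTensor A (d'.coact y))
  rw [tensor_coact_tmul]
  induction d.coact x using TensorProduct.induction_on with
  | zero => simp
  | add a b ha hb => simp only [add_tmul, map_add, ha, hb, add_mul]
  | tmul x₀ a =>
    induction d'.coact y using TensorProduct.induction_on with
    | zero => simp
    | add p q hp hq => simp only [tmul_add, map_add, hp, hq, mul_add]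
    | tmul y₀ b => simp [mul_comm, smul_smul]

theorem mul_mem_cspan_tpow (m : ℕ) {a b : A} (ha : a ∈ cspan (Comod.tpow c m)) (hb : b ∈ cspan c) :
    a * b ∈ cspan (Comod.tpow c (m + 1)) := by
  let e1 := (PiTensorProduct.subsingletonEquiv (R := k) (s := fun _ : Fin 1 => U) (0 : Fin 1)).symm
  let e2 := TensorPower.mulEquiv (R := k) (M := U) (n := m) (m := 1)
  induction ha using Submodule.iSup_induction' with
  | mem f a ha =>
    obtain ⟨x, rfl⟩ := ha
    induction hb using Submodule.iSup_induction' with
    | mem g b hb =>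
      obtain ⟨y, rfl⟩ := hb
      let g' : Module.Dual k (TensorPower k 1 U) := g ∘ₗ (e1.symm : TensorPower k 1 U →ₗ[k] U)
      have hy : cfx (Comod.tpowOne c) g' (e1 y) = cfx c g y := by
        rw [Comod.tpowOne, cfx_ofEquiv]
        congr 2
        ext u
        simp [g', e1]
      let h : Module.Dual k (TensorPower k m U ⊗[k] TensorPower k 1 U) :=
        (TensorProduct.lid k k).toLinearMap ∘ₗ TensorProduct.map f g'
      have key := cfx_tensor (Comod.tpow c m) (Comod.tpowOne c) f g' x (e1 y)
      rw [hy] at key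
      have h2 : cfx (Comod.tpow c (m + 1)) (h ∘ₗ (e2.symm : _ →ₗ[k] _)) (e2 (x ⊗ₜ e1 y))
          = cfx (Comod.tensor (Comod.tpow c m) (Comod.tpowOne c)) h (x ⊗ₜ e1 y) := by
        rw [tpow_succ, cfx_ofEquiv]
        congr 2
        refine LinearMap.ext fun z => ?_
        simp [e2]
      rw [key] at h2
      exact h2 ▸ cfx_mem_cspan _ _ _
    | zero => simp
    | add p q _ _ hp hq => rw [mul_add]; exact add_mem hp hq
  | zero => simp
  | add p q _ _ hp hq => rw [add_mul]; exact add_mem hp hq

theorem one_mem_cspan_zero : (1 : A) ∈ cspan (Comod.tpow c 0) := by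
  let e0 := (PiTensorProduct.isEmptyEquiv (Fin 0) (R := k) (s := fun _ : Fin 0 => U)).symm
  have h : cfx (Comod.tpow c 0) (e0.symm : TensorPower k 0 U →ₗ[k] k) (e0 1) = 1 := by
    rw [tpow_zero, cfx_ofEquiv]
    change TensorProduct.lid k A (LinearMap.rTensor A _ ((1 : k) ⊗ₜ[k] (1 : A))) = 1
    simp [e0]
  exact h ▸ cfx_mem_cspan _ _ _

theorem cspan_tpow_eq_top (hgen : Algebra.adjoin k (cspan c : Set A) = ⊤) (a : A) :
    a ∈ ⨆ m : ℕ, cspan (Comod.tpow c m) := by
  have ha : a ∈ Algebra.adjoin k (cspan c : Set A) := hgen ▸ trivial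
  rw [← Subalgebra.mem_toSubmodule, Algebra.adjoin_eq_span] at ha
  refine Submodule.span_le.2 (fun x hx => ?_) ha
  induction hx using Submonoid.closure_induction_right with
  | one => exact Submodule.mem_iSup_of_mem 0 (one_mem_cspan_zero c)
  | mul_right x _ y hy ih =>
    refine Submodule.iSup_induction' _ (motive := fun x _ => x * y ∈ ⨆ m, cspan (Comod.tpow c m))
      (fun m x hx => ?_) (by simp) (fun p q _ _ hp hq => by rw [add_mul]; exact add_mem hp hq) ih
    exact Submodule.mem_iSup_of_mem (m + 1) (mul_mem_cspan_tpow c m hx hy)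

/-- every finite-dimensional comodule is a subquotient of a finite sum of tensor powers -/
theorem exists_subquotient (hgen : Algebra.adjoin k (cspan c : Set A) = ⊤) (W : Type u)
    [AddCommGroup W] [Module k W] [Module.Finite k W] (σ : HopfRep.Comod k A W) :
    ∃ (b : ℕ) (m : Fin b → ℕ) (E' : Submodule k ((i : Fin b) → TensorPower k (m i) U))
      (τ : E' →ₗ[k] E' ⊗[k] A) (q : E' →ₗ[k] W),
      Function.Surjective q ∧
      (E'.subtype.rTensor A) ∘ₗ τ = (Comod.pi fun i : Fin b => Comod.tpow c (m i)).coact ∘ₗ E'.subtype ∧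
      (q.rTensor A) ∘ₗ τ = σ.coact ∘ₗ q := by
  classical
  letI := σ
  let bs := Module.finBasis k W
  set L := Module.finrank k W
  let ψ0 : W →ₗ[k] Fin L → A := LinearMap.pi fun l => cf (A := A) (bs.coord l)
  have hψ0 : Function.Injective ψ0 := by
    intro x y h
    refine bs.ext_elem fun l => ?_
    have h2 := congrArg (fun z : Fin L → A => Coalgebra.counit (R := k) (z l)) h
    simp only [ψ0, LinearMap.pi_apply, apply_cf, fAct_counit, LinearMap.id_apply] at h2
    exact h2
  -- finitely many coefficient maps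
  let idx := Σ m : ℕ, Module.Dual k (TensorPower k m U)
  let R : idx → Submodule k A := fun i => LinearMap.range (cfx (Comod.tpow c i.1) i.2)
  have hR : ∀ a, a ∈ ⨆ i, R i := fun a => by
    have hle : (⨆ m : ℕ, cspan (Comod.tpow c m)) ≤ ⨆ i, R i :=
      iSup_le fun m => iSup_le fun f => le_iSup R ⟨m, f⟩
    exact hle (cspan_tpow_eq_top c hgen a)
  have hfin : ∀ p : Fin L × Fin L, ∃ s : Finset idx, ψ0 (bs p.1) p.2 ∈ ⨆ i ∈ s, R i := fun p =>
    Submodule.exists_finset_of_mem_iSup R (hR _)
  choose S hS using hfin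
  let T : Finset idx := Finset.univ.biUnion S
  have hT : ∀ (w : W) (l : Fin L), ψ0 w l ∈ ⨆ i ∈ T, R i := by
    intro w l
    have : w = ∑ j, bs.repr w j • bs j := (bs.sum_repr w).symm
    rw [this, map_sum, Finset.sum_apply]
    refine Submodule.sum_mem _ fun j _ => ?_
    rw [map_smul, Pi.smul_apply]
    have hle : (⨆ i ∈ S (j, l), R i) ≤ ⨆ i ∈ T, R i :=
      biSup_mono fun i hi => Finset.mem_biUnion.2 ⟨(j, l), Finset.mem_univ _, hi⟩
    exact Submodule.smul_mem _ _ (hle (hS (j, l)))
  let eN := (Fintype.equivFin (Fin L × T))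
  set b := Fintype.card (Fin L × T)
  let m : Fin b → ℕ := fun r => (eN.symm r).2.1.1
  let g : ∀ r : Fin b, TensorPower k (m r) U →ₗ[k] A := fun r =>
    cfx (Comod.tpow c (m r)) (eN.symm r).2.1.2
  letI cE : HopfRep.Comod k A ((r : Fin b) → TensorPower k (m r) U) := Comod.pi fun i : Fin b => Comod.tpow c (m i)
  let Ψ : ((r : Fin b) → TensorPower k (m r) U) →ₗ[k] Fin L → A := ∑ r : Fin b,
    LinearMap.single k (fun _ : Fin L => A) (eN.symm r).1 ∘ₗ g r ∘ₗ LinearMap.proj r
  have hΨ : ∀ (x : ((r : Fin b) → TensorPower k (m r) U)) (l : Fin L), Ψ x l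
      = ∑ r : Fin b, (Pi.single (eN.symm r).1 (g r (x r)) : Fin L → A) l := fun x l => by
    simp [Ψ, Finset.sum_apply]
  have hsurj : ∀ w, ∃ x : ((r : Fin b) → TensorPower k (m r) U), Ψ x = ψ0 w := by
    intro w
    suffices h : ψ0 w ∈ LinearMap.range Ψ from h
    rw [← Finset.univ_sum_single (ψ0 w)]
    refine Submodule.sum_mem _ fun l _ => ?_
    have hle : (⨆ i ∈ T, R i) ≤ (LinearMap.range Ψ).comap (LinearMap.single k (fun _ : Fin L => A) l) := by
      refine iSup₂_le fun i hi => ?_
      rintro _ ⟨z, rfl⟩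
      have key : ∀ (r : Fin b), ∀ z : TensorPower k (m r) U,
          LinearMap.single k (fun _ : Fin L => A) (eN.symm r).1 (g r z) ∈ LinearMap.range Ψ := by
        intro r z
        refine ⟨Pi.single r z, ?_⟩
        funext l'
        rw [hΨ, Finset.sum_eq_single r (fun r' _ hr' => by simp [Pi.single_eq_of_ne hr'])
          (fun h => absurd (Finset.mem_univ r) h), Pi.single_eq_same]
        rfl
      have h2 : ∀ (p : Fin L × T) (z : TensorPower k p.2.1.1 U),
          LinearMap.single k (fun _ : Fin L => A) p.1 (cfx (Comod.tpow c p.2.1.1) p.2.1.2 z)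
            ∈ LinearMap.range Ψ := by
        intro p
        obtain ⟨r, rfl⟩ := eN.symm.surjective p
        exact key r
      exact h2 (l, ⟨i, hi⟩) z
    exact hle (hT w l)
  -- equivariance
  have hgA : ∀ (r : Fin b) (φ : A →ₗ[k] k) (z : TensorPower k (m r) U),
      g r (@fAct k _ A _ _ _ (TensorPower k (m r) U) _ _ (Comod.tpow c (m r)) φ z) = fAct A φ (g r z) := by
    intro r φ z
    letI := Comod.tpow c (m r)
    exact fAct_comm_of_isComodHom (isComodHom_cf _) φ z
  have hE : ∀ (φ : A →ₗ[k] k) (x : ((r : Fin b) → TensorPower k (m r) U)) (r : Fin b), fAct ((r : Fin b) → TensorPower k (m r) U) φ x r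
      = @fAct k _ A _ _ _ (TensorPower k (m r) U) _ _ (Comod.tpow c (m r)) φ (x r) := by
    intro φ x r
    rw [fAct_apply]
    change TensorProduct.rid k ((r : Fin b) → TensorPower k (m r) U) (φ.lTensor ((r : Fin b) → TensorPower k (m r) U) ((Comod.pi fun i : Fin b => Comod.tpow c (m i)).coact x)) r = _
    rw [pi_coact, map_sum, map_sum, Finset.sum_apply, Finset.sum_eq_single r]
    · simp only [fAct, LinearMap.comp_apply, LinearEquiv.coe_coe]
      induction (Comod.tpow c (m r)).coact (x r) using TensorProduct.induction_on with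
      | zero => simp
      | add p q hp hq => simp only [map_add, Pi.add_apply, hp, hq]
      | tmul p a => simp
    · intro j _ hj
      induction (Comod.tpow c (m j)).coact (x j) using TensorProduct.induction_on with
      | zero => simp
      | add p q hp hq => simp only [map_add, Pi.add_apply, hp, hq, add_zero]
      | tmul p a => simp [Pi.single_eq_of_ne (Ne.symm hj)]
    · intro h; exact absurd (Finset.mem_univ r) h
  have hΨact : ∀ (φ : A →ₗ[k] k) (x : ((r : Fin b) → TensorPower k (m r) U)) (l : Fin L), Ψ (fAct ((r : Fin b) → TensorPower k (m r) U) φ x) l = fAct A φ (Ψ x l) := by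
    intro φ x l
    rw [hΨ, hΨ, map_sum]
    refine Finset.sum_congr rfl fun r _ => ?_
    rw [hE, hgA]
    by_cases h : (eN.symm r).1 = l
    · subst h; simp
    · simp [Pi.single_eq_of_ne (Ne.symm h)]
  have hψact : ∀ (φ : A →ₗ[k] k) (w : W) (l : Fin L), ψ0 (fAct W φ w) l = fAct A φ (ψ0 w l) :=
    fun φ w l => fAct_comm_of_isComodHom (isComodHom_cf _) φ w
  let E' : Submodule k ((r : Fin b) → TensorPower k (m r) U) := (LinearMap.range ψ0).comap Ψ
  let inv := (LinearEquiv.ofInjective ψ0 hψ0).symm.toLinearMap
  let q : E' →ₗ[k] W := inv ∘ₗ (Ψ.restrict (p := E') (q := LinearMap.range ψ0) fun x hx => hx)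
  have hq : ∀ x : E', ψ0 (q x) = Ψ x := fun x => by
    change ψ0 ((LinearEquiv.ofInjective ψ0 hψ0).symm ⟨Ψ x, x.2⟩) = Ψ x
    exact congrArg Subtype.val ((LinearEquiv.ofInjective ψ0 hψ0).apply_symm_apply ⟨Ψ x, x.2⟩)
  have hsub : HopfRep.IsSubcomod (k := k) (A := A) E' := isSubcomod_iff.2 fun φ x hx => by
    obtain ⟨w, hw⟩ := hx
    exact ⟨fAct W φ w, funext fun l => by rw [hψact, hw, hΨact]⟩
  have hinj : Function.Injective (E'.subtype.rTensor A) :=
    Module.Flat.rTensor_preserves_injective_linearMap E'.subtype E'.injective_subtype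
  let e := LinearEquiv.ofInjective (E'.subtype.rTensor A) hinj
  let τ : E' →ₗ[k] E' ⊗[k] A := e.symm.toLinearMap ∘ₗ
    ((cE.coact ∘ₗ E'.subtype).codRestrict (LinearMap.range (E'.subtype.rTensor A)) fun x => hsub x x.2)
  have hτ : (E'.subtype.rTensor A) ∘ₗ τ = cE.coact ∘ₗ E'.subtype := by
    refine LinearMap.ext fun x => ?_
    exact congrArg Subtype.val (e.apply_symm_apply ⟨_, hsub x x.2⟩)
  refine ⟨b, m, E', τ, q, fun w => ?_, hτ, ?_⟩
  · obtain ⟨x, hx⟩ := hsurj w
    exact ⟨⟨x, w, hx.symm⟩, hψ0 (by rw [hq, hx])⟩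
  · refine LinearMap.ext fun x => ?_
    let B := Module.Basis.ofVectorSpace k A
    refine (TensorProduct.equivFinsuppOfBasisRight B).injective (Finsupp.ext fun i => ?_)
    rw [TensorProduct.equivFinsuppOfBasisRight_apply, TensorProduct.equivFinsuppOfBasisRight_apply]
    apply hψ0
    funext l
    change ψ0 (TensorProduct.rid k W ((B.coord i).lTensor W (q.rTensor A (τ x)))) l
      = ψ0 (TensorProduct.rid k W ((B.coord i).lTensor W (σ.coact (q x)))) l
    have hnat : TensorProduct.rid k W ((B.coord i).lTensor W (q.rTensor A (τ x)))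
        = q (TensorProduct.rid k E' ((B.coord i).lTensor E' (τ x))) := by
      induction τ x using TensorProduct.induction_on with
      | zero => simp
      | add u v hu hv => simp only [map_add, hu, hv]
      | tmul u a => simp
    have hnat2 : (TensorProduct.rid k E' ((B.coord i).lTensor E' (τ x)) : ((r : Fin b) → TensorPower k (m r) U))
        = fAct ((r : Fin b) → TensorPower k (m r) U) (B.coord i) x := by
      rw [fAct_apply, show cE.coact (x : ((r : Fin b) → TensorPower k (m r) U)) = (E'.subtype.rTensor A) (τ x) from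
        (LinearMap.congr_fun hτ x).symm]
      induction τ x using TensorProduct.induction_on with
      | zero => simp
      | add u v hu hv => simp only [map_add, Submodule.coe_add, hu, hv]
      | tmul u a => simp
    rw [hnat, hq, hnat2, ← fAct_apply, hψact, hq, hΨact]

end Groth.L08.TensorGen
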