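import Groth.Agent.L08.FrobFlat
import Groth.Agent.L08.TruncatedHopf
import Groth.Agent.L08.SubgroupObj
import Groth.Agent.L08.ProfiniteImage
import Groth.Agent.L25.GrpDeriv
import Groth.Agent.L07.SyntFieldExtra
import Mathlib.AlgebraicGeometry.Group.Affine
import Mathlib.AlgebraicGeometry.AlgClosed.Basic

/-!
# Group schemes over algebraically closed fields have complete intersection local rings
-/

set_option autoImplicit false
set_option backward.isDefEq.respectTransparency.types false

universe u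

open CategoryTheory CategoryTheory.Limits AlgebraicGeometry MonoidalCategory MonObj CartesianMonoidalCategory TensorProduct

noncomputable section

namespace Groth.L08.GrpLCI

open Groth.L25.GrpDeriv Groth.L08.ProfiniteImage Groth.L08.FrobFlat

theorem isCI_trunc {k : Type u} [Field k] {r : ℕ} (N : Fin r → ℕ) (hN : ∀ i, 0 < N i)
    [IsLocalRing (TruncatedHopf.Trunc k N)] : Pi1.IsCompleteIntersection (TruncatedHopf.Trunc k N) := by
  haveI := TruncatedHopf.finite_trunc (k := k) N hN
  let S := TruncatedHopf.Trunc k N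
  haveI : IsArtinianRing S := IsArtinianRing.of_finite k S
  have hd : ringKrullDim S = 0 := ringKrullDimZero_iff_ringKrullDim_eq_zero.1 inferInstance
  have hG : Synt.IsGlobalCI k S := Or.inr ⟨r, r, le_rfl, Ideal.Quotient.mkₐ k _, fun i => MvPolynomial.X i ^ N i,
    Ideal.Quotient.mk_surjective, Ideal.mk_ker, by simpa using hd⟩
  let 𝔪 := IsLocalRing.maximalIdeal S
  have h1 := (Groth.L07.Synt.isCI_atPrime_iff_exists (k := k) 𝔪).2
    ⟨1, fun h => 𝔪.ne_top_iff_one.1 (IsLocalRing.maximalIdeal.isMaximal S).ne_top h,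
      Groth.L07.Synt.isGlobalCI_away_of_isGlobalCI 1 hG⟩
  exact Groth.L07.Avramov.isCompleteIntersection_of_ringEquiv
    (IsLocalization.atUnits S 𝔪.primeCompl (S := Localization.AtPrime 𝔪) fun x hx => IsLocalRing.notMem_maximalIdeal.1 hx).symm.toRingEquiv h1

variable {k : Type u} [Field k] (p : ℕ) [hp : Fact p.Prime] [CharP k p]

omit hp [CharP k p] in
theorem factor {G : Over (Spec (CommRingCat.of k))} [GrpObj G] {U : G.left.Opens} (hU : IsAffineOpen U)
    [Algebra k Γ(G.left, U)]
    (halg : hU.fromSpec ≫ G.hom = Spec.map (CommRingCat.ofHom (algebraMap k Γ(G.left, U))))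
    (hone : pt (1 : 𝟙_ (Over (Spec (CommRingCat.of k))) ⟶ G) ∈ U)
    (χ : Γ(G.left, U) →ₐ[k] k) (hχ : Spec.map (CommRingCat.ofHom χ.toRingHom) ≫ hU.fromSpec = η[G].left)
    (q : ℕ) {C : Type u} [CommRing C] [Algebra k C] (εC : C →ₐ[k] k) (hC : ∀ c, εC c = 0 → c ^ q = 0)
    (f : sp (K := k) C ⟶ G) (hf : Spec.map (CommRingCat.ofHom εC.toRingHom) ≫ f.left = η[G].left) :
    ∃ ψ : Γ(G.left, U) →ₐ[k] C, Spec.map (CommRingCat.ofHom ψ.toRingHom) ≫ hU.fromSpec = f.left ∧
      ∀ a, χ a = 0 → ψ a ^ q = 0 := by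
  have hone' : η[G].left (IsLocalRing.closedPoint k) ∈ U := by
    have : (1 : 𝟙_ (Over (Spec (CommRingCat.of k))) ⟶ G) = η[G] := by
      rw [Hom.one_def, toUnit_unique (toUnit (𝟙_ (Over (Spec (CommRingCat.of k))))) (𝟙 _), Category.id_comp]
    rw [← this]; exact hone
  have hrange : Set.range f.left ⊆ (U : Set G.left) := by
    rintro _ ⟨P, rfl⟩
    have hP : P = Spec.map (CommRingCat.ofHom εC.toRingHom) (IsLocalRing.closedPoint k) := by
      refine PrimeSpectrum.ext ?_
      change P.asIdeal = Ideal.comap εC.toRingHom (IsLocalRing.maximalIdeal k)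
      rw [IsLocalRing.maximalIdeal_eq_bot, ← RingHom.ker_eq_comap_bot]
      have hmax : (RingHom.ker εC.toRingHom).IsMaximal :=
        RingHom.ker_isMaximal_of_surjective _ fun c => ⟨algebraMap k C c, εC.commutes c⟩
      exact (hmax.eq_of_le P.2.ne_top fun c hc => P.2.mem_of_pow_mem q (by rw [hC c hc]; exact zero_mem _)).symm
    rw [hP]
    show (Spec.map (CommRingCat.ofHom εC.toRingHom) ≫ f.left) _ ∈ U
    rw [hf]
    exact hone'
  let g := IsOpenImmersion.lift hU.fromSpec f.left (by rwa [hU.range_fromSpec])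
  have hg : g ≫ hU.fromSpec = f.left := IsOpenImmersion.lift_fac _ _ _
  obtain ⟨ψ₀, hψ₀⟩ := Spec.map_surjective g
  have hψk : ψ₀.hom.comp (algebraMap k Γ(G.left, U)) = algebraMap k C := by
    have h : Spec.map (CommRingCat.ofHom (algebraMap k Γ(G.left, U)) ≫ ψ₀) =
        Spec.map (CommRingCat.ofHom (algebraMap k C)) := by
      rw [Spec.map_comp, hψ₀, ← halg, ← Category.assoc]; erw [hg]
      exact Over.w f
    exact congrArg CommRingCat.Hom.hom (Spec.map_injective h)
  let ψ : Γ(G.left, U) →ₐ[k] C := { ψ₀.hom with commutes' := fun r => RingHom.congr_fun hψk r }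
  have hψ : Spec.map (CommRingCat.ofHom ψ.toRingHom) = g := hψ₀
  refine ⟨ψ, by rw [hψ]; exact hg, fun a ha => hC _ ?_⟩
  have h1 : CommRingCat.ofHom ψ.toRingHom ≫ CommRingCat.ofHom εC.toRingHom = CommRingCat.ofHom χ.toRingHom := by
    apply Spec.map_injective
    rw [Spec.map_comp, hψ, ← cancel_mono hU.fromSpec, Category.assoc]; erw [hg, hf, hχ]
  exact (RingHom.congr_fun (congrArg CommRingCat.Hom.hom h1) a).trans ha

/-- The fibre of Frobenius powers at the identity is a complete intersection. -/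
theorem isCI_fibre_one [PerfectRing k p] (G : Over (Spec (CommRingCat.of k))) [GrpObj G] [LocallyOfFiniteType G.hom]
    (N : ℕ) (R : Type u) [CommRing R] [IsLocalRing R]
    (e : G.left.presheaf.stalk (pt (1 : 𝟙_ (Over (Spec (CommRingCat.of k))) ⟶ G)) ≃+* R)
    [IsLocalRing (R ⧸ maxPow R (p ^ N))] [IsNoetherianRing (R ⧸ maxPow R (p ^ N))] :
    Pi1.IsCompleteIntersection (R ⧸ maxPow R (p ^ N)) := by
  classical
  let q := p ^ N
  have hq : 0 < q := pow_pos hp.out.pos N
  obtain ⟨_, ⟨U, hU, rfl⟩, hone, -⟩ := G.left.isBasis_affineOpens.exists_subset_of_mem_open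
    (Set.mem_univ (pt (1 : 𝟙_ (Over (Spec (CommRingCat.of k))) ⟶ G))) isOpen_univ
  obtain ⟨φ, hφ⟩ := Spec.map_surjective (hU.fromSpec ≫ G.hom)
  letI : Algebra k Γ(G.left, U) := φ.hom.toAlgebra
  have halg : hU.fromSpec ≫ G.hom = Spec.map (CommRingCat.ofHom (algebraMap k Γ(G.left, U))) := hφ.symm
  haveI : Algebra.FiniteType k Γ(G.left, U) := by
    rw [← RingHom.finiteType_algebraMap]
    refine (HasRingHomProperty.Spec_iff (P := @LocallyOfFiniteType) (φ := CommRingCat.ofHom (algebraMap k Γ(G.left, U)))).1 ?_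
    rw [← halg]; infer_instance
  let A := Γ(G.left, U)
  have hone1 : (1 : 𝟙_ (Over (Spec (CommRingCat.of k))) ⟶ G) = η[G] := by
    rw [Hom.one_def, toUnit_unique (toUnit (𝟙_ (Over (Spec (CommRingCat.of k))))) (𝟙 _), Category.id_comp]
  have hrange1 : Set.range η[G].left ⊆ Set.range hU.fromSpec := by
    rw [hU.range_fromSpec]
    rintro _ ⟨t, rfl⟩
    obtain rfl : t = IsLocalRing.closedPoint k := Subsingleton.elim (α := PrimeSpectrum k) _ _
    change η[G].left _ ∈ U
    rw [← hone1]; exact hone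
  let g₀ := IsOpenImmersion.lift hU.fromSpec η[G].left hrange1
  have hg₀ : g₀ ≫ hU.fromSpec = η[G].left := IsOpenImmersion.lift_fac _ _ _
  obtain ⟨χ₀, hχ₀⟩ := Spec.map_surjective g₀
  have hχk : χ₀.hom.comp (algebraMap k A) = RingHom.id k := by
    have h : Spec.map (CommRingCat.ofHom (algebraMap k A) ≫ χ₀) = Spec.map (CommRingCat.ofHom (RingHom.id k)) := by
      rw [Spec.map_comp, hχ₀, ← halg, ← Category.assoc]; erw [hg₀]
      exact (Over.w η[G]).trans (Spec.map_id _).symm
    exact congrArg CommRingCat.Hom.hom (Spec.map_injective h)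
  let χ : A →ₐ[k] k := { χ₀.hom with commutes' := fun r => RingHom.congr_fun hχk r }
  have hχ : Spec.map (CommRingCat.ofHom χ.toRingHom) ≫ hU.fromSpec = η[G].left := by
    rw [show Spec.map (CommRingCat.ofHom χ.toRingHom) = g₀ from hχ₀, hg₀]
  -- the kernel of Frobenius
  haveI : Nontrivial A := RingHom.domain_nontrivial χ.toRingHom
  let M : Ideal A := RingHom.ker χ
  let Mq : Ideal A := Ideal.span ((fun a : A => a ^ q) '' (M : Set A))
  have hMq : Mq ≤ M := Ideal.span_le.2 (by rintro _ ⟨a, ha, rfl⟩; exact Ideal.pow_mem_of_mem _ ha q hq)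
  let F := A ⧸ Mq
  let εF : F →ₐ[k] k := Ideal.Quotient.liftₐ Mq χ fun a ha => hMq ha
  haveI : Nontrivial F := RingHom.domain_nontrivial εF.toRingHom
  haveI : CharP F p := charP_of_injective_algebraMap (algebraMap k F).injective p
  have hεF : ∀ c, εF c = 0 → c ^ q = 0 := fun c hc => by
    obtain ⟨a, rfl⟩ := Ideal.Quotient.mk_surjective c
    rw [← map_pow, Ideal.Quotient.eq_zero_iff_mem]
    exact Ideal.subset_span ⟨a, hc, rfl⟩
  let ιF : sp (K := k) F ⟶ G := Over.homMk
    (Spec.map (CommRingCat.ofHom (Ideal.Quotient.mkₐ k Mq).toRingHom) ≫ hU.fromSpec) (by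
      show (_ ≫ _) ≫ G.hom = Spec.map _
      rw [Category.assoc, halg, ← Spec.map_comp]
      rfl)
  haveI : Mono ιF := by
    haveI : IsClosedImmersion (Spec.map (CommRingCat.ofHom (Ideal.Quotient.mkₐ k Mq).toRingHom)) :=
      IsClosedImmersion.spec_of_surjective _ Ideal.Quotient.mk_surjective
    haveI h1 : Mono (Spec.map (CommRingCat.ofHom (Ideal.Quotient.mkₐ k Mq).toRingHom)) :=
      SurjectiveOnStalks.mono_of_injective
        (Spec.map (CommRingCat.ofHom (Ideal.Quotient.mkₐ k Mq).toRingHom)).isClosedEmbedding.injective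
    haveI : Mono ιF.left := @mono_comp _ _ _ _ _ _ h1 hU.fromSpec inferInstance
    exact Over.mono_of_mono_left ιF
  have hfac : ∀ {C : Type u} [CommRing C] [Algebra k C] (εC : C →ₐ[k] k) (_ : ∀ c, εC c = 0 → c ^ q = 0)
      (f : sp (K := k) C ⟶ G), Spec.map (CommRingCat.ofHom εC.toRingHom) ≫ f.left = η[G].left →
      ∃ z : sp (K := k) C ⟶ sp (K := k) F, z ≫ ιF = f := by
    intro C _ _ εC hC f hf
    obtain ⟨ψ, hψ, hψq⟩ := factor hU halg hone χ hχ q εC hC f hf
    have hker : Mq ≤ RingHom.ker ψ := Ideal.span_le.2 (by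
      rintro _ ⟨a, ha, rfl⟩
      show ψ (a ^ q) = 0
      rw [map_pow]; exact hψq a ha)
    refine ⟨spMap (Ideal.Quotient.liftₐ Mq ψ hker), Over.OverMorphism.ext ?_⟩
    show Spec.map _ ≫ Spec.map _ ≫ hU.fromSpec = f.left
    rw [← Spec.map_comp_assoc, ← hψ]
    rfl
  let εT : sp (K := k) k ⟶ sp (K := k) F := spMap εF
  have hεT : Spec.map (CommRingCat.ofHom εF.toRingHom) ≫ ιF.left = η[G].left := by
    show _ ≫ Spec.map _ ≫ hU.fromSpec = _
    rw [← Spec.map_comp_assoc, ← hχ]
    rfl
  -- the unit object is `Spec k`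
  let u₀ : 𝟙_ (Over (Spec (CommRingCat.of k))) ⟶ sp (K := k) k := Over.homMk (𝟙 _) (by
    show 𝟙 _ ≫ Spec.map _ = 𝟙 _
    rw [Category.id_comp]; exact Spec.map_id _)
  have hid : ∀ f : sp (K := k) k ⟶ G, f.left = η[G].left → u₀ ≫ f = (1 : 𝟙_ (Over (Spec (CommRingCat.of k))) ⟶ G) :=
    fun f hf => by rw [hone1]; exact Over.OverMorphism.ext ((Category.id_comp f.left).trans hf)
  have hback : ∀ f : sp (K := k) k ⟶ G, u₀ ≫ f = (1 : 𝟙_ (Over (Spec (CommRingCat.of k))) ⟶ G) → f.left = η[G].left :=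
    fun f hf => by rw [hone1] at hf; exact (Category.id_comp f.left).symm.trans (congrArg (fun x => x.left) hf)
  obtain ⟨gT, -⟩ : ∃ _ : GrpObj (sp (K := k) F), IsMonHom ιF := by
    refine Groth.L08.exists_grpObj_of_mono ιF ?_ ?_ ?_
    · refine ⟨u₀ ≫ εT, ?_⟩
      rw [Category.assoc, hid (εT ≫ ιF) hεT, hone1]
    · -- the product
      let εFF : F ⊗[k] F →ₐ[k] k := Algebra.TensorProduct.lift εF εF fun _ _ => Commute.all _ _
      haveI : Nontrivial (F ⊗[k] F) := RingHom.domain_nontrivial εFF.toRingHom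
      haveI : CharP (F ⊗[k] F) p := charP_of_injective_algebraMap (algebraMap k (F ⊗[k] F)).injective p
      have hFF : ∀ w, εFF w = 0 → w ^ q = 0 := by
        have key : ∀ w, w ^ q = algebraMap k _ (εFF w ^ q) := by
          intro w
          induction w with
          | zero => simp [zero_pow hq.ne']
          | add a b ha hb => rw [add_pow_char_pow, ha, hb, map_add εFF, add_pow_char_pow, map_add]
          | tmul x y =>
            have h : ∀ c : F, c ^ q = algebraMap k F (εF c ^ q) := fun c => by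
              have := hεF (c - algebraMap k F (εF c)) (by simp)
              rwa [sub_pow_char_pow, sub_eq_zero, ← map_pow] at this
            rw [Algebra.TensorProduct.tmul_pow, h x, h y, Algebra.TensorProduct.lift_tmul, mul_pow,
              Algebra.algebraMap_eq_smul_one, Algebra.algebraMap_eq_smul_one, TensorProduct.smul_tmul_smul,
              ← Algebra.TensorProduct.one_def, Algebra.algebraMap_eq_smul_one]
        intro w hw
        rw [key, hw, zero_pow hq.ne', map_zero]
      let E : sp (K := k) (F ⊗[k] F) ≅ sp (K := k) F ⊗ sp (K := k) F :=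
        Over.isoMk (pullbackSpecIso k F F).symm (by
          show (pullbackSpecIso k F F).inv ≫ pullback.fst _ _ ≫ Spec.map _ = Spec.map _
          rw [pullbackSpecIso_inv_fst_assoc, ← Spec.map_comp, ← CommRingCat.ofHom_comp])
      let m : sp (K := k) F ⊗ sp (K := k) F ⟶ G := (fst _ _ ≫ ιF) * (snd _ _ ≫ ιF)
      have hs1 : spMap εFF ≫ E.hom ≫ fst _ _ = εT := by
        apply Over.OverMorphism.ext
        show Spec.map _ ≫ (pullbackSpecIso k F F).inv ≫ pullback.fst _ _ = Spec.map _
        rw [pullbackSpecIso_inv_fst, ← Spec.map_comp]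
        congr 1
        ext c
        show εFF (c ⊗ₜ 1) = εF c
        rw [Algebra.TensorProduct.lift_tmul, map_one, _root_.mul_one]
      have hs2 : spMap εFF ≫ E.hom ≫ snd _ _ = εT := by
        apply Over.OverMorphism.ext
        show Spec.map _ ≫ (pullbackSpecIso k F F).inv ≫ pullback.snd _ _ = Spec.map _
        rw [pullbackSpecIso_inv_snd, ← Spec.map_comp]
        congr 1
        ext c
        show εFF (1 ⊗ₜ c) = εF c
        rw [Algebra.TensorProduct.lift_tmul, map_one, _root_.one_mul]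
      obtain ⟨z, hz⟩ := hfac εFF hFF (E.hom ≫ m) (hback (spMap εFF ≫ E.hom ≫ m) (by
        simp only [m, MonObj.comp_mul]
        rw [reassoc_of% hs1, reassoc_of% hs2]
        rw [hid (εT ≫ ιF) hεT, _root_.mul_one]))
      exact ⟨E.inv ≫ z, by rw [Category.assoc, hz, Iso.inv_hom_id_assoc]⟩
    · obtain ⟨z, hz⟩ := hfac εF hεF ιF⁻¹ (hback (spMap εF ≫ ιF⁻¹) (by
        rw [GrpObj.comp_inv, GrpObj.comp_inv, hid (εT ≫ ιF) hεT, _root_.inv_one]))
      exact ⟨z, hz⟩
  haveI : Algebra.IsIntegral k F := ⟨fun c => by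
    refine IsIntegral.of_pow hq ?_
    have := hεF (c - algebraMap k F (εF c)) (by simp)
    rw [sub_pow_char_pow, sub_eq_zero, ← map_pow] at this
    rw [this]
    exact isIntegral_algebraMap⟩
  haveI : Module.Finite k F := Algebra.IsIntegral.finite
  haveI : IsArtinianRing F := IsArtinianRing.of_finite k F
  haveI hNF : IsNoetherianRing F := inferInstance
  -- its Hopf algebra
  letI hopf : HopfAlgebra k F := by
    let X := (algSpec (CommRingCat.of k)).obj (Opposite.op (CommAlgCat.of k F))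
    have e : sp (K := k) F ≅ X := Over.isoMk (Iso.refl _) (Category.id_comp _)
    letI : GrpObj X := GrpObj.ofIso e
    haveI : (algSpec (CommRingCat.of k)).Monoidal := (braidedAlgSpec (R := CommRingCat.of k)).toMonoidal
    letI : GrpObj (Opposite.op (CommAlgCat.of (CommRingCat.of k) F)) :=
      algSpec.fullyFaithful.grpObj (Opposite.op (CommAlgCat.of (CommRingCat.of k) F))
    exact ((commHopfAlgCatEquivCogrpCommAlgCat k).inverse.obj
      (Opposite.op (Grp.mk (Opposite.op (CommAlgCat.of k F))))).hopfAlgebra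
  have hkerle : ∀ (θ : F →ₐ[k] k) c, θ c = 0 → εF c = 0 := fun θ c hc => by
    have := hεF (c - algebraMap k F (εF c)) (by simp)
    have h2 := congrArg θ this
    rw [map_pow, map_sub, hc, AlgHom.commutes, map_zero] at h2
    have h3 := eq_zero_of_pow_eq_zero h2
    simpa using h3
  have hnil : IsNilpotent (RingHom.ker (Bialgebra.counitAlgHom k F)) :=
    (Ideal.FG.isNilpotent_iff_le_nilradical (hNF.noetherian _)).2 fun c hc =>
      mem_nilradical.2 ⟨q, hεF c (hkerle (Bialgebra.counitAlgHom k F) c hc)⟩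
  haveI : @Module.Finite k F _ _ (@Algebra.toModule k F _ _ hopf.toBialgebra.toAlgebra) :=
    (inferInstance : Module.Finite k F)
  obtain ⟨r, ex, -, ⟨E⟩⟩ := TruncatedHopf.exists_truncated p F hnil
  -- `F` is the fibre of the local ring
  have hMmax : M.IsMaximal := RingHom.ker_isMaximal_of_surjective _ fun c => ⟨algebraMap k A c, χ.commutes c⟩
  let x₁ : U := ⟨pt (1 : 𝟙_ (Over (Spec (CommRingCat.of k))) ⟶ G), hone⟩
  let S := G.left.presheaf.stalk x₁.1
  letI := G.left.presheaf.algebra_section_stalk x₁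
  haveI := hU.isLocalization_stalk x₁
  have hpr : (hU.primeIdealOf x₁).asIdeal = M := by
    have h1 : hU.primeIdealOf x₁ = g₀ (IsLocalRing.closedPoint k) := by
      apply hU.fromSpec.isOpenEmbedding.injective
      rw [hU.fromSpec_primeIdealOf, ← Scheme.Hom.comp_apply, hg₀]
      exact congrArg (fun f => f.left (IsLocalRing.closedPoint k)) hone1
    rw [h1, ← hχ₀]
    show Ideal.comap χ₀.hom (IsLocalRing.maximalIdeal k) = M
    rw [IsLocalRing.maximalIdeal_eq_bot, ← RingHom.ker_eq_comap_bot]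
    rfl
  haveI : IsLocalization.AtPrime S (hU.primeIdealOf x₁).asIdeal := hU.isLocalization_stalk x₁
  let c : A →+* R ⧸ maxPow R q :=
    (Ideal.Quotient.mk _).comp ((e : S →+* R).comp (algebraMap A S))
  have hcker : ∀ a ∈ Mq, c a = 0 := by
    intro a ha
    refine (Ideal.span_le (I := RingHom.ker c)).2 ?_ ha
    rintro _ ⟨b, hb, rfl⟩
    show c (b ^ q) = 0
    rw [map_pow, ← map_pow, show c (b ^ q) = Ideal.Quotient.mk _ ((e (algebraMap A S b)) ^ q) by simp [c],
      Ideal.Quotient.eq_zero_iff_mem]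
    refine Ideal.subset_span ⟨_, ?_, rfl⟩
    intro hu
    have h1 : IsUnit (algebraMap A S b) := by simpa using hu.map e.symm
    exact ((IsLocalization.AtPrime.isUnit_to_map_iff S (hU.primeIdealOf x₁).asIdeal b).1 h1) (hpr ▸ hb)
  let cF : F →+* R ⧸ maxPow R q := Ideal.Quotient.lift Mq c hcker
  have hunit : ∀ a ∉ M, IsUnit (Ideal.Quotient.mk Mq a) := by
    intro a ha
    have h1 : IsNilpotent (Ideal.Quotient.mk Mq a - algebraMap k F (χ a)) :=
      ⟨q, hεF _ (by rw [map_sub εF, AlgHom.commutes, sub_eq_zero]; rfl)⟩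
    have h2 := h1.isUnit_add_left_of_commute (RingHom.isUnit_map (algebraMap k F) (Ne.isUnit ha)) (Commute.all _ _)
    rwa [add_sub_cancel] at h2
  let dS : S →+* F := IsLocalization.lift (M := (hU.primeIdealOf x₁).asIdeal.primeCompl)
    (g := Ideal.Quotient.mk Mq) fun y => hunit y.1 (hpr ▸ y.2)
  have hdmax : ∀ s ∈ IsLocalRing.maximalIdeal S, dS s ^ q = 0 := by
    intro s hs
    obtain ⟨a, t, rfl⟩ := IsLocalization.exists_mk'_eq (hU.primeIdealOf x₁).asIdeal.primeCompl s
    have ha : a ∈ M := hpr ▸ (IsLocalization.AtPrime.mk'_mem_maximal_iff S _ a t).1 hs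
    rw [IsLocalization.mk'_eq_mul_mk'_one a t, map_mul, mul_pow, IsLocalization.lift_eq, ← map_pow,
      (Ideal.Quotient.eq_zero_iff_mem (I := Mq)).2 (Ideal.subset_span ⟨a, ha, rfl⟩ : a ^ q ∈ Mq), zero_mul]
  let dF : R ⧸ maxPow R q →+* F := Ideal.Quotient.lift _ (dS.comp (e.symm : R →+* S)) fun x hx => by
    refine (Ideal.span_le (I := RingHom.ker (dS.comp (e.symm : R →+* S)))).2 ?_ hx
    rintro _ ⟨y, hy, rfl⟩
    show dS (e.symm (y ^ q)) = 0
    rw [map_pow, map_pow]
    exact hdmax _ fun hu => hy (by simpa using hu.map e)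
  have hdc : ∀ a, dF (c a) = Ideal.Quotient.mk Mq a := fun a => by
    show dS (e.symm (e (algebraMap A S a))) = _
    rw [e.symm_apply_apply, IsLocalization.lift_eq]
  let Φ : F ≃+* R ⧸ maxPow R q := RingEquiv.ofRingHom cF dF (by
    refine Ideal.Quotient.ringHom_ext ?_
    have hee : ((Ideal.Quotient.mk (maxPow R q)).comp (e : S →+* R)).comp (e.symm : R →+* S) = Ideal.Quotient.mk _ := by
      ext x; simp
    conv_rhs => rw [RingHom.id_comp, ← hee]
    rw [RingHom.comp_assoc, Ideal.Quotient.lift_comp_mk, ← RingHom.comp_assoc]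
    congr 1
    refine IsLocalization.ringHom_ext (hU.primeIdealOf x₁).asIdeal.primeCompl ?_
    ext a
    show cF (dS (algebraMap A S a)) = _
    rw [IsLocalization.lift_eq]
    rfl) (by
    refine Ideal.Quotient.ringHom_ext ?_
    ext a
    exact hdc a)
  haveI : IsLocalRing F := Φ.symm.isLocalRing
  haveI : IsLocalRing (TruncatedHopf.Trunc k fun i => p ^ ex i) := E.toRingEquiv.isLocalRing
  haveI := TruncatedHopf.finite_trunc (k := k) (fun i => p ^ ex i) fun i => pow_pos hp.out.pos _
  haveI : IsNoetherianRing (TruncatedHopf.Trunc k fun i => p ^ ex i) := IsNoetherianRing.of_finite k _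
  exact Groth.L07.Avramov.isCompleteIntersection_of_ringEquiv (E.toRingEquiv.symm.trans Φ)
    (isCI_trunc _ fun i => pow_pos hp.out.pos _)

theorem exists_stalkEquiv [IsAlgClosed k] (G : Over (Spec (CommRingCat.of k))) [GrpObj G] [LocallyOfFiniteType G.hom]
    {x y : G.left} (hx : IsClosed ({x} : Set G.left)) (hy : IsClosed ({y} : Set G.left)) :
    Nonempty (G.left.presheaf.stalk x ≃+* G.left.presheaf.stalk y) := by
  let sx : 𝟙_ (Over (Spec (CommRingCat.of k))) ⟶ G :=
    Over.homMk _ ((pointEquivClosedPoint G.hom).symm ⟨x, hx⟩).2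
  let sy : 𝟙_ (Over (Spec (CommRingCat.of k))) ⟶ G :=
    Over.homMk _ ((pointEquivClosedPoint G.hom).symm ⟨y, hy⟩).2
  have hsx : pt sx = x := congrArg Subtype.val ((pointEquivClosedPoint G.hom).apply_symm_apply ⟨x, hx⟩)
  have hsy : pt sy = y := congrArg Subtype.val ((pointEquivClosedPoint G.hom).apply_symm_apply ⟨y, hy⟩)
  have h : (rt (sx⁻¹ * sy)).left x = y := by
    rw [← hsx, pt_rt, mul_inv_cancel_left, hsy]
  haveI := isIso_rt (sx⁻¹ * sy)
  rw [← h]
  exact ⟨(asIso ((rt (sx⁻¹ * sy)).left.stalkMap x)).commRingCatIsoToRingEquiv.symm⟩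

omit hp [CharP k p] in
theorem isCI_closedPoint [IsAlgClosed k] (G : Over (Spec (CommRingCat.of k))) [GrpObj G] [LocallyOfFiniteType G.hom]
    (x : G.left) (hx : IsClosed ({x} : Set G.left)) : Pi1.IsCompleteIntersection (G.left.presheaf.stalk x) := by
  haveI : IsLocallyNoetherian G.left := LocallyOfFiniteType.isLocallyNoetherian G.hom
  obtain ⟨p, hcp⟩ := CharP.exists k
  rcases CharP.char_is_prime_or_zero k p with hp | hp
  · haveI := Fact.mk hp
    haveI : PerfectRing k p := PerfectField.toPerfectRing p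
    let o := pt (1 : 𝟙_ (Over (Spec (CommRingCat.of k))) ⟶ G)
    obtain ⟨_, ⟨U, hU, rfl⟩, hoU, -⟩ := G.left.isBasis_affineOpens.exists_subset_of_mem_open
      (Set.mem_univ o) isOpen_univ
    obtain ⟨φ, hφ⟩ := Spec.map_surjective (hU.fromSpec ≫ G.hom)
    letI : Algebra k Γ(G.left, U) := φ.hom.toAlgebra
    haveI : Algebra.FiniteType k Γ(G.left, U) := by
      rw [← RingHom.finiteType_algebraMap]
      refine (HasRingHomProperty.Spec_iff (P := @LocallyOfFiniteType) (φ := φ)).1 ?_
      rw [hφ]; infer_instance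
    haveI : Nonempty U := ⟨⟨o, hoU⟩⟩
    haveI : Nontrivial Γ(G.left, U) := inferInstance
    obtain ⟨N, M, hM, hMci⟩ := FrobFlat.exists_ci_of_fibre (k := k) p Γ(G.left, U)
    let P : PrimeSpectrum Γ(G.left, U) := ⟨M, hM.isPrime⟩
    let y := hU.fromSpec P
    have hyU : y ∈ U := hU.range_fromSpec.le ⟨P, rfl⟩
    haveI := LocallyOfFiniteType.jacobsonSpace G.hom
    have hy : IsClosed ({y} : Set G.left) := by
      refine isClosed_singleton_of_isLocallyClosed_singleton ?_
      have h1 : IsClosed ({P} : Set (PrimeSpectrum Γ(G.left, U))) := (PrimeSpectrum.isClosed_singleton_iff_isMaximal P).2 hM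
      rw [← Set.image_singleton]
      exact h1.isLocallyClosed.image hU.fromSpec.isOpenEmbedding.isInducing
        hU.fromSpec.isOpenEmbedding.isOpen_range.isLocallyClosed
    letI := G.left.presheaf.algebra_section_stalk ⟨y, hyU⟩
    haveI := hU.isLocalization_stalk ⟨y, hyU⟩
    have hP : hU.primeIdealOf ⟨y, hyU⟩ = P :=
      hU.fromSpec.isOpenEmbedding.injective (hU.fromSpec_primeIdealOf _)
    haveI : IsLocalization M.primeCompl (G.left.presheaf.stalk y) := by
      have := hU.isLocalization_stalk ⟨y, hyU⟩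
      rw [hP] at this
      exact this
    let eR : Localization.AtPrime M ≃+* G.left.presheaf.stalk y :=
      (IsLocalization.algEquiv M.primeCompl _ _).toRingEquiv
    haveI : LocallyOfFiniteType G.hom := inferInstance
    have ho : IsClosed ({o} : Set G.left) :=
      ((pointEquivClosedPoint G.hom) ⟨(1 : 𝟙_ (Over (Spec (CommRingCat.of k))) ⟶ G).left, Over.w _⟩).2
    obtain ⟨t⟩ := exists_stalkEquiv G ho hy
    haveI : IsNoetherianRing (Localization.AtPrime M) :=
      haveI : IsNoetherianRing Γ(G.left, U) := Algebra.FiniteType.isNoetherianRing k _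
      IsLocalization.isNoetherianRing M.primeCompl _ inferInstance
    haveI : Nontrivial (Localization.AtPrime M ⧸ maxPow (Localization.AtPrime M) (p ^ N)) :=
      Ideal.Quotient.nontrivial_iff.2 (ne_top_of_le_ne_top (IsLocalRing.maximalIdeal.isMaximal _).ne_top
        (Ideal.span_le.2 (by rintro _ ⟨z, hz, rfl⟩; exact Ideal.pow_mem_of_mem _ hz _ (pow_pos hp.pos N))))
    haveI : IsLocalRing (Localization.AtPrime M ⧸ maxPow (Localization.AtPrime M) (p ^ N)) :=
      .of_surjective' (Ideal.Quotient.mk _) Ideal.Quotient.mk_surjective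
    have h1 := isCI_fibre_one p G N (Localization.AtPrime M) (t.trans eR.symm)
    obtain ⟨t'⟩ := exists_stalkEquiv G hy hx
    haveI : IsNoetherianRing (G.left.presheaf.stalk x) := inferInstance
    exact Groth.L07.Avramov.isCompleteIntersection_of_ringEquiv (eR.trans t') (hMci h1)
  · subst hp
    haveI : CharZero k := CharP.charP_to_charZero k
    haveI : GrpObj (Over.mk G.hom) := ‹GrpObj G›
    haveI : Smooth G.hom := Groth.L25.GrpDeriv.smooth_of_charZero G.hom
    haveI := Groth.L21.Smooth.regular_stalk G.hom x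
    exact Groth.L07.CIFibre.isCompleteIntersection_of_regular _

end Groth.L08.GrpLCI
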