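import Groth.Agent.L08.GrpLCI
import Groth.Prelude.Def_Red
import Groth.Agent.L07.SyntOverField
import Groth.Agent.L23.SchemeFacts
import Groth.Agent.S2843
import Groth.Agent.S6502

/-!
# Flat group schemes are syntomic
-/

set_option autoImplicit false
set_option backward.isDefEq.respectTransparency.types false

universe u

open CategoryTheory CategoryTheory.Limits AlgebraicGeometry

noncomputable section

namespace Groth.L08.GrpLCI

theorem isCI_stalk_isAlgClosed {k : Type u} [Field k] [IsAlgClosed k]
    (G : Over (Spec (CommRingCat.of k))) [GrpObj G] [LocallyOfFiniteType G.hom] (x : G.left) :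
    Pi1.IsCompleteIntersection (G.left.presheaf.stalk x) := by
  haveI : IsLocallyNoetherian G.left := LocallyOfFiniteType.isLocallyNoetherian G.hom
  haveI := LocallyOfFiniteType.jacobsonSpace G.hom
  obtain ⟨_, ⟨W, hW, rfl⟩, hxW, -⟩ := G.left.isBasis_affineOpens.exists_subset_of_mem_open (Set.mem_univ x) isOpen_univ
  let A := Γ(G.left, W)
  haveI : IsNoetherianRing A := IsLocallyNoetherian.component_noetherian ⟨W, hW⟩
  have heq : ∀ (y : W), Nonempty (Localization.AtPrime (IsAffineOpen.primeIdealOf hW y).asIdeal ≃+* G.left.presheaf.stalk y.1) := fun y => by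
    letI := G.left.presheaf.algebra_section_stalk y
    haveI := IsAffineOpen.isLocalization_stalk hW y
    exact ⟨(IsLocalization.algEquiv (IsAffineOpen.primeIdealOf hW y).asIdeal.primeCompl _ _).toRingEquiv⟩
  have hmax : ∀ (m : Ideal A) [m.IsMaximal], Pi1.IsCompleteIntersection (Localization.AtPrime m) := by
    intro m hm
    let P : PrimeSpectrum A := ⟨m, hm.isPrime⟩
    let y := IsAffineOpen.fromSpec hW P
    have hyW : y ∈ W := (IsAffineOpen.range_fromSpec hW).le ⟨P, rfl⟩
    have hy : IsClosed ({y} : Set G.left) := by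
      refine isClosed_singleton_of_isLocallyClosed_singleton ?_
      have h1 : IsClosed ({P} : Set (PrimeSpectrum A)) := (PrimeSpectrum.isClosed_singleton_iff_isMaximal P).2 hm
      rw [← Set.image_singleton]
      exact h1.isLocallyClosed.image (IsAffineOpen.fromSpec hW).isOpenEmbedding.isInducing
        (IsAffineOpen.fromSpec hW).isOpenEmbedding.isOpen_range.isLocallyClosed
    have hP : IsAffineOpen.primeIdealOf hW ⟨y, hyW⟩ = P :=
      (IsAffineOpen.fromSpec hW).isOpenEmbedding.injective (IsAffineOpen.fromSpec_primeIdealOf hW _)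
    obtain ⟨e⟩ := heq ⟨y, hyW⟩
    have e' : G.left.presheaf.stalk y ≃+* Localization.AtPrime m := by
      refine e.symm.trans ?_
      rw [hP]
    haveI : IsNoetherianRing (Localization.AtPrime m) := IsLocalization.isNoetherianRing m.primeCompl _ inferInstance
    exact Groth.L07.Avramov.isCompleteIntersection_of_ringEquiv e' (isCI_closedPoint G y hy)
  obtain ⟨e⟩ := heq ⟨x, hxW⟩
  exact Groth.L07.Avramov.isCompleteIntersection_of_ringEquiv e
    ((Groth.Agent.S6502.result (A := A)).2 (fun m _ => hmax m) _)

theorem isCI_stalk {k : Type u} [Field k] (G : Over (Spec (CommRingCat.of k))) [GrpObj G]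
    [LocallyOfFiniteType G.hom] (x : G.left) : Pi1.IsCompleteIntersection (G.left.presheaf.stalk x) := by
  let L := AlgebraicClosure k
  let t := Spec.map (CommRingCat.ofHom (algebraMap k L))
  let G' := Red.bc t G
  haveI : LocallyOfFiniteType G'.hom := inferInstanceAs (LocallyOfFiniteType (pullback.snd G.hom t))
  haveI : Surjective t := ⟨fun x => ⟨IsLocalRing.closedPoint L, Subsingleton.elim (α := PrimeSpectrum k) _ _⟩⟩
  haveI : Surjective (pullback.fst G.hom t) := MorphismProperty.pullback_fst G.hom t ‹Surjective t›
  obtain ⟨x', hx'⟩ := (pullback.fst G.hom t).surjective x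
  have h : Pi1.IsCompleteIntersection ((pullback G.hom t).presheaf.stalk x') :=
    isCI_stalk_isAlgClosed G' x'
  have h2 := (Groth.Agent.S2843.result (k' := L) G.left G.hom x').2 h
  rwa [← hx']

theorem isSyntomicMor {S : Scheme.{u}} (G : Over S) [GrpObj G] [Flat G.hom]
    [LocallyOfFinitePresentation G.hom] : Synt.IsSyntomicMor G.hom := by
  refine (Groth.L07.SyntScheme.isSyntomicMor_iff G.hom).mpr ⟨inferInstance, inferInstance, fun x => ?_⟩
  let s := G.hom x
  let F : Over (Spec (CommRingCat.of (S.residueField s))) := Red.bc (S.fromSpecResidueField s) G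
  haveI : GrpObj F := inferInstanceAs (GrpObj (Red.bc (S.fromSpecResidueField s) G))
  haveI : LocallyOfFiniteType F.hom :=
    inferInstanceAs (LocallyOfFiniteType (pullback.snd G.hom (S.fromSpecResidueField s)))
  exact isCI_stalk F (G.hom.asFiber x)

end Groth.L08.GrpLCI
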