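import Mathlib.RingTheory.HopfAlgebra.Convolution
import Mathlib.RingTheory.Bialgebra.Equiv
import Mathlib.RingTheory.FiniteType

/-!
# Transport of Hopf algebra structures along algebra isomorphisms; small models
-/

set_option autoImplicit false

universe u v w

open TensorProduct

noncomputable section

namespace Groth.L08.HopfTransport

variable {R : Type u} [CommRing R] {A : Type v} [CommRing A] [HopfAlgebra R A]
  {B : Type w} [CommRing B] [Algebra R B] (e : B ≃ₐ[R] A)

/-- transported comultiplication -/
def comul' : B →ₐ[R] B ⊗[R] B :=
  (Algebra.TensorProduct.map e.symm.toAlgHom e.symm.toAlgHom).comp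
    ((Bialgebra.comulAlgHom R A).comp e.toAlgHom)

/-- transported counit -/
abbrev counit' : B →ₐ[R] R := (Bialgebra.counitAlgHom R A).comp e.toAlgHom

/-- transported antipode -/
def antipode' : B →ₐ[R] B := e.symm.toAlgHom.comp ((HopfAlgebra.antipodeAlgHom R A).comp e.toAlgHom)

theorem map_comul' (b : B) :
    Algebra.TensorProduct.map e.toAlgHom e.toAlgHom (comul' e b) = Coalgebra.comul (R := R) (e b) := by
  have h : ∀ z : A ⊗[R] A, Algebra.TensorProduct.map e.toAlgHom e.toAlgHom
      (Algebra.TensorProduct.map e.symm.toAlgHom e.symm.toAlgHom z) = z := by
    intro z
    induction z with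
    | zero => simp
    | tmul x y => simp
    | add x y hx hy => simp only [map_add, hx, hy]
  exact h _

theorem map_map_injective {X Y Z W : Type*} [AddCommGroup X] [Module R X] [AddCommGroup Y] [Module R Y]
    [AddCommGroup Z] [Module R Z] [AddCommGroup W] [Module R W] (f : X ≃ₗ[R] Y) (g : Z ≃ₗ[R] W) :
    Function.Injective (TensorProduct.map f.toLinearMap g.toLinearMap) :=
  (TensorProduct.congr f g).injective

/-- The transported Hopf algebra structure. -/
@[implicit_reducible]
def hopfAlgebra : HopfAlgebra R B :=
  let j : B ⊗[R] B →ₐ[R] A ⊗[R] A := Algebra.TensorProduct.map e.toAlgHom e.toAlgHom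
  letI : Bialgebra R B := Bialgebra.ofAlgHom (comul' e) (counit' e)
    (by
      have hinj : Function.Injective (Algebra.TensorProduct.map e.toAlgHom j) :=
        map_map_injective e.toLinearEquiv (TensorProduct.congr e.toLinearEquiv e.toLinearEquiv)
      refine AlgHom.ext fun b => hinj ?_
      have h1 : ∀ z : B ⊗[R] B, Algebra.TensorProduct.map e.toAlgHom j
          (Algebra.TensorProduct.map (.id R B) (comul' e) z) =
            (Bialgebra.comulAlgHom R A).toLinearMap.lTensor A (j z) := by
        intro z
        induction z with
        | zero => simp
        | tmul x y => simp [j, map_comul']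
        | add x y hx hy => simp only [map_add, hx, hy]
      have h2 : ∀ z : B ⊗[R] B, Algebra.TensorProduct.map e.toAlgHom j
          (Algebra.TensorProduct.assoc R R R B B B
            (Algebra.TensorProduct.map (comul' e) (.id R B) z)) =
            TensorProduct.assoc R A A A
              ((Bialgebra.comulAlgHom R A).toLinearMap.rTensor A (j z)) := by
        intro z
        induction z with
        | zero => simp
        | tmul x y =>
          have h3 : ∀ w : B ⊗[R] B, Algebra.TensorProduct.map e.toAlgHom j
              (Algebra.TensorProduct.assoc R R R B B B (w ⊗ₜ y)) =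
              TensorProduct.assoc R A A A (j w ⊗ₜ e y) := by
            intro w
            induction w with
            | zero => simp
            | tmul s t => rfl
            | add s t hs ht => simp only [TensorProduct.add_tmul, map_add, hs, ht]
          simp [h3, j, map_comul']
        | add x y hx hy => simp only [map_add, hx, hy]
      simp only [AlgHom.comp_apply, h1]
      refine (h2 _).trans ?_
      simp only [j, map_comul']
      exact Coalgebra.coassoc_apply (R := R) (e b))
    (by
      have hinj : Function.Injective (Algebra.TensorProduct.map (.id R R) e.toAlgHom) :=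
        map_map_injective (LinearEquiv.refl R R) e.toLinearEquiv
      refine AlgHom.ext fun b => hinj ?_
      have h : ∀ z : B ⊗[R] B, Algebra.TensorProduct.map (.id R R) e.toAlgHom
          (Algebra.TensorProduct.map (counit' e) (.id R B) z) =
            (Coalgebra.counit (R := R) (A := A)).rTensor A (j z) := by
        intro z
        induction z with
        | zero => simp
        | tmul x y => simp [j]
        | add x y hx hy => simp only [map_add, hx, hy]
      simp only [AlgHom.comp_apply, h, j, map_comul', Coalgebra.rTensor_counit_comul]
      rfl)
    (by
      have hinj : Function.Injective (Algebra.TensorProduct.map e.toAlgHom (.id R R)) :=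
        map_map_injective e.toLinearEquiv (LinearEquiv.refl R R)
      refine AlgHom.ext fun b => hinj ?_
      have h : ∀ z : B ⊗[R] B, Algebra.TensorProduct.map e.toAlgHom (.id R R)
          (Algebra.TensorProduct.map (.id R B) (counit' e) z) =
            (Coalgebra.counit (R := R) (A := A)).lTensor A (j z) := by
        intro z
        induction z with
        | zero => simp
        | tmul x y => simp [j]
        | add x y hx hy => simp only [map_add, hx, hy]
      simp only [AlgHom.comp_apply, h, j, map_comul', Coalgebra.lTensor_counit_comul]
      rfl)
  HopfAlgebra.ofAlgHom (antipode' e)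
    (by
      refine AlgHom.ext fun b => e.injective ?_
      have h : ∀ z : B ⊗[R] B, e (Algebra.TensorProduct.lift (antipode' e) (.id R B)
          (fun _ _ => Commute.all _ _) z) =
          LinearMap.mul' R A ((HopfAlgebraStruct.antipode R (A := A)).rTensor A (j z)) := by
        intro z
        induction z with
        | zero => simp
        | tmul x y => simp [antipode', j]
        | add x y hx hy => simp only [map_add, hx, hy]
      refine (h _).trans ?_
      show LinearMap.mul' R A (_) = e (algebraMap R B (Coalgebra.counit (R := R) (e b)))
      erw [map_comul' e b]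
      rw [e.commutes]
      exact HopfAlgebra.mul_antipode_rTensor_comul_apply _)
    (by
      refine AlgHom.ext fun b => e.injective ?_
      have h : ∀ z : B ⊗[R] B, e (Algebra.TensorProduct.lift (.id R B) (antipode' e)
          (fun _ _ => Commute.all _ _) z) =
          LinearMap.mul' R A ((HopfAlgebraStruct.antipode R (A := A)).lTensor A (j z)) := by
        intro z
        induction z with
        | zero => simp
        | tmul x y => simp [antipode', j]
        | add x y hx hy => simp only [map_add, hx, hy]
      refine (h _).trans ?_
      show LinearMap.mul' R A (_) = e (algebraMap R B (Coalgebra.counit (R := R) (e b)))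
      erw [map_comul' e b]
      rw [e.commutes]
      exact HopfAlgebra.mul_antipode_lTensor_comul_apply _)

/-- The isomorphism with the transported structure. -/
def bialgEquiv : letI := hopfAlgebra e; B ≃ₐc[R] A :=
  letI := hopfAlgebra e
  BialgEquiv.ofAlgEquiv e rfl (AlgHom.ext fun b => map_comul' e b)

end Groth.L08.HopfTransport

namespace Groth.L08.HopfTransport

variable (k : Type u) [CommRing k] (A : Type v) [CommRing A] [HopfAlgebra k A] [Algebra.FiniteType k A]

/-- A Hopf algebra of finite type has an isomorphic model in the universe of the base. -/
theorem exists_small_hopf : ∃ (A' : Type u) (_ : CommRing A') (_ : HopfAlgebra k A')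
    (_ : Algebra.FiniteType k A'), Nonempty (A' ≃ₐc[k] A) := by
  obtain ⟨n, φ, hφ⟩ := Algebra.FiniteType.iff_quotient_mvPolynomial''.mp ‹Algebra.FiniteType k A›
  let e := Ideal.quotientKerAlgEquivOfSurjective hφ
  letI := hopfAlgebra e
  exact ⟨_, inferInstance, hopfAlgebra e,
    Algebra.FiniteType.of_surjective (Ideal.Quotient.mkₐ k _) Ideal.Quotient.mk_surjective, ⟨bialgEquiv e⟩⟩

end Groth.L08.HopfTransport
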