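import Groth.Agent.L25.HeightOne
import Groth.Agent.L08.HopfTransport
import Mathlib.RingTheory.Ideal.Cotangent
import Mathlib.RingTheory.Nilpotent.Lemmas
import Mathlib.RingTheory.Artinian.Ring

/-!
# Order of a finite group scheme of height one
-/

set_option autoImplicit false

universe u v

open TensorProduct

namespace Groth.L08.HeightOneRank

/-- lifts of a spanning set of `I/I²` generate, for a nilpotent ideal `I` with `A = k ⊕ I` -/
theorem adjoin_eq_top {k : Type u} [Field k] {A : Type v} [CommRing A] [Algebra k A] (ε : A →ₐ[k] k)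
    (hnil : IsNilpotent (RingHom.ker ε)) {ι : Type} (y : ι → A) (hy : ∀ i, y i ∈ RingHom.ker ε)
    (hspan : ∀ a ∈ RingHom.ker ε, ∃ s ∈ Submodule.span k (Set.range y), a - s ∈ RingHom.ker ε ^ 2) :
    Algebra.adjoin k (Set.range y) = ⊤ := by
  let S := Algebra.adjoin k (Set.range y)
  let I := RingHom.ker ε
  have hsS : ∀ s ∈ Submodule.span k (Set.range y), s ∈ S := fun s hs =>
    (Submodule.span_le (p := Subalgebra.toSubmodule S)).2 Algebra.subset_adjoin hs
  have hsI : ∀ s ∈ Submodule.span k (Set.range y), s ∈ I := fun s hs =>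
    (Submodule.span_le (p := I.restrictScalars k)).2 (by rintro _ ⟨i, rfl⟩; exact hy i) hs
  have step : ∀ n : ℕ, ∀ a ∈ I ^ (n + 1), ∃ s ∈ S, s ∈ I ^ (n + 1) ∧ a - s ∈ I ^ (n + 2) := by
    intro n
    induction n with
    | zero =>
      intro a ha
      rw [zero_add, pow_one] at ha
      obtain ⟨s, hs, h⟩ := hspan a ha
      exact ⟨s, hsS s hs, by rw [zero_add, pow_one]; exact hsI s hs, h⟩
    | succ n ih =>
      intro a ha
      rw [pow_succ] at ha
      refine Submodule.mul_induction_on ha (fun p hp q hq => ?_) (fun p q hp hq => ?_)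
      · obtain ⟨s1, h1S, h1I, h1⟩ := ih p hp
        obtain ⟨s2, h2, h2'⟩ := hspan q hq
        refine ⟨s1 * s2, mul_mem h1S (hsS s2 h2), ?_, ?_⟩
        · rw [pow_succ]; exact Ideal.mul_mem_mul h1I (hsI s2 h2)
        · rw [show p * q - s1 * s2 = (p - s1) * q + s1 * (q - s2) by ring]
          refine add_mem ?_ ?_
          · rw [show n + 1 + 2 = (n + 2) + 1 by ring, pow_succ]
            exact Ideal.mul_mem_mul h1 hq
          · rw [show n + 1 + 2 = (n + 1) + 2 by ring, pow_add]
            exact Ideal.mul_mem_mul h1I h2'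
      · obtain ⟨s, h1, h2, h3⟩ := hp
        obtain ⟨s', h1', h2', h3'⟩ := hq
        exact ⟨s + s', add_mem h1 h1', add_mem h2 h2', by rw [add_sub_add_comm]; exact add_mem h3 h3'⟩
  have all : ∀ n : ℕ, ∀ a ∈ I, ∃ s ∈ S, a - s ∈ I ^ (n + 1) := by
    intro n
    induction n with
    | zero => exact fun a ha => ⟨0, zero_mem S, by simpa using ha⟩
    | succ n ih =>
      intro a ha
      obtain ⟨s, hs, h⟩ := ih a ha
      obtain ⟨s', hs', -, h'⟩ := step n _ h
      exact ⟨s + s', add_mem hs hs', by rwa [← sub_sub]⟩
  obtain ⟨N, hN⟩ := hnil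
  refine eq_top_iff.2 fun a _ => ?_
  have ha : a - algebraMap k A (ε a) ∈ I := by simp [I, RingHom.mem_ker]
  obtain ⟨s, hs, h⟩ := all N _ ha
  rw [show I ^ (N + 1) = ⊥ by rw [pow_succ, hN]; simp] at h
  have : a = algebraMap k A (ε a) + s := by
    linear_combination ((Submodule.mem_bot A).1 h)
  rw [this]
  exact add_mem (Subalgebra.algebraMap_mem S _) hs

theorem finrank_eq {k : Type u} [Field k] (p : ℕ) [Fact p.Prime] [CharP k p]
    (A : Type u) [CommRing A] [HopfAlgebra k A] [Module.Finite k A]
    (h1 : ∀ f : A, Bialgebra.counitAlgHom k A f = 0 → f ^ p = 0) :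
    Module.finrank k A = p ^ Module.finrank k (RingHom.ker (Bialgebra.counitAlgHom k A)).Cotangent := by
  classical
  let ε := Bialgebra.counitAlgHom k A
  let I := RingHom.ker ε
  haveI : Nontrivial A := RingHom.domain_nontrivial ε.toRingHom
  haveI : CharP A p := charP_of_injective_algebraMap (algebraMap k A).injective p
  have hy : ∀ y : A, y ^ p = algebraMap k A (Coalgebra.counit (R := k) y ^ p) := fun y => by
    have := h1 (y - algebraMap k A (ε y)) (by simp [ε])
    rwa [sub_pow_char, sub_eq_zero, ← map_pow] at this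
  obtain ⟨d, x, hx, htop, hd⟩ := Groth.L25.HeightOne.exists_generators_of_field p k A hy
  haveI : IsArtinianRing A := IsArtinianRing.of_finite k A
  haveI : IsNoetherianRing A := IsNoetherianRing.of_finite k A
  have hnil : IsNilpotent I := (Ideal.FG.isNilpotent_iff_le_nilradical (IsNoetherian.noetherian I)).2
    fun a ha => mem_nilradical.2 ⟨p, h1 a ha⟩
  let π : I →ₗ[k] I.Cotangent := I.toCotangent.restrictScalars k
  have hπ : Function.Surjective π := Ideal.toCotangent_surjective I
  haveI : Module.Finite k I.Cotangent := Module.Finite.of_surjective π hπ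
  let b := Module.finBasis k I.Cotangent
  choose y hy' using fun i => hπ (b i)
  have hgen : Algebra.adjoin k (Set.range fun i => (y i : A)) = ⊤ := by
    refine adjoin_eq_top ε hnil _ (fun i => (y i).2) fun a ha => ?_
    let c := b.repr (π ⟨a, ha⟩)
    refine ⟨∑ i, c i • (y i : A),
      Submodule.sum_mem _ fun i _ => Submodule.smul_mem _ _ (Submodule.subset_span ⟨i, rfl⟩), ?_⟩
    have : π (⟨a, ha⟩ - ∑ i, c i • y i) = 0 := by
      simp only [map_sub, map_sum, map_smul, hy', c, b.sum_repr, sub_self]
    have := (Ideal.toCotangent_eq_zero I _).1 this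
    simpa only [AddSubgroupClass.coe_sub, Submodule.coe_sum, Submodule.coe_smul_of_tower] using this
  -- upper bound
  let m := Module.finrank k I.Cotangent
  have hle : p ^ d ≤ p ^ m := by
    rw [← hd]
    let φ : MvPolynomial (Fin m) k →ₐ[k] A := MvPolynomial.aeval fun i => (y i : A)
    let M : Set (MvPolynomial (Fin m) k) := Set.range fun e : Fin m → Fin p =>
      MvPolynomial.monomial (Finsupp.equivFunOnFinite.symm fun i => (e i : ℕ)) (1 : k)
    have hker : ∀ a ∈ Ideal.span (Set.range fun i => (MvPolynomial.X i : MvPolynomial (Fin m) k) ^ p), φ a = 0 := by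
      intro a ha
      refine Submodule.span_induction ?_ (map_zero φ) (fun u v _ _ hu hv => by rw [map_add, hu, hv, add_zero])
        (fun c u _ hu => by rw [smul_eq_mul, map_mul, hu, mul_zero]) ha
      rintro _ ⟨i, rfl⟩
      simp only [φ, map_pow, MvPolynomial.aeval_X]
      exact h1 _ (y i).2
    have hmap : Submodule.span k (φ.toLinearMap '' M) = ⊤ := by
      refine eq_top_iff.2 fun a _ => ?_
      have ha : a ∈ φ.range := by
        rw [← Algebra.adjoin_range_eq_range_aeval, hgen]; trivial
      obtain ⟨q, rfl⟩ := ha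
      have hq := Submodule.mem_top (R := k) (x := q)
      rw [← Groth.L25.HeightOne.free_truncated p k m, Submodule.mem_sup] at hq
      obtain ⟨u, hu, v, hv, rfl⟩ := hq
      rw [Submodule.span_image]
      exact ⟨v, hv, by simp only [AlgHom.toLinearMap_apply, AlgHom.toRingHom_eq_coe, RingHom.coe_coe, map_add, hker u hu, zero_add]⟩
    have hc := finrank_span_finset_le_card (R := k) (((Finset.univ : Finset (Fin m → Fin p)).image fun e =>
      φ (MvPolynomial.monomial (Finsupp.equivFunOnFinite.symm fun i => (e i : ℕ)) (1 : k))))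
    have hset : (((Finset.univ : Finset (Fin m → Fin p)).image fun e =>
      φ (MvPolynomial.monomial (Finsupp.equivFunOnFinite.symm fun i => (e i : ℕ)) (1 : k))) : Set A) = φ.toLinearMap '' M := by
      simp only [M, Finset.coe_image, Finset.coe_univ, Set.image_univ, ← Set.range_comp]
      rfl
    rw [Set.finrank, hset, hmap, finrank_top] at hc
    exact hc.trans (Finset.card_image_le.trans (by simp [m]))
  -- lower bound
  have hle' : Module.finrank k I.Cotangent ≤ d := by
    have hs : Submodule.span k (Set.range fun i => π ⟨x i, hx i⟩) = ⊤ := by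
      refine eq_top_iff.2 fun c _ => ?_
      obtain ⟨⟨a, ha⟩, rfl⟩ := hπ c
      let π' : A →ₗ[k] I.Cotangent := π ∘ₗ (LinearMap.codRestrict (I.restrictScalars k)
        (LinearMap.id - Algebra.linearMap k A ∘ₗ ε.toLinearMap) (fun z => by simp [I, RingHom.mem_ker]))
      have key : ∀ z ∈ Algebra.adjoin k (Set.range x), π' z ∈ Submodule.span k (Set.range fun i => π ⟨x i, hx i⟩) := by
        intro z hz
        induction hz using Algebra.adjoin_induction with
        | mem z hz =>
          obtain ⟨i, rfl⟩ := hz
          refine Submodule.subset_span ⟨i, congrArg π (Subtype.ext ?_)⟩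
          show x i = x i - algebraMap k A (ε (x i))
          rw [show ε (x i) = 0 from hx i, map_zero, sub_zero]
        | algebraMap r =>
          have : π' (algebraMap k A r) = π 0 := congrArg π (Subtype.ext (show algebraMap k A r - algebraMap k A (ε (algebraMap k A r)) = 0 by simp))
          rw [this, map_zero]
          exact zero_mem _
        | add u v _ _ hu hv => rw [map_add]; exact add_mem hu hv
        | mul u v _ _ hu hv =>
          have : π' (u * v) = ε v • π' u + ε u • π' v := by
            have hd : ∀ z, π' z = π ⟨z - algebraMap k A (ε z), by simp [I, RingHom.mem_ker]⟩ := fun z => rfl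
            rw [hd, hd, hd, ← map_smul, ← map_smul, ← map_add]
            change I.toCotangent _ = I.toCotangent _
            rw [Ideal.toCotangent_eq, pow_two]
            have h := Ideal.mul_mem_mul (I := I) (J := I)
              (show u - algebraMap k A (ε u) ∈ I by simp [I, RingHom.mem_ker])
              (show v - algebraMap k A (ε v) ∈ I by simp [I, RingHom.mem_ker])
            show u * v - algebraMap k A (ε (u * v)) -
              (ε v • (u - algebraMap k A (ε u)) + ε u • (v - algebraMap k A (ε v))) ∈ I * I
            convert h using 1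
            simp only [map_mul, Algebra.smul_def]
            ring
          rw [this]
          exact add_mem (Submodule.smul_mem _ _ hu) (Submodule.smul_mem _ _ hv)
      have h2 := key a (htop ▸ Algebra.mem_top)
      have h3 : π' a = π ⟨a, ha⟩ := congrArg π (Subtype.ext (show a - algebraMap k A (ε a) = a by rw [show ε a = 0 from ha, map_zero, sub_zero]))
      rwa [h3] at h2
    have := finrank_range_le_card (R := k) (fun i => π ⟨x i, hx i⟩)
    rw [Set.finrank, hs, finrank_top] at this
    simpa using this
  rw [hd, le_antisymm hle' ((Nat.pow_le_pow_iff_right (Fact.out : p.Prime).one_lt).1 hle)]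

end Groth.L08.HeightOneRank

namespace Groth.L08.HeightOneRank

universe w

/-- cotangent spaces of isomorphic augmented algebras -/
theorem finrank_cotangent_congr {k : Type u} [Field k] {A : Type v} {B : Type w} [CommRing A] [CommRing B]
    [Algebra k A] [Algebra k B] (e : A ≃ₐ[k] B) (I : Ideal A) (J : Ideal B) (h : ∀ a, a ∈ I ↔ e a ∈ J) :
    Module.finrank k I.Cotangent = Module.finrank k J.Cotangent := by
  let f := Ideal.mapCotangent I J (e : A →ₐ[k] B) (fun a ha => (h a).1 ha)
  let g := Ideal.mapCotangent J I (e.symm : B →ₐ[k] A) (fun b hb => (h (e.symm b)).2 (by rwa [e.apply_symm_apply]))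
  refine LinearEquiv.finrank_eq (LinearEquiv.ofLinear f g ?_ ?_)
  · refine LinearMap.ext fun z => ?_
    obtain ⟨z, rfl⟩ := Ideal.toCotangent_surjective J z
    simp only [LinearMap.comp_apply, f, g, Ideal.mapCotangent_toCotangent, LinearMap.id_apply]
    exact congrArg _ (Subtype.ext (e.apply_symm_apply _))
  · refine LinearMap.ext fun z => ?_
    obtain ⟨z, rfl⟩ := Ideal.toCotangent_surjective I z
    simp only [LinearMap.comp_apply, f, g, Ideal.mapCotangent_toCotangent, LinearMap.id_apply]
    exact congrArg _ (Subtype.ext (e.symm_apply_apply _))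

/-- height one: any universe -/
theorem finrank_eq' {k : Type u} [Field k] (p : ℕ) [Fact p.Prime] [CharP k p]
    (A : Type v) [CommRing A] [HopfAlgebra k A] [Module.Finite k A]
    (h1 : ∀ f : A, Bialgebra.counitAlgHom k A f = 0 → f ^ p = 0) :
    Module.finrank k A = p ^ Module.finrank k (RingHom.ker (Bialgebra.counitAlgHom k A)).Cotangent := by
  haveI : Algebra.FiniteType k A := Module.Finite.finiteType A
  obtain ⟨A', i1, i2, i3, ⟨e⟩⟩ := HopfTransport.exists_small_hopf k A
  haveI : Module.Finite k A' := Module.Finite.equiv (e.symm : A ≃ₐc[k] A').toLinearEquiv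
  have hc : ∀ a, Bialgebra.counitAlgHom k A (e a) = Bialgebra.counitAlgHom k A' a :=
    fun a => CoalgHomClass.counit_comp_apply e a
  have h2 := finrank_eq p A' fun f hf => by
    apply (e : A' ≃ₐc[k] A).toAlgEquiv.injective
    rw [map_pow, map_zero]
    exact h1 (e f) ((hc f).trans hf)
  rw [← e.toLinearEquiv.finrank_eq, h2, finrank_cotangent_congr e.toAlgEquiv _
    (RingHom.ker (Bialgebra.counitAlgHom k A)) (fun a => by
      rw [RingHom.mem_ker, RingHom.mem_ker]; exact (iff_of_eq (congrArg (· = 0) (hc a))).symm)]

end Groth.L08.HeightOneRank
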