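import Groth.Agent.L08.OrbitDense
import Groth.Agent.L25.GeomIrred
import Mathlib.RingTheory.Ideal.MinimalPrime.Localization

/-!
# Quasi-separated connected homogeneous schemes over a field are irreducible
-/

set_option autoImplicit false
set_option backward.isDefEq.respectTransparency.types false

universe u

open CategoryTheory CategoryTheory.Limits AlgebraicGeometry MonoidalCategory MonObj CartesianMonoidalCategory

noncomputable section

namespace Groth.L08.Homog

open Groth.L19.Limit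

/-- `x` has a unique maximal generisation. -/
def UM {X : Type*} [TopologicalSpace X] (x : X) : Prop :=
  ∀ m₁ m₂ : X, IsMaxPt m₁ → IsMaxPt m₂ → m₁ ⤳ x → m₂ ⤳ x → m₁ = m₂

/-- The points all whose maximal generisations lie in `D`. -/
def sat {X : Type*} [TopologicalSpace X] (D : Set X) : Set X :=
  {x | ∀ m, IsMaxPt m → m ⤳ x → m ∈ D}

theorem isMaxPt_map {X Y : Scheme.{u}} (f : X ⟶ Y) [Flat f] {m : X} (hm : IsMaxPt m) : IsMaxPt (f m) :=
  fun z hz => by
    obtain ⟨z', hz', rfl⟩ := Flat.generalizingMap f hz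
    rw [hm z' hz']

theorem exists_maxPt_over {X Y : Scheme.{u}} (f : X ⟶ Y) [Flat f] {x : X} {m : Y} (hm : IsMaxPt m)
    (h : m ⤳ f x) : ∃ m' : X, IsMaxPt m' ∧ m' ⤳ x ∧ f m' = m := by
  obtain ⟨z, hz, rfl⟩ := Flat.generalizingMap f h
  obtain ⟨m', hm', hm'z⟩ := exists_isMaxPt_specializes z
  exact ⟨m', hm', hm'z.trans hz, hm _ (hm'z.map f.continuous)⟩

theorem um_map {X Y : Scheme.{u}} (f : X ⟶ Y) [Flat f] {x : X} (h : UM x) : UM (f x) := by
  intro m₁ m₂ h₁ h₂ s₁ s₂
  obtain ⟨a₁, ha₁, t₁, rfl⟩ := exists_maxPt_over f h₁ s₁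
  obtain ⟨a₂, ha₂, t₂, rfl⟩ := exists_maxPt_over f h₂ s₂
  rw [h a₁ a₂ ha₁ ha₂ t₁ t₂]

/-- A maximal point outside a compact open has a neighbourhood disjoint from it. -/
theorem exists_disjoint {X : Scheme.{u}} [QuasiSeparatedSpace X] {D : Set X} (hDo : IsOpen D) (hDc : IsCompact D)
    {m : X} (hm : IsMaxPt m) (hn : m ∉ D) : ∃ O : Set X, IsOpen O ∧ m ∈ O ∧ Disjoint O D := by
  classical
  obtain ⟨_, ⟨V, hV, rfl⟩, hmV, -⟩ := X.isBasis_affineOpens.exists_subset_of_mem_open (Set.mem_univ m) isOpen_univ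
  obtain ⟨q, rfl⟩ : m ∈ Set.range hV.fromSpec := by rw [hV.range_fromSpec]; exact hmV
  have hcpt : IsCompact (hV.fromSpec ⁻¹' D) := by
    rw [hV.fromSpec.isEmbedding.isInducing.isCompact_iff, Set.image_preimage_eq_inter_range, hV.range_fromSpec]
    exact QuasiSeparatedSpace.inter_isCompact D V hDo hDc V.2 hV.isCompact
  obtain ⟨T, hT⟩ := PrimeSpectrum.isCompact_isOpen_iff.mp ⟨hcpt, hDo.preimage hV.fromSpec.continuous⟩
  have hq : q.asIdeal ∈ minimalPrimes Γ(X, V) := by
    refine ⟨⟨q.2, bot_le⟩, fun p ⟨hp, _⟩ hle => ?_⟩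
    have hs : (⟨p, hp⟩ : PrimeSpectrum Γ(X, V)) ⤳ q := (PrimeSpectrum.le_iff_specializes _ _).mp hle
    have e := hV.fromSpec.isOpenEmbedding.injective (hm _ (hs.map hV.fromSpec.continuous))
    exact (congrArg PrimeSpectrum.asIdeal e).ge
  have hqT : ∀ f ∈ T, f ∈ q.asIdeal := by
    intro f hf
    by_contra hfq
    have : q ∈ hV.fromSpec ⁻¹' D := by
      rw [← hT]
      exact fun hz => hfq (hz hf)
    exact hn this
  have hs : ∀ f ∈ T, ∃ s ∉ q.asIdeal, IsNilpotent (f * s) := by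
    intro f hf
    haveI := q.2
    have hnil : algebraMap _ (Localization.AtPrime q.asIdeal) f ∈ nilradical (Localization.AtPrime q.asIdeal) := by
      rw [nilradical_eq_sInf, Submodule.mem_sInf]
      intro (P : Ideal (Localization.AtPrime q.asIdeal)) (hP : P.IsPrime)
      have hd := ((IsLocalization.isPrime_iff_isPrime_disjoint q.asIdeal.primeCompl _ P).mp hP).2
      have hle : Ideal.comap (algebraMap Γ(X, V) (Localization.AtPrime q.asIdeal)) P ≤ q.asIdeal := fun y hy => by
        by_contra hyq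
        exact Set.disjoint_left.mp hd hyq hy
      exact hq.2 ⟨inferInstance, bot_le⟩ hle (hqT f hf)
    obtain ⟨n, hn'⟩ := hnil
    rw [← map_pow] at hn'
    obtain ⟨⟨s, hs⟩, hs'⟩ := (IsLocalization.map_eq_zero_iff q.asIdeal.primeCompl _ _).mp hn'
    exact ⟨s, hs, n + 1, by rw [mul_pow, pow_succ f, pow_succ' s]; linear_combination (f * s ^ n) * hs'⟩
  choose s hsq hsn using hs
  let b := ∏ f ∈ T.attach, s f.1 f.2
  refine ⟨hV.fromSpec '' (PrimeSpectrum.basicOpen b : Set (PrimeSpectrum Γ(X, V))), ?_, ⟨q, ?_, rfl⟩, ?_⟩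
  · exact (hV.fromSpec.isOpenEmbedding.isOpenMap : IsOpenMap (hV.fromSpec : PrimeSpectrum Γ(X, V) → X)) _
      (PrimeSpectrum.basicOpen b).isOpen
  · show b ∉ q.asIdeal
    intro hb
    obtain ⟨f, -, hf⟩ := (q.2.prod_mem_iff).mp hb
    exact hsq f.1 f.2 hf
  · rw [Set.disjoint_left]
    rintro _ ⟨r, hr, rfl⟩ hrD
    have hr' : r ∈ (PrimeSpectrum.zeroLocus (T : Set Γ(X, V)))ᶜ := by rw [hT]; exact hrD
    refine hr' fun f hf => ?_
    refine (r.2.mem_or_mem (y := s f hf) ?_).resolve_right fun h' => hr ?_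
    · obtain ⟨n, hn'⟩ := hsn f hf
      exact r.2.mem_of_pow_mem n (hn' ▸ r.asIdeal.zero_mem)
    · exact Ideal.mem_of_dvd _ (Finset.dvd_prod_of_mem (fun f : {x // x ∈ T} => s f.1 f.2) (Finset.mem_attach T ⟨f, hf⟩)) h'

/-- Connected quasi-separated schemes with unique maximal generisations and open saturations are irreducible. -/
theorem irreducibleSpace_of {X : Scheme.{u}} [QuasiSeparatedSpace X] [PreconnectedSpace X] [Nonempty X]
    (hum : ∀ x : X, UM x) (hsat : ∀ D : Set X, IsOpen D → IsOpen (sat D)) : IrreducibleSpace X := by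
  obtain ⟨η₀, hη₀, -⟩ := exists_isMaxPt_specializes (Classical.arbitrary X)
  suffices huniq : ∀ m : X, IsMaxPt m → m = η₀ by
    rw [irreducibleSpace_def]
    show IsIrreducible (Set.univ : Set X)
    have h : closure ({η₀} : Set X) = Set.univ := Set.eq_univ_of_forall fun x => by
      obtain ⟨m, hm, hmx⟩ := exists_isMaxPt_specializes x
      exact (huniq m hm ▸ hmx).mem_closure
    rw [← h]
    exact isIrreducible_singleton.closure
  intro m hm
  by_contra hne
  have hns : ¬ η₀ ⤳ m := fun h => hne (hm η₀ h).symm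
  rw [specializes_iff_forall_open] at hns
  push Not at hns
  obtain ⟨W, hWo, hmW, hηW⟩ := hns
  obtain ⟨_, ⟨D, hD, rfl⟩, hmD, hDW⟩ := X.isBasis_affineOpens.exists_subset_of_mem_open hmW hWo
  have hcl : IsOpen (sat (D : Set X))ᶜ := by
    rw [isOpen_iff_forall_mem_open]
    intro x hx
    obtain ⟨e, he, hex, heD⟩ : ∃ e, IsMaxPt e ∧ e ⤳ x ∧ e ∉ (D : Set X) := by
      by_contra hc
      exact hx fun e he hex => by_contra fun heD => hc ⟨e, he, hex, heD⟩
    obtain ⟨O, hO, heO, hOD⟩ := exists_disjoint D.2 hD.isCompact he heD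
    refine ⟨sat O, fun y hy hyD => ?_, hsat O hO, fun e' he' he'x => hum x e' e he' he he'x hex ▸ heO⟩
    obtain ⟨e', he', he'y⟩ := exists_isMaxPt_specializes y
    exact Set.disjoint_left.mp hOD (hy e' he' he'y) (hyD e' he' he'y)
  have huniv : sat (D : Set X) = Set.univ :=
    IsClopen.eq_univ ⟨⟨hcl⟩, hsat _ D.2⟩ ⟨m, fun e he hem => hum m m e hm he specializes_rfl hem ▸ hmD⟩
  have : η₀ ∈ sat (D : Set X) := huniv ▸ Set.mem_univ η₀
  exact hηW (hDW (this η₀ hη₀ specializes_rfl))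

section AlgClosed

variable {K : Type u} [Field K] [IsAlgClosed K] {G X : Over (Spec (CommRingCat.of K))} [GrpObj G]
  [LocallyOfFiniteType G.hom] (a : AlgGrp.Action G X)

/-- Translation by a rational point. -/
abbrev A (h : 𝟙_ (Over (Spec (CommRingCat.of K))) ⟶ G) : X ⟶ X := lift (toUnit X ≫ h) (𝟙 X) ≫ a.act

omit [IsAlgClosed K] [LocallyOfFiniteType G.hom] in
theorem comp_A {T : Over (Spec (CommRingCat.of K))} (y : T ⟶ X) (h : 𝟙_ (Over (Spec (CommRingCat.of K))) ⟶ G) :
    y ≫ A a h = lift (toUnit T ≫ h) y ≫ a.act := by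
  simp only [A, comp_lift_assoc, Category.comp_id]
  rw [← Category.assoc y (toUnit X) h, toUnit_unique (y ≫ toUnit X) (toUnit _)]

omit [IsAlgClosed K] [LocallyOfFiniteType G.hom] in
theorem isIso_A (h : 𝟙_ (Over (Spec (CommRingCat.of K))) ⟶ G) : IsIso (A a h).left := by
  have hinv : ∀ h : 𝟙_ (Over (Spec (CommRingCat.of K))) ⟶ G, A a h ≫ A a h⁻¹ = 𝟙 X := fun h => by
    rw [comp_A, GrpObj.comp_inv]
    exact Groth.L25.Actions.inv_act a _ _
  exact ⟨(A a h⁻¹).left, by rw [← Over.comp_left, hinv]; rfl,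
    by rw [← Over.comp_left]; nth_rw 2 [← inv_inv h]; rw [hinv]; rfl⟩

omit [IsAlgClosed K] [LocallyOfFiniteType G.hom] in
theorem orbit_lt (x : 𝟙_ (Over (Spec (CommRingCat.of K))) ⟶ X) (h : 𝟙_ (Over (Spec (CommRingCat.of K))) ⟶ G) :
    ProfiniteImage.lt h ≫ a.orbitMap x = a.orbitMap x ≫ A a h := by
  rw [comp_A]
  simp only [AlgGrp.Action.orbitMap, comp_lift_assoc, Category.comp_id]
  rw [← Category.assoc _ (toUnit G) x, toUnit_unique (ProfiniteImage.lt h ≫ toUnit G) (toUnit G), ProfiniteImage.lt]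
  exact Groth.L25.Actions.mul_act a _ _ _

/-- All maximal points of the group map to maximal points. -/
theorem isMaxPt_orbit (x : 𝟙_ (Over (Spec (CommRingCat.of K))) ⟶ X) (hsur : Surjective (a.orbitMap x).left)
    {ξ' : G.left} (hξ' : IsMaxPt ξ') : IsMaxPt ((a.orbitMap x).left ξ') := by
  let o := (a.orbitMap x).left
  obtain ⟨m₀, hη, -⟩ := exists_isMaxPt_specializes (x.left (IsLocalRing.closedPoint K) : X.left)
  obtain ⟨ξ₁, hξ₁⟩ := hsur.surj m₀
  obtain ⟨ξ₀, hξ₀, hsp⟩ := exists_isMaxPt_specializes ξ₁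
  have hoξ₀ : o ξ₀ = m₀ := hη _ (hξ₁ ▸ hsp.map o.continuous)
  obtain ⟨h, rfl⟩ := OrbitDense.exists_translate hξ₀ hξ'
  rw [show (a.orbitMap x).left ((ProfiniteImage.lt h).left ξ₀) = (A a h).left m₀ by
    rw [← hoξ₀]; exact congr(($(orbit_lt a x h)).left ξ₀)]
  haveI := isIso_A a h
  exact isMaxPt_map (A a h).left hη

/-- If one rational point has a unique maximal generisation, all do. -/
theorem um_of_rational (p₀ p : 𝟙_ (Over (Spec (CommRingCat.of K))) ⟶ X) (hsur : Surjective (a.orbitMap p₀).left)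
    (hp : IsClosed ({p.left (IsLocalRing.closedPoint K)} : Set X.left))
    (h : UM (p₀.left (IsLocalRing.closedPoint K) : X.left)) : UM (p.left (IsLocalRing.closedPoint K) : X.left) := by
  haveI := LocallyOfFiniteType.jacobsonSpace G.hom
  obtain ⟨γ, hγ⟩ := hsur.surj (p.left (IsLocalRing.closedPoint K))
  obtain ⟨c, hc, hcc⟩ := nonempty_inter_closedPoints (Z := (a.orbitMap p₀).left ⁻¹' {p.left (IsLocalRing.closedPoint K)})
    ⟨γ, hγ⟩ (hp.preimage (a.orbitMap p₀).left.continuous).isLocallyClosed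
  let sc : 𝟙_ (Over (Spec (CommRingCat.of K))) ⟶ G :=
    Over.homMk _ ((pointEquivClosedPoint G.hom).symm ⟨c, hcc⟩).2
  have hsc : sc.left (IsLocalRing.closedPoint K) = c :=
    congrArg Subtype.val ((pointEquivClosedPoint G.hom).apply_symm_apply ⟨c, hcc⟩)
  haveI := isIso_A a sc
  have e : p₀ ≫ A a sc = sc ≫ a.orbitMap p₀ := by
    rw [comp_A, AlgGrp.Action.orbitMap, comp_lift_assoc, Category.comp_id]
    rw [← Category.assoc sc (toUnit G) p₀, toUnit_unique (sc ≫ toUnit G) (toUnit _)]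
    congr 2 <;> rw [toUnit_unique (toUnit (𝟙_ (Over (Spec (CommRingCat.of K))))) (𝟙 _), Category.id_comp]
  have hval : (A a sc).left (p₀.left (IsLocalRing.closedPoint K)) = p.left (IsLocalRing.closedPoint K) := by
    refine (congr(($e).left (IsLocalRing.closedPoint K))).trans ?_
    show (a.orbitMap p₀).left (sc.left _) = _
    rw [hsc]; exact hc
  rw [← hval]
  exact um_map (A a sc).left h

/-- A rational point with unique maximal generisation has a neighbourhood inside the saturation of any open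
containing that generisation. -/
theorem exists_nhd_sat (p : 𝟙_ (Over (Spec (CommRingCat.of K))) ⟶ X) (hsur : Surjective (a.orbitMap p).left)
    (hum : ∀ x : X.left, UM x) {D : Set X.left} (hD : IsOpen D)
    (hp : (p.left (IsLocalRing.closedPoint K) : X.left) ∈ sat D) :
    ∃ N : Set X.left, IsOpen N ∧ p.left (IsLocalRing.closedPoint K) ∈ N ∧ N ⊆ sat D := by
  haveI := LocallyOfFiniteType.jacobsonSpace G.hom
  let pt' := IsLocalRing.closedPoint K
  let o := (a.orbitMap p).left
  have hmax : ∀ {y : G.left}, IsMaxPt y → closure {y} ∈ irreducibleComponents ↥G.left := fun {y} hy =>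
    ⟨isIrreducible_singleton.closure, fun W hW hle w hw => by
      have hg := hW.isGenericPoint_genericPoint_closure
      have e : hW.genericPoint = y := hy _ (hg.specializes (subset_closure (hle (subset_closure rfl))))
      exact e ▸ (hg.specializes (subset_closure hw)).mem_closure⟩
  have humG : ∀ y : G.left, UM y := fun y m₁ m₂ h₁ h₂ s₁ s₂ =>
    (inseparable_iff_closure_eq.mpr (Groth.L25.Component.uniqueComp G y _ (hmax h₁) _ (hmax h₂) s₁.mem_closure s₂.mem_closure)).eq
  let one : G.left := ProfiniteImage.pt (1 : 𝟙_ (Over (Spec (CommRingCat.of K))) ⟶ G)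
  have hone : o one = p.left pt' := by
    have e : (1 : 𝟙_ (Over (Spec (CommRingCat.of K))) ⟶ G) ≫ a.orbitMap p = p := by
      rw [AlgGrp.Action.orbitMap, comp_lift_assoc, Category.comp_id, ← Category.assoc _ (toUnit G) p,
        toUnit_unique ((1 : 𝟙_ (Over (Spec (CommRingCat.of K))) ⟶ G) ≫ toUnit G) (𝟙 _), Category.id_comp]
      exact Groth.L25.Actions.one_act a p
    exact congr(($e).left pt')
  obtain ⟨ξ₀, hξ₀, hξ₀one⟩ := exists_isMaxPt_specializes one
  have hoξ₀ : o ξ₀ ∈ D := hp _ (isMaxPt_orbit a p hsur hξ₀) (hone ▸ hξ₀one.map o.continuous)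
  obtain ⟨g, ⟨hgcl, hgD⟩, hg⟩ := nonempty_inter_closedPoints (Z := closure {ξ₀} ∩ o ⁻¹' D)
    ⟨ξ₀, subset_closure rfl, hoξ₀⟩ (isClosed_closure.isLocallyClosed.inter (hD.preimage o.continuous).isLocallyClosed)
  let sg : 𝟙_ (Over (Spec (CommRingCat.of K))) ⟶ G :=
    Over.homMk _ ((pointEquivClosedPoint G.hom).symm ⟨g, hg⟩).2
  have hsg : ProfiniteImage.pt sg = g :=
    congrArg Subtype.val ((pointEquivClosedPoint G.hom).apply_symm_apply ⟨g, hg⟩)
  -- translation by `g` fixes every maximal point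
  have hfix : ∀ m : X.left, IsMaxPt m → (A a sg).left m = m := by
    intro m hm
    obtain ⟨ξ₁, hξ₁⟩ := hsur.surj m
    obtain ⟨ξ', hξ', hsp⟩ := exists_isMaxPt_specializes ξ₁
    have hoξ' : o ξ' = m := hm _ (hξ₁ ▸ hsp.map o.continuous)
    obtain ⟨h, rfl⟩ := OrbitDense.exists_translate hξ₀ hξ'
    have e : (ProfiniteImage.lt sg).left ((ProfiniteImage.lt h).left ξ₀) = (ProfiniteImage.lt h).left ξ₀ := by
      have hm₁ : IsMaxPt ((ProfiniteImage.lt sg).left ((ProfiniteImage.lt h).left ξ₀)) := isMaxPt_map _ hξ'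
      have hk : ProfiniteImage.pt h ∈ closure {(ProfiniteImage.lt h).left ξ₀} := by
        have := hξ₀one.map (ProfiniteImage.lt h).left.continuous
        rw [ProfiniteImage.pt_lt, _root_.mul_one] at this
        exact this.mem_closure
      have h1 : (ProfiniteImage.lt sg).left ((ProfiniteImage.lt h).left ξ₀) ⤳ ProfiniteImage.pt (sg * h) := by
        have := (specializes_iff_mem_closure.mpr hk).map (ProfiniteImage.lt sg).left.continuous
        rwa [ProfiniteImage.pt_lt] at this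
      have h2 : (ProfiniteImage.rt h).left ξ₀ ⤳ ProfiniteImage.pt (sg * h) := by
        have := (specializes_iff_mem_closure.mpr (hsg ▸ hgcl)).map (ProfiniteImage.rt h).left.continuous
        rwa [ProfiniteImage.pt_rt] at this
      have h3 : (ProfiniteImage.rt h).left ξ₀ ⤳ ProfiniteImage.pt h := by
        have := hξ₀one.map (ProfiniteImage.rt h).left.continuous
        rwa [ProfiniteImage.pt_rt, _root_.one_mul] at this
      have hr : IsMaxPt ((ProfiniteImage.rt h).left ξ₀) := isMaxPt_map _ hξ₀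
      rw [humG _ _ _ hm₁ hr h1 h2]
      exact humG _ _ _ hr hξ' h3 (specializes_iff_mem_closure.mpr hk)
    rw [← hoξ']
    refine Eq.trans ?_ (congrArg o e)
    exact (congr(($(orbit_lt a p sg)).left ((ProfiniteImage.lt h).left ξ₀))).symm
  refine ⟨(A a sg).left ⁻¹' D, hD.preimage (A a sg).left.continuous, ?_, fun q hq m hm hmq => ?_⟩
  · show (A a sg).left (p.left pt') ∈ D
    rw [← hone]
    have e := congr(($(orbit_lt a p sg)).left one)
    refine e ▸ (?_ : o ((ProfiniteImage.lt sg).left one) ∈ D)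
    rw [ProfiniteImage.pt_lt, _root_.mul_one, hsg]
    exact hgD
  · rw [← hfix m hm]
    exact (hmq.map (A a sg).left.continuous).mem_open hD hq

end AlgClosed

end Groth.L08.Homog
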