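import Groth.Agent.L08.HomogFibre
import Groth.Agent.L08.ActSepOrbit

/-!
# Fibres of transitive actions with connected quasi-separated fibres are irreducible
-/

set_option autoImplicit false
set_option backward.isDefEq.respectTransparency.types false

universe u

open CategoryTheory CategoryTheory.Limits AlgebraicGeometry MonoidalCategory MonObj CartesianMonoidalCategory

noncomputable section

namespace Groth.L08.Homog

open Groth.L19.Limit

variable {S : Scheme.{u}}

/-- Change of the base point `t` along `ψ`. -/
abbrev bcMap (X : Over S) {S' S'' : Scheme.{u}} (t : S' ⟶ S) (ψ : S'' ⟶ S') :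
    (Red.bc (ψ ≫ t) X).left ⟶ (Red.bc t X).left :=
  pullback.map X.hom (ψ ≫ t) X.hom t (𝟙 _) ψ (𝟙 _) (by simp) (by simp)

theorem isPullback_bcMap (X : Over S) {S' S'' : Scheme.{u}} (t : S' ⟶ S) (ψ : S'' ⟶ S') :
    IsPullback (bcMap X t ψ) (pullback.snd X.hom (ψ ≫ t)) (pullback.snd X.hom t) ψ := by
  refine .of_right (h₁₂ := pullback.fst _ _) ?_ ?_ (IsPullback.of_hasPullback X.hom t)
  · rw [show bcMap X t ψ ≫ pullback.fst X.hom t = pullback.fst X.hom (ψ ≫ t) from
      (pullback.lift_fst _ _ _).trans (Category.comp_id _)]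
    exact IsPullback.of_hasPullback X.hom (ψ ≫ t)
  · exact pullback.lift_snd _ _ _

variable {G X : Over S} [GrpObj G] [LocallyOfFiniteType G.hom] (a : AlgGrp.Action G X)
  (hΦ : Surjective (lift a.act (snd G X)).left)

include hΦ in
/-- Every point of a field-valued fibre has a unique maximal generisation. -/
theorem um_fibre {k : Type u} [Field k] (t : Spec (CommRingCat.of k) ⟶ S) (x : ↥(Red.bc t X).left) : UM x := by
  let F := Red.bc t X
  let K := AlgebraicClosure (F.left.residueField x)
  let qm : Spec (CommRingCat.of K) ⟶ F.left :=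
    Spec.map (CommRingCat.ofHom (algebraMap (F.left.residueField x) K)) ≫ F.left.fromSpecResidueField x
  let ψ : Spec (CommRingCat.of K) ⟶ Spec (CommRingCat.of k) := qm ≫ F.hom
  let t₁ := ψ ≫ t
  let FK := Red.bc t₁ X
  let φ := bcMap X t ψ
  haveI : Flat φ := MorphismProperty.of_isPullback (isPullback_bcMap X t ψ).flip (inferInstance : Flat ψ)
  let p' : Spec (CommRingCat.of K) ⟶ FK.left :=
    pullback.lift (qm ≫ pullback.fst X.hom t) (𝟙 _) (by
      rw [Category.assoc, pullback.condition, Category.id_comp, ← Category.assoc]; rfl)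
  have hp' : φ (p' (IsLocalRing.closedPoint K)) = x := by
    have e : p' ≫ φ = qm := by
      apply pullback.hom_ext
      · simp only [φ, p', Category.assoc, pullback.lift_fst, Category.comp_id]
        exact pullback.lift_fst _ _ _
      · simp only [φ, p', Category.assoc, pullback.lift_snd]
        rw [← Category.assoc]; erw [pullback.lift_snd]; exact Category.id_comp _
    exact (congr(($e) (IsLocalRing.closedPoint K))).trans (Scheme.fromSpecResidueField_apply x _)
  suffices h : UM (p' (IsLocalRing.closedPoint K) : FK.left) by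
    have := um_map φ h
    rwa [hp'] at this
  -- a maximal point made rational
  obtain ⟨η', hη', -⟩ := exists_isMaxPt_specializes (p' (IsLocalRing.closedPoint K) : FK.left)
  let P : Over (Spec (CommRingCat.of K)) := Over.mk (FK.left.fromSpecResidueField η' ≫ FK.hom)
  let L := AlgebraicClosure (FK.left.residueField η')
  let εL : Spec (CommRingCat.of L) ⟶ P.left :=
    Spec.map (CommRingCat.ofHom (algebraMap (FK.left.residueField η') L))
  let ψ' : Spec (CommRingCat.of L) ⟶ Spec (CommRingCat.of K) := εL ≫ P.hom
  let t₂ := ψ' ≫ t₁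
  let FL := Red.bc t₂ X
  let χ := bcMap X t₁ ψ'
  have hsq := isPullback_bcMap X t₁ ψ'
  haveI : Flat χ := MorphismProperty.of_isPullback hsq.flip (inferInstance : Flat ψ')
  let GLx : Over (Spec (CommRingCat.of L)) := Red.bc t₂ G
  letI : GrpObj GLx := inferInstanceAs (GrpObj (Red.bc t₂ G))
  haveI : LocallyOfFiniteType GLx.hom := inferInstanceAs (LocallyOfFiniteType (pullback.snd G.hom t₂))
  let aq : Spec (CommRingCat.of L) ⟶ FL.left :=
    pullback.lift (εL ≫ FK.left.fromSpecResidueField η' ≫ pullback.fst X.hom t₁) (𝟙 _) (by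
      simp only [Category.assoc, pullback.condition, Category.id_comp]; rfl)
  let p₀ : 𝟙_ (Over (Spec (CommRingCat.of L))) ⟶ FL := Over.homMk aq (pullback.lift_snd _ _ _)
  let bq : Spec (CommRingCat.of L) ⟶ FL.left :=
    pullback.lift (ψ' ≫ p' ≫ pullback.fst X.hom t₁) (𝟙 _) (by
      have e : p' ≫ pullback.snd X.hom t₁ = 𝟙 _ := pullback.lift_snd _ _ _
      simp only [Category.assoc, pullback.condition, Category.id_comp]
      rw [reassoc_of% e])
  let b₀ : 𝟙_ (Over (Spec (CommRingCat.of L))) ⟶ FL := Over.homMk bq (pullback.lift_snd _ _ _)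
  have haq : χ (aq (IsLocalRing.closedPoint L)) = η' := by
    have e : aq ≫ χ = εL ≫ FK.left.fromSpecResidueField η' := by
      apply pullback.hom_ext
      · simp only [χ, aq, Category.assoc, pullback.lift_fst, Category.comp_id]
        exact pullback.lift_fst _ _ _
      · simp only [χ, aq, Category.assoc, pullback.lift_snd]
        rw [← Category.assoc]; erw [pullback.lift_snd]; exact Category.id_comp _
    exact (congr(($e) (IsLocalRing.closedPoint L))).trans (Scheme.fromSpecResidueField_apply η' _)
  have hbq : χ (bq (IsLocalRing.closedPoint L)) = p' (IsLocalRing.closedPoint K) := by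
    have e : bq ≫ χ = ψ' ≫ p' := by
      apply pullback.hom_ext
      · simp only [χ, bq, Category.assoc, pullback.lift_fst, Category.comp_id]
        exact pullback.lift_fst _ _ _
      · simp only [χ, bq, p', Category.assoc, pullback.lift_snd]
        rw [← Category.assoc]; erw [pullback.lift_snd]; rw [Category.id_comp]
        exact (Category.comp_id _).symm
    exact (congr(($e) (IsLocalRing.closedPoint L))).trans (congrArg p' (Subsingleton.elim (α := PrimeSpectrum K) _ _))
  have ha : UM (aq (IsLocalRing.closedPoint L) : FL.left) := by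
    intro m₁ m₂ h₁ h₂ s₁ s₂
    haveI : IrreducibleSpace P.left := inferInstanceAs (IrreducibleSpace (PrimeSpectrum (FK.left.residueField η')))
    have hgi := Groth.L25.GeomIrred.geometricallyIrreducible_of_isAlgClosed P.hom
    let Z := pullback χ (FK.left.fromSpecResidueField η')
    haveI : IrreducibleSpace Z := by
      have h1 : IrreducibleSpace ↥(pullback P.hom ψ') :=
        pullback_of_geometrically hgi.geometrically_irreducibleSpace L ψ'
      have hp := (IsPullback.of_hasPullback χ (FK.left.fromSpecResidueField η')).flip.paste_vert hsq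
      exact (hp.flip.isoPullback ≪≫ pullbackSymmetry _ _).hom.homeomorph.irreducibleSpace_iff.mpr h1
    have hm : ∀ m, IsMaxPt m → m ⤳ aq (IsLocalRing.closedPoint L) → m = pullback.fst χ (FK.left.fromSpecResidueField η') (genericPoint Z) := by
      intro m hm hs
      have hme : χ m = η' := hη' _ (by have h' := hs.map χ.continuous; rwa [haq] at h')
      obtain ⟨z, hz⟩ : m ∈ Set.range (pullback.fst χ (FK.left.fromSpecResidueField η')) := by
        rw [Scheme.Pullback.range_fst, Scheme.range_fromSpecResidueField]; exact hme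
      exact (hm _ (hz ▸ ((genericPoint_specializes z).map (pullback.fst χ _).continuous))).symm
    rw [hm m₁ h₁ s₁, hm m₂ h₂ s₂]
  have hbclosed : IsClosed ({bq (IsLocalRing.closedPoint L)} : Set FL.left) := by
    haveI : Subsingleton ↥(Spec (CommRingCat.of L)) := inferInstanceAs (Subsingleton (PrimeSpectrum L))
    haveI := isClosedImmersion_of_comp_eq_id FL.hom bq (pullback.lift_snd _ _ _)
    have h' := bq.isClosedEmbedding.isClosed_range
    rwa [show Set.range bq = {bq (IsLocalRing.closedPoint L)} from Set.range_eq_singleton fun c => congrArg bq (Subsingleton.elim c _)] at h'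
  have hb := um_of_rational (G := GLx) (a.bc t₂) p₀ b₀ (ActSep.surjective_orbitMap a hΦ t₂ p₀) hbclosed ha
  have := um_map χ hb
  rwa [show χ (b₀.left (IsLocalRing.closedPoint L)) = p' (IsLocalRing.closedPoint K) from hbq] at this

include hΦ in
/-- Saturations of opens in a field-valued fibre are open. -/
theorem isOpen_sat {k : Type u} [Field k] (t : Spec (CommRingCat.of k) ⟶ S) {D : Set ↥(Red.bc t X).left} (hD : IsOpen D) :
    IsOpen (sat D) := by
  rw [isOpen_iff_forall_mem_open]
  intro x hx
  let F := Red.bc t X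
  let K := AlgebraicClosure (F.left.residueField x)
  let qm : Spec (CommRingCat.of K) ⟶ F.left :=
    Spec.map (CommRingCat.ofHom (algebraMap (F.left.residueField x) K)) ≫ F.left.fromSpecResidueField x
  let ψ : Spec (CommRingCat.of K) ⟶ Spec (CommRingCat.of k) := qm ≫ F.hom
  let t₁ := ψ ≫ t
  let φ := bcMap X t ψ
  haveI : Flat φ := MorphismProperty.of_isPullback (isPullback_bcMap X t ψ).flip (inferInstance : Flat ψ)
  haveI : UniversallyOpen φ := MorphismProperty.of_isPullback (isPullback_bcMap X t ψ).flip (inferInstance : UniversallyOpen ψ)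
  let GK : Over (Spec (CommRingCat.of K)) := Red.bc t₁ G
  letI : GrpObj GK := inferInstanceAs (GrpObj (Red.bc t₁ G))
  haveI : LocallyOfFiniteType GK.hom := inferInstanceAs (LocallyOfFiniteType (pullback.snd G.hom t₁))
  let p' : Spec (CommRingCat.of K) ⟶ (Red.bc t₁ X).left :=
    pullback.lift (qm ≫ pullback.fst X.hom t) (𝟙 _) (by
      rw [Category.assoc, pullback.condition, Category.id_comp, ← Category.assoc]; rfl)
  have hp' : φ (p' (IsLocalRing.closedPoint K)) = x := by
    have e : p' ≫ φ = qm := by
      apply pullback.hom_ext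
      · simp only [φ, p', Category.assoc, pullback.lift_fst, Category.comp_id]
        exact pullback.lift_fst _ _ _
      · simp only [φ, p', Category.assoc, pullback.lift_snd]
        rw [← Category.assoc]; erw [pullback.lift_snd]; exact Category.id_comp _
    exact (congr(($e) (IsLocalRing.closedPoint K))).trans (Scheme.fromSpecResidueField_apply x _)
  let p : 𝟙_ (Over (Spec (CommRingCat.of K))) ⟶ Red.bc t₁ X := Over.homMk p' (pullback.lift_snd _ _ _)
  obtain ⟨N, hN, hpN, hNs⟩ := exists_nhd_sat (G := GK) (a.bc t₁) p (ActSep.surjective_orbitMap a hΦ t₁ p)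
    (um_fibre a hΦ t₁) (hD.preimage φ.continuous) (fun m hm hmp => hx _ (isMaxPt_map φ hm) (by have h' := hmp.map φ.continuous; erw [hp'] at h'; exact h'))
  refine ⟨φ '' N, ?_, φ.isOpenMap _ hN, ⟨_, hpN, hp'⟩⟩
  rintro _ ⟨n, hn, rfl⟩ m hm hmn
  obtain ⟨m', hm', hm'n, rfl⟩ := exists_maxPt_over φ hm hmn
  exact hNs hn m' hm' hm'n

include hΦ in
/-- Connected quasi-separated fibres are irreducible. -/
theorem isIrreducible_fibre {s : S} (hne : (X.hom ⁻¹' {s}).Nonempty)
    [QuasiSeparatedSpace ↥(X.hom ⁻¹' {s})] (hconn : _root_.IsPreconnected (X.hom ⁻¹' {s})) :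
    IsIrreducible (X.hom ⁻¹' {s}) := by
  let F := Red.bc (S.fromSpecResidueField s) X
  let e := X.hom.fiberHomeo s
  haveI : QuasiSeparatedSpace ↥F.left := QuasiSeparatedSpace.of_isOpenEmbedding e.isOpenEmbedding
  haveI : PreconnectedSpace ↥(X.hom ⁻¹' {s}) := isPreconnected_iff_preconnectedSpace.mp hconn
  haveI : PreconnectedSpace ↥F.left := e.symm.surjective.denseRange.preconnectedSpace e.symm.continuous
  haveI : Nonempty ↥F.left := ⟨e.symm ⟨_, hne.some_mem⟩⟩
  haveI : IrreducibleSpace ↥F.left := irreducibleSpace_of (fun x => um_fibre a hΦ (k := S.residueField s) _ x)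
    fun D hD => isOpen_sat a hΦ (k := S.residueField s) _ hD
  rw [← X.hom.range_fiberι s, ← Set.image_univ]
  haveI : IrreducibleSpace ↥(X.hom.fiber s) := ‹IrreducibleSpace ↥F.left›
  exact (IrreducibleSpace.isIrreducible_univ _).image _ (X.hom.fiberι s).continuous.continuousOn

end Groth.L08.Homog
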