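import Groth.Agent.L08.Integral
import Mathlib.RingTheory.Flat.Basic
import Mathlib.LinearAlgebra.DirectSum.Finsupp

/-!
# The fundamental theorem of Hopf modules
-/

universe u v w

open TensorProduct

noncomputable section

namespace Groth.L08

variable {k : Type u} [CommRing k] {A : Type v} [CommRing A] [HopfAlgebra k A]
  {M : Type w} [AddCommGroup M] [Module k M] [Module A M] [IsScalarTower k A M]
  [HopfRep.Comod k A M] [TameAct.IsHopfMod k A A M]

/-- The regular coaction is multiplicative. -/
theorem isCoactAlg_regular : GLin.IsCoactAlg k A A :=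
  ⟨Bialgebra.comul_one, fun f g => Bialgebra.comul_mul f g⟩

theorem isComodHom_id : Hoch.IsComodHom A (LinearMap.id : A →ₗ[k] A) := by
  refine LinearMap.ext fun a => ?_
  simp [LinearMap.rTensor_id]

/-- The projection onto the invariants. -/
def proj : M →ₗ[k] M := TameAct.reynolds k A A M LinearMap.id

theorem proj_mem (m : M) : proj (k := k) (A := A) m ∈ HopfRep.fixedPts k A M :=
  have := isCoactAlg_regular (k := k) (A := A)
  reynolds_mem_fixedPts isComodHom_id m

theorem proj_smul (a : A) {v : M} (hv : v ∈ HopfRep.fixedPts k A M) :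
    proj (k := k) (A := A) (a • v) = Coalgebra.counit (R := k) a • v := by
  have hv' : HopfRep.Comod.coact (k := k) (A := A) v = v ⊗ₜ[k] (1 : A) := hv
  rw [proj, reynolds_eq, lam_tmul, TameAct.IsHopfMod.coact_smul (k := k) (A := A) (B := A), hv']
  change hm M LinearMap.id (TameAct.hmSMul k A A M (Coalgebra.comul (R := k) a) (v ⊗ₜ 1) ⊗ₜ 1) = _
  rw [← algebraMap_smul A (Coalgebra.counit (R := k) a) v,
    ← HopfAlgebra.mul_antipode_lTensor_comul_apply]
  induction Coalgebra.comul (R := k) a with
  | zero => simp
  | add x y hx hy => simp only [map_add, LinearMap.add_apply, add_tmul, add_smul, hx, hy]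
  | tmul x y => simp [smul_smul, mul_comm]

/-- `m = Σ m₁ • P m₀`. -/
theorem mem_span_fixedPts (m : M) : m ∈ Submodule.span A (HopfRep.fixedPts k A M : Set M) := by
  let act : M →ₗ[k] A →ₗ[k] M := (Algebra.lsmul k k M : A →ₐ[k] Module.End k M).toLinearMap.flip
  let U : M ⊗[k] A →ₗ[k] M := TensorProduct.lift (act ∘ₗ proj (k := k) (A := A))
  have hU : ∀ y, U y ∈ Submodule.span A (HopfRep.fixedPts k A M : Set M) := by
    intro y
    induction y with
    | zero => simp
    | add a b ha hb => rw [map_add]; exact add_mem ha hb
    | tmul n c => exact Submodule.smul_mem _ _ (Submodule.subset_span (proj_mem n))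
  let H : M ⊗[k] (A ⊗[k] A) →ₗ[k] M := TensorProduct.lift act ∘ₗ
    (LinearMap.mul' k A ∘ₗ (HopfAlgebraStruct.antipode (R := k) (A := A)).rTensor A).lTensor M
  have h1 : U (HopfRep.Comod.coact (k := k) (A := A) m) = H (TensorProduct.assoc k M A A
      ((HopfRep.Comod.coact (k := k) (A := A) (V := M)).rTensor A
        (HopfRep.Comod.coact (k := k) (A := A) m))) := by
    induction HopfRep.Comod.coact (k := k) (A := A) m with
    | zero => simp
    | add a b ha hb => simp only [map_add, ha, hb]
    | tmul n c =>
      change c • proj (k := k) (A := A) n = _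
      rw [proj, reynolds_eq, lam_tmul, LinearMap.rTensor_tmul]
      induction HopfRep.Comod.coact (k := k) (A := A) n with
      | zero => simp
      | add a b ha hb => simp only [map_add, add_tmul, smul_add, ha, hb]
      | tmul p q => simp [H, act, smul_smul, mul_comm]
  have h2 : ∀ y : M ⊗[k] A, H ((Coalgebra.comul (R := k) (A := A)).lTensor M y) =
      TensorProduct.rid k M ((Coalgebra.counit (R := k) (A := A)).lTensor M y) := by
    intro y
    induction y with
    | zero => simp
    | add a b ha hb => simp only [map_add, ha, hb]
    | tmul n c =>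
      simp [H, act, HopfAlgebra.mul_antipode_rTensor_comul_apply, algebraMap_smul]
  have := hU (HopfRep.Comod.coact (k := k) (A := A) m)
  rwa [h1, coassoc_apply, h2, counit_apply, TensorProduct.rid_tmul, one_smul] at this

/-- Invariants independent over `k` are independent over `A`. -/
theorem linearIndependent_of_fixedPts [Module.Flat k A] {ι : Type*} {v : ι → M}
    (hli : LinearIndependent k v) (hv : ∀ i, v i ∈ HopfRep.fixedPts k A M) :
    LinearIndependent A v := by
  classical
  rw [linearIndependent_iff]
  intro l hl
  have h0 : (proj (k := k) (A := A) (M := M)).rTensor A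
      (HopfRep.Comod.coact (k := k) (A := A) (Finsupp.linearCombination A v l)) = 0 := by
    rw [hl]; simp
  have hi : ∀ a i, (proj (k := k) (A := A) (M := M)).rTensor A
      (HopfRep.Comod.coact (k := k) (A := A) (a • v i)) = v i ⊗ₜ[k] a := by
    intro a i
    have hv' : HopfRep.Comod.coact (k := k) (A := A) (v i) = v i ⊗ₜ[k] (1 : A) := hv i
    rw [TameAct.IsHopfMod.coact_smul (k := k) (A := A) (B := A), hv']
    change _root_.LinearMap.rTensor A _ (TameAct.hmSMul k A A M (Coalgebra.comul (R := k) a) _) = _
    conv_rhs => rw [← one_smul k a]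
    have := Coalgebra.rTensor_counit_comul (R := k) a
    have e : a = TensorProduct.lid k A ((Coalgebra.counit (R := k) (A := A)).rTensor A
        (Coalgebra.comul (R := k) a)) := by rw [this]; simp
    rw [one_smul]
    conv_rhs => rw [e]
    induction Coalgebra.comul (R := k) a with
    | zero => simp
    | add x y hx hy => simp only [map_add, LinearMap.add_apply, tmul_add, hx, hy]
    | tmul x y => simp [proj_smul x (hv i), TensorProduct.smul_tmul]
  rw [Finsupp.linearCombination_apply, Finsupp.sum, map_sum, map_sum] at h0
  simp only [hi] at h0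
  have hinj : Function.Injective ((Finsupp.linearCombination k v).rTensor A) :=
    Module.Flat.rTensor_preserves_injective_linearMap _ hli
  let y : (ι →₀ k) ⊗[k] A := ∑ i ∈ l.support, Finsupp.single i (1 : k) ⊗ₜ[k] l i
  have hy : y = 0 := hinj (by
    rw [map_zero]
    simp only [y, map_sum, LinearMap.rTensor_tmul, Finsupp.linearCombination_single, one_smul]
    exact h0)
  ext i
  have := congrArg (fun z => TensorProduct.lid k A ((Finsupp.lapply i).rTensor A z)) hy
  simp only [y, map_sum, map_zero, LinearMap.rTensor_tmul, TensorProduct.lid_tmul] at this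
  rw [Finset.sum_eq_single i] at this
  · simpa using this
  · intro b _ hb; simp [hb]
  · intro h; simp [Finsupp.notMem_support_iff.1 h]

end Groth.L08
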