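import Groth.Agent.L08.FinScheme
import Groth.Agent.L04.Depth2
import Groth.Agent.L04.CMBasic
import Groth.Agent.L06.FlatFibre
import Mathlib.RingTheory.Ideal.KrullsHeightTheorem

/-!
# Serre's conditions for invariants of a finite linearly reductive group scheme
-/

universe u

open TensorProduct RingTheory.Sequence
open scoped Pointwise

noncomputable section

namespace Groth.L08.InvDepth

/-- a retract has at least the depth of the module -/
theorem isWeaklyRegular_retract {A M N : Type*} [CommRing A] [AddCommGroup M] [Module A M] [AddCommGroup N] [Module A N]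
    (i : N →ₗ[A] M) (π : M →ₗ[A] N) (h : ∀ n, π (i n) = n) {rs : List A} (hrs : IsWeaklyRegular M rs) :
    IsWeaklyRegular N rs := by
  rw [isWeaklyRegular_iff_Fin] at hrs ⊢
  intro j
  let J : Ideal A := Ideal.ofList (rs.take j)
  have hi : (J • ⊤ : Submodule A N) ≤ (J • ⊤ : Submodule A M).comap i :=
    Submodule.smul_le.2 fun r hr n _ => by
      rw [Submodule.mem_comap, map_smul]
      exact Submodule.smul_mem_smul hr trivial
  have hπ : (J • ⊤ : Submodule A M) ≤ (J • ⊤ : Submodule A N).comap π :=
    Submodule.smul_le.2 fun r hr n _ => by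
      rw [Submodule.mem_comap, map_smul]
      exact Submodule.smul_mem_smul hr trivial
  refine IsSMulRegular.of_injective (Submodule.mapQ _ _ i hi) ?_ (hrs j)
  refine (injective_iff_map_eq_zero _).2 fun z hz => ?_
  obtain ⟨n, rfl⟩ := Submodule.mkQ_surjective _ z
  rw [Submodule.mkQ_apply, Submodule.mapQ_apply, Submodule.Quotient.mk_eq_zero] at hz
  exact (Submodule.Quotient.mk_eq_zero _).2 (h n ▸ hπ hz)

variable {k : Type u} [Field k] {H : Type u} [CommRing H] [HopfAlgebra k H] [Module.Finite k H]
  {R : Type u} [CommRing R] [Algebra k R] [Algebra.FiniteType k R] [HopfRep.Comod k H R] [GLin.IsCoactAlg k H R]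

local notation "C" => GLin.invariants k H R

theorem height_under_le (hG : HopfRep.IsLinearlyReductive k H) (q : Ideal R) [q.IsPrime] : (q.comap (algebraMap C R)).height ≤ q.height := by
  haveI : IsNoetherianRing R := Algebra.FiniteType.isNoetherianRing k R
  haveI : IsNoetherianRing C := isNoetherianRing_invariants hG
  haveI := FinScheme.hasGoingDown k H R
  haveI : q.LiesOver (q.comap (algebraMap C R)) := ⟨rfl⟩
  rw [Ideal.height_eq_height_add_of_liesOver_of_hasGoingDown (q.comap (algebraMap C R)) q]
  exact le_self_add

/-- the depth of `R` along a prime of the invariants -/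
theorem min_le_idealDepth (hG : HopfRep.IsLinearlyReductive k H) {r : ℕ} (hR : LocCoh.HasSk r R R)
    (p : Ideal C) [p.IsPrime] : min (r : ℕ∞) p.height ≤ LocCoh.idealDepth p R := by
  haveI : IsNoetherianRing R := Algebra.FiniteType.isNoetherianRing k R
  haveI : IsNoetherianRing C := isNoetherianRing_invariants hG
  haveI := FinScheme.finite k H R
  rw [Groth.L04.idealDepth_eq_idealDepth_map_of_finite (B := R) p R, Groth.L04.idealDepth_eq_iInf_depth]
  refine le_iInf₂ fun q hq => ?_
  have h := Groth.L06.FlatFibre.hasSk_self_iff r |>.1 hR q.asIdeal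
  rw [← Groth.L04.depth_localizedModule_self, IsLocalization.AtPrime.ringKrullDim_eq_height q.asIdeal] at h
  have h2 : min (r : ℕ∞) q.asIdeal.height ≤
      LocCoh.depth (Localization.AtPrime q.asIdeal) (LocalizedModule q.asIdeal.primeCompl R) := by
    rw [← WithBot.coe_le_coe, WithBot.coe_min]
    exact h
  refine le_trans (min_le_min le_rfl ?_) h2
  exact (Ideal.height_mono (Ideal.map_le_iff_le_comap.1 hq)).trans (height_under_le hG q.asIdeal)

theorem idealDepth_le_idealDepth_invariants (hG : HopfRep.IsLinearlyReductive k H) (p : Ideal C) [p.IsPrime] :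
    LocCoh.idealDepth p R ≤ LocCoh.idealDepth p C := by
  haveI := FinScheme.isIntegral k H R
  obtain ⟨α, hα⟩ := exists_isIntegral hG
  let i : C →ₗ[C] R := Algebra.linearMap C R
  let π : R →ₗ[C] C :=
    { toFun := fun x => ⟨rey R α x, hα.rey_mem x⟩
      map_add' := fun x y => Subtype.ext (map_add _ x y)
      map_smul' := fun c x => Subtype.ext (by
        change rey R α ((c : R) * x) = (c : R) * rey R α x
        rw [mul_comm (c : R), rey_mul_fixed α x c.2, mul_comm]) }
  have hπ : ∀ c, π (i c) = c := fun c => Subtype.ext (hα.rey_eq c.2)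
  have hne : p • (⊤ : Submodule C R) ≠ ⊤ := by
    intro htop
    obtain ⟨q, -, hq, hqp⟩ := Ideal.exists_ideal_over_prime_of_isIntegral (S := R) p ⊥
      (by rw [← RingHom.ker_eq_comap_bot, (RingHom.injective_iff_ker_eq_bot _).1 Subtype.val_injective]; exact bot_le)
    refine hq.ne_top ((Ideal.eq_top_iff_one q).2 ?_)
    have h1 : (1 : R) ∈ p • (⊤ : Submodule C R) := by rw [htop]; trivial
    rw [Ideal.smul_top_eq_map, Submodule.restrictScalars_mem] at h1
    exact Ideal.map_le_iff_le_comap.2 hqp.ge h1
  refine ENat.forall_natCast_le_iff_le.1 fun n hn => ?_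
  obtain ⟨rs, rfl, hrs, hI⟩ := Groth.L04.exists_of_le_idealDepth hne hn
  exact Groth.L04.length_le_idealDepth (isWeaklyRegular_retract i π hπ hrs) hI

theorem idealDepth_le_depth [IsNoetherianRing C] {M : Type u} [AddCommGroup M] [Module C M] [Module.Finite C M]
    (p : Ideal C) [p.IsPrime] :
    LocCoh.idealDepth p M ≤ LocCoh.depth (Localization.AtPrime p) (LocalizedModule p.primeCompl M) := by
  rw [Groth.L04.idealDepth_eq_iInf_depth]
  exact iInf₂_le (⟨p, inferInstance⟩ : PrimeSpectrum C) le_rfl

theorem le_depths (hG : HopfRep.IsLinearlyReductive k H) {r : ℕ} (hR : LocCoh.HasSk r R R) (p : Ideal C) [p.IsPrime] :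
    min (r : WithBot ℕ∞) (ringKrullDim (Localization.AtPrime p)) ≤
        ((LocCoh.depth (Localization.AtPrime p) (LocalizedModule p.primeCompl R) : ℕ∞) : WithBot ℕ∞) ∧
    min (r : WithBot ℕ∞) (ringKrullDim (Localization.AtPrime p)) ≤
        ((LocCoh.depth (Localization.AtPrime p) (LocalizedModule p.primeCompl C) : ℕ∞) : WithBot ℕ∞) := by
  haveI : IsNoetherianRing R := Algebra.FiniteType.isNoetherianRing k R
  haveI : IsNoetherianRing C := isNoetherianRing_invariants hG
  haveI := FinScheme.finite k H R
  rw [IsLocalization.AtPrime.ringKrullDim_eq_height p]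
  have h := min_le_idealDepth hG hR p
  constructor
  · have := h.trans (idealDepth_le_depth p)
    rw [← WithBot.coe_le_coe, WithBot.coe_min] at this
    exact this
  · have := (h.trans (idealDepth_le_idealDepth_invariants hG p)).trans (idealDepth_le_depth p)
    rw [← WithBot.coe_le_coe, WithBot.coe_min] at this
    exact this

theorem hasSk (hG : HopfRep.IsLinearlyReductive k H) {r : ℕ} (hR : LocCoh.HasSk r R R) :
    LocCoh.HasSk r C R ∧ LocCoh.HasSk r C C := by
  constructor <;> intro p _
  · exact le_trans (min_le_min le_rfl (Module.supportDim_le_ringKrullDim _ _)) (le_depths hG hR p).1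
  · exact le_trans (min_le_min le_rfl (Module.supportDim_le_ringKrullDim _ _)) (le_depths hG hR p).2

theorem isCohenMacaulay (hG : HopfRep.IsLinearlyReductive k H) (hR : LocCoh.IsCohenMacaulayRing R) :
    LocCoh.IsCohenMacaulayRing C ∧ ∀ (p : Ideal C) [p.IsPrime],
      LocCoh.IsCohenMacaulayModule (Localization.AtPrime p) (LocalizedModule p.primeCompl R) ∧
        Module.supportDim (Localization.AtPrime p) (LocalizedModule p.primeCompl R) =
          ringKrullDim (Localization.AtPrime p) := by
  haveI : IsNoetherianRing R := Algebra.FiniteType.isNoetherianRing k R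
  haveI : IsNoetherianRing C := isNoetherianRing_invariants hG
  haveI := FinScheme.finite k H R
  have hSk : ∀ r : ℕ, LocCoh.HasSk r R R := by
    intro r
    rw [Groth.L06.FlatFibre.hasSk_self_iff]
    intro q _
    haveI := hR.isCohenMacaulayLocalRing_localization q
    rw [← Module.supportDim_self_eq_ringKrullDim, LocCoh.IsCohenMacaulayLocalRing.supportDim_eq_depth]
    exact min_le_right _ _
  have key : ∀ (p : Ideal C) [p.IsPrime],
      (LocCoh.IsCohenMacaulayModule (Localization.AtPrime p) (LocalizedModule p.primeCompl R) ∧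
        Module.supportDim (Localization.AtPrime p) (LocalizedModule p.primeCompl R) = ringKrullDim (Localization.AtPrime p)) ∧
      LocCoh.IsCohenMacaulayLocalRing (Localization.AtPrime p) := by
    intro p _
    haveI : Module.Finite (Localization.AtPrime p) (LocalizedModule p.primeCompl R) :=
      Module.Finite.of_isLocalizedModule p.primeCompl (LocalizedModule.mkLinearMap p.primeCompl R)
    obtain ⟨d, hd⟩ := Groth.L01.exists_dim_eq_nat (R := Localization.AtPrime p)
    obtain ⟨h1, h2⟩ := le_depths hG (hSk d) p
    rw [hd, min_self] at h1 h2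
    have hinj : Function.Injective (LocalizedModule.map p.primeCompl (Algebra.linearMap C R)) :=
      LocalizedModule.map_injective _ _ Subtype.val_injective
    haveI : Nontrivial (LocalizedModule p.primeCompl C) :=
      (Groth.L04.localizedModuleSelfEquiv p).toEquiv.nontrivial
    haveI : Nontrivial (LocalizedModule p.primeCompl R) := hinj.nontrivial
    have hle : Module.supportDim (Localization.AtPrime p) (LocalizedModule p.primeCompl R) ≤ d :=
      (Module.supportDim_le_ringKrullDim _ _).trans hd.le
    have hdep := Groth.L04.depth_le_supportDim (R := Localization.AtPrime p) (M := LocalizedModule p.primeCompl R)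
    refine ⟨⟨le_antisymm (hle.trans h1) hdep, hd ▸ le_antisymm hle (h1.trans hdep)⟩, ⟨?_⟩⟩
    rw [Groth.L04.depth_localizedModule_self] at h2
    have hdep' := Groth.L04.depth_le_supportDim (R := Localization.AtPrime p) (M := Localization.AtPrime p)
    rw [Module.supportDim_self_eq_ringKrullDim, hd] at hdep' ⊢
    exact le_antisymm h2 hdep'
  exact ⟨{ isCohenMacaulayLocalRing_localization := fun p _ => (key p).2 }, fun p _ => (key p).1⟩

theorem eq_invariants (A : Subalgebra k R)
    (hA : ∀ a : R, a ∈ A ↔ HopfRep.Comod.coact (k := k) (A := H) a = a ⊗ₜ[k] (1 : H)) : A = C :=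
  SetLike.ext fun a => (hA a).trans Iff.rfl

end Groth.L08.InvDepth
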