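import Groth.Agent.L08.LinRed
import Mathlib.RingTheory.MvPolynomial.Homogeneous
import Mathlib.RingTheory.FiniteType
import Mathlib.RingTheory.Polynomial.Basic

/-!
# Finiteness of invariants of linearly reductive groups
-/

universe u v w w'

open TensorProduct

noncomputable section

namespace Groth.L08

variable {k : Type u} [Field k] {A : Type v} [CommRing A] [HopfAlgebra k A]
  {R : Type w} [CommRing R] [Algebra k R] [HopfRep.Comod k A R] [GLin.IsCoactAlg k A R]

theorem rey_smul_fixed {M : Type w'} [AddCommGroup M] [Module k M] [Module R M] [IsScalarTower k R M]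
    [HopfRep.Comod k A M] [TameAct.IsHopfMod k A R M] (α : A →ₗ[k] k) (r : R) {n : M}
    (hn : n ∈ HopfRep.fixedPts k A M) : rey M α (r • n) = rey R α r • n := by
  have hn' : HopfRep.Comod.coact (k := k) (A := A) n = n ⊗ₜ[k] (1 : A) := hn
  rw [rey_apply, rey_apply, TameAct.IsHopfMod.coact_smul (k := k) (A := A) (B := R), hn']
  induction HopfRep.Comod.coact (k := k) (A := A) r with
  | zero => simp
  | add x y hx hy => simp only [map_add, LinearMap.add_apply, add_smul, hx, hy]
  | tmul x a => simp

omit [GLin.IsCoactAlg k A R] in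
theorem mem_fixedPts_iff {r : R} :
    r ∈ HopfRep.fixedPts k A R ↔ HopfRep.Comod.coact (k := k) (A := A) r = r ⊗ₜ[k] (1 : A) := Iff.rfl

theorem rey_mul_fixed (α : A →ₗ[k] k) (r : R) {c : R} (hc : c ∈ HopfRep.fixedPts k A R) :
    rey R α (r * c) = rey R α r * c := by
  simpa [smul_eq_mul] using rey_smul_fixed (M := R) α r hc

/-- The invariants of a noetherian coaction algebra are noetherian. -/
theorem isNoetherianRing_invariants [IsNoetherianRing R] (h : HopfRep.IsLinearlyReductive k A) :
    IsNoetherianRing ↥(GLin.invariants k A R) := by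
  obtain ⟨α, hα⟩ := exists_isIntegral h
  have hβ1 : (Algebra.linearMap k R ∘ₗ α) 1 = 1 := by simp [hα.2]
  have hβ : Hoch.IsComodHom A (Algebra.linearMap k R ∘ₗ α) := by
    refine LinearMap.ext fun a => ?_
    change HopfRep.Comod.coact (k := k) (A := A) (algebraMap k R (α a)) =
      LinearMap.rTensor A _ (Coalgebra.comul (R := k) a)
    rw [LinearMap.rTensor_comp_apply, hα.1 a, Algebra.algebraMap_eq_smul_one, map_smul,
      GLin.IsCoactAlg.coact_one, Algebra.TensorProduct.one_def]
    simp [TensorProduct.smul_tmul', Algebra.algebraMap_eq_smul_one]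
  refine isNoetherianRing_iff.2 (isNoetherian_iff'.2 ?_)
  exact StrictMono.wellFoundedGT
    (f := fun I : Ideal ↥(GLin.invariants k A R) =>
      I.map (algebraMap ↥(GLin.invariants k A R) R))
    (Monotone.strictMono_of_injective (fun _ _ hIJ => Ideal.map_mono hIJ)
      (Function.LeftInverse.injective (comap_map_invariants hβ hβ1)))

/-- Invariants of a finite equivariant module are finite over the invariant ring. -/
theorem exists_finset_fixedPts {M : Type w'} [AddCommGroup M] [Module k M] [Module R M]
    [IsScalarTower k R M] [HopfRep.Comod k A M] [TameAct.IsHopfMod k A R M] [IsNoetherian R M]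
    (h : HopfRep.IsLinearlyReductive k A) :
    ∃ s : Finset M, (↑s : Set M) ⊆ (HopfRep.fixedPts k A M : Set M) ∧
      ∀ m ∈ HopfRep.fixedPts k A M, ∃ c : M → R,
        (∀ y ∈ s, c y ∈ GLin.invariants k A R) ∧ m = ∑ y ∈ s, c y • y := by
  classical
  obtain ⟨α, hα⟩ := exists_isIntegral h
  obtain ⟨s, hs, hspan⟩ := (Submodule.fg_span_iff_fg_span_finset_subset
    (R := R) (HopfRep.fixedPts k A M : Set M)).1 (IsNoetherian.noetherian _)
  refine ⟨s, hs, fun m hm => ?_⟩
  obtain ⟨c, -, hc⟩ := (Submodule.mem_span_finset (R := R)).1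
    (hspan ▸ Submodule.subset_span hm : m ∈ Submodule.span R (s : Set M))
  refine ⟨fun y => rey R α (c y), fun y _ => hα.rey_mem (c y), ?_⟩
  conv_lhs => rw [← hα.rey_eq hm, ← hc, map_sum]
  exact Finset.sum_congr rfl fun y hy => rey_smul_fixed α (c y) (hs hy)

omit [GLin.IsCoactAlg k A R] in
/-- A finitely generated stable ideal is generated by a finite stable subspace. -/
theorem exists_finite_subcomod_span_eq [IsNoetherianRing R] (I : Ideal R)
    (hI : HopfRep.IsSubcomod (k := k) (A := A) (I.restrictScalars k)) :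
    ∃ W : Submodule k R, Module.Finite k W ∧ HopfRep.IsSubcomod (k := k) (A := A) W ∧
      W ≤ I.restrictScalars k ∧ Ideal.span (W : Set R) = I := by
  obtain ⟨t, ht⟩ := IsNoetherian.noetherian I
  obtain ⟨W, hW1, htW, hW2⟩ := exists_finite_subcomod_of_finset (k := k) (A := A) t
  haveI := hW1
  refine ⟨W ⊓ I.restrictScalars k, Submodule.finiteDimensional_of_le inf_le_left,
    isSubcomod_inf hW2 hI, inf_le_right, le_antisymm (Ideal.span_le.2 fun x hx => hx.2) ?_⟩
  refine le_trans ht.ge (Submodule.span_mono fun x hx => ⟨htW hx, ?_⟩)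
  exact ht.le (Submodule.subset_span hx)

/-- An algebra of finite type is generated by a finite stable subspace. -/
theorem exists_finset_adjoin_isSubcomod {R : Type w} [CommRing R] [Algebra k R] [HopfRep.Comod k A R]
    [Algebra.FiniteType k R] :
    ∃ s : Finset R, Algebra.adjoin k (s : Set R) = ⊤ ∧
      HopfRep.IsSubcomod (k := k) (A := A) (Submodule.span k (s : Set R)) := by
  classical
  obtain ⟨t, ht⟩ := (‹Algebra.FiniteType k R›).out
  obtain ⟨W, hW1, htW, hW2⟩ := exists_finite_subcomod_of_finset (k := k) (A := A) t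
  obtain ⟨s, hs⟩ := Module.Finite.iff_fg.1 hW1
  refine ⟨s, eq_top_iff.2 (ht ▸ Algebra.adjoin_le fun x hx => ?_), hs.symm ▸ hW2⟩
  exact Algebra.span_le_adjoin k _ (hs.symm ▸ htW hx : x ∈ Submodule.span k (s : Set R))

section Poly

variable {σ : Type w} [Finite σ] [HopfRep.Comod k A (MvPolynomial σ k)]
  [GLin.IsCoactAlg k A (MvPolynomial σ k)]

/-- The coaction preserves degree when it preserves the span of the variables. -/
theorem isSubcomod_homogeneousSubmodule
    (hlin : ∀ i : σ, HopfRep.Comod.coact (k := k) (A := A) (MvPolynomial.X i : MvPolynomial σ k) ∈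
      LinearMap.range ((MvPolynomial.homogeneousSubmodule σ k 1).subtype.rTensor A)) (d : ℕ) :
    HopfRep.IsSubcomod (k := k) (A := A) (MvPolynomial.homogeneousSubmodule σ k d) := by
  classical
  let L : ℕ → Submodule k (MvPolynomial σ k ⊗[k] A) := fun m =>
    LinearMap.range ((MvPolynomial.homogeneousSubmodule σ k m).subtype.rTensor A)
  have hmul : ∀ {a b : ℕ} {x y : MvPolynomial σ k ⊗[k] A}, x ∈ L a → y ∈ L b → x * y ∈ L (a + b) := by
    rintro a b _ _ ⟨x, rfl⟩ ⟨y, rfl⟩
    induction x with
    | zero => simp [L]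
    | add u v hu hv => simpa only [map_add, add_mul] using add_mem hu hv
    | tmul p s =>
      induction y with
      | zero => simp [L]
      | add u v hu hv => simpa only [map_add, mul_add] using add_mem hu hv
      | tmul q t =>
        exact ⟨⟨_, MvPolynomial.IsHomogeneous.mul p.2 q.2⟩ ⊗ₜ[k] (s * t), by simp⟩
  have hone : (1 : MvPolynomial σ k ⊗[k] A) ∈ L 0 :=
    ⟨⟨1, MvPolynomial.isHomogeneous_one σ k⟩ ⊗ₜ[k] 1, by simp [Algebra.TensorProduct.one_def]⟩
  let ρ : MvPolynomial σ k →ₐ[k] MvPolynomial σ k ⊗[k] A := GLin.coactAlgHom k A (MvPolynomial σ k)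
  have hpow : ∀ (i : σ) (m : ℕ), ρ (MvPolynomial.X i ^ m) ∈ L m := by
    intro i m
    induction m with
    | zero => simpa using hone
    | succ m ih => rw [pow_succ, map_mul]; exact hmul ih (hlin i)
  have hmon : ∀ e : σ →₀ ℕ, ρ (MvPolynomial.monomial e 1) ∈ L e.degree := by
    intro e
    induction e using Finsupp.induction with
    | zero => simpa using hone
    | single_add i m e _ _ ih =>
      rw [MvPolynomial.monomial_single_add, map_mul, map_add Finsupp.degree, Finsupp.degree_single]
      exact hmul (hpow i m) ih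
  intro p hp
  change ρ p ∈ L d
  rw [MvPolynomial.as_sum p, map_sum]
  refine sum_mem fun e he => ?_
  have hdeg : e.degree = d := by
    have := hp (MvPolynomial.mem_support_iff.1 he)
    rwa [Finsupp.degree_eq_weight_one]
  rw [← hdeg, ← mul_one (p.coeff e), ← smul_eq_mul, ← MvPolynomial.smul_monomial, map_smul]
  exact Submodule.smul_mem _ _ (hmon e)

/-- Hilbert's theorem for a linear coaction on a polynomial ring. -/
theorem exists_finset_invariants_mvPolynomial (h : HopfRep.IsLinearlyReductive k A)
    (hlin : ∀ i : σ, HopfRep.Comod.coact (k := k) (A := A) (MvPolynomial.X i : MvPolynomial σ k) ∈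
      LinearMap.range ((MvPolynomial.homogeneousSubmodule σ k 1).subtype.rTensor A)) :
    ∃ s : Finset (MvPolynomial σ k),
      (∀ f ∈ s, f ∈ HopfRep.fixedPts k A (MvPolynomial σ k)) ∧
      ∀ f ∈ HopfRep.fixedPts k A (MvPolynomial σ k),
        f ∈ Algebra.adjoin k (s : Set (MvPolynomial σ k)) := by
  classical
  obtain ⟨α, hα⟩ := exists_isIntegral h
  let P := MvPolynomial.homogeneousSubmodule σ k
  let Φ := HopfRep.fixedPts k A (MvPolynomial σ k)
  have hcomp : ∀ f ∈ Φ, ∀ d, MvPolynomial.homogeneousComponent d f ∈ Φ := by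
    intro f hf d
    have hd : ∀ j, rey _ α (MvPolynomial.homogeneousComponent j f) ∈ P j := fun j =>
      rey_mem_of_isSubcomod (isSubcomod_homogeneousSubmodule hlin j) α
        (MvPolynomial.homogeneousComponent_mem j f)
    have key : MvPolynomial.homogeneousComponent d f =
        rey _ α (MvPolynomial.homogeneousComponent d f) := by
      conv_lhs => rw [← hα.rey_eq hf, ← MvPolynomial.sum_homogeneousComponent f, map_sum, map_sum]
      rw [Finset.sum_eq_single d]
      · rw [MvPolynomial.homogeneousComponent_of_mem (hd d), if_pos rfl]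
      · intro j _ hj
        rw [MvPolynomial.homogeneousComponent_of_mem (hd j), if_neg (Ne.symm hj)]
      · intro hd'
        rw [MvPolynomial.homogeneousComponent_eq_zero d f (by simpa using hd'), map_zero, map_zero]
    rw [key]
    exact hα.rey_mem _
  let G : Set (MvPolynomial σ k) := {f | f ∈ Φ ∧ ∃ e, 0 < e ∧ f ∈ P e}
  obtain ⟨s, hsG, hspan⟩ := (Submodule.fg_span_iff_fg_span_finset_subset
    (R := MvPolynomial σ k) G).1 (IsNoetherian.noetherian _)
  refine ⟨s, fun f hf => (hsG hf).1, ?_⟩
  suffices hd : ∀ d, ∀ f ∈ Φ, f ∈ P d → f ∈ Algebra.adjoin k (s : Set (MvPolynomial σ k)) by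
    intro f hf
    rw [← MvPolynomial.sum_homogeneousComponent f]
    exact sum_mem fun j _ => hd j _ (hcomp f hf j) (MvPolynomial.homogeneousComponent_mem j f)
  intro d
  induction d using Nat.strong_induction_on with
  | _ d ih =>
    intro f hf hfd
    rcases Nat.eq_zero_or_pos d with rfl | hd
    · have h0 := MvPolynomial.homogeneousComponent_of_mem (m := 0) hfd
      rw [if_pos rfl, MvPolynomial.homogeneousComponent_zero] at h0
      rw [← h0]
      exact Subalgebra.algebraMap_mem _ _
    · obtain ⟨c, -, hc⟩ := (Submodule.mem_span_finset (R := MvPolynomial σ k)).1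
        (hspan ▸ Submodule.subset_span ⟨hf, d, hd, hfd⟩ :
          f ∈ Submodule.span (MvPolynomial σ k) (s : Set (MvPolynomial σ k)))
      have e : f = ∑ y ∈ s, MvPolynomial.homogeneousComponent d (rey _ α (c y) * y) := by
        rw [← map_sum]
        have e1 : ∑ y ∈ s, rey _ α (c y) * y = f := by
          rw [← hα.rey_eq hf]
          conv_rhs => rw [← hc, map_sum]
          refine Finset.sum_congr rfl fun y hy => ?_
          rw [smul_eq_mul, rey_mul_fixed α (c y) (hsG hy).1]
        rw [e1, MvPolynomial.homogeneousComponent_of_mem hfd, if_pos rfl]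
      rw [e]
      refine sum_mem fun y hy => ?_
      obtain ⟨hyΦ, ey, hey, hyP⟩ := hsG hy
      conv in rey _ α (c y) * y => rw [← MvPolynomial.sum_homogeneousComponent (rey _ α (c y))]
      rw [Finset.sum_mul, map_sum]
      refine sum_mem fun j _ => ?_
      rw [MvPolynomial.homogeneousComponent_of_mem
        (MvPolynomial.IsHomogeneous.mul (MvPolynomial.homogeneousComponent_isHomogeneous j _) hyP)]
      split_ifs with hdj
      · exact mul_mem (ih j (by omega) _ (hcomp _ (hα.rey_mem _) j)
          (MvPolynomial.homogeneousComponent_mem j _)) (Algebra.subset_adjoin hy)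
      · exact zero_mem _

end Poly

section General

/-- Invariants of a finite type algebra form a finitely generated algebra. -/
theorem exists_finset_invariants {R : Type w} [CommRing R] [Algebra k R] [HopfRep.Comod k A R]
    [GLin.IsCoactAlg k A R] [Algebra.FiniteType k R] (h : HopfRep.IsLinearlyReductive k A) :
    ∃ s : Finset R, (∀ f ∈ s, f ∈ HopfRep.fixedPts k A R) ∧
      ∀ f ∈ HopfRep.fixedPts k A R, f ∈ Algebra.adjoin k (s : Set R) := by
  classical
  obtain ⟨α, hα⟩ := exists_isIntegral h
  obtain ⟨t, ht, htsub⟩ := exists_finset_adjoin_isSubcomod (k := k) (A := A) (R := R)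
  -- a basis of the stable generating subspace, as variables
  let W := Submodule.span k (t : Set R)
  letI cW := ComodSub.Comod.restr ‹HopfRep.Comod k A R› W htsub
  haveI : Module.Finite k W := Module.Finite.span_of_finite k t.finite_toSet
  let ι := Fin (Module.finrank k W)
  let b' : Module.Basis ι k W := Module.finBasis k W
  let τ := ULift.{w} ι
  let lin : W →ₗ[k] MvPolynomial τ k := b'.constr k fun i => MvPolynomial.X ⟨i⟩
  have hlinb : ∀ i, lin (b' i) = MvPolynomial.X ⟨i⟩ := fun i => b'.constr_basis k _ i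
  let ρ₀ : MvPolynomial τ k →ₐ[k] MvPolynomial τ k ⊗[k] A :=
    MvPolynomial.aeval fun i => lin.rTensor A (cW.coact (b' i.down))
  have hρlin : ρ₀.toLinearMap ∘ₗ lin = lin.rTensor A ∘ₗ cW.coact := by
    refine b'.ext fun i => ?_
    simp only [LinearMap.comp_apply, hlinb, AlgHom.toLinearMap_apply, ρ₀, MvPolynomial.aeval_X]
  letI cP : HopfRep.Comod k A (MvPolynomial τ k) :=
    { coact := ρ₀.toLinearMap
      coassoc := by
        have key : (Algebra.TensorProduct.assoc k k k (MvPolynomial τ k) A A).toAlgHom.comp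
            ((Algebra.TensorProduct.map ρ₀ (AlgHom.id k A)).comp ρ₀) =
            (Algebra.TensorProduct.map (AlgHom.id k (MvPolynomial τ k))
              (Bialgebra.comulAlgHom k A)).comp ρ₀ := by
          refine MvPolynomial.algHom_ext fun i => ?_
          have hX : MvPolynomial.X i = lin (b' i.down) := (hlinb i.down).symm
          rw [hX]
          exact ComodTens.coassoc_apply_of_hom cW ρ₀.toLinearMap lin hρlin (b' i.down)
        exact LinearMap.ext fun x => AlgHom.congr_fun key x
      counit_comp := by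
        have key : (Algebra.TensorProduct.map (AlgHom.id k (MvPolynomial τ k))
              (Bialgebra.counitAlgHom k A)).comp ρ₀ =
            (Algebra.TensorProduct.includeLeft : MvPolynomial τ k →ₐ[k] MvPolynomial τ k ⊗[k] k) := by
          refine MvPolynomial.algHom_ext fun i => ?_
          have hX : MvPolynomial.X i = lin (b' i.down) := (hlinb i.down).symm
          rw [hX]
          exact ComodTens.counit_apply_of_hom cW ρ₀.toLinearMap lin hρlin (b' i.down)
        exact LinearMap.ext fun x => AlgHom.congr_fun key x }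
  haveI : GLin.IsCoactAlg k A (MvPolynomial τ k) := ⟨map_one ρ₀, map_mul ρ₀⟩
  have hlin : ∀ i : τ, HopfRep.Comod.coact (k := k) (A := A) (MvPolynomial.X i : MvPolynomial τ k) ∈
      LinearMap.range ((MvPolynomial.homogeneousSubmodule τ k 1).subtype.rTensor A) := by
    intro i
    have hmem : ∀ x, lin x ∈ MvPolynomial.homogeneousSubmodule τ k 1 := by
      intro x
      rw [show lin x = ∑ j, b'.repr x j • MvPolynomial.X (⟨j⟩ : τ) from b'.constr_apply_fintype k _ x]
      exact sum_mem fun j _ => Submodule.smul_mem _ _ (MvPolynomial.isHomogeneous_X k _)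
    refine ⟨(lin.codRestrict _ hmem).rTensor A (cW.coact (b' i.down)), ?_⟩
    rw [← LinearMap.rTensor_comp_apply, LinearMap.subtype_comp_codRestrict]
    change _ = ρ₀ (MvPolynomial.X i)
    simp [ρ₀]
  obtain ⟨s, hs, hs'⟩ := exists_finset_invariants_mvPolynomial h hlin
  let π : MvPolynomial τ k →ₐ[k] R := MvPolynomial.aeval fun i => ((b' i.down : W) : R)
  have hπlin : π.toLinearMap ∘ₗ lin = W.subtype := b'.ext fun i => by
    simp only [LinearMap.comp_apply, hlinb, AlgHom.toLinearMap_apply, π, MvPolynomial.aeval_X, Submodule.subtype_apply]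
  have hπs : Function.Surjective π := by
    rw [← AlgHom.range_eq_top, eq_top_iff, ← ht]
    refine Algebra.adjoin_le fun x hx => ⟨lin ⟨x, Submodule.subset_span hx⟩, ?_⟩
    exact LinearMap.congr_fun hπlin ⟨x, Submodule.subset_span hx⟩
  have hπ : Hoch.IsComodHom A π.toLinearMap := by
    have key : (GLin.coactAlgHom k A R).comp π =
        (Algebra.TensorProduct.map π (AlgHom.id k A)).comp ρ₀ := by
      refine MvPolynomial.algHom_ext fun i => ?_
      have h1 : π (MvPolynomial.X i) = ((b' i.down : W) : R) := by simp [π]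
      have h2 : ρ₀ (MvPolynomial.X i) = lin.rTensor A (cW.coact (b' i.down)) := by simp [ρ₀]
      simp only [AlgHom.comp_apply, h1, h2]
      change _ = π.toLinearMap.rTensor A (lin.rTensor A (cW.coact (b' i.down)))
      rw [← LinearMap.rTensor_comp_apply, hπlin]
      exact LinearMap.congr_fun (ComodSub.isComodHom_subtype _ W htsub) (b' i.down)
    exact LinearMap.ext fun x => AlgHom.congr_fun key x
  refine ⟨s.image π, ?_, ?_⟩
  · intro f hf
    obtain ⟨g, hg, rfl⟩ := Finset.mem_image.1 hf
    change HopfRep.Comod.coact (k := k) (A := A) (π g) = π g ⊗ₜ[k] (1 : A)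
    have hg' : HopfRep.Comod.coact (k := k) (A := A) g = g ⊗ₜ[k] (1 : A) := hs g hg
    exact (LinearMap.congr_fun hπ g).trans (by simp [hg'])
  · intro f hf
    obtain ⟨g, hg, rfl⟩ := hα.exists_fixed_lift hπ hπs hf
    rw [Finset.coe_image, Algebra.adjoin_image]
    exact ⟨g, hs' g hg, rfl⟩

/-- `b ∈ (N : I)` can be replaced by its average. -/
theorem mul_rey_mem {I N : Ideal R} (hI : HopfRep.IsSubcomod (k := k) (A := A) (I.restrictScalars k))
    (hN : HopfRep.IsSubcomod (k := k) (A := A) (N.restrictScalars k))
    (α : A →ₗ[k] k) {x : R} (hx : ∀ y ∈ I, x * y ∈ N) {y : R} (hy : y ∈ I) :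
    rey R α x * y ∈ N := by
  let L : Submodule k (R ⊗[k] A) := LinearMap.range ((N.restrictScalars k).subtype.rTensor A)
  have hLmul : ∀ z ∈ L, ∀ a : A, z * ((1 : R) ⊗ₜ[k] a) ∈ L := by
    rintro _ ⟨z, rfl⟩ a
    induction z with
    | zero => simp [L]
    | add u v hu hv => simpa only [map_add, add_mul] using add_mem hu hv
    | tmul p q => exact ⟨p ⊗ₜ[k] (q * a), by simp⟩
  let T : R ⊗[k] A →ₗ[k] R ⊗[k] A := LinearMap.mul' k (R ⊗[k] A) ∘ₗ TensorProduct.map
    (HopfRep.Comod.coact (k := k) (A := A) (V := R))
    ((Algebra.TensorProduct.includeRight : A →ₐ[k] R ⊗[k] A).toLinearMap ∘ₗ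
      HopfAlgebraStruct.antipode (R := k))
  have hT : T (HopfRep.Comod.coact (k := k) (A := A) y) = y ⊗ₜ[k] (1 : A) := by
    let U : R ⊗[k] (A ⊗[k] A) →ₗ[k] R ⊗[k] A :=
      (LinearMap.mul' k A ∘ₗ (HopfAlgebraStruct.antipode (R := k)).lTensor A).lTensor R
    have h1 : ∀ z : R ⊗[k] A, T z = U (TensorProduct.assoc k R A A
        ((HopfRep.Comod.coact (k := k) (A := A) (V := R)).rTensor A z)) := by
      intro z
      induction z with
      | zero => simp
      | add u v hu hv => simp only [map_add, hu, hv]
      | tmul p q =>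
        simp only [T, LinearMap.comp_apply, TensorProduct.map_tmul, LinearMap.mul'_apply,
          LinearMap.rTensor_tmul]
        induction HopfRep.Comod.coact (k := k) (A := A) p with
        | zero => simp
        | add u v hu hv => simp only [map_add, add_mul, add_tmul, hu, hv]
        | tmul m n => simp [U]
    have h2 : ∀ z : R ⊗[k] A, U ((Coalgebra.comul (R := k) (A := A)).lTensor R z) =
        TensorProduct.rid k R ((Coalgebra.counit (R := k) (A := A)).lTensor R z) ⊗ₜ[k] (1 : A) := by
      intro z
      induction z with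
      | zero => simp
      | add u v hu hv => simp only [map_add, add_tmul, hu, hv]
      | tmul p q =>
        simp [U, Algebra.algebraMap_eq_smul_one, TensorProduct.smul_tmul']
    rw [h1, coassoc_apply, h2, counit_apply]
    simp
  have hmem : HopfRep.Comod.coact (k := k) (A := A) x * (y ⊗ₜ[k] (1 : A)) ∈ L := by
    obtain ⟨z, hz⟩ := hI y hy
    rw [← hT, ← hz]
    clear hz hT
    induction z with
    | zero => simp [L]
    | add u v hu hv => simpa only [map_add, mul_add] using add_mem hu hv
    | tmul p q =>
      have e : HopfRep.Comod.coact (k := k) (A := A) x * T ((p : R) ⊗ₜ[k] q) =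
          HopfRep.Comod.coact (k := k) (A := A) (x * (p : R)) *
            ((1 : R) ⊗ₜ[k] HopfAlgebraStruct.antipode (R := k) q) := by
        simp [T, GLin.IsCoactAlg.coact_mul, mul_assoc]
      rw [LinearMap.rTensor_tmul, Submodule.subtype_apply, e]
      exact hLmul _ (hN _ (hx _ p.2)) _
  have e : rey R α x * y = TensorProduct.rid k R ((α ∘ₗ HopfAlgebraStruct.antipode (R := k)).lTensor R
      (HopfRep.Comod.coact (k := k) (A := A) x * (y ⊗ₜ[k] (1 : A)))) := by
    rw [rey_apply]
    induction HopfRep.Comod.coact (k := k) (A := A) x with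
    | zero => simp
    | add u v hu hv => simp only [map_add, add_mul, hu, hv]
    | tmul p q => simp
  rw [e]
  exact (mem_range_rTensor_subtype_iff (N.restrictScalars k) _).1 hmem _

end General

end Groth.L08
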