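import Mathlib.RingTheory.IntegralClosure.IntegrallyClosed
import Mathlib.RingTheory.Localization.FractionRing
import Mathlib.Algebra.GroupWithZero.NonZeroDivisors

/-!
An equalizer subring of a finite product of normal domains is a finite product of normal domains.
-/

universe u

noncomputable section

open scoped nonZeroDivisors

namespace Groth.L08.InvNormal

theorem exists_mul_eq {E S : Type u} [CommRing E] [IsDomain E] [CommRing S] [IsDomain S]
    [IsIntegrallyClosed S] (g : E →+* S) (hg : Function.Injective g) (x y : E) (hy : y ≠ 0)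
    (hz : IsIntegral E (algebraMap E (FractionRing E) x / algebraMap E (FractionRing E) y)) :
    ∃ s : S, s * g y = g x := by
  let g' : E →+* FractionRing S := (algebraMap S (FractionRing S)).comp g
  have hg' : Function.Injective g' := (IsFractionRing.injective S (FractionRing S)).comp hg
  have hG : IsIntegral S (g' x / g' y) := by
    obtain ⟨P, hP, hroot⟩ := hz
    refine ⟨P.map g, hP.map _, ?_⟩
    have h := congrArg (IsFractionRing.lift hg' : FractionRing E →+* FractionRing S) hroot
    rw [Polynomial.hom_eval₂, map_zero, map_div₀, IsFractionRing.lift_algebraMap,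
      IsFractionRing.lift_algebraMap] at h
    have hc : (IsFractionRing.lift hg').comp (algebraMap E (FractionRing E))
        = (algebraMap S (FractionRing S)).comp g :=
      RingHom.ext fun w => IsFractionRing.lift_algebraMap (K := FractionRing E) hg' w
    rw [hc] at h
    rw [Polynomial.eval₂_map]
    exact h
  obtain ⟨s, hs⟩ := IsIntegrallyClosed.isIntegral_iff.1 hG
  refine ⟨s, IsFractionRing.injective S (FractionRing S) ?_⟩
  rw [map_mul, hs]
  exact div_mul_cancel₀ _ ((map_ne_zero_iff g' hg').2 hy)

variable {ι : Type u} [Fintype ι] (D : ι → Type u) [∀ i, CommRing (D i)] [∀ i, IsDomain (D i)]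

theorem mem_nzd_iff (s : Π i, D i) : s ∈ (Π i, D i)⁰ ↔ ∀ i, s i ≠ 0 := by
  classical
  rw [mem_nonZeroDivisors_iff_right]
  refine ⟨fun h i hi => ?_, fun h x hx => funext fun i => ?_⟩
  · have : Pi.single i (1 : D i) = 0 := h _ (funext fun j => by
      rcases eq_or_ne j i with rfl | hj
      · simp [hi]
      · simp [Pi.single_eq_of_ne hj])
    simpa using congrFun this i
  · exact (mul_eq_zero.1 (congrFun hx i)).resolve_right (h i)

open Classical in
/-- the support idempotent -/
def supp (a : Π i, D i) : Π i, D i := fun i => if a i = 0 then 0 else 1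

variable {R : Type u} [CommRing R] (F : Set ((Π i, D i) →+* R))
  (hF : ∀ f ∈ F, ∀ s ∈ (Π i, D i)⁰, f s ∈ R⁰)
  {A : Subring (Π i, D i)} (hA : ∀ a, a ∈ A ↔ ∀ f ∈ F, ∀ f' ∈ F, f a = f' a)

include hF hA

theorem supp_mem {a : Π i, D i} (ha : a ∈ A) : supp D a ∈ A := by
  classical
  rw [hA] at ha ⊢
  have key : ∀ f ∈ F, ∀ f' ∈ F, f (supp D a) = f (supp D a) * f' (supp D a) := by
    intro f hf f' hf'
    let b := a + (1 - supp D a)
    have hb : b ∈ (Π i, D i)⁰ := (mem_nzd_iff D b).2 fun i => by
      by_cases h : a i = 0 <;> simp [b, supp, h]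
    have he : a * supp D a = a := funext fun i => by by_cases h : a i = 0 <;> simp [supp, h]
    have heb : supp D a * b = a := funext fun i => by by_cases h : a i = 0 <;> simp [b, supp, h]
    have h1 : (1 - f' (supp D a)) * f (supp D a) * f b = 0 := by
      rw [mul_assoc, ← map_mul, heb, sub_mul, one_mul, ha f hf f' hf', ← map_mul, mul_comm, he,
        sub_self]
    exact sub_eq_zero.1 (by
      have := (mem_nonZeroDivisors_iff_right.1 (hF f hf b hb)) _ h1
      rw [← this]; ring)
  intro f hf f' hf'
  rw [key f hf f' hf', mul_comm, ← key f' hf' f hf]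

theorem div_mem {x b : Π i, D i} (hb : b ∈ A) (hbn : b ∈ (Π i, D i)⁰) (hxb : x * b ∈ A) : x ∈ A := by
  rw [hA] at hb hxb ⊢
  intro f hf f' hf'
  have h := hxb f hf f' hf'
  rw [map_mul, map_mul, hb f' hf' f hf] at h
  exact mul_cancel_right_mem_nonZeroDivisors (hF f hf b hbn) |>.1 h

theorem result [∀ i, IsIntegrallyClosed (D i)] :
    ∃ (κ : Type u) (_ : Fintype κ) (E : κ → Type u) (_ : ∀ j, CommRing (E j)) (_ : ∀ j, IsDomain (E j))
      (_ : ∀ j, IsIntegrallyClosed (E j)), Nonempty (A ≃+* Π j, E j) := by
  classical
  let st : Setoid ι := Setoid.ker fun i => {a : A | (a : Π i, D i) i = 0}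
  let κ := Quotient st
  haveI : Fintype κ := Fintype.ofFinite _
  let res : ∀ c : κ, A →+* Π i : {i : ι // Quotient.mk st i = c}, D i := fun c =>
    RingHom.pi fun i => (Pi.evalRingHom D i.1).comp A.subtype
  have hres : ∀ c (a : A) (i : {i : ι // Quotient.mk st i = c}), res c a i = (a : Π i, D i) i :=
    fun _ _ _ => rfl
  have hzero : ∀ c (a : A) (i : {i : ι // Quotient.mk st i = c}),
      res c a i = 0 → res c a = 0 := by
    intro c a i hi
    funext j
    have : {a : A | (a : Π i, D i) i.1 = 0} = {a : A | (a : Π i, D i) j.1 = 0} :=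
      Quotient.exact (i.2.trans j.2.symm)
    exact (Set.ext_iff.1 this a).1 hi
  -- idempotents of the classes
  have hind : ∀ c, (fun i => if Quotient.mk st i = c then 1 else 0 : Π i, D i) ∈ A := by
    intro c
    obtain ⟨i, rfl⟩ := Quotient.exists_rep c
    let eA : ι → Π i, D i := fun j =>
      if h : ∃ a : A, (a : Π i, D i) j = 0 ∧ (a : Π i, D i) i ≠ 0 then supp D h.choose
      else if h : ∃ a : A, (a : Π i, D i) i = 0 ∧ (a : Π i, D i) j ≠ 0 then 1 - supp D h.choose
      else 1
    have hm : ∀ j, eA j ∈ A := fun j => by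
      simp only [eA]
      split_ifs with h h
      · exact supp_mem D F hF hA h.choose.2
      · exact A.sub_mem A.one_mem (supp_mem D F hF hA h.choose.2)
      · exact A.one_mem
    have hi : ∀ j, eA j i = 1 := fun j => by
      simp only [eA]
      split_ifs with h h
      · simp [supp, h.choose_spec.2]
      · simp [supp, h.choose_spec.1]
      · rfl
    have hj : ∀ j, Quotient.mk st j ≠ Quotient.mk st i → eA j j = 0 := fun j hne => by
      simp only [eA]
      split_ifs with h h'
      · simp [supp, h.choose_spec.1]
      · simp [supp, h'.choose_spec.2]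
      · push Not at h h'
        exact absurd (Quotient.sound (show st.r j i from Set.ext fun a => ⟨h a, h' a⟩)) hne
    have hidem : ∀ j l, eA j l = 0 ∨ eA j l = 1 := fun j l => by
      simp only [eA]
      split_ifs with h h
      · simp only [supp]; split_ifs <;> simp
      · simp only [supp, Pi.sub_apply, Pi.one_apply]; split_ifs <;> simp
      · exact Or.inr rfl
    have : (fun l => if Quotient.mk st l = Quotient.mk st i then 1 else 0 : Π i, D i) = ∏ j, eA j := by
      funext l
      rw [Finset.prod_apply]
      split_ifs with hl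
      · refine (Finset.prod_eq_one fun j _ => ?_).symm
        have hset : {a : A | (a : Π i, D i) l = 0} = {a : A | (a : Π i, D i) i = 0} := Quotient.exact hl
        rcases hidem j l with h | h
        · exact absurd ((Set.ext_iff.1 hset ⟨eA j, hm j⟩).1 h) (by simp [hi])
        · exact h
      · exact (Finset.prod_eq_zero (Finset.mem_univ l) (hj l hl)).symm
    rw [this]
    exact prod_mem fun j _ => hm j
  let ec : κ → A := fun c => ⟨_, hind c⟩
  let φ : A →+* Π c, (res c).range := RingHom.pi fun c => (res c).rangeRestrict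
  have hφ : Function.Bijective φ := by
    refine ⟨fun a b h => Subtype.ext (funext fun i => ?_), fun z => ?_⟩
    · exact congrFun (congrArg Subtype.val (congrFun h (Quotient.mk st i))) ⟨i, rfl⟩
    · choose a ha using fun c => RingHom.mem_range.1 (z c).2
      refine ⟨∑ c, ec c * a c, funext fun c => Subtype.ext (funext fun i => ?_)⟩
      refine Eq.trans ?_ (congrFun (ha c) i)
      change res c (∑ d, ec d * a d) i = res c (a c) i
      rw [map_sum, Finset.sum_apply, Finset.sum_eq_single c]
      · rw [map_mul, Pi.mul_apply, hres c (ec c)]; simp [ec, i.2]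
      · intro d _ hd
        rw [map_mul, Pi.mul_apply, hres c (ec d)]
        have : Quotient.mk st i.1 ≠ d := fun e => hd (e.symm.trans i.2)
        simp [ec, this]
      · simp
  have hdom : ∀ c, IsDomain ((res c).range) := by
    intro c
    haveI : Nontrivial ((res c).range) := ⟨0, 1, fun h => by
      obtain ⟨i, hi⟩ := Quotient.exists_rep c
      exact zero_ne_one (congrFun (congrArg Subtype.val h) ⟨i, hi⟩ : (0 : D i) = 1)⟩
    haveI : NoZeroDivisors ((res c).range) := ⟨fun {x y} h => by
      obtain ⟨i, hi⟩ := Quotient.exists_rep c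
      obtain ⟨a, ha⟩ := x.2
      obtain ⟨b, hb⟩ := y.2
      have h0 : res c a ⟨i, hi⟩ * res c b ⟨i, hi⟩ = 0 := by
        rw [ha, hb]; exact congrFun (congrArg Subtype.val h) ⟨i, hi⟩
      rcases mul_eq_zero.1 h0 with e | e
      · exact Or.inl (Subtype.ext (ha.symm.trans (hzero c a _ e)))
      · exact Or.inr (Subtype.ext (hb.symm.trans (hzero c b _ e)))⟩
    exact NoZeroDivisors.to_isDomain _
  have hic : ∀ c, IsIntegrallyClosed ((res c).range) := by
    intro c
    haveI := hdom c
    rw [isIntegrallyClosed_iff (FractionRing ((res c).range))]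
    intro z hz
    obtain ⟨x, y, hy, rfl⟩ := IsFractionRing.div_surjective (A := (res c).range) z
    obtain ⟨a, ha⟩ := x.2
    obtain ⟨b, hb⟩ := y.2
    have hbn : ∀ i, res c b i ≠ 0 := fun i e =>
      nonZeroDivisors.ne_zero hy (Subtype.ext (hb.symm.trans (hzero c b i e)))
    -- coordinatewise solutions
    have hsol : ∀ i : {i : ι // Quotient.mk st i = c}, ∃ s : D i.1, s * res c b i = res c a i := by
      intro i
      let g : (res c).range →+* D i.1 :=
        (Pi.evalRingHom (fun j : {i : ι // Quotient.mk st i = c} => D j.1) i).comp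
          (res c).range.subtype
      have hg : Function.Injective g := (injective_iff_map_eq_zero g).2 fun w hw => by
        obtain ⟨w', hw'⟩ := w.2
        have : res c w' i = 0 := by rw [hw']; exact hw
        exact Subtype.ext (hw'.symm.trans (hzero c w' i this))
      obtain ⟨s, hs⟩ := exists_mul_eq g hg x y (nonZeroDivisors.ne_zero hy) hz
      exact ⟨s, by rw [ha, hb]; exact hs⟩
    choose s hs using hsol
    let s' : Π i, D i := fun i => if h : Quotient.mk st i = c then s ⟨i, h⟩ else 0
    let b' : A := ec c * b + (1 - ec c)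
    have hs'A : s' ∈ A := by
      refine div_mem D F hF hA (b := b') b'.2 ((mem_nzd_iff D _).2 fun i => ?_) ?_
      · by_cases h : Quotient.mk st i = c
        · simpa [b', ec, h, hres] using hbn ⟨i, h⟩
        · simp [b', ec, h]
      · have : s' * (b' : Π i, D i) = ((ec c * a : A) : Π i, D i) := by
          funext i
          by_cases h : Quotient.mk st i = c
          · simpa [s', b', ec, h, hres] using hs ⟨i, h⟩
          · simp [s', b', ec, h]
        rw [this]; exact (ec c * a).2
    have hyne : algebraMap _ (FractionRing ((res c).range)) y ≠ 0 :=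
      (map_ne_zero_iff _ (IsFractionRing.injective _ _)).2 (nonZeroDivisors.ne_zero hy)
    refine ⟨⟨res c ⟨s', hs'A⟩, ⟨⟨s', hs'A⟩, rfl⟩⟩, ?_⟩
    rw [eq_div_iff hyne, ← map_mul]
    congr 1
    refine Subtype.ext (funext fun i => ?_)
    have := hs i
    rw [ha, hb] at this
    simpa [hres, s', i.2] using this
  exact ⟨κ, inferInstance, fun c => (res c).range, inferInstance, hdom, hic,
    ⟨RingEquiv.ofBijective φ hφ⟩⟩

end Groth.L08.InvNormal
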