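import Groth.Agent.L08.Semisimple

/-!
# Simple summands and isotypic sums
-/

universe u v w x

namespace Groth.L08

section Module

variable {R : Type u} [Ring R] {M : Type w} [AddCommGroup M] [Module R M] {ι : Type x}

/-- A maximal independent subfamily of simple submodules complements a submodule. -/
theorem exists_indep_isCompl (S : ι → Submodule R M) (hS : ∀ i, IsAtom (S i)) (hsum : ⨆ i, S i = ⊤)
    (W : Submodule R M) :
    ∃ J : Set ι, iSupIndep (fun j : J => S j) ∧ IsCompl W (⨆ j : J, S j) := by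
  classical
  let P : Set ι → Prop := fun J => ∀ (t : Finset ι) (f : ι → M), ↑t ⊆ J → (∀ i ∈ t, f i ∈ S i) →
    (∑ i ∈ t, f i) ∈ W → ∀ i ∈ t, f i = 0
  obtain ⟨J, hJ⟩ : ∃ J, Maximal (fun J => J ∈ {J | P J}) J := by
    refine zorn_subset {J | P J} fun c hc hch => ⟨⋃₀ c, ?_, fun s hs => Set.subset_sUnion_of_mem hs⟩
    intro t f ht hf hW
    rcases c.eq_empty_or_nonempty with rfl | hne
    · intro i hi; simpa using ht hi
    obtain ⟨s, hs, hts⟩ := DirectedOn.exists_mem_subset_of_finset_subset_biUnion hne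
      hch.directedOn (s := t) (f := id) (by simpa [Set.sUnion_eq_biUnion] using ht)
    exact hc hs t f hts hf hW
  refine ⟨J, ?_, ?_, ?_⟩
  · rw [iSupIndep_iff_finset_sum_eq_zero_imp_eq_zero]
    intro t v hv h0 i hi
    let f : ι → M := fun j => if h : j ∈ J then v ⟨j, h⟩ else 0
    have hf : ∀ j : J, f j = v j := fun j => by simp [f, j.2]
    rw [← hf]
    refine hJ.1 (t.map (Function.Embedding.subtype _)) f ?_ ?_ ?_ _
      (Finset.mem_map_of_mem _ hi)
    · intro x hx
      obtain ⟨j, -, rfl⟩ := Finset.mem_map.1 (Finset.mem_coe.1 hx)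
      exact j.2
    · intro x hx
      obtain ⟨j, hj, rfl⟩ := Finset.mem_map.1 hx
      exact (hf j).symm ▸ hv j hj
    · simp [hf, h0]
  · rw [disjoint_iff, eq_bot_iff]
    rintro x ⟨hxW, hxJ⟩
    obtain ⟨f, hf, rfl⟩ := (Submodule.mem_iSup_iff_exists_finsupp _ _).1 hxJ
    refine (Submodule.mem_bot R).2 (Finset.sum_eq_zero fun i hi => ?_)
    let g : ι → M := fun j => if h : j ∈ J then f ⟨j, h⟩ else 0
    have hg : ∀ j : J, g j = f j := fun j => by simp [g, j.2]
    rw [← hg]
    refine hJ.1 (f.support.map (Function.Embedding.subtype _)) g ?_ ?_ ?_ _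
      (Finset.mem_map_of_mem _ hi)
    · intro x hx
      obtain ⟨j, -, rfl⟩ := Finset.mem_map.1 (Finset.mem_coe.1 hx)
      exact j.2
    · intro x hx
      obtain ⟨j, -, rfl⟩ := Finset.mem_map.1 hx
      exact (hg j).symm ▸ hf j
    · simpa [hg, Finsupp.sum] using hxW
  · rw [codisjoint_iff, eq_top_iff, ← hsum]
    refine iSup_le fun i => ?_
    by_cases hi : i ∈ J
    · exact le_sup_of_le_right (le_iSup_of_le (⟨i, hi⟩ : J) le_rfl)
    by_contra hle
    have hd : S i ⊓ (W ⊔ ⨆ j : J, S j) = ⊥ := (hS i).le_iff.1 inf_le_left |>.resolve_right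
      fun e => hle (e ▸ inf_le_right)
    refine hi (hJ.2 (y := insert i J) ?_ (Set.subset_insert i J) (Set.mem_insert i J))
    intro t f ht hf hW
    have hfi : i ∈ t → f i = 0 := by
      intro hit
      have hm : f i ∈ S i ⊓ (W ⊔ ⨆ j : J, S j) := by
        refine ⟨hf i hit, ?_⟩
        rw [← Finset.sum_erase_add t f hit] at hW
        have : f i = (∑ j ∈ t.erase i, f j + f i) - ∑ j ∈ t.erase i, f j := by abel
        rw [this]
        refine sub_mem (Submodule.mem_sup_left hW) (Submodule.mem_sup_right (sum_mem fun j hj => ?_))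
        obtain ⟨hne, hjt⟩ := Finset.mem_erase.1 hj
        have hjJ : j ∈ J := (ht hjt).resolve_left hne
        exact Submodule.mem_iSup_of_mem (⟨j, hjJ⟩ : J) (hf j hjt)
      rwa [hd, Submodule.mem_bot] at hm
    intro j hj
    rcases eq_or_ne j i with rfl | hne
    · exact hfi hj
    refine hJ.1 (t.erase i) f ?_ (fun x hx => hf x (Finset.mem_of_mem_erase hx)) ?_ j
      (Finset.mem_erase.2 ⟨hne, hj⟩)
    · intro x hx
      obtain ⟨hxi, hxt⟩ := Finset.mem_erase.1 hx
      exact (ht hxt).resolve_left hxi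
    · by_cases hit : i ∈ t
      · rwa [← Finset.sum_erase_add t f hit, hfi hit, add_zero] at hW
      · rwa [Finset.erase_eq_of_notMem hit]

/-- A simple submodule inside a sum of images of simple modules is isomorphic to one of them. -/
theorem exists_equiv_of_le_iSup_range {S : ι → Type*} [∀ i, AddCommGroup (S i)] [∀ i, Module R (S i)]
    [∀ i, IsSimpleModule R (S i)] (m : Submodule R M) [IsSimpleModule R m]
    (hm : m ≤ ⨆ (i) (f : S i →ₗ[R] M), LinearMap.range f) : ∃ i, Nonempty (m ≃ₗ[R] S i) := by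
  let s : Set (Submodule R M) := {p | ∃ i, Nonempty (p ≃ₗ[R] S i)}
  haveI : ∀ p : s, IsSimpleModule R p := fun p => IsSimpleModule.congr p.2.choose_spec.some
  have hle : m ≤ sSup s := hm.trans (iSup_le fun i => iSup_le fun f => by
    rcases f.injective_or_eq_zero with h | h
    · exact le_sSup ⟨i, ⟨(LinearEquiv.ofInjective f h).symm⟩⟩
    · simp [h])
  obtain ⟨p, ⟨i, ⟨e⟩⟩, ⟨e'⟩⟩ := Submodule.linearEquiv_of_le_sSup m s hle
  exact ⟨i, ⟨e'.trans e⟩⟩

end Module

end Groth.L08
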