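import Groth.Prelude.Def_PLie
import Mathlib.Algebra.Polynomial.Derivative
import Mathlib.Algebra.Polynomial.Eval.Coeff
import Mathlib.Algebra.Polynomial.Eval.Degree
import Mathlib.Algebra.Polynomial.Degree.Lemmas
import Mathlib.Algebra.CharP.Algebra
import Mathlib.Data.Nat.Choose.Dvd
import Mathlib.Algebra.Field.ZMod

/-!
# Jacobson's formula for `p`-th powers in an associative algebra
-/

universe u v w

open Polynomial

noncomputable section

namespace Groth.L08.Jac

theorem choose_cast {A : Type w} [Ring A] {p : ℕ} (hp : p.Prime) (h0 : (p : A) = 0) :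
    ∀ j < p, ((p - 1).choose j : A) = (-1) ^ j := by
  intro j hj
  induction j with
  | zero => simp
  | succ j ih =>
    have h1 : ((p.choose (j + 1) : ℕ) : A) = 0 := by
      obtain ⟨m, hm⟩ := hp.dvd_choose_self j.succ_ne_zero hj
      rw [hm, Nat.cast_mul, h0, zero_mul]
    rw [← Nat.sub_add_cancel hp.pos, Nat.choose_succ_succ, Nat.cast_add, ih (by omega)] at h1
    rw [pow_succ, mul_neg, mul_one, eq_neg_iff_add_eq_zero, add_comm]
    exact h1

/-- In characteristic `p`, `(L - R)^(p-1) = ∑ L^j R^(p-1-j)` for commuting `L`, `R`. -/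
theorem sub_pow_pred {A : Type w} [Ring A] {p : ℕ} (hp : p.Prime) (h0 : (p : A) = 0) {x y : A} (h : Commute x y) :
    (x - y) ^ (p - 1) = ∑ j ∈ Finset.range p, x ^ j * y ^ (p - 1 - j) := by
  rw [sub_eq_add_neg, h.neg_right.add_pow, Nat.sub_add_cancel hp.pos]
  refine Finset.sum_congr rfl fun j hj => ?_
  rw [Finset.mem_range] at hj
  have hneg : ((-1 : A)) ^ (p - 1) = 1 := by
    rw [← choose_cast hp h0 (p - 1) (Nat.sub_lt hp.pos one_pos), Nat.choose_self, Nat.cast_one]
  have h2 : (-y) ^ (p - 1 - j) * ((-1 : A)) ^ j = y ^ (p - 1 - j) := by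
    rw [neg_pow, mul_assoc, (Commute.neg_one_right (y ^ (p - 1 - j))).pow_right j |>.eq, ← mul_assoc, ← pow_add,
      Nat.sub_add_cancel (Nat.le_sub_one_of_lt hj), hneg, one_mul]
  rw [choose_cast hp h0 j hj, mul_assoc, h2]

variable {R : Type u} [CommRing R] {A : Type w} [Ring A] [Algebra R A]

/-- Iterated commutators in an associative ring. -/
def word (x : Bool → A) (v : A) : List Bool → A
  | [] => v
  | i :: l => x i * word x v l - word x v l * x i

theorem word_bracketWord {L : Type v} [LieRing L] [LieAlgebra R L] (e : L →ₗ[R] A)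
    (he : ∀ x y : L, e ⁅x, y⁆ = e x * e y - e y * e x) (x : Bool → L) (v : L) (l : List Bool) :
    e (PLie.bracketWord x v l) = word (fun i => e (x i)) (e v) l := by
  induction l with
  | nil => rfl
  | cons i l ih => rw [PLie.bracketWord_cons, he, ih]; rfl

/-- Number of `true` values. -/
def cnt {n : ℕ} (t : Fin n → Bool) : ℕ := ∑ i, if t i then 1 else 0

theorem cnt_le {n : ℕ} (t : Fin n → Bool) : cnt t ≤ n := by
  refine (Finset.sum_le_sum (g := fun _ => 1) fun i _ => ?_).trans (by simp)
  split <;> simp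

/-- Commutation with a fixed element. -/
def adm (u : A) : A →+ A := AddMonoidHom.mulLeft u - AddMonoidHom.mulRight u

theorem iterate_adm (a b v : A) (n : ℕ) :
    ((adm (C a + C b * X))^[n]) (C v) =
      ∑ t : Fin n → Bool, monomial (cnt t) (word (fun i => if i then b else a) v (List.ofFn t)) := by
  induction n with
  | zero => simp [cnt, word]
  | succ n ih =>
    rw [Function.iterate_succ_apply', ih, map_sum, ← (Fin.consEquiv fun _ => Bool).sum_comp,
      Fintype.sum_prod_type, Fintype.sum_bool]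
    rw [← Finset.sum_add_distrib]
    refine Finset.sum_congr rfl fun t _ => ?_
    have ht : ∀ i : Bool, cnt ((Fin.consEquiv fun _ : Fin (n + 1) => Bool) (i, t)) = (if i then 1 else 0) + cnt t := fun i => by
      rw [cnt, Fin.sum_univ_succ]
      simp [cnt, Fin.consEquiv]
    simp only [ht]
    simp only [Fin.consEquiv_apply, List.ofFn_succ, Fin.cons_zero, Fin.cons_succ, word, if_true, if_false,
      Bool.false_eq_true, zero_add]
    simp only [adm, AddMonoidHom.sub_apply, AddMonoidHom.coe_mulLeft, AddMonoidHom.coe_mulRight,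
      AddMonoidHom.mulLeft, AddMonoidHom.mulRight]
    simp only [AddMonoidHom.coe_mk, ZeroHom.coe_mk, add_mul, mul_add, C_mul_monomial, monomial_mul_C, map_sub]
    rw [mul_assoc (C b), X_mul_monomial, C_mul_monomial, ← mul_assoc, monomial_mul_C, monomial_mul_X, add_comm 1]
    abel

theorem derivative_pow_sum (f : A[X]) (n : ℕ) :
    derivative (f ^ n) = ∑ j ∈ Finset.range n, f ^ j * derivative f * f ^ (n - 1 - j) := by
  induction n with
  | zero => simp
  | succ n ih =>
    rw [pow_succ, derivative_mul, ih, Finset.sum_mul, Finset.sum_range_succ, Nat.add_sub_cancel, Nat.sub_self,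
      pow_zero, mul_one]
    congr 1
    refine Finset.sum_congr rfl fun j hj => ?_
    rw [Finset.mem_range] at hj
    rw [mul_assoc, ← pow_succ, show n - 1 - j + 1 = n - j by omega]

theorem coeff_pow_linear (a b : A) (n : ℕ) :
    (∀ m, n < m → ((C a + C b * X) ^ n).coeff m = 0) ∧ ((C a + C b * X) ^ n).coeff n = b ^ n ∧
      ((C a + C b * X) ^ n).coeff 0 = a ^ n := by
  induction n with
  | zero =>
    refine ⟨fun m hm => ?_, by simp, by simp⟩
    rw [pow_zero, coeff_one, if_neg (by omega)]
  | succ n ih =>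
    obtain ⟨h1, h2, h3⟩ := ih
    rw [pow_succ, mul_add, ← mul_assoc]
    refine ⟨fun m hm => ?_, ?_, ?_⟩
    · obtain ⟨m, rfl⟩ : ∃ l, m = l + 1 := ⟨m - 1, by omega⟩
      simp [h1 (m + 1) (by omega), h1 m (by omega)]
    · simp [h1 (n + 1) (by omega), h2, pow_succ]
    · simp [h3, pow_succ]

/-- Jacobson's formula. -/
theorem pow_add_eq {p : ℕ} [hp : Fact p.Prime] [CharP R p] (a b : A) :
    (a + b) ^ p = a ^ p + b ^ p - ∑ t : Fin (p - 1) → Bool,
      ((ZMod.castHom (dvd_refl p) R) ((Fintype.card {i // t i = false} : ZMod p)⁻¹)) •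
        word (fun i => if i then b else a) b (List.ofFn t) := by
  let f : A[X] := C a + C b * X
  have h0 : (p : A) = 0 := by rw [← map_natCast (algebraMap R A) p, CharP.cast_eq_zero, map_zero]
  have h0' : (p : A[X]) = 0 := by rw [← map_natCast (C : A →+* A[X]), h0, map_zero]
  have hd : derivative f = C b := by simp [f]
  have hsum : derivative (f ^ p) = ((adm f)^[p - 1]) (C b) := by
    rw [derivative_pow_sum, hd]
    let L : AddMonoid.End A[X] := AddMonoidHom.mulLeft f
    let Rr : AddMonoid.End A[X] := AddMonoidHom.mulRight f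
    have hcomm : Commute L Rr := AddMonoidHom.ext fun z => (mul_assoc f z f).symm
    have hE : ((p : ℕ) : AddMonoid.End A[X]) = 0 := by
      refine AddMonoidHom.ext fun z => ?_
      exact (AddMonoid.End.natCast_apply p z).trans (by rw [nsmul_eq_mul, h0', zero_mul]; rfl)
    have key := DFunLike.congr_fun (sub_pow_pred hp.out hE hcomm) (C b)
    rw [AddMonoid.End.coe_pow] at key
    refine Eq.trans ?_ key.symm
    refine Eq.trans ?_ (map_sum ((AddMonoidHom.eval : A[X] →+ (A[X] →+ A[X]) →+ A[X]) (C b)) _ _).symm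
    refine Finset.sum_congr rfl fun j _ => ?_
    change _ = (L ^ j * Rr ^ (p - 1 - j) : AddMonoid.End A[X]) (C b)
    have hL : ∀ n z, (L ^ n) z = f ^ n * z := fun n => by
      induction n with
      | zero => simp
      | succ n ih => intro z; rw [pow_succ, pow_succ, AddMonoid.End.coe_mul, Function.comp_apply, ih, mul_assoc]; rfl
    have hR : ∀ n z, (Rr ^ n) z = z * f ^ n := fun n => by
      induction n with
      | zero => simp
      | succ n ih => intro z; rw [pow_succ, pow_succ', AddMonoid.End.coe_mul, Function.comp_apply, ih, ← mul_assoc]; rfl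
    rw [AddMonoid.End.coe_mul, Function.comp_apply, hR, hL, mul_assoc]
  let c : ℕ → R := fun j => ZMod.castHom (dvd_refl p) R (((j + 1 : ℕ) : ZMod p)⁻¹)
  let W : (Fin (p - 1) → Bool) → A := fun t => word (fun i => if i then b else a) b (List.ofFn t)
  have hcoeff : ∀ j, (f ^ p).coeff (j + 1) * (j + 1) = ∑ t with cnt t = j, W t := by
    intro j
    rw [← coeff_derivative, hsum, iterate_adm, finsetSum_coeff, Finset.sum_filter]
    simp only [coeff_monomial, W]
  have hrhs : ∑ t : Fin (p - 1) → Bool,
      ((ZMod.castHom (dvd_refl p) R) ((Fintype.card {i // t i = false} : ZMod p)⁻¹)) • W t =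
        - ∑ t : Fin (p - 1) → Bool, c (cnt t) • W t := by
    rw [← Finset.sum_neg_distrib]
    refine Finset.sum_congr rfl fun t _ => ?_
    rw [← neg_smul]
    congr 1
    rw [← map_neg]
    congr 1
    refine Eq.trans (congrArg Inv.inv ?_) (inv_neg (R := ZMod p) (a := ((cnt t + 1 : ℕ) : ZMod p)))
    have h1 : Fintype.card {i // t i = false} + cnt t = p - 1 := by
      rw [Fintype.card_subtype, Finset.card_filter, cnt, ← Finset.sum_add_distrib]
      refine (Finset.sum_congr rfl fun i _ => ?_).trans (Finset.sum_const 1) |>.trans (by simp)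
      cases t i <;> rfl
    have h2 : ((Fintype.card {i // t i = false} + (cnt t + 1) : ℕ) : ZMod p) = 0 := by
      rw [← add_assoc, h1, Nat.sub_add_cancel hp.out.pos, ZMod.natCast_self]
    rw [Nat.cast_add] at h2
    exact eq_neg_of_add_eq_zero_left h2
  obtain ⟨hc1, hc2, hc3⟩ := coeff_pow_linear a b p
  have hfib : ∑ t : Fin (p - 1) → Bool, c (cnt t) • W t =
      ∑ j ∈ Finset.range (p - 1), (f ^ p).coeff (j + 1) := by
    rw [← Finset.sum_fiberwise_of_maps_to (t := Finset.range p) (g := cnt)
      (fun t _ => Finset.mem_range.2 (lt_of_le_of_lt (cnt_le t) (Nat.sub_lt hp.out.pos one_pos)))]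
    have hj : ∀ j, (∑ t with cnt t = j, c (cnt t) • W t) = c j • ((f ^ p).coeff (j + 1) * (j + 1)) := fun j => by
      rw [hcoeff, Finset.smul_sum]
      exact Finset.sum_congr rfl fun t ht => by rw [(Finset.mem_filter.1 ht).2]
    simp only [hj]
    rw [← Nat.sub_add_cancel hp.out.pos, Finset.sum_range_succ, Nat.add_sub_cancel]
    have hlast : c (p - 1) = 0 := by
      change ZMod.castHom _ R (((p - 1 + 1 : ℕ) : ZMod p)⁻¹) = 0
      rw [Nat.sub_add_cancel hp.out.pos, ZMod.natCast_self, ZMod.inv_zero, map_zero]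
    simp only [Nat.sub_add_cancel hp.out.pos] at *
    rw [hlast, zero_smul, add_zero]
    refine Finset.sum_congr rfl fun j hj => ?_
    rw [Finset.mem_range] at hj
    have hne : IsUnit ((j + 1 : ℕ) : ZMod p) :=
      (ZMod.isUnit_iff_coprime _ _).2
        (hp.out.coprime_iff_not_dvd.2 (Nat.not_dvd_of_pos_of_lt j.succ_pos (by omega))).symm
    rw [← Nat.cast_succ, ← Nat.cast_comm, ← nsmul_eq_mul, ← Nat.cast_smul_eq_nsmul R, smul_smul,
      show c j * ((j + 1 : ℕ) : R) = 1 by rw [← map_natCast (ZMod.castHom (dvd_refl p) R), ← map_mul,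
        ZMod.inv_mul_of_unit _ hne, map_one], one_smul]
  have heval : eval₂RingHom' (RingHom.id A) 1 (fun z => Commute.one_right _) (f ^ p) = (a + b) ^ p := by
    rw [map_pow]
    congr 1
    simp [f, eval₂RingHom', eval₂_add, eval₂_mul_X]
  have hdeg : (f ^ p).natDegree < p + 1 :=
    Nat.lt_succ_of_le (Polynomial.natDegree_le_iff_coeff_eq_zero.2 hc1)
  rw [hrhs, hfib, sub_neg_eq_add, ← heval]
  change eval₂ (RingHom.id A) 1 (f ^ p) = _
  rw [eval₂_eq_sum_range' (RingHom.id A) hdeg 1]
  simp only [RingHom.id_apply, one_pow, mul_one]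
  rw [Finset.sum_range_succ, hc2, ← Nat.sub_add_cancel hp.out.pos, Finset.sum_range_succ', Nat.add_sub_cancel]
  simp only [Nat.sub_add_cancel hp.out.pos]
  rw [hc3]
  abel

variable {p : ℕ} [Fact p.Prime] [CharP R p] {L : Type v} [LieRing L] [LieAlgebra R L]

/-- Jacobson's formula along a map into an associative algebra. -/
theorem pow_map_add (e : L →ₗ[R] A) (he : ∀ x y : L, e ⁅x, y⁆ = e x * e y - e y * e x) (x y : L) :
    (e (x + y)) ^ p = e x ^ p + e y ^ p - e (PLie.jacobson R p x y) := by
  rw [map_add, pow_add_eq (R := R) (e x) (e y), PLie.jacobson, map_sum]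
  congr 1
  refine Finset.sum_congr rfl fun t _ => ?_
  rw [map_smul, word_bracketWord e he]
  congr 2
  funext i
  cases i <;> rfl

theorem map_jacobson {L' : Type w} [LieRing L'] [LieAlgebra R L'] (f : L →ₗ⁅R⁆ L') (x y : L) :
    f (PLie.jacobson R p x y) = PLie.jacobson R p (f x) (f y) := by
  rw [PLie.jacobson, PLie.jacobson, map_sum]
  refine Finset.sum_congr rfl fun t _ => ?_
  rw [map_smul]
  congr 1
  induction List.ofFn t with
  | nil => rfl
  | cons i l ih =>
    rw [PLie.bracketWord_cons, PLie.bracketWord_cons, LieHom.map_lie, ih]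
    cases i <;> rfl

end Groth.L08.Jac
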