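import Groth.Agent.L25.OrderKills
import Mathlib.RingTheory.Spectrum.Prime.RingHom
import Mathlib.RingTheory.LocalProperties.Projective
import Mathlib.RingTheory.Flat.Basic
import Mathlib.RingTheory.Spectrum.Prime.FreeLocus
import Mathlib.RingTheory.Nilpotent.Lemmas
import Mathlib.RingTheory.LocalRing.ResidueField.Ideal

/-!
# Finite locally free group schemes over a reduced base are killed by their order
-/

universe u v w

open scoped TensorProduct
open WithConv Coalgebra Bialgebra

namespace Groth.L08.KilledByOrder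

variable (R₀ : Type u) [CommRing R₀] (K : Type w) [CommRing K] [Algebra R₀ K]
  (A : Type v) [CommRing A] [HopfAlgebra R₀ A]

theorem id_pow_baseChange (n : ℕ) (a : A) :
    (toConv (AlgHom.id K (K ⊗[R₀] A)) ^ n : WithConv (K ⊗[R₀] A →ₐ[K] K ⊗[R₀] A)).ofConv ((1 : K) ⊗ₜ[R₀] a) =
      (1 : K) ⊗ₜ[R₀] (toConv (AlgHom.id R₀ A) ^ n : WithConv (A →ₐ[R₀] A)).ofConv a := by
  induction n generalizing a with
  | zero =>
    simp only [pow_zero, AlgHom.convOne_apply, TensorProduct.counit_tmul,
      CommSemiring.counit_apply]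
    simp [Algebra.algebraMap_eq_smul_one, Algebra.TensorProduct.one_def, TensorProduct.smul_tmul']
  | succ n ih =>
    rw [pow_succ, pow_succ, AlgHom.convMul_apply, AlgHom.convMul_apply,
      TensorProduct.comul_tmul, CommSemiring.comul_apply, ← (ℛ R₀ a).eq]
    simp only [map_sum, TensorProduct.tmul_sum, TensorProduct.AlgebraTensorModule.tensorTensorTensorComm_tmul,
      Algebra.TensorProduct.lift_tmul, ih, WithConv.ofConv_toConv, AlgHom.id_apply,
      Algebra.TensorProduct.tmul_mul_tmul, one_mul]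

theorem id_pow_eq_one [IsReduced R₀] [Module.Finite R₀ A] [Module.Projective R₀ A] (n : ℕ)
    (hn : ∀ p : PrimeSpectrum R₀, Module.rankAtStalk (R := R₀) A p = n) :
    (toConv (AlgHom.id R₀ A) ^ n : WithConv (A →ₐ[R₀] A)) = 1 := by
  apply WithConv.ext
  refine AlgHom.ext fun a => ?_
  refine sub_eq_zero.1 ((Module.forall_dual_apply_eq_zero_iff R₀ _).1 fun φ => ?_)
  refine IsNilpotent.eq_zero (nilpotent_iff_mem_prime.2 fun p hp => ?_)
  let K := p.ResidueField
  have h := Groth.L25.OrderKills.convPow_id_finrank K (K ⊗[R₀] A)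
  have hr : Module.finrank K (K ⊗[R₀] A) = n := (Module.rankAtStalk_eq (M := A) (⟨p, hp⟩ : PrimeSpectrum R₀)).symm.trans (hn _)
  rw [hr] at h
  have h1 := id_pow_baseChange R₀ K A n a
  rw [show (toConv (AlgHom.id K (K ⊗[R₀] A)) ^ n : WithConv (K ⊗[R₀] A →ₐ[K] K ⊗[R₀] A)) = 1 from h] at h1
  have h2 := id_pow_baseChange R₀ K A 0 a
  rw [pow_zero, pow_zero, h1] at h2
  rw [← Ideal.algebraMap_residueField_eq_zero, Algebra.algebraMap_eq_smul_one]
  have h3 := congrArg (fun z : K ⊗[R₀] A => TensorProduct.rid R₀ K (φ.lTensor K z)) h2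
  simp only [LinearMap.lTensor_tmul, TensorProduct.rid_tmul] at h3
  rw [map_sub, sub_smul, h3, sub_self]


end Groth.L08.KilledByOrder
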