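import Groth.Agent.L08.CharFinite
import Groth.Agent.L08.LinRed
import Groth.Agent.L08.FinFlat.Inertia
import Mathlib.RingTheory.Idempotents
import Mathlib.RingTheory.Artinian.Module
import Mathlib.RingTheory.Artinian.Ring
import Mathlib.LinearAlgebra.Eigenspace.Triangularizable

/-!
# Class functions and characters of linearly reductive groups
-/

universe u v w

open TensorProduct Matrix

noncomputable section

namespace Groth.L08.PeterWeyl

open Chevalley CharFinite

variable {k : Type u} [Field k] {A : Type v} [CommRing A] [HopfAlgebra k A]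

section Avg

variable {n m : Type w} [Fintype n] [DecidableEq n] [Fintype m] [DecidableEq m]

variable (k) in
/-- `a ↦ S a` on matrices -/
abbrev sMat (a : Matrix n n A) : Matrix n n A := a.map (HopfAlgebra.antipodeAlgHom k A)

theorem sMat_mul {a : Matrix n n A} (h : IsComatrix (k := k) a) : sMat k a * a = 1 :=
  mat_pinv_mul (R := A) (a := a) h (AlgHom.id k A)

theorem mul_sMat {a : Matrix n n A} (h : IsComatrix (k := k) a) : a * sMat k a = 1 :=
  mul_eq_one_comm.1 (sMat_mul h)

theorem map_comul {a : Matrix n n A} (h : IsComatrix (k := k) a) :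
    a.map (Bialgebra.comulAlgHom k A) =
      a.map (Algebra.TensorProduct.includeLeft : A →ₐ[k] A ⊗[k] A) *
        a.map (Algebra.TensorProduct.includeRight : A →ₐ[k] A ⊗[k] A) := by
  ext i j
  simp only [Matrix.map_apply, Matrix.mul_apply, Bialgebra.comulAlgHom_apply, h.comul_eq i j,
    Algebra.TensorProduct.includeLeft_apply, Algebra.TensorProduct.includeRight_apply,
    Algebra.TensorProduct.tmul_mul_tmul, one_mul, mul_one]

theorem map_comul_sMat {a : Matrix n n A} (h : IsComatrix (k := k) a) :
    (sMat k a).map (Bialgebra.comulAlgHom k A) =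
      (sMat k a).map (Algebra.TensorProduct.includeRight : A →ₐ[k] A ⊗[k] A) *
        (sMat k a).map (Algebra.TensorProduct.includeLeft : A →ₐ[k] A ⊗[k] A) := by
  have h1 : ∀ (f : A →ₐ[k] A ⊗[k] A), (sMat k a).map f * a.map f = 1 ∧ a.map f * (sMat k a).map f = 1 := fun f => by
    rw [← Matrix.map_mul, ← Matrix.map_mul, sMat_mul h, mul_sMat h, Matrix.map_one _ (map_zero _) (map_one _)]
    exact ⟨rfl, rfl⟩
  refine left_inv_eq_right_inv (h1 (Bialgebra.comulAlgHom k A)).1 ?_
  rw [map_comul h, Matrix.mul_assoc, ← Matrix.mul_assoc (a.map _) ((sMat k a).map _), (h1 _).2, Matrix.one_mul,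
    (h1 _).2]

/-- `X⁻¹ M Y` averaged over the group -/
def avg (α : A →ₗ[k] k) (a : Matrix n n A) (b : Matrix m m A) (M : Matrix n m k) : Matrix n m k :=
  (sMat k a * M.map (algebraMap k A) * b).map α

theorem avg_comm {α : A →ₗ[k] k} (hα : IsIntegral α) {a : Matrix n n A} {b : Matrix m m A}
    (ha : IsComatrix (k := k) a) (hb : IsComatrix (k := k) b) (M : Matrix n m k) :
    a * (avg α a b M).map (algebraMap k A) = (avg α a b M).map (algebraMap k A) * b := by
  let Φ : A ⊗[k] A →ₗ[k] A := (TensorProduct.lid k A).toLinearMap ∘ₗ α.rTensor A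
  set N := sMat k a * M.map (algebraMap k A) * b with hN
  have h1 : (avg α a b M).map (algebraMap k A) = (N.map (Bialgebra.comulAlgHom k A)).map Φ := by
    ext i j
    show algebraMap k A (α (N i j)) = Φ (Coalgebra.comul (R := k) (N i j))
    simp only [Φ, LinearMap.comp_apply, LinearEquiv.coe_coe, hα.1, TensorProduct.lid_tmul]
    exact Algebra.algebraMap_eq_smul_one _
  have h2 : N.map (Bialgebra.comulAlgHom k A) =
      (sMat k a).map (Algebra.TensorProduct.includeRight : A →ₐ[k] A ⊗[k] A) *
        N.map (Algebra.TensorProduct.includeLeft : A →ₐ[k] A ⊗[k] A) *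
        b.map (Algebra.TensorProduct.includeRight : A →ₐ[k] A ⊗[k] A) := by
    have hM : ∀ f : A →ₐ[k] A ⊗[k] A, (M.map (algebraMap k A)).map f = M.map (algebraMap k (A ⊗[k] A)) :=
      fun f => by ext i j; simp
    simp only [hN, Matrix.map_mul, hM, map_comul_sMat ha, map_comul hb, Matrix.mul_assoc]
  have hΦ : ∀ x y z : A, Φ ((1 ⊗ₜ[k] x) * (y ⊗ₜ[k] 1) * (1 ⊗ₜ[k] z)) = x * algebraMap k A (α y) * z := by
    intro x y z
    simp [Φ, Algebra.smul_def]
    ring
  have h3 : (N.map (Bialgebra.comulAlgHom k A)).map Φ = sMat k a * (avg α a b M).map (algebraMap k A) * b := by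
    rw [h2]
    ext i j
    simp only [Matrix.map_apply, Matrix.mul_apply, Finset.sum_mul, map_sum,
      Algebra.TensorProduct.includeLeft_apply, Algebra.TensorProduct.includeRight_apply, hΦ]
    rfl
  conv_lhs => rw [h1, h3, ← Matrix.mul_assoc, ← Matrix.mul_assoc, mul_sMat ha, Matrix.one_mul]

theorem trace_smul_map (c : k) (a : Matrix n n A) (M : Matrix n n k) :
    ((c • M).map (algebraMap k A) * a).trace = c • (M.map (algebraMap k A) * a).trace := by
  rw [← Matrix.trace_smul, ← Matrix.smul_mul]
  congr 2
  ext i j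
  simp only [Matrix.map_apply, Matrix.smul_apply, smul_eq_mul, map_mul]
  rw [Algebra.smul_def]

/-- traces against matrices commuting with a comatrix are combinations of characters -/
theorem trace_mem_span [IsAlgClosed k] [IsReduced A] (a : Matrix n n A) (h : IsComatrix (k := k) a)
    (M : Matrix n n k) (hM : a * M.map (algebraMap k A) = M.map (algebraMap k A) * a) :
    (M.map (algebraMap k A) * a).trace ∈
      Submodule.span k (Set.range fun p : (Σ d : ℕ, HopfRep.Comod k A (Fin d → k)) => chr p.2) := by
  classical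
  let E := Algebra.adjoin k ({M} : Set (Matrix n n k))
  let ψ : E →ₗ[k] A :=
    { toFun := fun X => ((X : Matrix n n k).map (algebraMap k A) * a).trace
      map_add' := fun X Y => by
        rw [AddMemClass.coe_add, Matrix.map_add _ (map_add _), Matrix.add_mul, Matrix.trace_add]
      map_smul' := fun c X => trace_smul_map c a X.1 }
  have hc : ∀ X : E, a * (X : Matrix n n k).map (algebraMap k A) = (X : Matrix n n k).map (algebraMap k A) * a := by
    rintro ⟨X, hX⟩
    induction hX using Algebra.adjoin_induction with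
    | mem x hx =>
      obtain rfl : x = M := hx
      exact hM
    | algebraMap r =>
      simp only [Algebra.algebraMap_eq_smul_one]
      ext i j
      simp [Matrix.mul_apply, Matrix.one_apply, apply_ite (algebraMap k A), mul_comm]
    | add x y _ _ hx hy => rw [Matrix.map_add _ (map_add _), Matrix.mul_add, Matrix.add_mul, hx, hy]
    | mul x y _ _ hx hy =>
      rw [Matrix.map_mul, ← Matrix.mul_assoc, hx, Matrix.mul_assoc, hy, Matrix.mul_assoc]
  have hnil : ∀ X : E, IsNilpotent X → ψ X = 0 := by
    intro X hX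
    have h1 : IsNilpotent ((X : Matrix n n k).map (algebraMap k A) * a) := by
      refine Commute.isNilpotent_mul_right (hc X).symm ?_
      obtain ⟨r, hr⟩ := hX
      refine ⟨r, ?_⟩
      have e : (X : Matrix n n k) ^ r = 0 := by rw [← SubmonoidClass.coe_pow, hr]; rfl
      rw [← Matrix.map_pow, e]
      simp
    exact (Matrix.isNilpotent_trace_of_isNilpotent h1).eq_zero
  haveI : Module.Finite k E := inferInstanceAs (Module.Finite k E.toSubmodule)
  letI : CommRing E := Algebra.adjoinCommRingOfComm k (by rintro x hx y hy; simp_all)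
  haveI : IsArtinianRing E := IsArtinianRing.of_finite k E
  haveI : Finite (MaximalSpectrum E) := inferInstance
  letI := Fintype.ofFinite (MaximalSpectrum E)
  let π := Ideal.Quotient.mk (nilradical E)
  let ε := IsArtinianRing.quotNilradicalEquivPi E
  have hidem : ∀ I : MaximalSpectrum E, ∃ e : E, IsIdempotentElem e ∧ ε (π e) = Pi.single I 1 := by
    intro I
    have he : IsIdempotentElem (ε.symm (Pi.single I 1)) :=
      (show IsIdempotentElem (Pi.single (M := fun J : MaximalSpectrum E => E ⧸ J.asIdeal) I 1) from by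
        rw [IsIdempotentElem, ← Pi.single_mul, one_mul]).map ε.symm
    obtain ⟨e, he', hπe⟩ := exists_isIdempotentElem_eq_of_ker_isNilpotent π (fun x hx => by
      rwa [Ideal.mk_ker, mem_nilradical] at hx) _ (RingHom.mem_range.2 (Ideal.Quotient.mk_surjective _)) he
    exact ⟨e, he', by rw [hπe, AlgEquiv.apply_symm_apply]⟩
  choose e he hπ using hidem
  have hres : ∀ (I : MaximalSpectrum E) (x : E ⧸ I.asIdeal), ∃ c : k, algebraMap k (E ⧸ I.asIdeal) c = x := by
    intro I x
    haveI := I.isMaximal
    letI : Field (E ⧸ I.asIdeal) := Ideal.Quotient.field _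
    exact (IsAlgClosed.algebraMap_bijective_of_isIntegral (k := k) (K := E ⧸ I.asIdeal)).2 x
  let X : E := ⟨M, Algebra.self_mem_adjoin_singleton k M⟩
  choose c hc' using fun I => hres I (ε (π X) I)
  have hd : IsNilpotent (X - ∑ I, c I • e I) := by
    rw [← mem_nilradical, ← Ideal.Quotient.eq_zero_iff_mem]
    apply ε.injective
    rw [map_zero, map_sub, map_sub, map_sum, map_sum]
    funext J
    simp only [Pi.sub_apply, Finset.sum_apply, Pi.zero_apply, sub_eq_zero]
    have : ∀ I, ε (π (c I • e I)) J = if I = J then algebraMap k (E ⧸ J.asIdeal) (c I) else 0 := by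
      intro I
      have e1 : ε (π (c I • e I)) = ε (π (algebraMap k E (c I))) * ε (π (e I)) := by
        rw [Algebra.smul_def, map_mul, map_mul]
      rw [e1, hπ, Pi.mul_apply]
      by_cases hIJ : I = J
      · subst hIJ
        rw [Pi.single_eq_same, mul_one, if_pos rfl]
        rfl
      · rw [Pi.single_eq_of_ne' hIJ, mul_zero, if_neg hIJ]
    rw [Finset.sum_congr rfl fun I _ => this I, Finset.sum_ite_eq' Finset.univ J, if_pos (Finset.mem_univ J), hc']
  have hψ : ψ X = ∑ I, c I • ψ (e I) := by
    have := hnil _ hd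
    rw [map_sub, map_sum, sub_eq_zero] at this
    simpa using this
  show ψ X ∈ _
  rw [hψ]
  refine Submodule.sum_mem _ fun I _ => Submodule.smul_mem _ _ (Submodule.subset_span ?_)
  obtain ⟨d, cd, hcd⟩ := exists_comod_chr a h (e I : Matrix n n k) (congrArg Subtype.val (he I))
    (hc (e I)).symm
  exact ⟨⟨d, cd⟩, hcd.trans (Matrix.trace_mul_comm _ _)⟩

end Avg

section Schur

variable {V W : Type*} [AddCommGroup V] [Module k V] [HopfRep.Comod k A V]
  [AddCommGroup W] [Module k W] [HopfRep.Comod k A W]

theorem eq_zero_or_bijective (hV : HopfRep.IsSimpleComod k A V) (hW : HopfRep.IsSimpleComod k A W)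
    {f : V →ₗ[k] W} (hf : Hoch.IsComodHom A f) : f = 0 ∨ Function.Bijective f := by
  rcases hV.2 _ (isSubcomod_ker hf) with h | h
  · rcases hW.2 _ (isSubcomod_range hf) with h' | h'
    · exact Or.inl (LinearMap.range_eq_bot.1 h')
    · exact Or.inr ⟨LinearMap.ker_eq_bot.1 h, LinearMap.range_eq_top.1 h'⟩
  · exact Or.inl (LinearMap.ker_eq_top.1 h)

theorem exists_scalar [IsAlgClosed k] [Module.Finite k V] (hV : HopfRep.IsSimpleComod k A V)
    {f : V →ₗ[k] V} (hf : Hoch.IsComodHom A f) : ∃ c : k, f = c • LinearMap.id := by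
  haveI := hV.1
  obtain ⟨c, hc⟩ := Module.End.exists_eigenvalue (K := k) f
  have hg : Hoch.IsComodHom A (f - c • LinearMap.id) := by
    refine LinearMap.ext fun x => ?_
    have := LinearMap.congr_fun hf x
    simp only [LinearMap.comp_apply] at this ⊢
    rw [LinearMap.rTensor_sub, LinearMap.rTensor_smul, LinearMap.rTensor_id]
    simp only [LinearMap.sub_apply, LinearMap.smul_apply, LinearMap.id_apply, map_sub, map_smul, this]
  obtain ⟨v, hv⟩ := hc.exists_hasEigenvector
  refine ⟨c, sub_eq_zero.1 ((eq_zero_or_bijective hV hV hg).resolve_right fun hb => hv.2 (hb.1 ?_))⟩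
  simp [hv.apply_eq_smul]

end Schur

section Coord

variable {d e : ℕ} (c : HopfRep.Comod k A (Fin d → k)) (c' : HopfRep.Comod k A (Fin e → k))

theorem coact_apply_proj (x : Fin d → k) (i : Fin d) :
    TensorProduct.lid k A (LinearMap.rTensor A (LinearMap.proj i) (c.coact x)) = ∑ j, x j • matOf c i j := by
  conv_lhs => rw [pi_eq_sum_univ' x]
  simp only [map_sum, map_smul]
  rfl

theorem ext_proj {z z' : (Fin d → k) ⊗[k] A}
    (h : ∀ i : Fin d, TensorProduct.lid k A (LinearMap.rTensor A (LinearMap.proj i) z) =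
      TensorProduct.lid k A (LinearMap.rTensor A (LinearMap.proj i) z')) : z = z' := by
  have : ∀ z : (Fin d → k) ⊗[k] A,
      z = ∑ i, Pi.single i 1 ⊗ₜ[k] TensorProduct.lid k A (LinearMap.rTensor A (LinearMap.proj i) z) := by
    intro z
    induction z using TensorProduct.induction_on with
    | zero => simp
    | add x y hx hy => simp only [map_add, tmul_add, Finset.sum_add_distrib]; rw [← hx, ← hy]
    | tmul x a =>
      simp only [LinearMap.rTensor_tmul, TensorProduct.lid_tmul, LinearMap.proj_apply, ← smul_tmul]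
      rw [← sum_tmul]
      congr 1
      exact pi_eq_sum_univ' x
  rw [this z, this z']
  simp only [h]

theorem isComodHom_toLin' {M : Matrix (Fin d) (Fin e) k}
    (hM : matOf c * M.map (algebraMap k A) = M.map (algebraMap k A) * matOf c') :
    LinearMap.rTensor A (Matrix.toLin' M) ∘ₗ c'.coact = c.coact ∘ₗ Matrix.toLin' M := by
  refine (Pi.basisFun k (Fin e)).ext fun q => ext_proj fun i => ?_
  have h1 : ∀ z : (Fin e → k) ⊗[k] A, TensorProduct.lid k A ((LinearMap.proj i : (Fin d → k) →ₗ[k] k).rTensor A
      ((Matrix.toLin' M).rTensor A z)) =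
      ∑ p, M i p • TensorProduct.lid k A ((LinearMap.proj p : (Fin e → k) →ₗ[k] k).rTensor A z) := by
    intro z
    induction z using TensorProduct.induction_on with
    | zero => simp
    | add x y hx hy => simp only [map_add, hx, hy, smul_add, Finset.sum_add_distrib]
    | tmul x a => simp [Matrix.mulVec, dotProduct, Finset.sum_smul, smul_smul]
  simp only [LinearMap.comp_apply, Pi.basisFun_apply, h1, coact_apply_proj]
  have e1 := congrFun (congrFun hM i) q
  simp only [Matrix.mul_apply, Matrix.map_apply] at e1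
  simpa [Pi.single_apply, Algebra.smul_def, apply_ite (algebraMap k A), mul_comm] using e1.symm

end Coord

end Groth.L08.PeterWeyl
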