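import Groth.Prelude.Def_SGA3x
import Groth.Agent.L08.Borel.FlatNhd
import Groth.Agent.L08.MonoClosed
import Groth.Agent.L04.SupportSh.Components

/-!
# Open immersions of smooth groups with connected fibres onto neutral components
-/

set_option autoImplicit false
set_option linter.style.haveILetI false
set_option linter.unusedSectionVars false
set_option backward.isDefEq.respectTransparency.types false

universe u

open CategoryTheory CategoryTheory.Limits MonoidalCategory CartesianMonoidalCategory MonObj GrpObj AlgebraicGeometry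
open Topology

noncomputable section

namespace Groth.L08.NeutralImm

variable {S : Scheme.{u}}

theorem range_fibre (X : Over S) (s : S) :
    Set.range (pullback.fst X.hom (S.fromSpecResidueField s)) = X.hom ⁻¹' {s} := by
  rw [Scheme.Pullback.range_fst, Scheme.range_fromSpecResidueField]

theorem isEmbedding_fibre (X : Over S) (s : S) :
    IsEmbedding (pullback.fst X.hom (S.fromSpecResidueField s)) :=
  (MorphismProperty.pullback_fst X.hom (S.fromSpecResidueField s) inferInstance :
    IsPreimmersion _).base_embedding

theorem eta_hom (N : Over S) [GrpObj N] (p : ↥(𝟙_ (Over S)).left) :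
    N.hom (η[N].left p) = (𝟙_ (Over S)).hom p := by
  rw [← Scheme.Hom.comp_apply, Over.w η[N]]

/-- the fibre of the neutral set is a connected component -/
theorem neutral_fibre (N : Over S) [GrpObj N] (s : S) (p : ↥(𝟙_ (Over S)).left)
    (hp : (𝟙_ (Over S)).hom p = s) (x : ↥(pullback N.hom (S.fromSpecResidueField s)))
    (hx : pullback.fst N.hom (S.fromSpecResidueField s) x = η[N].left p) :
    SGA3x.neutralSet N ∩ N.hom ⁻¹' {s} = pullback.fst N.hom (S.fromSpecResidueField s) '' connectedComponent x := by
  let e := pullback.fst N.hom (S.fromSpecResidueField s)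
  have hF : N.hom ⁻¹' {(𝟙_ (Over S)).hom p} = Set.range e := by rw [hp, range_fibre]
  apply subset_antisymm
  · rintro y ⟨hy, hys⟩
    obtain ⟨q, hq⟩ := Set.mem_iUnion.1 hy
    have hqs : (𝟙_ (Over S)).hom q = s := by
      have := connectedComponentIn_subset _ _ hq
      exact this.symm.trans hys
    have hqp : q = p := hqs.trans hp.symm
    subst hqp
    have hC : connectedComponentIn (N.hom ⁻¹' {(𝟙_ (Over S)).hom q}) (η[N].left q) ⊆ Set.range e :=
      (connectedComponentIn_subset _ _).trans hF.le
    obtain ⟨z, rfl⟩ := hC hq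
    refine ⟨z, IsPreconnected.subset_connectedComponent
      (s := e ⁻¹' connectedComponentIn (N.hom ⁻¹' {(𝟙_ (Over S)).hom q}) (η[N].left q)) ?_ ?_ hq, rfl⟩
    · rw [← (isEmbedding_fibre N s).toIsInducing.isPreconnected_image, Set.image_preimage_eq_of_subset hC]
      exact isPreconnected_connectedComponentIn
    · show e x ∈ connectedComponentIn (N.hom ⁻¹' {(𝟙_ (Over S)).hom q}) (η[N].left q)
      rw [hx]
      exact mem_connectedComponentIn (eta_hom N q)
  · refine Set.subset_inter (fun y hy => Set.mem_iUnion.2 ⟨p, ?_⟩) ?_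
    · refine (isPreconnected_connectedComponent.image e e.continuous.continuousOn).subset_connectedComponentIn
        ⟨x, mem_connectedComponent, hx⟩ ?_ hy
      rw [show (N.hom.base : N.left → S) ⁻¹' _ = _ from hF]
      exact Set.image_subset_range _ _
    · rw [← range_fibre]
      exact Set.image_subset_range _ _

variable {H N : Over S} [GrpObj H] [GrpObj N] (j : H ⟶ N) [IsMonHom j]

theorem image_fibre (s : S) :
    j.left '' (H.hom ⁻¹' {s}) = pullback.fst N.hom (S.fromSpecResidueField s) ''
      Set.range ((Over.pullback (S.fromSpecResidueField s)).map j).left := by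
  rw [← range_fibre, ← Set.range_comp, ← Set.range_comp]
  exact congrArg (fun m : pullback H.hom (S.fromSpecResidueField s) ⟶ N.left => Set.range m)
    (Groth.L25.SchImage.isPullback_fst_map (S.fromSpecResidueField s) j).w

theorem fibre_map_unit (s : S) :
    ∃ (p : ↥(𝟙_ (Over S)).left) (x : ↥(pullback N.hom (S.fromSpecResidueField s))), (𝟙_ (Over S)).hom p = s ∧
      pullback.fst N.hom (S.fromSpecResidueField s) x = η[N].left p ∧
      x ∈ Set.range ((Over.pullback (S.fromSpecResidueField s)).map j).left := by
  refine ⟨s, ?_⟩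
  have hy : η[H].left s ∈ H.hom ⁻¹' {s} := eta_hom H s
  have h : η[N].left s ∈ j.left '' (H.hom ⁻¹' {s}) :=
    ⟨_, hy, by rw [← Scheme.Hom.comp_apply, ← Over.comp_left, IsMonHom.one_hom j]⟩
  rw [image_fibre] at h
  obtain ⟨x, hx, hxe⟩ := h
  exact ⟨x, rfl, hxe, hx⟩

variable (hconn : ∀ s : S, _root_.IsConnected (H.hom ⁻¹' {s}))

include hconn in
theorem range_subset_component (s : S) (x : ↥(pullback N.hom (S.fromSpecResidueField s)))
    (hx : x ∈ Set.range ((Over.pullback (S.fromSpecResidueField s)).map j).left) :
    Set.range ((Over.pullback (S.fromSpecResidueField s)).map j).left ⊆ connectedComponent x := by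
  refine IsPreconnected.subset_connectedComponent ?_ hx
  rw [← (isEmbedding_fibre N s).toIsInducing.isPreconnected_image, ← image_fibre]
  exact (hconn s).isPreconnected.image _ j.left.continuous.continuousOn

include hconn in
theorem range_subset_neutral : Set.range j.left ⊆ SGA3x.neutralSet N := by
  rintro _ ⟨y, rfl⟩
  obtain ⟨p, x, hp, hpx, hxr⟩ := fibre_map_unit j (H.hom y)
  have h : j.left y ∈ j.left '' (H.hom ⁻¹' {H.hom y}) := ⟨y, rfl, rfl⟩
  rw [image_fibre] at h
  obtain ⟨z, hz, hze⟩ := h
  have := neutral_fibre N _ p hp x hpx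
  exact (this.symm.le ⟨z, range_subset_component j hconn _ x hxr hz, hze⟩).1

variable [Mono j] [QuasiCompact H.hom] [Smooth H.hom] [LocallyOfFiniteType N.hom] [QuasiSeparated N.hom]

include hconn in
/-- an open fibre map is onto the neutral component -/
theorem image_eq_of_open (s : S) (h : IsOpenImmersion ((Over.pullback (S.fromSpecResidueField s)).map j).left) :
    j.left '' (H.hom ⁻¹' {s}) = SGA3x.neutralSet N ∩ N.hom ⁻¹' {s} := by
  obtain ⟨p, x, hp, hpx, hxr⟩ := fibre_map_unit j s
  let k := S.residueField s
  let F : (Over.pullback (S.fromSpecResidueField s)).obj H ⟶ (Over.pullback (S.fromSpecResidueField s)).obj N :=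
    (Over.pullback (S.fromSpecResidueField s)).map j
  letI : GrpObj ((Over.pullback (S.fromSpecResidueField s)).obj H) := Functor.grpObjObj
  letI : GrpObj ((Over.pullback (S.fromSpecResidueField s)).obj N) := Functor.grpObjObj
  haveI : IsMonHom F := Groth.L25.MonoClosed.isMonHom_pullbackMap (S.fromSpecResidueField s) j
  haveI : Mono F := Functor.map_mono _ _
  haveI : LocallyOfFiniteType ((Over.pullback (S.fromSpecResidueField s)).obj N).hom :=
    MorphismProperty.pullback_snd _ _ ‹LocallyOfFiniteType N.hom›
  haveI : LocallyOfFiniteType ((Over.pullback (S.fromSpecResidueField s)).obj H).hom :=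
    MorphismProperty.pullback_snd _ _ (inferInstance : LocallyOfFiniteType H.hom)
  haveI : QuasiCompact F.left := by
    haveI : QuasiCompact (j.left ≫ N.hom) := by rw [Over.w j]; infer_instance
    haveI : QuasiCompact j.left := QuasiCompact.of_comp j.left N.hom
    exact MorphismProperty.of_isPullback (P := @QuasiCompact)
      (Groth.L25.SchImage.isPullback_fst_map (S.fromSpecResidueField s) j) ‹_›
  haveI : IsClosedImmersion F.left := Groth.L08.MonoClosed.isClosedImmersion_of_field (k := k) F
  haveI := h
  have hcl : IsClopen (Set.range F.left) :=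
    ⟨F.left.isClosedEmbedding.isClosed_range, F.left.isOpenEmbedding.isOpen_range⟩
  rw [image_fibre, neutral_fibre N s p hp x hpx,
    subset_antisymm (range_subset_component j hconn s x hxr) (hcl.connectedComponent_subset hxr)]

include hconn in
theorem range_eq_of_open [IsOpenImmersion j.left] : Set.range j.left = SGA3x.neutralSet N := by
  refine subset_antisymm (range_subset_neutral j hconn) fun y hy => ?_
  haveI : IsOpenImmersion ((Over.pullback (S.fromSpecResidueField (N.hom y))).map j).left :=
    MorphismProperty.of_isPullback (P := @IsOpenImmersion)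
      (Groth.L25.SchImage.isPullback_fst_map (S.fromSpecResidueField (N.hom y)) j) ‹_›
  obtain ⟨z, -, rfl⟩ := (image_eq_of_open j hconn _ this).symm.le ⟨hy, rfl⟩
  exact ⟨z, rfl⟩

include hconn in
/-- representing the neutral component forces open fibre maps -/
theorem open_fibre_of_rep
    (hrep : ∀ (T : Over S) (g : T ⟶ N), (∃ h : T ⟶ H, h ≫ j = g) ↔ Set.range g.left ⊆ SGA3x.neutralSet N) (s : S) :
    IsOpenImmersion ((Over.pullback (S.fromSpecResidueField s)).map j).left := by
  obtain ⟨p, x, hp, hpx, hxr⟩ := fibre_map_unit j s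
  let e := pullback.fst N.hom (S.fromSpecResidueField s)
  let F := ((Over.pullback (S.fromSpecResidueField s)).map j).left
  haveI : LocallyOfFiniteType (pullback.snd N.hom (S.fromSpecResidueField s)) :=
    MorphismProperty.pullback_snd _ _ ‹LocallyOfFiniteType N.hom›
  haveI : IsLocallyNoetherian (pullback N.hom (S.fromSpecResidueField s)) :=
    LocallyOfFiniteType.isLocallyNoetherian (pullback.snd N.hom (S.fromSpecResidueField s))
  let W : (pullback N.hom (S.fromSpecResidueField s)).Opens :=
    ⟨connectedComponent x, Groth.L04.SupportSh.isOpen_connectedComponent x⟩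
  obtain ⟨h, hh⟩ := (hrep (Over.mk ((W.ι ≫ e) ≫ N.hom)) (Over.homMk (W.ι ≫ e) rfl)).2 (by
    rintro _ ⟨z, rfl⟩
    exact ((neutral_fibre N s p hp x hpx).symm.le ⟨W.ι z, z.2, rfl⟩).1)
  have sq := Groth.L25.SchImage.isPullback_fst_map (S.fromSpecResidueField s) j
  let l : W.toScheme ⟶ pullback H.hom (S.fromSpecResidueField s) := sq.lift h.left W.ι (congrArg (fun m => m.left) hh)
  have hl : l ≫ F = W.ι := sq.lift_snd _ _ _
  have hr : Set.range F ⊆ Set.range W.ι := by
    rw [Scheme.Opens.range_ι]
    exact range_subset_component j hconn s x hxr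
  let F' := IsOpenImmersion.lift W.ι F hr
  have hF' : F' ≫ W.ι = F := IsOpenImmersion.lift_fac _ _ _
  haveI : Mono F := by
    haveI : Mono ((Over.pullback (S.fromSpecResidueField s)).map j) := Functor.map_mono _ _
    exact inferInstanceAs (Mono ((Over.forget _).map ((Over.pullback (S.fromSpecResidueField s)).map j)))
  haveI : IsIso F' := ⟨l, by rw [← cancel_mono F, Category.assoc, hl, hF', Category.id_comp],
    by rw [← cancel_mono W.ι, Category.assoc, hF', hl, Category.id_comp]⟩
  show IsOpenImmersion F
  rw [← hF']
  infer_instance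

omit [QuasiCompact H.hom] [QuasiSeparated N.hom] in
/-- fibrewise open immersions are open immersions -/
theorem isOpenImmersion_of_fibres
    (h : ∀ s : S, IsOpenImmersion ((Over.pullback (S.fromSpecResidueField s)).map j).left) :
    IsOpenImmersion j.left := by
  choose U hsU hU using fun s : S => Groth.L08.Borel.exists_open_isOpenImmersion j s
    (by haveI := h s; infer_instance)
  haveI : Flat j.left := by
    refine IsZariskiLocalAtSource.of_openCover (P := @Flat)
      (H.left.openCoverOfIsOpenCover (fun s : S => H.hom ⁻¹ᵁ U s) (TopologicalSpace.IsOpenCover.mk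
        (eq_top_iff.2 fun y _ => TopologicalSpace.Opens.mem_iSup.2 ⟨H.hom y, hsU (H.hom y)⟩))) fun s => ?_
    haveI : IsOpenImmersion ((Over.pullback (U s).ι).map j).left := @hU s _ (U s).ι (by rw [Scheme.Opens.range_ι])
    have hr : Set.range (H.hom ⁻¹ᵁ U s).ι ⊆ Set.range (pullback.fst H.hom (U s).ι) := by
      rw [Scheme.Opens.range_ι, Scheme.Pullback.range_fst, Scheme.Opens.range_ι]
      exact subset_rfl
    show Flat ((H.hom ⁻¹ᵁ U s).ι ≫ j.left)
    rw [← IsOpenImmersion.lift_fac (pullback.fst H.hom (U s).ι) (H.hom ⁻¹ᵁ U s).ι hr, Category.assoc,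
      (Groth.L25.SchImage.isPullback_fst_map (U s).ι j).w]
    infer_instance
  haveI : Mono j.left := inferInstanceAs (Mono ((Over.forget S).map j))
  haveI : LocallyOfFinitePresentation j.left := Groth.L08.HomLocus.lfp_hom j
  exact IsOpenImmersion.of_flat_of_mono _

end Groth.L08.NeutralImm
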