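import Mathlib.Algebra.Lie.UniversalEnveloping
import Mathlib.Algebra.Lie.OfAssociative
import Mathlib.LinearAlgebra.Basis.Defs
import Mathlib.LinearAlgebra.Finsupp.Supported
import Mathlib.LinearAlgebra.FreeModule.Basic
import Mathlib.Data.List.Sort
import Mathlib.Tactic.LinearCombination
import Mathlib.Tactic.Abel

/-!
# The Poincaré–Birkhoff–Witt basis

Jacobson's representation of a Lie algebra on the free module on sorted lists of basis indices.
-/

universe u v w

noncomputable section

namespace Groth.L08.PBW

attribute [local instance] LieRing.ofAssociativeRing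

variable {k : Type u} [CommRing k] {L : Type v} [LieRing L] [LieAlgebra k L]
  {ι : Type w} [LinearOrder ι] (b : Module.Basis ι k L)

/-- Sorted lists of indices. -/
abbrev SL (ι : Type w) [LinearOrder ι] : Type w := {l : List ι // l.SortedLE}

/-- The free module on sorted lists. -/
abbrev T (k : Type u) [CommRing k] (ι : Type w) [LinearOrder ι] : Type max u w := SL ι →₀ k

/-- The empty list. -/
def emp : SL ι := ⟨[], List.Pairwise.sortedLE List.Pairwise.nil⟩

/-- Ordered insertion. -/
def ins (i : ι) (M : SL ι) : SL ι :=
  ⟨M.1.orderedInsert (· ≤ ·) i, List.Pairwise.sortedLE (M.2.pairwise.orderedInsert i _)⟩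

theorem length_ins (i : ι) (M : SL ι) : (ins i M).1.length = M.1.length + 1 := List.orderedInsert_length _ _ _

theorem ins_of_le {i : ι} {M : SL ι} (h : ∀ x ∈ M.1, i ≤ x) : (ins i M).1 = i :: M.1 := by
  change M.1.orderedInsert (· ≤ ·) i = _
  rcases hM : M.1 with _ | ⟨j, N⟩
  · rfl
  · exact List.orderedInsert_cons_of_le _ _ (h j (by rw [hM]; exact List.mem_cons_self ..))

theorem le_ins {j i : ι} {M : SL ι} (hi : j ≤ i) (h : ∀ x ∈ M.1, j ≤ x) : ∀ x ∈ (ins i M).1, j ≤ x := fun x hx => by
  rcases (List.mem_orderedInsert _).1 hx with rfl | hx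
  · exact hi
  · exact h x hx

/-- The tail of a nonempty sorted list. -/
def tl (j : ι) (N : List ι) (h : (j :: N).SortedLE) : SL ι :=
  ⟨N, List.Pairwise.sortedLE (List.pairwise_cons.1 h.pairwise).2⟩

theorem le_tl {j : ι} {N : List ι} (h : (j :: N).SortedLE) : ∀ x ∈ (tl j N h).1, j ≤ x :=
  fun _ hx => (List.pairwise_cons.1 h.pairwise).1 _ hx

/-- The action of a basis vector on a basis monomial. -/
def g (i : ι) (M : SL ι) : T k ι :=
  Finsupp.single (ins i M) 1 +
    match hM : M.1 with
    | [] => 0
    | j :: N =>
      if i ≤ j then 0 else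
        ((g i (tl j N (hM ▸ M.2)) - Finsupp.single (ins i (tl j N (hM ▸ M.2))) 1).sum fun K a =>
          if K.1.length < M.1.length then a • g j K else 0) +
        ((b.repr ⁅b i, b j⁆).sum fun m a => a • g m (tl j N (hM ▸ M.2)))
  termination_by M.1.length
  decreasing_by all_goals simp_all [tl]

/-- The operator of a basis vector. -/
def op (i : ι) : T k ι →ₗ[k] T k ι := Finsupp.linearCombination k (g b i)

theorem op_single (i : ι) (M : SL ι) : op b i (Finsupp.single M 1) = g b i M := by simp [op]

/-- The operator of an element of the Lie algebra. -/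
def opL : L →ₗ[k] Module.End k (T k ι) := b.constr k (op b)

theorem opL_basis (i : ι) : opL b (b i) = op b i := b.constr_basis k _ i

theorem g_of_le {i : ι} {M : SL ι} (h : ∀ x ∈ M.1, i ≤ x) : g b i M = Finsupp.single (ins i M) 1 := by
  rw [g.eq_def]
  split
  · rw [add_zero]
  · next j N hM => rw [if_pos (h j (by rw [hM]; exact List.mem_cons_self ..)), add_zero]

/-- Lists of length at most `n`. -/
abbrev Deg (n : ℕ) : Submodule k (T k ι) := Finsupp.supported k k {M : SL ι | M.1.length ≤ n}

theorem single_mem_Deg {n : ℕ} {M : SL ι} (h : M.1.length ≤ n) (a : k) : Finsupp.single M a ∈ Deg (k := k) n :=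
  Finsupp.single_mem_supported k a h

theorem induction_Deg {n : ℕ} {P : T k ι → Prop} (hz : P 0) (ha : ∀ x y, P x → P y → P (x + y))
    (hs : ∀ (a : k) x, P x → P (a • x)) (h : ∀ M : SL ι, M.1.length ≤ n → P (Finsupp.single M 1))
    {x : T k ι} (hx : x ∈ Deg n) : P x := by
  rw [Deg, Finsupp.supported_eq_span_single] at hx
  induction hx using Submodule.span_induction with
  | mem y hy => obtain ⟨M, hM, rfl⟩ := hy; exact h M hM
  | zero => exact hz
  | add x y _ _ hx hy => exact ha x y hx hy
  | smul a x _ hx => exact hs a x hx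

theorem g_mem (i : ι) (M : SL ι) : g b i M - Finsupp.single (ins i M) 1 ∈ Deg M.1.length := by
  induction h : M.1.length using Nat.strong_induction_on generalizing i M with
  | _ n ih =>
    subst h
    rw [g.eq_def, add_sub_cancel_left]
    split
    · exact zero_mem _
    · next j N hM =>
      split_ifs
      · exact zero_mem _
      have hN : (tl j N (hM ▸ M.2)).1.length < M.1.length := by simp [tl, hM]
      have hg : ∀ m (K : SL ι), K.1.length < M.1.length → g b m K ∈ Deg M.1.length := fun m K hK => by
        rw [← sub_add_cancel (g b m K) (Finsupp.single (ins m K) 1)]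
        exact add_mem (Finsupp.supported_mono (show {M' : SL ι | M'.1.length ≤ K.1.length} ⊆ {M' | M'.1.length ≤ M.1.length} from fun _ hx => le_trans hx hK.le) (ih _ hK m K rfl))
          (single_mem_Deg (by rw [length_ins]; omega) 1)
      refine add_mem (Submodule.finsuppSum_mem _ _ _ _ fun K _ => ?_)
        (Submodule.finsuppSum_mem _ _ _ _ fun m _ => Submodule.smul_mem _ _ (hg m _ hN))
      split_ifs with hK
      · exact Submodule.smul_mem _ _ (hg j K hK)
      · exact zero_mem _

theorem op_comm_of_le {i j : ι} (hij : j < i) {N : SL ι} (h : ∀ x ∈ N.1, j ≤ x) :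
    op b i (op b j (Finsupp.single N 1)) - op b j (op b i (Finsupp.single N 1)) =
      opL b ⁅b i, b j⁆ (Finsupp.single N 1) := by
  let M : SL ι := ins j N
  have hM : M.1 = j :: N.1 := ins_of_le h
  have h1 : op b i (op b j (Finsupp.single N 1)) = g b i M := by rw [op_single, g_of_le b h, op_single]
  have hins : ins j (ins i N) = ins i M := by
    refine Subtype.ext ?_
    rw [ins_of_le (le_ins hij.le h)]
    change j :: N.1.orderedInsert (· ≤ ·) i = M.1.orderedInsert (· ≤ ·) i
    rw [hM, List.orderedInsert_cons, if_neg (not_le.2 hij)]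
  have hrec : g b i M = Finsupp.single (ins i M) 1 + (op b j (g b i N - Finsupp.single (ins i N) 1) +
      opL b ⁅b i, b j⁆ (Finsupp.single N 1)) := by
    rw [g.eq_def]
    congr 1
    split
    · next hnil => rw [hM] at hnil; exact (List.cons_ne_nil _ _ hnil).elim
    · next j' N' hM' =>
      obtain ⟨rfl, rfl⟩ := List.cons_eq_cons.1 (hM.symm.trans hM')
      rw [if_neg (not_le.2 hij)]
      congr 1
      · rw [op, Finsupp.linearCombination_apply]
        refine Finsupp.sum_congr fun K hK => ?_
        rw [if_pos]
        have := (Finsupp.mem_supported k _).1 (g_mem b i N) hK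
        rw [hM, List.length_cons]
        exact Nat.lt_succ_of_le this
      · rw [opL, Module.Basis.constr_apply, Finsupp.sum, Finsupp.sum, LinearMap.sum_apply]
        refine Finset.sum_congr rfl fun m _ => ?_
        rw [LinearMap.smul_apply, op_single]
        rfl
  rw [h1, hrec, map_sub, op_single b i N, op_single b j, g_of_le b (le_ins hij.le h), hins]
  abel

theorem opL_lie_single (x y : L) (N : SL ι) :
    opL b x (opL b y (Finsupp.single N 1)) - opL b y (opL b x (Finsupp.single N 1)) =
      opL b ⁅x, y⁆ (Finsupp.single N 1) := by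
  induction h : N.1.length using Nat.strong_induction_on generalizing x y N with
  | _ n ih =>
    subst h
    suffices key : ∀ i j : ι, j < i →
        op b i (op b j (Finsupp.single N 1)) - op b j (op b i (Finsupp.single N 1)) =
          opL b ⁅b i, b j⁆ (Finsupp.single N 1) by
      let F : L →ₗ[k] L →ₗ[k] T k ι := LinearMap.mk₂ k
        (fun x y => opL b x (opL b y (Finsupp.single N 1)) - opL b y (opL b x (Finsupp.single N 1)) -
          opL b ⁅x, y⁆ (Finsupp.single N 1))
        (fun x x' y => by simp only [map_add, LinearMap.add_apply, add_lie]; abel)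
        (fun c x y => by simp only [map_smul, LinearMap.smul_apply, smul_lie, smul_sub])
        (fun x y y' => by simp only [map_add, LinearMap.add_apply, lie_add]; abel)
        (fun c x y => by simp only [map_smul, LinearMap.smul_apply, lie_smul, smul_sub])
      have hF : F = 0 := by
        refine b.ext fun i => b.ext fun j => ?_
        change _ - _ - _ = (0 : T k ι)
        rw [opL_basis, opL_basis, sub_eq_zero]
        rcases lt_trichotomy j i with hlt | rfl | hgt
        · exact key i j hlt
        · rw [lie_self, map_zero, LinearMap.zero_apply, sub_self]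
        · rw [← neg_sub, key j i hgt, ← lie_skew (b j) (b i), map_neg, LinearMap.neg_apply, neg_neg]
      exact sub_eq_zero.1 (LinearMap.congr_fun₂ hF x y)
    intro i j hij
    by_cases hle : ∀ x ∈ N.1, j ≤ x
    · exact op_comm_of_le b hij hle
    rcases hN : N.1 with _ | ⟨l, Q'⟩
    · exact absurd (by simp [hN]) hle
    let Q : SL ι := tl l Q' (hN ▸ N.2)
    have hlQ : ∀ x ∈ Q.1, l ≤ x := le_tl _
    have hlj : l < j := by
      by_contra hjl
      refine hle fun x hx => ?_
      rw [hN] at hx
      rcases List.mem_cons.1 hx with rfl | hx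
      · exact not_lt.1 hjl
      · exact (not_lt.1 hjl).trans (hlQ x hx)
    have hlen : Q.1.length < N.1.length := by simp [Q, tl, hN]
    have hins : ins l Q = N := Subtype.ext ((ins_of_le hlQ).trans hN.symm)
    have hz : op b l (Finsupp.single Q 1) = Finsupp.single N 1 := by rw [op_single, g_of_le b hlQ, hins]
    have hIH : ∀ x y, opL b x (opL b y (Finsupp.single Q 1)) - opL b y (opL b x (Finsupp.single Q 1)) =
        opL b ⁅x, y⁆ (Finsupp.single Q 1) := fun x y => ih _ hlen x y Q rfl
    have hw : ∀ s t : ι, l < s → l < t → op b t (op b l (op b s (Finsupp.single Q 1))) =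
        op b l (op b t (op b s (Finsupp.single Q 1))) + opL b ⁅b t, b l⁆ (op b s (Finsupp.single Q 1)) := by
      intro s t hs ht
      rw [← sub_eq_iff_eq_add', op_single b s Q, ← sub_add_cancel (g b s Q) (Finsupp.single (ins s Q) 1)]
      have hr : g b s Q - Finsupp.single (ins s Q) 1 ∈ Deg Q.1.length := g_mem b s Q
      generalize g b s Q - Finsupp.single (ins s Q) 1 = r at hr ⊢
      simp only [map_add]
      rw [add_sub_add_comm]
      congr 1
      · refine induction_Deg (P := fun r => op b t (op b l r) - op b l (op b t r) = opL b ⁅b t, b l⁆ r)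
          (by simp) (fun x y hx hy => by simp only [map_add, ← hx, ← hy]; abel)
          (fun a x hx => by simp only [map_smul, ← hx, smul_sub]) (fun M hM => ?_) hr
        have := ih _ (hM.trans_lt hlen) (b t) (b l) M rfl
        rwa [opL_basis, opL_basis] at this
      · exact op_comm_of_le b ht (le_ins hs.le hlQ)
    have hjl : op b j (op b l (Finsupp.single Q 1)) =
        op b l (op b j (Finsupp.single Q 1)) + opL b ⁅b j, b l⁆ (Finsupp.single Q 1) := by
      rw [← sub_eq_iff_eq_add']
      exact op_comm_of_le b hlj hlQ
    have hil : op b i (op b l (Finsupp.single Q 1)) =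
        op b l (op b i (Finsupp.single Q 1)) + opL b ⁅b i, b l⁆ (Finsupp.single Q 1) := by
      rw [← sub_eq_iff_eq_add']
      exact op_comm_of_le b (hlj.trans hij) hlQ
    rw [← hz]
    rw [hjl, map_add, hw j i hlj (hlj.trans hij), hil, map_add, hw i j (hlj.trans hij) hlj]
    have e1 := hIH (b i) ⁅b j, b l⁆
    have e2 := hIH (b j) ⁅b i, b l⁆
    have e3 := hIH (b l) ⁅b i, b j⁆
    have e4 := hIH (b i) (b j)
    simp only [opL_basis] at e1 e2 e3 e4
    have hJ := lie_jacobi (b i) (b j) (b l)
    rw [← lie_skew (b i) (b l), lie_neg] at e2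
    have e0 : opL b (⁅b i, ⁅b j, b l⁆⁆ + ⁅b j, ⁅b l, b i⁆⁆ + ⁅b l, ⁅b i, b j⁆⁆) (Finsupp.single Q 1) = 0 := by
      rw [hJ, map_zero, LinearMap.zero_apply]
    simp only [map_add, LinearMap.add_apply] at e0
    have e4' := congrArg (op b l) e4
    rw [map_sub] at e4'
    simp only [map_neg, LinearMap.neg_apply] at e2
    rw [show ⁅b i, b l⁆ = -⁅b l, b i⁆ from (lie_skew _ _).symm]
    simp only [map_neg, LinearMap.neg_apply]
    linear_combination (norm := abel) e4' + e1 - e2 + e3 + e0

/-- Jacobson's representation. -/
def rep : L →ₗ⁅k⁆ Module.End k (T k ι) :=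
  { opL b with
    map_lie' := fun {x y} => Finsupp.lhom_ext' fun N => LinearMap.ext_ring (by
      change opL b ⁅x, y⁆ (Finsupp.single N 1) = _
      rw [← opL_lie_single b x y N]
      rfl) }

local notation "U" => UniversalEnvelopingAlgebra k L

/-- The ordered monomials. -/
def mon : T k ι →ₗ[k] U :=
  Finsupp.linearCombination k fun M => (M.1.map fun i => UniversalEnvelopingAlgebra.ι k (b i)).prod

theorem mon_single (M : SL ι) :
    mon b (Finsupp.single M 1) = (M.1.map fun i => UniversalEnvelopingAlgebra.ι k (b i)).prod := by simp [mon]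

theorem mon_op (i : ι) (M : SL ι) :
    mon b (op b i (Finsupp.single M 1)) = UniversalEnvelopingAlgebra.ι k (b i) * mon b (Finsupp.single M 1) := by
  induction h : M.1.length using Nat.strong_induction_on generalizing i M with
  | _ n ih =>
    subst h
    by_cases hle : ∀ x ∈ M.1, i ≤ x
    · rw [op_single, g_of_le b hle, mon_single, mon_single, ins_of_le hle, List.map_cons, List.prod_cons]
    rcases hM : M.1 with _ | ⟨j, N'⟩
    · exact absurd (by simp [hM]) hle
    let N : SL ι := tl j N' (hM ▸ M.2)
    have hjN : ∀ x ∈ N.1, j ≤ x := le_tl _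
    have hji : j < i := by
      by_contra hji
      refine hle fun x hx => ?_
      rw [hM] at hx
      rcases List.mem_cons.1 hx with rfl | hx
      · exact not_lt.1 hji
      · exact (not_lt.1 hji).trans (hjN x hx)
    have hlen : N.1.length < M.1.length := by simp [N, tl, hM]
    have hins : ins j N = M := Subtype.ext ((ins_of_le hjN).trans hM.symm)
    have hz : op b j (Finsupp.single N 1) = Finsupp.single M 1 := by rw [op_single, g_of_le b hjN, hins]
    have hL : ∀ x : L, mon b (opL b x (Finsupp.single N 1)) =
        UniversalEnvelopingAlgebra.ι k x * mon b (Finsupp.single N 1) := by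
      intro x
      refine LinearMap.congr_fun (?_ : (mon b).comp (LinearMap.applyₗ (Finsupp.single N 1) ∘ₗ opL b) =
        (LinearMap.mulRight k (mon b (Finsupp.single N 1))).comp
          (UniversalEnvelopingAlgebra.ι k : L →ₗ⁅k⁆ U).toLinearMap) x
      refine b.ext fun m => ?_
      simpa [opL_basis] using ih _ hlen m N rfl
    have hj : mon b (op b j (op b i (Finsupp.single N 1))) =
        UniversalEnvelopingAlgebra.ι k (b j) * mon b (op b i (Finsupp.single N 1)) := by
      rw [op_single b i N, ← sub_add_cancel (g b i N) (Finsupp.single (ins i N) 1)]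
      have hr : g b i N - Finsupp.single (ins i N) 1 ∈ Deg N.1.length := g_mem b i N
      generalize g b i N - Finsupp.single (ins i N) 1 = r at hr ⊢
      simp only [map_add, mul_add]
      congr 1
      · exact induction_Deg (P := fun r => mon b (op b j r) = UniversalEnvelopingAlgebra.ι k (b j) * mon b r)
          (by simp) (fun x y hx hy => by simp only [map_add, hx, hy, mul_add])
          (fun a x hx => by simp only [map_smul, hx, mul_smul_comm])
          (fun K hK => ih _ (hK.trans_lt hlen) j K rfl) hr
      · have hl := le_ins hji.le hjN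
        rw [op_single, g_of_le b hl, mon_single, mon_single, ins_of_le hl, List.map_cons, List.prod_cons]
    have hz' := congrArg (mon b) hz
    rw [op_single, g_of_le b hjN, mon_single, ins_of_le hjN, List.map_cons, List.prod_cons, ← mon_single] at hz'
    rw [← hz, sub_eq_iff_eq_add'.1 (op_comm_of_le b hji hjN), map_add, hj, ih _ hlen i N rfl, hL,
      hz, ← hz', LieHom.map_lie, LieRing.of_associative_ring_bracket, sub_mul, mul_assoc, mul_assoc]
    abel

/-- The representation of the enveloping algebra. -/
def repU : U →ₐ[k] Module.End k (T k ι) := UniversalEnvelopingAlgebra.lift k (rep b)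

theorem repU_ι (x : L) : repU b (UniversalEnvelopingAlgebra.ι k x) = opL b x := by
  rw [repU, UniversalEnvelopingAlgebra.lift_ι_apply]
  rfl

theorem repU_mon (M : SL ι) : repU b (mon b (Finsupp.single M 1)) (Finsupp.single emp 1) = Finsupp.single M 1 := by
  induction h : M.1 generalizing M with
  | nil =>
    rw [mon_single, h, List.map_nil, List.prod_nil, map_one, Module.End.one_apply,
      show M = emp from Subtype.ext h]
  | cons i N ih =>
    have hs : (i :: N).SortedLE := h ▸ M.2
    have := ih (tl i N hs) rfl
    rw [mon_single, h, List.map_cons, List.prod_cons, map_mul, Module.End.mul_apply,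
      show (N.map fun i => UniversalEnvelopingAlgebra.ι k (b i)).prod = mon b (Finsupp.single (tl i N hs) 1) from
        (mon_single b (tl i N hs)).symm, this, repU_ι, opL_basis, op_single, g_of_le b (le_tl hs)]
    exact congrArg (Finsupp.single · (1 : k)) (Subtype.ext ((ins_of_le (le_tl hs)).trans h.symm))

theorem mon_repU (u : U) (t : T k ι) : mon b (repU b u t) = u * mon b t := by
  obtain ⟨a, rfl⟩ : ∃ a, UniversalEnvelopingAlgebra.mkAlgHom k L a = u := RingCon.mkₐ_surjective _ u
  induction a using TensorAlgebra.induction generalizing t with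
  | algebraMap r => simp [Algebra.algebraMap_eq_smul_one, Algebra.smul_mul_assoc]
  | ι x =>
    change mon b (repU b (UniversalEnvelopingAlgebra.ι k x) t) = UniversalEnvelopingAlgebra.ι k x * mon b t
    rw [repU_ι]
    have h : (opL b).compr₂ (mon b) =
        (LinearMap.mul k U).compl₂ (mon b) ∘ₗ (UniversalEnvelopingAlgebra.ι k : L →ₗ⁅k⁆ U).toLinearMap := by
      refine b.ext fun i => Finsupp.lhom_ext' fun M => LinearMap.ext_ring ?_
      simpa [opL_basis] using mon_op b i M
    exact LinearMap.congr_fun₂ h x t
  | mul a c ha hc => rw [map_mul, map_mul, Module.End.mul_apply, ha, hc, mul_assoc]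
  | add a c ha hc => rw [map_add, map_add, LinearMap.add_apply, map_add, ha, hc, add_mul]

/-- The basis of ordered monomials. -/
def basis : Module.Basis (SL ι) k U :=
  Module.Basis.ofRepr (LinearEquiv.ofLinear ((LinearMap.applyₗ (Finsupp.single emp 1)).comp (repU b).toLinearMap) (mon b)
    (Finsupp.lhom_ext' fun M => LinearMap.ext_ring (repU_mon b M))
    (LinearMap.ext fun u => by
      simp only [LinearMap.comp_apply, LinearMap.applyₗ_apply_apply, AlgHom.toLinearMap_apply, mon_repU,
        mon_single, emp, List.map_nil, List.prod_nil, mul_one, LinearMap.id_coe, id_eq]))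

theorem basis_apply (M : SL ι) :
    basis b M = (M.1.map fun i => UniversalEnvelopingAlgebra.ι k (b i)).prod := by
  rw [basis, Module.Basis.coe_ofRepr]
  exact mon_single b M

end Groth.L08.PBW
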