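import Mathlib.Algebra.MvPolynomial.PDeriv
import Mathlib.RingTheory.MvPolynomial.Basic
import Mathlib.RingTheory.Derivation.Basic
import Mathlib.Algebra.CharP.Basic
import Mathlib.LinearAlgebra.Dimension.Constructions
import Mathlib.LinearAlgebra.FiniteDimensional.Basic
import Mathlib.RingTheory.Ideal.Quotient.Operations

/-!
# Iterated derivations at a point, in characteristic `p`

Dual derivations give `p ^ g` independent functionals at a point which are linear over the
constants of the derivations.
-/

set_option autoImplicit false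

universe u

open MvPolynomial Module

noncomputable section

namespace Groth.L08.PDer

variable {K : Type u} [Field K] {p : ℕ} {S : Type u} [CommRing S] [Algebra K S] {g : ℕ}
  (D : Fin g → Derivation K S S)

/-- The composite of a word of derivations. -/
def word : List (Fin g) → (S →ₗ[K] S)
  | [] => LinearMap.id
  | i :: l => (word l).comp (D i).toLinearMap

theorem word_cons (i : Fin g) (l : List (Fin g)) (s : S) : word D (i :: l) s = word D l (D i s) := rfl

theorem word_const_mul {c : S} (hc : ∀ i, D i c = 0) (l : List (Fin g)) (s : S) :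
    word D l (c * s) = c * word D l s := by
  induction l generalizing s with
  | nil => rfl
  | cons i l ih => rw [word_cons, word_cons, (D i).leibniz, hc, smul_zero, add_zero, smul_eq_mul, ih]

theorem mem_pow_of_derivation (I : Ideal S) (i : Fin g) : ∀ (n : ℕ) (s : S), s ∈ I ^ (n + 1) → D i s ∈ I ^ n := by
  intro n
  induction n with
  | zero => intro s _; simp
  | succ n ih =>
    intro s hs
    rw [pow_succ] at hs
    refine Submodule.mul_induction_on hs (fun a ha b hb => ?_) fun a b ha hb => ?_
    · rw [(D i).leibniz]
      refine Ideal.add_mem _ (Ideal.mul_mem_right _ _ ha) ?_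
      rw [smul_eq_mul, pow_succ', ← smul_eq_mul]
      exact Submodule.smul_mem_smul hb (ih a ha)
    · rw [map_add]
      exact Ideal.add_mem _ ha hb

theorem word_mem (I : Ideal S) : ∀ (l : List (Fin g)) (n : ℕ) (s : S), s ∈ I ^ (n + l.length) → word D l s ∈ I ^ n
  | [], n, s, hs => hs
  | i :: l, n, s, hs => by
    rw [word_cons]
    refine word_mem I l n _ (mem_pow_of_derivation D I i _ s ?_)
    rwa [List.length_cons, ← add_assoc] at hs

theorem derivation_aeval (t : Fin g → S) (ht : ∀ i j, D i (t j) = if i = j then 1 else 0) (i : Fin g)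
    (f : MvPolynomial (Fin g) K) : D i (aeval t f) = aeval t (pderiv i f) := by
  induction f using MvPolynomial.induction_on with
  | C a => simp
  | add f h hf hh => rw [map_add, map_add, map_add, map_add, hf, hh]
  | mul_X f j hf =>
    rw [map_mul, aeval_X, (D i).leibniz, (pderiv i).leibniz, hf, ht, map_add, smul_eq_mul, smul_eq_mul,
      smul_eq_mul, smul_eq_mul, map_mul, map_mul, aeval_X, pderiv_X]
    by_cases h : i = j
    · subst h
      simp
    · simp [h, Pi.single_apply, Ne.symm h]

/-- A nonzero polynomial of exponents less than `p` is detected by a short word. -/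
theorem exists_word_ne_zero [CharP K p] (t : Fin g → S) (ht : ∀ i j, D i (t j) = if i = j then 1 else 0)
    (χ : S →ₐ[K] K) (hχ : ∀ j, χ (t j) = 0) :
    ∀ (d : ℕ) (f : MvPolynomial (Fin g) K), f.totalDegree ≤ d → f ≠ 0 →
      (∀ m ∈ f.support, ∀ i, m i < p) → ∃ l : List (Fin g), l.length ≤ d ∧ χ (word D l (aeval t f)) ≠ 0 := by
  intro d
  induction d with
  | zero =>
    intro f hd hf hp
    refine ⟨[], le_rfl, ?_⟩
    obtain ⟨c, rfl⟩ : ∃ c, f = C c := ⟨_, totalDegree_eq_zero_iff_eq_C.1 (Nat.le_zero.1 hd)⟩
    show χ (aeval t (C c)) ≠ 0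
    rw [aeval_C, AlgHom.commutes]
    simpa using hf
  | succ d ih =>
    intro f hd hf hp
    by_cases h0 : coeff 0 f = 0
    · obtain ⟨m, hm⟩ := (support_nonempty.2 hf)
      obtain ⟨i, hi⟩ : ∃ i, m i ≠ 0 := by
        by_contra h
        push Not at h
        rw [show m = 0 from Finsupp.ext h] at hm
        exact (mem_support_iff.1 hm) h0
      have hne : pderiv i f ≠ 0 := by
        intro h
        have := congrArg (coeff (m - Finsupp.single i 1)) h
        rw [coeff_pderiv, coeff_zero] at this
        have hm' : m - Finsupp.single i 1 + Finsupp.single i 1 = m :=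
          tsub_add_cancel_of_le (Finsupp.single_le_iff.2 (Nat.one_le_iff_ne_zero.2 hi))
        rw [hm'] at this
        have hcast : ((((m - Finsupp.single i 1 : Fin g →₀ ℕ)) i : ℕ) : K) + 1 = (m i : K) := by
          rw [Finsupp.tsub_apply, Finsupp.single_eq_same, Nat.cast_sub (Nat.one_le_iff_ne_zero.2 hi)]
          simp
        rw [hcast] at this
        rcases mul_eq_zero.1 this with h1 | h1
        · exact (mem_support_iff.1 hm) h1
        · rw [CharP.cast_eq_zero_iff K p] at h1
          exact hi (Nat.eq_zero_of_dvd_of_lt h1 (hp m hm i))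
      have hsupp : ∀ m' ∈ (pderiv i f).support, ∀ j, m' j < p := by
        intro m' hm' j
        rw [mem_support_iff, coeff_pderiv] at hm'
        have h1 : m' + Finsupp.single i 1 ∈ f.support := mem_support_iff.2 fun h => hm' (by rw [h, zero_mul])
        exact lt_of_le_of_lt (by simp) (hp _ h1 j)
      have hdeg : (pderiv i f).totalDegree ≤ d := by
        refine Finset.sup_le fun m' hm' => ?_
        rw [mem_support_iff, coeff_pderiv] at hm'
        have h1 : m' + Finsupp.single i 1 ∈ f.support := mem_support_iff.2 fun h => hm' (by rw [h, zero_mul])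
        have h2 := (le_totalDegree h1).trans hd
        rw [Finsupp.sum_add_index' (fun _ => rfl) (fun _ _ _ => rfl), Finsupp.sum_single_index rfl] at h2
        omega
      obtain ⟨l, hl, hl0⟩ := ih _ hdeg hne hsupp
      refine ⟨i :: l, by simp [hl], ?_⟩
      rwa [word_cons, derivation_aeval D t ht]
    · refine ⟨[], Nat.zero_le _, ?_⟩
      show χ (aeval t f) ≠ 0
      rw [show χ (aeval t f) = aeval (fun j => χ (t j)) f from DFunLike.congr_fun (comp_aeval t χ) f]
      simp only [hχ]
      rwa [show (fun _ : Fin g => (0 : K)) = 0 from rfl, aeval_zero, Algebra.algebraMap_self, RingHom.id_apply,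
        constantCoeff_eq]

/-- The space of exponents less than `p`. -/
def box (p g : ℕ) : Set (Fin g →₀ ℕ) := {m | ∀ i, m i < p}

/-- At a point, dual derivations in characteristic `p` give `p ^ g` independent functionals which kill
a power of the maximal ideal and are linear over constants. -/
theorem exists_functionals [CharP K p] (t : Fin g → S)
    (ht : ∀ i j, D i (t j) = if i = j then 1 else 0) (χ : S →ₐ[K] K) :
    ∃ (M : ℕ) (V : Type u) (_ : AddCommGroup V) (_ : Module K V) (_ : FiniteDimensional K V)
      (Φ : S →ₗ[K] V),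
      (∀ c : S, (∀ i, D i c = 0) → ∀ s, Φ (c * s) = χ c • Φ s) ∧
      (∀ s ∈ RingHom.ker χ ^ M, Φ s = 0) ∧ p ^ g ≤ finrank K (LinearMap.range Φ) := by
  let M := g * p + 1
  let ι := (n : Fin M) × (Fin (n : ℕ) → Fin g)
  let Φ : S →ₗ[K] (ι → K) :=
    LinearMap.pi fun a => χ.toLinearMap.comp (word D (List.ofFn a.2))
  refine ⟨M, ι → K, inferInstance, inferInstance, inferInstance, Φ, fun c hc s => ?_, fun s hs => ?_, ?_⟩
  · funext a
    show χ (word D _ (c * s)) = χ c * χ (word D _ s)
    rw [word_const_mul D hc, map_mul]
  · funext a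
    show χ (word D _ s) = 0
    refine RingHom.mem_ker.1 ?_
    have h1 : s ∈ RingHom.ker χ ^ (1 + (List.ofFn a.2).length) := by
      refine Ideal.pow_le_pow_right ?_ hs
      rw [List.length_ofFn]
      have := a.1.2
      omega
    simpa using word_mem D (RingHom.ker χ) _ 1 s h1
  · let t' : Fin g → S := fun j => t j - algebraMap K S (χ (t j))
    have ht' : ∀ i j, D i (t' j) = if i = j then 1 else 0 := fun i j => by simp [t', ht]
    have hχ : ∀ j, χ (t' j) = 0 := fun j => by simp [t']
    let R := MvPolynomial.restrictSupport K (box p g)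
    let Ψ : R →ₗ[K] LinearMap.range Φ :=
      (Φ.rangeRestrict.comp (aeval (R := K) t').toLinearMap).comp R.subtype
    have hinj : Function.Injective Ψ := by
      rw [← LinearMap.ker_eq_bot, Submodule.eq_bot_iff]
      rintro ⟨f, hf⟩ hzero
      by_contra hne
      have hf' : ∀ m ∈ f.support, ∀ i, m i < p := fun m hm => ((mem_restrictSupport_iff K).1 hf) hm
      have hd : f.totalDegree ≤ g * p := by
        refine Finset.sup_le fun m hm => ?_
        rw [Finsupp.sum_fintype _ _ (fun _ => rfl)]
        calc ∑ i, m i ≤ ∑ _i : Fin g, p := Finset.sum_le_sum fun i _ => (hf' m hm i).le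
          _ = g * p := by simp
      obtain ⟨l, hl, hl0⟩ := exists_word_ne_zero D t' ht' χ hχ _ f hd (fun h => hne (Subtype.ext h)) hf'
      refine hl0 ?_
      have := congrFun (congrArg Subtype.val (LinearMap.mem_ker.1 hzero))
        (⟨⟨l.length, by omega⟩, fun j => l.get j⟩ : ι)
      have h2 : χ (word D (List.ofFn fun j : Fin l.length => l.get j) (aeval t' f)) = 0 := this
      rw [List.ofFn_get] at h2
      exact h2
    haveI : Finite (box p g) := by
      refine Set.Finite.to_subtype (Set.Finite.subset (Set.Finite.image Finsupp.equivFunOnFinite.symm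
        (Set.Finite.pi fun _ : Fin g => Set.finite_lt_nat p)) fun m hm => ?_)
      exact ⟨Finsupp.equivFunOnFinite m, fun i _ => hm i, by simp⟩
    have hcard : Nat.card (box p g) = p ^ g := by
      rw [show p ^ g = Nat.card (Fin g → Fin p) by simp]
      exact Nat.card_congr
        { toFun := fun m i => ⟨m.1 i, m.2 i⟩
          invFun := fun a => ⟨Finsupp.equivFunOnFinite.symm fun i => (a i : ℕ), fun i => by simp⟩
          left_inv := fun m => Subtype.ext (Finsupp.ext fun i => by simp)
          right_inv := fun a => funext fun i => Fin.ext (by simp) }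
    calc p ^ g = finrank K R := by
          rw [finrank_eq_nat_card_basis (MvPolynomial.basisRestrictSupport K (box p g)), hcard]
      _ ≤ _ := LinearMap.finrank_le_finrank_of_injective hinj

end Groth.L08.PDer
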