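import Groth.Agent.L08.PBW
import Groth.Agent.L08.Jacobson
import Mathlib.SetTheory.Cardinal.Order
import Mathlib.Algebra.CharP.Lemmas

/-!
# `p`-maps: uniqueness and existence from values on a basis
-/

universe u v w

noncomputable section

namespace Groth.L08.PLie

attribute [local instance] LieRing.ofAssociativeRing

variable {R : Type u} [CommRing R] {p : ℕ} [hp : Fact p.Prime] [CharP R p]

theorem commutator_pow {A : Type w} [Ring A] [Algebra R A] {L : Type v} [LieRing L] [LieAlgebra R L]
    (e : L →ₗ[R] A) (he : ∀ x y : L, e ⁅x, y⁆ = e x * e y - e y * e x) (x w : L) :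
    e ((LieAlgebra.ad R L x ^ p) w) = e x ^ p * e w - e w * e x ^ p := by
  have h0 : (p : A) = 0 := by rw [← map_natCast (algebraMap R A) p, CharP.cast_eq_zero, map_zero]
  let M : AddMonoid.End A := AddMonoidHom.mulLeft (e x)
  let N : AddMonoid.End A := AddMonoidHom.mulRight (e x)
  have hc : Commute M N := AddMonoidHom.ext fun z => (mul_assoc (e x) z (e x)).symm
  have hp0 : ((p : ℕ) : AddMonoid.End A) = 0 := AddMonoidHom.ext fun z =>
    (AddMonoid.End.natCast_apply p z).trans (by rw [nsmul_eq_mul, h0, zero_mul]; rfl)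
  have h1 : ∀ n, ((M - N) ^ n) (e w) = e ((LieAlgebra.ad R L x ^ n) w) := fun n => by
    induction n with
    | zero => simp
    | succ n ih =>
      rw [pow_succ', pow_succ', AddMonoid.End.coe_mul, Function.comp_apply, ih, Module.End.mul_apply,
        LieAlgebra.ad_apply, he]
      rfl
  obtain ⟨r, hr⟩ := Commute.exists_add_pow_prime_eq hp.out hc.neg_right
  rw [← sub_eq_add_neg, hp0, zero_mul, zero_mul, zero_mul, add_zero, neg_pow,
    ← Nat.sub_add_cancel hp.out.pos, pow_succ (-1 : AddMonoid.End A),
    show ((-1 : AddMonoid.End A)) ^ (p - 1) = 1 by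
      rw [← Jac.choose_cast hp.out hp0 (p - 1) (Nat.sub_lt hp.out.pos one_pos), Nat.choose_self, Nat.cast_one],
    one_mul, Nat.sub_add_cancel hp.out.pos] at hr
  have hL : ∀ n z, (M ^ n) z = e x ^ n * z := fun n => by
    induction n with
    | zero => simp
    | succ n ih => intro z; rw [pow_succ, pow_succ, AddMonoid.End.coe_mul, Function.comp_apply, ih, mul_assoc]; rfl
  have hR : ∀ n z, (N ^ n) z = z * e x ^ n := fun n => by
    induction n with
    | zero => simp
    | succ n ih => intro z; rw [pow_succ, pow_succ', AddMonoid.End.coe_mul, Function.comp_apply, ih, ← mul_assoc]; rfl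
  rw [← h1, hr]
  change (M ^ p) (e w) + -((N ^ p) (e w)) = _
  rw [hL, hR, ← sub_eq_add_neg]

variable {L : Type v} [LieRing L] [LieAlgebra R L]

theorem pmap_zero (φ : _root_.PLie.PMap R p L) : φ.toFun 0 = 0 := by
  have := φ.map_smul 0 0
  rwa [zero_smul, zero_pow hp.out.ne_zero, zero_smul] at this

theorem pmap_ext {φ ψ : _root_.PLie.PMap R p L} (s : Set L) (hs : Submodule.span R s = ⊤)
    (h : ∀ x ∈ s, φ.toFun x = ψ.toFun x) : φ = ψ := by
  have hfun : φ.toFun = ψ.toFun := funext fun x => by
    induction hs.ge (Submodule.mem_top (x := x)) using Submodule.span_induction with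
    | mem y hy => exact h y hy
    | zero => rw [pmap_zero, pmap_zero]
    | add y z _ _ hy hz => rw [φ.map_add, ψ.map_add, hy, hz]
    | smul c y _ hy => rw [φ.map_smul, ψ.map_smul, hy]
  cases φ; cases ψ; cases hfun; rfl

/-- A Lie algebra with a basis embeds in its enveloping algebra. -/
theorem ι_injective {ι : Type w} (b : Module.Basis ι R L) :
    Function.Injective (UniversalEnvelopingAlgebra.ι R : L →ₗ⁅R⁆ UniversalEnvelopingAlgebra R L) := by
  classical
  letI : LinearOrder ι := linearOrderOfSTO WellOrderingRel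
  let s : ι → PBW.SL ι := fun i => ⟨[i], List.Pairwise.sortedLE (List.pairwise_singleton _ _)⟩
  have hs : Function.Injective s := fun i j h => List.singleton_injective (congrArg Subtype.val h)
  let U := UniversalEnvelopingAlgebra R L
  have h : (PBW.basis b).repr.toLinearMap ∘ₗ (UniversalEnvelopingAlgebra.ι R : L →ₗ⁅R⁆ U).toLinearMap =
      Finsupp.lmapDomain R R s ∘ₗ b.repr.toLinearMap := by
    refine b.ext fun i => ?_
    have : UniversalEnvelopingAlgebra.ι R (b i) = PBW.basis b (s i) := by
      rw [PBW.basis_apply]; simp [s]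
    simp only [LinearMap.comp_apply, LieHom.coe_toLinearMap, LinearEquiv.coe_coe, this, Module.Basis.repr_self,
      Finsupp.lmapDomain_apply, Finsupp.mapDomain_single]
  intro x y hxy
  have := (LinearMap.congr_fun h x).symm.trans ((congrArg (PBW.basis b).repr hxy).trans (LinearMap.congr_fun h y))
  exact b.repr.injective (Finsupp.mapDomain_injective hs this)

/-- Existence of a `p`-map with prescribed values on a basis. -/
theorem exists_pmap {ι : Type w} (b : Module.Basis ι R L) (y : ι → L)
    (hy : ∀ i, LieAlgebra.ad R L (b i) ^ p = LieAlgebra.ad R L (y i)) :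
    ∃ φ : _root_.PLie.PMap R p L, ∀ i, φ.toFun (b i) = y i := by
  let U := UniversalEnvelopingAlgebra R L
  let e : L →ₗ[R] U := (UniversalEnvelopingAlgebra.ι R : L →ₗ⁅R⁆ U).toLinearMap
  have hinj : Function.Injective e := ι_injective b
  have he : ∀ x w : L, e ⁅x, w⁆ = e x * e w - e w * e x := fun x w => by
    change UniversalEnvelopingAlgebra.ι R ⁅x, w⁆ = _
    rw [LieHom.map_lie, LieRing.of_associative_ring_bracket]
    rfl
  let zb : ι → U := fun i => e (b i) ^ p - e (y i)
  have hzb : ∀ i w, zb i * e w = e w * zb i := fun i w => by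
    have h1 := commutator_pow e he (b i) w (p := p)
    rw [hy, LieAlgebra.ad_apply, he] at h1
    simp only [zb, sub_mul, mul_sub]
    rw [sub_eq_sub_iff_sub_eq_sub]
    exact h1.symm
  let z : L → U := fun x => (b.repr x).sum fun i c => c ^ p • zb i
  have hzadd : ∀ x x', z (x + x') = z x + z x' := fun x x' => by
    simp only [z, map_add]
    exact Finsupp.sum_add_index' (fun i => by rw [zero_pow hp.out.ne_zero, zero_smul])
      (fun i c c' => by rw [add_pow_char, add_smul])
  have hzsmul : ∀ (c : R) x, z (c • x) = c ^ p • z x := fun c x => by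
    simp only [z, map_smul]
    rw [Finsupp.sum_smul_index' (fun i => by rw [zero_pow hp.out.ne_zero, zero_smul]), Finsupp.smul_sum]
    exact Finsupp.sum_congr fun i _ => by rw [smul_eq_mul, mul_pow, mul_smul]
  have hzc : ∀ x w, z x * e w = e w * z x := fun x w => by
    simp only [z, Finsupp.sum]
    exact (Finset.sum_mul _ _ _).trans ((Finset.sum_congr rfl fun i _ => by
      rw [smul_mul_assoc, hzb, mul_smul_comm]).trans (Finset.mul_sum _ _ _).symm)
  have hex : ∀ x, ∃ w, e w = e x ^ p - z x := fun x => by
    induction b.span_eq.ge (Submodule.mem_top (x := x)) using Submodule.span_induction with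
    | mem x hx =>
      obtain ⟨i, rfl⟩ := hx
      refine ⟨y i, ?_⟩
      simp [z, zb, Finsupp.sum_single_index, zero_pow hp.out.ne_zero]
    | zero =>
      refine ⟨0, ?_⟩
      simp [z, zero_pow hp.out.ne_zero]
    | add x x' _ _ hx hx' =>
      obtain ⟨w, hw⟩ := hx
      obtain ⟨w', hw'⟩ := hx'
      refine ⟨w + w' - _root_.PLie.jacobson R p x x', ?_⟩
      rw [map_sub, map_add, hw, hw', Jac.pow_map_add e he, hzadd]
      abel
    | smul c x _ hx =>
      obtain ⟨w, hw⟩ := hx
      refine ⟨c ^ p • w, ?_⟩
      rw [map_smul, hw, hzsmul, map_smul, smul_pow, smul_sub]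
  choose f hf using hex
  refine ⟨⟨f, fun c x => hinj ?_, fun x => LinearMap.ext fun w => hinj ?_, fun x x' => hinj ?_⟩, fun i => hinj ?_⟩
  · rw [hf, map_smul, map_smul, hf, hzsmul, smul_pow, smul_sub]
  · rw [LieAlgebra.ad_apply, he, hf, commutator_pow e he, sub_mul, mul_sub, hzc]
    abel
  · rw [hf, map_sub, map_add e (f x), hf, hf, Jac.pow_map_add e he, hzadd]
    abel
  · change e (f (b i)) = _
    rw [hf]
    simp [z, zb, Finsupp.sum_single_index, zero_pow hp.out.ne_zero]

end Groth.L08.PLie
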