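import Groth.Prelude.Def_PLie
import Mathlib.Algebra.Lie.Engel
import Mathlib.Algebra.Lie.Nilpotent
import Mathlib.Algebra.Lie.Solvable

/-!
# Basic lemmas on restricted Lie algebras
-/

universe u v

namespace Groth.L08.PLieBasic

variable {k : Type u} [Field k] {p : ℕ} [CharP k p]
variable {L : Type v} [LieRing L] [LieAlgebra k L] (φ : PLie.PMap k p L)

theorem lie_map_eq (x y : L) : ⁅φ x, y⁆ = (LieAlgebra.ad k L x ^ p) y := by
  rw [← φ.ad_map x]; rfl

theorem lie_map_mem {I : LieIdeal k L} {x : L} (hp : 0 < p) (hx : x ∈ I) (y : L) :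
    ⁅φ x, y⁆ ∈ I := by
  obtain ⟨n, hn⟩ : ∃ n, p = n + 1 := ⟨p - 1, by omega⟩
  rw [lie_map_eq, hn, pow_succ', Module.End.mul_apply, LieAlgebra.ad_apply]
  exact lie_mem_left k L I x _ hx

theorem ad_iterate (n : ℕ) (x : L) :
    LieAlgebra.ad k L (φ.toFun^[n] x) = LieAlgebra.ad k L x ^ p ^ n := by
  induction n with
  | zero => simp
  | succ n ih => rw [Function.iterate_succ_apply', φ.ad_map, ih, ← pow_mul, pow_succ]

/-- the ideal generated by an ideal and the `p`-th power of one of its elements -/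
def enlarge (hp : 0 < p) (I : LieIdeal k L) {x : L} (hx : x ∈ I) : LieIdeal k L where
  toSubmodule := I.toSubmodule ⊔ Submodule.span k {φ x}
  lie_mem {y z} hz := by
    change z ∈ I.toSubmodule ⊔ Submodule.span k {φ x} at hz
    change ⁅y, z⁆ ∈ I.toSubmodule ⊔ Submodule.span k {φ x}
    obtain ⟨r, hr, s, hs, rfl⟩ := Submodule.mem_sup.1 hz
    obtain ⟨c, rfl⟩ := Submodule.mem_span_singleton.1 hs
    refine Submodule.mem_sup_left ?_
    rw [lie_add, lie_smul, ← lie_skew y (φ x)]
    exact add_mem (lie_mem_right k L I y r hr) (Submodule.smul_mem _ c (neg_mem (lie_map_mem φ hp hx y)))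

theorem le_enlarge (hp : 0 < p) (I : LieIdeal k L) {x : L} (hx : x ∈ I) : I ≤ enlarge φ hp I hx :=
  fun _ hz => Submodule.mem_sup_left hz

theorem map_mem_enlarge (hp : 0 < p) (I : LieIdeal k L) {x : L} (hx : x ∈ I) :
    φ x ∈ enlarge φ hp I hx :=
  Submodule.mem_sup_right (Submodule.mem_span_singleton_self _)

theorem lie_enlarge_le (hp : 0 < p) (I : LieIdeal k L) {x : L} (hx : x ∈ I) :
    ⁅enlarge φ hp I hx, enlarge φ hp I hx⁆ ≤ I := by
  rw [LieSubmodule.lie_le_iff]
  intro a ha b hb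
  obtain ⟨r, hr, s, hs, rfl⟩ := Submodule.mem_sup.1 ha
  obtain ⟨c, rfl⟩ := Submodule.mem_span_singleton.1 hs
  rw [add_lie, smul_lie]
  exact add_mem (lie_mem_left k L I r b hr) (I.smul_mem c (lie_map_mem φ hp hx b))

/-- an element of a nilpotent ideal acts nilpotently on the whole algebra -/
theorem isNilpotent_ad_of_mem (N : LieIdeal k L) [LieRing.IsNilpotent N] {x : L} (hx : x ∈ N) :
    IsNilpotent (LieAlgebra.ad k L x) := by
  obtain ⟨m, hm⟩ : IsNilpotent (LieModule.toEnd k N N (⟨x, hx⟩ : N)) :=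
    LieModule.isNilpotent_toEnd_of_isNilpotent k N N _
  refine ⟨m + 1, LinearMap.ext fun y => ?_⟩
  have key : ∀ (j : ℕ) (z : N), ((LieModule.toEnd k N N (⟨x, hx⟩ : N) ^ j) z : L) =
      (LieAlgebra.ad k L x ^ j) (z : L) := by
    intro j
    induction j with
    | zero => simp
    | succ j ih =>
      intro z
      rw [pow_succ', pow_succ', Module.End.mul_apply, Module.End.mul_apply, ← ih]
      rfl
  rw [pow_succ, Module.End.mul_apply, LieAlgebra.ad_apply]
  have h := key m ⟨⁅x, y⁆, lie_mem_left k L N x y hx⟩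
  rw [hm] at h
  simpa using h.symm

/-- an ideal all of whose elements act nilpotently is nilpotent -/
theorem isNilpotent_of_forall [Module.Finite k L] (I : LieIdeal k L)
    (h : ∀ x ∈ I, IsNilpotent (LieAlgebra.ad k L x)) : LieRing.IsNilpotent I := by
  rw [LieAlgebra.isNilpotent_iff_forall (R := k)]
  rintro ⟨x, hx⟩
  obtain ⟨m, hm⟩ := h x hx
  refine ⟨m, LinearMap.ext fun z => ?_⟩
  have key : ∀ (j : ℕ) (z : I), (((LieAlgebra.ad k I (⟨x, hx⟩ : I)) ^ j) z : L) =
      (LieAlgebra.ad k L x ^ j) (z : L) := by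
    intro j
    induction j with
    | zero => simp
    | succ j ih =>
      intro z
      rw [pow_succ', pow_succ', Module.End.mul_apply, Module.End.mul_apply, ← ih]
      rfl
  refine Subtype.ext ?_
  rw [key m z, hm]
  simp

/-- a `p`-th power of an element of a nilpotent ideal together with the ideal still acts nilpotently -/
theorem isNilpotent_ad_enlarge [Module.Finite k L] (hp : 0 < p) (N : LieIdeal k L)
    [LieRing.IsNilpotent N] {x : L} (hx : x ∈ N) {z : L} (hz : z ∈ enlarge φ hp N hx) :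
    IsNilpotent (LieAlgebra.ad k L z) := by
  haveI : LieModule.IsNilpotent N L := by
    rw [LieModule.isNilpotent_iff_forall (R := k)]
    rintro ⟨w, hw⟩
    exact isNilpotent_ad_of_mem N hw
  obtain ⟨m, hm⟩ := LieModule.IsNilpotent.nilpotent k N L
  have hbot : N.lcs L m = ⊥ := by
    rw [← LieSubmodule.toSubmodule_inj, LieIdeal.coe_lcs_eq, hm]
    rfl
  have hstep : ∀ (i : ℕ), ∀ w ∈ N, ∀ y ∈ N.lcs L i, ⁅w, y⁆ ∈ N.lcs L (i + 1) := by
    intro i w hw y hy
    rw [LieIdeal.lcs_succ]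
    exact LieSubmodule.lie_mem_lie hw hy
  have hz' : ∀ i, ∀ y ∈ N.lcs L i, ⁅z, y⁆ ∈ N.lcs L (i + 1) := by
    intro i y hy
    obtain ⟨r, hr, s, hs, rfl⟩ := Submodule.mem_sup.1 hz
    obtain ⟨c, rfl⟩ := Submodule.mem_span_singleton.1 hs
    rw [add_lie, smul_lie]
    refine add_mem (hstep i r hr y hy) ((N.lcs L (i + 1)).smul_mem c ?_)
    obtain ⟨n, hn⟩ : ∃ n, p = n + 1 := ⟨p - 1, by omega⟩
    rw [lie_map_eq, hn, pow_succ', Module.End.mul_apply, LieAlgebra.ad_apply]
    refine hstep i x hx _ ?_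
    clear hn
    induction n with
    | zero => simpa using hy
    | succ n ih =>
      rw [pow_succ', Module.End.mul_apply, LieAlgebra.ad_apply]
      exact (N.lcs L i).lie_mem ih
  refine ⟨m, LinearMap.ext fun y => ?_⟩
  have key : ∀ j, (LieAlgebra.ad k L z ^ j) y ∈ N.lcs L j := by
    intro j
    induction j with
    | zero => simp
    | succ j ih =>
      rw [pow_succ', Module.End.mul_apply, LieAlgebra.ad_apply]
      exact hz' j _ ih
  simpa [hbot] using key m

theorem map_mem_of_maximal [Module.Finite k L] (hp : 0 < p) (N : LieIdeal k L)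
    (hN : LieRing.IsNilpotent N)
    (hmax : ∀ I : LieIdeal k L, LieRing.IsNilpotent I → I ≤ N) {x : L} (hx : x ∈ N) : φ x ∈ N := by
  haveI := hN
  exact hmax _ (isNilpotent_of_forall _ fun z hz => isNilpotent_ad_enlarge φ hp N hx hz)
    (map_mem_enlarge φ hp N hx)

theorem isNilpotent_ad_of_pNilpotent {x : L} (h : PLie.IsPNilpotent φ x) :
    IsNilpotent (LieAlgebra.ad k L x) := by
  obtain ⟨n, hn⟩ := h
  exact ⟨p ^ n, by rw [← ad_iterate φ n x, hn, map_zero]⟩

end Groth.L08.PLieBasic
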