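import Groth.Agent.L08.PLie
import Mathlib.LinearAlgebra.Finsupp.Pi

/-!
# `p`-maps on three-dimensional Lie algebras: brackets in coordinates
-/

universe u v

namespace Groth.L08.PLie3

variable {R : Type u} [CommRing R] {L : Type v} [LieRing L] [LieAlgebra R L] (bs : Module.Basis (Fin 3) R L)

/-- The vector with given coordinates. -/
noncomputable def vec (r s t : R) : L := r • bs 0 + s • bs 1 + t • bs 2

theorem vec_repr (w : L) : vec bs (bs.repr w 0) (bs.repr w 1) (bs.repr w 2) = w := by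
  conv_rhs => rw [← bs.sum_repr w, Fin.sum_univ_three]
  rfl

theorem exists_vec (w : L) : ∃ r s t, w = vec bs r s t := ⟨_, _, _, (vec_repr bs w).symm⟩

theorem vec_inj {r s t r' s' t' : R} : vec bs r s t = vec bs r' s' t' ↔ r = r' ∧ s = s' ∧ t = t' := by
  refine ⟨fun h => ?_, fun ⟨h1, h2, h3⟩ => by rw [h1, h2, h3]⟩
  have h' := fun i => congrArg (fun w => bs.repr w i) h
  refine ⟨?_, ?_, ?_⟩
  · simpa [vec] using h' 0
  · simpa [vec] using h' 1
  · simpa [vec] using h' 2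

theorem vec_add (r s t r' s' t' : R) : vec bs r s t + vec bs r' s' t' = vec bs (r + r') (s + s') (t + t') := by
  simp only [vec, add_smul]; abel

theorem vec_smul (c r s t : R) : c • vec bs r s t = vec bs (c * r) (c * s) (c * t) := by
  simp only [vec, smul_add, smul_smul]

theorem vec_neg (r s t : R) : -vec bs r s t = vec bs (-r) (-s) (-t) := by
  simp only [vec, neg_add, neg_smul]

theorem vec_zero : vec bs (0 : R) 0 0 = 0 := by simp [vec]

theorem basis0 : bs 0 = vec bs 1 0 0 := by simp [vec]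
theorem basis1 : bs 1 = vec bs 0 1 0 := by simp [vec]
theorem basis2 : bs 2 = vec bs 0 0 1 := by simp [vec]

variable {a₀ a₁ a₂ d₀ d₁ d₂ g₀ g₁ g₂ : R}
  (hxy : ⁅bs 0, bs 1⁆ = vec bs a₀ a₁ a₂) (hxz : ⁅bs 0, bs 2⁆ = vec bs d₀ d₁ d₂)
  (hyz : ⁅bs 1, bs 2⁆ = vec bs g₀ g₁ g₂)

include hxy hxz hyz

/-- The bracket in coordinates. -/
theorem lie_vec (r s t r' s' t' : R) : ⁅vec bs r s t, vec bs r' s' t'⁆ =
    vec bs ((r * s' - s * r') * a₀ + (r * t' - t * r') * d₀ + (s * t' - t * s') * g₀)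
      ((r * s' - s * r') * a₁ + (r * t' - t * r') * d₁ + (s * t' - t * s') * g₁)
      ((r * s' - s * r') * a₂ + (r * t' - t * r') * d₂ + (s * t' - t * s') * g₂) := by
  have h10 : ⁅bs 1, bs 0⁆ = -⁅bs 0, bs 1⁆ := (lie_skew _ _).symm
  have h20 : ⁅bs 2, bs 0⁆ = -⁅bs 0, bs 2⁆ := (lie_skew _ _).symm
  have h21 : ⁅bs 2, bs 1⁆ = -⁅bs 1, bs 2⁆ := (lie_skew _ _).symm
  conv_lhs =>
    simp only [vec, add_lie, lie_add, smul_lie, lie_smul, lie_self, h10, h20, h21, hxy, hxz, hyz]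
  simp only [vec]
  module

theorem ad_vec (r s t r' s' t' : R) : LieAlgebra.ad R L (vec bs r s t) (vec bs r' s' t') =
    vec bs ((r * s' - s * r') * a₀ + (r * t' - t * r') * d₀ + (s * t' - t * s') * g₀)
      ((r * s' - s * r') * a₁ + (r * t' - t * r') * d₁ + (s * t' - t * s') * g₁)
      ((r * s' - s * r') * a₂ + (r * t' - t * r') * d₂ + (s * t' - t * s') * g₂) :=
  (LieAlgebra.ad_apply R L _ _).trans (lie_vec bs hxy hxz hyz r s t r' s' t')

omit hxy hxz hyz

/-- `f ^ (n + 3) = 0` from `f ^ 3 = 0`. -/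
theorem pow_eq_zero_of_three {M : Type v} [AddCommGroup M] [Module R M] {f : Module.End R M}
    (h : f ^ 3 = 0) {n : ℕ} (hn : 3 ≤ n) : f ^ n = 0 := by
  rw [← Nat.sub_add_cancel hn, pow_add, h, mul_zero]

theorem end_ext {f g : Module.End R L} (h0 : f (vec bs 1 0 0) = g (vec bs 1 0 0))
    (h1 : f (vec bs 0 1 0) = g (vec bs 0 1 0)) (h2 : f (vec bs 0 0 1) = g (vec bs 0 0 1)) : f = g := by
  refine bs.ext fun i => ?_
  fin_cases i
  · simpa [vec] using h0
  · simpa [vec] using h1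
  · simpa [vec] using h2

end Groth.L08.PLie3
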