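import Groth.Agent.L08.PeterWeyl
import Groth.Prelude.Def_ComodTens
import Groth.Prelude.Def_ComodSub

/-!
# Class functions of linearly reductive groups are spanned by characters
-/

universe u

open CategoryTheory MonoidalCategory CartesianMonoidalCategory MonObj AlgebraicGeometry
open TensorProduct Matrix WithConv

noncomputable section

namespace Groth.L08.PeterWeyl

open Chevalley CharFinite

variable {k : Type u} [Field k] {A : Type u} [CommRing A] [HopfAlgebra k A]

theorem map_conv {O : Type u} [CommRing O] [Algebra k O] {n : Type*} [Fintype n] [DecidableEq n] {a : Matrix n n A}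
    (h : IsComatrix (k := k) a) (φ ψ : A →ₐ[k] O) :
    a.map (toConv φ * toConv ψ).ofConv = a.map φ * a.map ψ := by
  ext i j
  simp only [Matrix.map_apply, Matrix.mul_apply, AlgHom.convMul_apply, h.comul_eq i j, map_sum,
    Algebra.TensorProduct.lift_tmul]

/-- values of a function on scheme-valued points -/
def val {T : Over (Spec (CommRingCat.of k))} (h : T ⟶ CoactBr.sp k A) (f : A) : Γ(T.left, ⊤) :=
  h.left.appTop ((Scheme.ΓSpecIso (CommRingCat.of A)).inv f)

theorem exists_val (T : Over (Spec (CommRingCat.of k))) :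
    ∃ (O : Type u) (_ : CommRing O) (_ : Algebra k O) (et : T ⟶ CoactBr.sp k O) (θ : O → Γ(T.left, ⊤)),
      (∀ h : T ⟶ CoactBr.sp k A, ∃ φ : A →ₐ[k] O, h = et ≫ CoactBr.pt φ) ∧
      ∀ (φ : A →ₐ[k] O) (f : A), val (et ≫ CoactBr.pt φ) f = θ (φ f) := by
  obtain ⟨O, _, _, et, hO⟩ := Groth.L08.FinFlat.exists_pt T
  refine ⟨O, inferInstance, inferInstance, et,
    fun o => et.left.appTop ((Scheme.ΓSpecIso (CommRingCat.of O)).inv o), (hO A).1, fun φ f => ?_⟩
  show (et.left ≫ Spec.map (CommRingCat.ofHom φ.toRingHom)).appTop ((Scheme.ΓSpecIso (CommRingCat.of A)).inv f) = _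
  refine (congrArg (fun z => z.hom ((Scheme.ΓSpecIso (CommRingCat.of A)).inv f))
    (Scheme.Hom.comp_appTop et.left (Spec.map (CommRingCat.ofHom φ.toRingHom)))).trans ?_
  have e := congrArg (fun z => z.hom f) (Scheme.ΓSpecIso_inv_naturality (CommRingCat.ofHom φ.toRingHom))
  exact (congrArg et.left.appTop e).symm

theorem et_mul {T : Over (Spec (CommRingCat.of k))} {O : Type u} [CommRing O] [Algebra k O]
    (et : T ⟶ CoactBr.sp k O) (φ ψ : A →ₐ[k] O) :
    (et ≫ CoactBr.pt φ) * (et ≫ CoactBr.pt ψ) = et ≫ CoactBr.pt (toConv φ * toConv ψ).ofConv := by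
  rw [← MonObj.comp_mul]
  congr 1
  exact (map_mul Spec.mapMulEquiv (toConv φ) (toConv ψ)).symm

theorem et_inv {T : Over (Spec (CommRingCat.of k))} {O : Type u} [CommRing O] [Algebra k O]
    (et : T ⟶ CoactBr.sp k O) (φ : A →ₐ[k] O) :
    (et ≫ CoactBr.pt φ)⁻¹ = et ≫ CoactBr.pt (φ.comp (HopfAlgebra.antipodeAlgHom k A)) := by
  rw [← GrpObj.comp_inv, CoactBr.pt_inv]

/-- the conjugate of a point -/
def conjPt {O : Type u} [CommRing O] [Algebra k O] (x g : A →ₐ[k] O) : A →ₐ[k] O :=
  (toConv (toConv x * toConv g).ofConv * toConv (x.comp (HopfAlgebra.antipodeAlgHom k A))).ofConv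

theorem et_conj {T : Over (Spec (CommRingCat.of k))} {O : Type u} [CommRing O] [Algebra k O]
    (et : T ⟶ CoactBr.sp k O) (x g : A →ₐ[k] O) :
    (et ≫ CoactBr.pt x) * (et ≫ CoactBr.pt g) * (et ≫ CoactBr.pt x)⁻¹ = et ≫ CoactBr.pt (conjPt x g) := by
  rw [et_mul, et_inv, et_mul]
  rfl

theorem map_conjPt {O : Type u} [CommRing O] [Algebra k O] {n : Type*} [Fintype n] [DecidableEq n] {a : Matrix n n A}
    (h : IsComatrix (k := k) a) (x g : A →ₐ[k] O) :
    a.map (conjPt x g) = a.map x * a.map g * (sMat k a).map x := by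
  rw [conjPt, map_conv h, map_conv h, Matrix.map_map]
  rfl

theorem chr_conj {d : ℕ} (c : HopfRep.Comod k A (Fin d → k)) {O : Type u} [CommRing O] [Algebra k O]
    (x g : A →ₐ[k] O) : conjPt x g (chr c) = g (chr c) := by
  have h := isComatrix_matOf c
  rw [← trace_matOf]
  refine (AddMonoidHom.map_trace (conjPt x g).toRingHom.toAddMonoidHom _).trans
    (Eq.trans ?_ (AddMonoidHom.map_trace g.toRingHom.toAddMonoidHom _).symm)
  show ((matOf c).map (conjPt x g)).trace = ((matOf c).map g).trace
  rw [map_conjPt h, Matrix.trace_mul_comm, ← Matrix.mul_assoc, ← Matrix.map_mul, sMat_mul h,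
    Matrix.map_one _ (map_zero _) (map_one _), Matrix.one_mul]

theorem eq_trace_of_subcomod (f : A) : ∃ (d : ℕ) (a : Matrix (Fin d) (Fin d) A) (M : Matrix (Fin d) (Fin d) k),
    IsComatrix (k := k) a ∧ f = (M.map (algebraMap k A) * a).trace := by
  classical
  obtain ⟨C, hCf, hfC, hC⟩ := exists_finite_subcomod_of_finset (k := k) (A := A) (V := A) {f}
  letI cC := ComodSub.Comod.restr (HopfRep.Comod.regular k A) C hC
  haveI : Module.Free k C := Module.Free.of_divisionRing k C
  let b := Module.finBasis k C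
  let c := ComodTens.Comod.ofEquiv b.equivFun cC
  have hfC' : f ∈ C := hfC (by simp)
  let ε : C →ₗ[k] k := (Coalgebra.counit (R := k) (A := A)) ∘ₗ C.subtype
  refine ⟨_, matOf c, Matrix.of fun j i => b.equivFun ⟨f, hfC'⟩ j * ε (b i), isComatrix_matOf c, ?_⟩
  have hb : ∀ j, (b j : A) = ∑ i, ε (b i) • matOf c i j := by
    intro j
    have h1 : ∀ z : C ⊗[k] A, TensorProduct.lid k A (ε.rTensor A z) = ∑ i, ε (b i) •
        TensorProduct.lid k A ((LinearMap.proj i : (Fin _ → k) →ₗ[k] k).rTensor A
          ((b.equivFun : C →ₗ[k] _).rTensor A z)) := by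
      intro z
      induction z using TensorProduct.induction_on with
      | zero => simp
      | add x y hx hy => simp only [map_add, smul_add, Finset.sum_add_distrib, hx, hy]
      | tmul x y =>
        simp only [LinearMap.rTensor_tmul, TensorProduct.lid_tmul, LinearMap.proj_apply, LinearEquiv.coe_coe,
          smul_smul, ← Finset.sum_smul]
        congr 1
        exact (congrArg ε (b.sum_equivFun x).symm).trans (by
          simp only [map_sum, map_smul, smul_eq_mul, mul_comm])
    have h2 : (b j : A) = TensorProduct.lid k A (ε.rTensor A (cC.coact (b j))) := by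
      have hι : C.subtype.rTensor A (cC.coact (b j)) = Coalgebra.comul (R := k) (b j : A) :=
        (LinearMap.congr_fun (ComodSub.isComodHom_subtype _ C hC) (b j)).symm
      rw [show ε.rTensor A (cC.coact (b j)) =
          (Coalgebra.counit (R := k) (A := A)).rTensor A (C.subtype.rTensor A (cC.coact (b j))) from
        LinearMap.rTensor_comp_apply _ _ _ _, hι, Coalgebra.rTensor_counit_comul]
      simp
    rw [h2, h1]
    refine Finset.sum_congr rfl fun i _ => ?_
    congr 1
    show _ = TensorProduct.lid k A (LinearMap.rTensor A (LinearMap.proj i : (Fin (Module.finrank k C) → k) →ₗ[k] k)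
      ((b.equivFun : C →ₗ[k] (Fin (Module.finrank k C) → k)).rTensor A
      (cC.coact (b.equivFun.symm (Pi.single j 1)))))
    rw [show b.equivFun.symm (Pi.single j 1) = b j by simp [Pi.single_apply]]
  have hf : f = ∑ j, b.equivFun ⟨f, hfC'⟩ j • (b j : A) := by
    have e := congrArg C.subtype (b.sum_equivFun ⟨f, hfC'⟩).symm
    simp only [map_sum, map_smul, Submodule.subtype_apply] at e
    exact e
  conv_lhs => rw [hf]
  simp only [hb, Finset.smul_sum, smul_smul, Matrix.trace, Matrix.diag_apply, Matrix.mul_apply, Matrix.map_apply,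
    Matrix.of_apply, Algebra.smul_def, Finset.mul_sum, map_mul, _root_.mul_assoc]

theorem mem_span_of_class [IsAlgClosed k] [CharZero k] [Algebra.FiniteType k A]
    (hred : HopfRep.IsLinearlyReductive k A) (f : A)
    (hf : conjPt (Algebra.TensorProduct.includeRight : A →ₐ[k] A ⊗[k] A)
      (Algebra.TensorProduct.includeLeft : A →ₐ[k] A ⊗[k] A) f = f ⊗ₜ[k] (1 : A)) :
    f ∈ Submodule.span k (Set.range fun p : (Σ d : ℕ, HopfRep.Comod k A (Fin d → k)) => chr p.2) := by
  haveI := Groth.L08.CartierRed.isReduced_of_charZero (k := k) (A := A)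
  obtain ⟨α, hα⟩ := exists_isIntegral hred
  obtain ⟨d, a, M, ha, rfl⟩ := eq_trace_of_subcomod (k := k) f
  set N := sMat k a * M.map (algebraMap k A) * a with hN
  let L : A →ₐ[k] A ⊗[k] A := Algebra.TensorProduct.includeLeft
  let R : A →ₐ[k] A ⊗[k] A := Algebra.TensorProduct.includeRight
  let Ψ : A ⊗[k] A →ₗ[k] A := (TensorProduct.rid k A).toLinearMap ∘ₗ α.lTensor A
  have h1 : conjPt R L (M.map (algebraMap k A) * a).trace = (N.map R * a.map L).trace := by
    refine (AddMonoidHom.map_trace (conjPt R L).toRingHom.toAddMonoidHom _).trans ?_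
    show ((M.map (algebraMap k A) * a).map (conjPt R L)).trace = _
    rw [Matrix.map_mul, map_conjPt ha,
      show (M.map (algebraMap k A)).map (conjPt R L) = (M.map (algebraMap k A)).map R by ext i j; simp,
      hN, Matrix.map_mul, Matrix.map_mul]
    rw [← Matrix.mul_assoc, Matrix.trace_mul_comm, ← Matrix.mul_assoc, ← Matrix.mul_assoc]
  have h2 : Ψ ((N.map R * a.map L).trace) = ((avg α a a M).map (algebraMap k A) * a).trace := by
    simp only [Matrix.trace, Matrix.diag_apply, Matrix.mul_apply, Matrix.map_apply, map_sum]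
    refine Finset.sum_congr rfl fun i _ => Finset.sum_congr rfl fun j _ => ?_
    simp [Ψ, R, L, avg, N, Algebra.smul_def]
  have h3 : Ψ ((M.map (algebraMap k A) * a).trace ⊗ₜ[k] (1 : A)) = (M.map (algebraMap k A) * a).trace := by
    simp [Ψ, hα.2]
  rw [← h3, ← hf, h1, h2]
  exact trace_mem_span a ha _ (avg_comm hα ha ha M)

theorem linearIndependent_chr [IsAlgClosed k] [CharZero k] (hred : HopfRep.IsLinearlyReductive k A)
    (n : ℕ) (d : Fin n → ℕ) (c : (i : Fin n) → HopfRep.Comod k A (Fin (d i) → k))
    (hs : ∀ i, @HopfRep.IsSimpleComod k A _ _ _ _ (Fin (d i) → k) _ _ (c i))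
    (hne : ∀ i j, i ≠ j → ∀ P : (Fin (d i) → k) ≃ₗ[k] (Fin (d j) → k),
      LinearMap.rTensor A P.toLinearMap ∘ₗ (c i).coact ≠ (c j).coact ∘ₗ P.toLinearMap) :
    LinearIndependent k (fun i : Fin n => chr (c i)) := by
  classical
  obtain ⟨α, hα⟩ := exists_isIntegral hred
  let a := fun i => matOf (c i)
  have ha : ∀ i, IsComatrix (k := k) (a i) := fun i => isComatrix_matOf (c i)
  let β : Fin n → A →ₗ[k] k := fun i =>
    α ∘ₗ LinearMap.mulLeft k (HopfAlgebra.antipodeAlgHom k A (chr (c i)))
  have hβ : ∀ i j, β i (chr (c j)) = ∑ p : Fin (d i), ∑ q : Fin (d j), avg α (a i) (a j) (Matrix.single p q 1) p q := by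
    intro i j
    have e : HopfAlgebra.antipodeAlgHom k A (chr (c i)) * chr (c j) =
        ∑ p : Fin (d i), ∑ q : Fin (d j), (sMat k (a i) * (Matrix.single p q (1 : k)).map (algebraMap k A) * a j) p q := by
      rw [← trace_matOf, ← trace_matOf, Matrix.trace, Matrix.trace, map_sum, Finset.sum_mul]
      refine Finset.sum_congr rfl fun p _ => ?_
      rw [Finset.mul_sum]
      refine Finset.sum_congr rfl fun q _ => ?_
      rw [Matrix.mul_apply, Finset.sum_eq_single q]
      · rw [Matrix.mul_apply, Finset.sum_eq_single p]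
        · simp [a]
        · intro b _ hb; simp [Matrix.single_apply_of_row_ne (i' := b) (Ne.symm hb)]
        · simp
      · intro b _ hb
        rw [Matrix.mul_apply, Finset.sum_eq_zero, zero_mul]
        intro x _
        simp [Matrix.single_apply, Ne.symm hb]
      · simp
    simp only [β, LinearMap.comp_apply, LinearMap.mulLeft_apply, e, map_sum]
    rfl
  have hhom : ∀ i j (M : Matrix (Fin (d i)) (Fin (d j)) k),
      @Hoch.IsComodHom k _ A _ _ _ (Fin (d j) → k) _ _ (c j) (Fin (d i) → k) _ _ (c i)
        (Matrix.toLin' (avg α (a i) (a j) M)) := fun i j M =>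
    (isComodHom_toLin' (c i) (c j) (avg_comm hα (ha i) (ha j) M)).symm
  have hoff : ∀ i j, i ≠ j → β i (chr (c j)) = 0 := by
    intro i j hij
    rw [hβ]
    refine Finset.sum_eq_zero fun p _ => Finset.sum_eq_zero fun q _ => ?_
    rcases @eq_zero_or_bijective k _ A _ _ (Fin (d j) → k) (Fin (d i) → k) _ _ (c j) _ _ (c i) (hs j) (hs i) _
      (hhom i j (Matrix.single p q 1)) with h | h
    · rw [LinearEquiv.map_eq_zero_iff] at h
      simp [h]
    · exact absurd (hhom i j (Matrix.single p q 1)).symm
        (hne j i (Ne.symm hij) (LinearEquiv.ofBijective _ h))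
  have hon : ∀ i, β i (chr (c i)) = 1 := by
    intro i
    haveI := (hs i).1
    have hd : (d i : k) ≠ 0 := by
      refine Nat.cast_ne_zero.2 fun h => ?_
      haveI : IsEmpty (Fin (d i)) := by rw [h]; infer_instance
      exact not_subsingleton (Fin (d i) → k) inferInstance
    have hsc : ∀ p q, avg α (a i) (a i) (Matrix.single p q 1) =
        ((if p = q then (1 : k) else 0) * (d i : k)⁻¹) • (1 : Matrix (Fin (d i)) (Fin (d i)) k) := by
      intro p q
      obtain ⟨t, ht⟩ := @exists_scalar k _ A _ _ (Fin (d i) → k) _ _ (c i) _ inferInstance (hs i) _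
        (hhom i i (Matrix.single p q 1))
      have hM : avg α (a i) (a i) (Matrix.single p q 1) = t • (1 : Matrix (Fin (d i)) (Fin (d i)) k) := by
        apply Matrix.toLin'.injective
        rw [ht, map_smul, Matrix.toLin'_one]
      have htr : (avg α (a i) (a i) (Matrix.single p q 1)).trace = if p = q then 1 else 0 := by
        rw [avg]
        refine (AddMonoidHom.map_trace α.toAddMonoidHom _).symm.trans ?_
        rw [Matrix.trace_mul_comm, ← Matrix.mul_assoc,
          mul_sMat (ha i), Matrix.one_mul]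
        simp only [Matrix.trace, Matrix.diag_apply, Matrix.map_apply, Matrix.single_apply]
        split_ifs with hpq
        · subst hpq
          rw [Finset.sum_eq_single p] <;> simp [hα.2, Algebra.algebraMap_eq_smul_one]
          intro b hb; simp [Ne.symm hb]
        · rw [Finset.sum_eq_zero]
          · simp
          · intro b _
            rw [if_neg (fun h => hpq (h.1.trans h.2.symm)), map_zero]
      rw [hM, Matrix.trace_smul, Matrix.trace_one, Fintype.card_fin, smul_eq_mul] at htr
      rw [hM, ← htr, _root_.mul_assoc, mul_inv_cancel₀ hd, _root_.mul_one]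
    rw [hβ]
    simp [hsc, Matrix.one_apply, Finset.sum_ite_eq, hd]
  rw [Fintype.linearIndependent_iff]
  intro g hg i
  have := congrArg (β i) hg
  simp only [map_sum, map_smul, map_zero] at this
  rw [Finset.sum_eq_single i (fun j _ hj => by rw [hoff i j (Ne.symm hj), smul_zero]) (by simp), hon] at this
  simpa using this

end Groth.L08.PeterWeyl
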