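import Groth.Agent.L08.UnitsLines
import Groth.Agent.L08.KrullHopf
import Groth.Agent.L08.HopfTransport
import Mathlib.RingTheory.Bialgebra.GroupLike
import Mathlib.LinearAlgebra.TensorProduct.Finiteness
import Mathlib.LinearAlgebra.TensorProduct.Basis

/-!
# Rosenlicht: units of a connected group variety are characters up to scalars
-/

set_option autoImplicit false

universe u v w

open TensorProduct WithConv

noncomputable section

namespace Groth.L08.Rosenlicht

open Groth.L08.HopfDim Groth.L08.KrullHopf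

variable {k : Type u} [Field k] [IsAlgClosed k]

theorem isGroupLikeElem_of_isUnit_aux {A : Type u} [CommRing A] [IsDomain A] [HopfAlgebra k A]
    [Algebra.FiniteType k A] {a : A} (ha : IsUnit a) (h1 : Coalgebra.counit (R := k) a = 1) :
    IsGroupLikeElem k a := by
  classical
  obtain ⟨S, hS⟩ := TensorProduct.exists_finset (Coalgebra.comul (R := k) a)
  let V : Submodule k A := Submodule.span k (↑(S.image Prod.fst) : Set A)
  obtain ⟨s, hs⟩ := UnitsLines.exists_finset_lines (k := k) A V
  let J : A → Ideal A := fun w => Ideal.span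
    {y | ∃ φ : A →ₗ[k] k, φ w = 0 ∧ y = TensorProduct.lid k A (φ.rTensor A (Coalgebra.comul a))}
  have hcover : ∀ g : WithConv (A →ₐ[k] k), ∃ w ∈ s, J w ≤ RingHom.ker g.ofConv := by
    intro g
    have hV : rt g a ∈ V := by
      rw [rt, AlgHom.convMul_apply, hS, map_sum]
      refine Submodule.sum_mem _ fun p hp => ?_
      rw [Algebra.TensorProduct.lift_tmul, show (cst g).ofConv p.2 = algebraMap k A (g.ofConv p.2) from rfl,
        AlgHom.id_apply, mul_comm, ← Algebra.smul_def]
      exact Submodule.smul_mem _ _ (Submodule.subset_span (Finset.mem_image_of_mem Prod.fst hp))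
    obtain ⟨w, hw, c, hc⟩ := hs _ hV (ha.map (rt g))
    refine ⟨w, hw, Ideal.span_le.2 ?_⟩
    rintro _ ⟨φ, hφ, rfl⟩
    show g.ofConv _ = 0
    rw [← apply_rt, hc, map_smul, hφ, smul_zero]
  have hprod : ∏ w ∈ s, J w ≤ ⊥ := by
    intro x hx
    by_contra hx0
    obtain ⟨χ, -, hχ⟩ := exists_point_notMem k (⊥ : Ideal A) hx0
    obtain ⟨w, hw, hle⟩ := hcover (toConv χ)
    exact hχ (hle (Ideal.prod_le_inf.trans (Finset.inf_le hw) hx))
  obtain ⟨w, -, hw⟩ := (Ideal.isPrime_bot (α := A)).prod_le.1 hprod
  have hJ : ∀ φ : A →ₗ[k] k, φ w = 0 → TensorProduct.lid k A (φ.rTensor A (Coalgebra.comul a)) = 0 :=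
    fun φ hφ => (Submodule.mem_bot A).1 (hw (Ideal.subset_span ⟨φ, hφ, rfl⟩))
  have hw0 : w ≠ 0 := by
    rintro rfl
    have := hJ (Coalgebra.counit (R := k)) (map_zero _)
    rw [Coalgebra.rTensor_counit_comul, TensorProduct.lid_tmul, one_smul] at this
    exact ha.ne_zero this
  obtain ⟨ψ, hψ⟩ : ∃ ψ : A →ₗ[k] k, ψ w = 1 := by
    obtain ⟨ψ, hψ⟩ := not_forall.1 fun h => hw0 ((Module.forall_dual_apply_eq_zero_iff k w).1 h)
    exact ⟨(ψ w)⁻¹ • ψ, inv_mul_cancel₀ hψ⟩
  let z : A := TensorProduct.lid k A (ψ.rTensor A (Coalgebra.comul a))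
  have hsl : ∀ φ : A →ₗ[k] k, TensorProduct.lid k A (φ.rTensor A (Coalgebra.comul a)) = φ w • z := by
    intro φ
    have h := hJ (φ - φ w • ψ) (by simp [hψ])
    rw [LinearMap.rTensor_sub, LinearMap.rTensor_smul, LinearMap.sub_apply, LinearMap.smul_apply, map_sub,
      map_smul, sub_eq_zero] at h
    exact h
  have htz : Coalgebra.comul (R := k) a = w ⊗ₜ[k] z := by
    let b := Module.Free.chooseBasis k A
    refine (TensorProduct.equivFinsuppOfBasisLeft b).injective (Finsupp.ext fun i => ?_)
    have hc : ∀ t : A ⊗[k] A, TensorProduct.equivFinsuppOfBasisLeft b t i =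
        TensorProduct.lid k A ((b.coord i).rTensor A t) := by
      intro t
      induction t with
      | zero => simp
      | add x y hx hy => simp only [map_add, Finsupp.add_apply, hx, hy]
      | tmul x y => simp
    rw [hc, hc, hsl]
    simp
  have e1 : a = Coalgebra.counit (R := k) w • z := by
    have := hsl (Coalgebra.counit (R := k))
    rwa [Coalgebra.rTensor_counit_comul, TensorProduct.lid_tmul, one_smul] at this
  have e2 : a = Coalgebra.counit (R := k) z • w := by
    have := congrArg (TensorProduct.rid k A) ((congrArg ((Coalgebra.counit (R := k) (A := A)).lTensor A) htz))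
    rwa [Coalgebra.lTensor_counit_comul, TensorProduct.rid_tmul, one_smul, LinearMap.lTensor_tmul,
      TensorProduct.rid_tmul] at this
  have e3 : Coalgebra.counit (R := k) z * Coalgebra.counit (R := k) w = 1 := by
    rw [e2, map_smul, smul_eq_mul] at h1
    exact h1
  refine ⟨h1, ?_⟩
  rw [htz]
  conv_rhs => rw [e1]; lhs; rw [← e1, e2]
  rw [← TensorProduct.smul_tmul', TensorProduct.tmul_smul, smul_smul, e3, one_smul]

/-- **Rosenlicht**: a unit with value `1` at the identity of a connected group variety is a character. -/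
theorem isGroupLikeElem_of_isUnit {A : Type v} [CommRing A] [IsReduced A] [HopfAlgebra k A]
    [Algebra.FiniteType k A] (hconn : ∀ e : A, IsIdempotentElem e → e = 0 ∨ e = 1)
    {a : A} (ha : IsUnit a) (h1 : Coalgebra.counit (R := k) a = 1) : IsGroupLikeElem k a := by
  obtain ⟨A', i1, i2, i3, ⟨e⟩⟩ := HopfTransport.exists_small_hopf k A
  haveI : Nontrivial A := (Bialgebra.counitAlgHom k A).toRingHom.domain_nontrivial
  haveI : (⊥ : Ideal A).IsPrime := by
    have h := nilradical_isPrime k hconn
    rwa [nilradical_eq_zero A] at h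
  haveI : IsDomain A := IsDomain.of_bot_isPrime A
  haveI : IsDomain A' := MulEquiv.isDomain A e.toMulEquiv
  have h := isGroupLikeElem_of_isUnit_aux (k := k) (a := e.symm a) (ha.map e.symm)
    ((CoalgHomClass.counit_comp_apply e.symm a).trans h1)
  simpa using h.map e

end Groth.L08.Rosenlicht
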