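import Groth.Agent.L08.Flag
import Groth.Prelude.Def_CoactBr2
import Mathlib.RingTheory.Flat.Basic
import Mathlib.RingTheory.DiscreteValuationRing.Basic
import Mathlib.RingTheory.Localization.FractionRing
import Mathlib.RingTheory.LocalRing.ResidueField.Basic
import Mathlib.Tactic

/-!
# Flags of the regular comodule specialise over a discrete valuation ring

A flag of `K ⊗ H` restricted to `H` is saturated, so, `H` being flat, its steps hold integrally and
hence modulo the maximal ideal.
-/

universe u v w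

open TensorProduct

noncomputable section

namespace Groth.L08.SpecialFibre

section Any

variable (A : Type u) [CommRing A] (L : Type u) [CommRing L] [Algebra A L] (H : Type u) [CommRing H]
  [HopfAlgebra A H]

/-- `a ↦ 1 ⊗ a`. -/
def β : H →ₗ[A] L ⊗[A] H := TensorProduct.mk A L H 1

/-- `a ⊗ b ↦ (1 ⊗ a) ⊗ (1 ⊗ b)`. -/
def μ : H ⊗[A] H →ₗ[A] (L ⊗[A] H) ⊗[L] (L ⊗[A] H) :=
  TensorProduct.lift (LinearMap.mk₂ A (fun a b => ((1 : L) ⊗ₜ[A] a) ⊗ₜ[L] ((1 : L) ⊗ₜ[A] b))
    (fun a a' b => by rw [tmul_add, add_tmul])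
    (fun c a b => by rw [tmul_smul, ← smul_tmul'])
    (fun a b b' => by rw [tmul_add, tmul_add])
    (fun c a b => by rw [tmul_smul, tmul_smul]))

theorem μ_tmul (a b : H) : μ A L H (a ⊗ₜ b) = β A L H a ⊗ₜ[L] β A L H b := rfl

theorem comul_β (a : H) :
    CoalgebraStruct.comul (R := L) (β A L H a) = μ A L H (CoalgebraStruct.comul (R := A) a) := by
  change AlgebraTensorModule.tensorTensorTensorComm A L A L L L H H
      (CoalgebraStruct.comul (R := L) (A := L) 1 ⊗ₜ[A] CoalgebraStruct.comul (R := A) a) = _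
  rw [CoactBr.comul_self_apply]
  induction CoalgebraStruct.comul (R := A) a with
  | zero => simp
  | add a b ha hb => simp only [tmul_add, map_add, ha, hb]
  | tmul a b => rfl

theorem β_one : β A L H 1 = 1 := rfl

variable {A L H}

theorem counit_β (a : H) :
    CoalgebraStruct.counit (R := L) (β A L H a) = algebraMap A L (CoalgebraStruct.counit (R := A) a) := by
  simp [β, Algebra.smul_def]

/-- The composite `H ⊗ H → (L ⊗ H)/F ⊗ H`. -/
theorem key (F : Submodule L (L ⊗[A] H)) (x : H ⊗[A] H) :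
    AlgebraTensorModule.cancelBaseChange A L L ((L ⊗[A] H) ⧸ F) H (F.mkQ.rTensor (L ⊗[A] H) (μ A L H x)) =
      ((F.mkQ.restrictScalars A) ∘ₗ β A L H).rTensor H x := by
  induction x with
  | zero => simp
  | add a b ha hb => simp only [map_add, ha, hb]
  | tmul a b => simp [μ_tmul, β]

theorem μ_injective [Module.Flat A H] (hβ : Function.Injective (β A L H)) :
    Function.Injective (μ A L H) := by
  have h : ∀ x, AlgebraTensorModule.cancelBaseChange A L L (L ⊗[A] H) H (μ A L H x) =
      (β A L H).rTensor H x := by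
    intro x
    induction x with
    | zero => simp
    | add a b ha hb => simp only [map_add, ha, hb]
    | tmul a b => simp [μ_tmul, β]
  intro x y hxy
  refine Module.Flat.rTensor_preserves_injective_linearMap (β A L H) hβ ?_
  rw [← h, ← h, hxy]

theorem mem_range_of_μ [Module.Flat A H] (hβ : Function.Injective (β A L H))
    (F : Submodule L (L ⊗[A] H)) {x : H ⊗[A] H}
    (hx : μ A L H x ∈ LinearMap.range (F.subtype.rTensor (L ⊗[A] H))) :
    x ∈ LinearMap.range ((Submodule.comap (β A L H) (F.restrictScalars A)).subtype.rTensor H) := by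
  set W := Submodule.comap (β A L H) (F.restrictScalars A) with hW
  have hker : LinearMap.ker (F.mkQ.restrictScalars A ∘ₗ β A L H) = W := by
    ext a
    rw [LinearMap.mem_ker, LinearMap.comp_apply, LinearMap.restrictScalars_apply, Submodule.mkQ_apply,
      Submodule.Quotient.mk_eq_zero]
    rfl
  let j : H ⧸ W →ₗ[A] (L ⊗[A] H) ⧸ F := W.liftQ (F.mkQ.restrictScalars A ∘ₗ β A L H) hker.ge
  have hj : Function.Injective j :=
    LinearMap.ker_eq_bot.1 (Submodule.ker_liftQ_eq_bot _ _ _ hker.le)
  refine (rTensor_exact H (LinearMap.exact_subtype_mkQ W) W.mkQ_surjective x).1 ?_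
  refine Module.Flat.rTensor_preserves_injective_linearMap j hj ?_
  rw [map_zero, ← LinearMap.rTensor_comp_apply, show j ∘ₗ W.mkQ = F.mkQ.restrictScalars A ∘ₗ β A L H from
    Submodule.liftQ_mkQ _ _ _, ← key]
  obtain ⟨y, hy⟩ := hx
  rw [← hy, ← LinearMap.rTensor_comp_apply, show F.mkQ ∘ₗ F.subtype = 0 from
    LinearMap.ext fun v => (Submodule.Quotient.mk_eq_zero F).2 v.2, LinearMap.rTensor_zero,
    LinearMap.zero_apply, map_zero]

end Any

section DVR

variable {A : Type u} [CommRing A] [IsDomain A] [IsDiscreteValuationRing A]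
  {K : Type u} [Field K] [Algebra A K] [IsFractionRing A K]
  {H : Type u} [CommRing H] [HopfAlgebra A H] [Module.Flat A H]

theorem β_injective : Function.Injective (β A K H) := by
  have h := Module.Flat.rTensor_preserves_injective_linearMap (M := H) (Algebra.linearMap A K)
    (IsFractionRing.injective A K)
  intro a b hab
  have e : ∀ a, β A K H a = (Algebra.linearMap A K).rTensor H ((1 : A) ⊗ₜ[A] a) := fun a => by
    simp [β]
  rw [e, e] at hab
  simpa using congrArg (TensorProduct.lid A H) (h hab)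

local notation "κ" => IsLocalRing.ResidueField A

theorem hasFlag_special {P : K ⊗[A] H → Prop} {Q : κ ⊗[A] H → Prop}
    (hint : ∀ g, P g → ∃ g₀, β A K H g₀ = g ∧ Q (β A κ H g₀))
    (h : ∀ b : K ⊗[A] H, HasFlag K (K ⊗[A] H) P b) (b : κ ⊗[A] H) :
    HasFlag κ (κ ⊗[A] H) Q b := by
  obtain ⟨a, rfl⟩ : ∃ a, β A κ H a = b := by
    induction b with
    | zero => exact ⟨0, map_zero _⟩
    | add x y hx hy =>
      obtain ⟨x, rfl⟩ := hx
      obtain ⟨y, rfl⟩ := hy
      exact ⟨x + y, map_add _ x y⟩
    | tmul c h =>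
      obtain ⟨r, rfl⟩ := IsLocalRing.residue_surjective c
      refine ⟨r • h, ?_⟩
      show (1 : κ) ⊗ₜ[A] (r • h) = _
      rw [tmul_smul, smul_tmul', Algebra.smul_def, mul_one]
      rfl
  obtain ⟨m, F, h0, ha, hs⟩ := h (β A K H a)
  let W : ℕ → Submodule A H := fun i => Submodule.comap (β A K H) ((F i).restrictScalars A)
  refine ⟨m, fun i => Submodule.span κ (β A κ H '' (W i : Set H)), ?_, ?_, fun i => ?_⟩
  · rw [Submodule.span_eq_bot]
    rintro _ ⟨x, hx, rfl⟩
    have hx0 : β A K H x = 0 := by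
      have : β A K H x ∈ F 0 := hx
      rwa [h0, Submodule.mem_bot] at this
    rw [β_injective (hx0.trans (map_zero _).symm), map_zero]
  · exact Submodule.subset_span ⟨a, ha, rfl⟩
  · obtain ⟨g, hg, hstep⟩ := hs i
    obtain ⟨g₀, rfl, hQ⟩ := hint g hg
    refine ⟨_, hQ, step_iff_range.2 fun v hv => ?_⟩
    set G := Submodule.span κ (β A κ H '' (W i : Set H))
    induction hv using Submodule.span_induction with
    | zero => simp
    | add x y _ _ hx hy => rw [map_add, add_tmul, add_sub_add_comm]; exact add_mem hx hy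
    | smul c x _ hx =>
      rw [map_smul, ← smul_tmul']
      convert Submodule.smul_mem _ c hx using 1
      exact (smul_sub c _ _).symm
    | mem x hx =>
      obtain ⟨y, hy, rfl⟩ := hx
      have h1 : μ A K H (CoalgebraStruct.comul (R := A) y - y ⊗ₜ[A] g₀) ∈
          LinearMap.range ((F i).subtype.rTensor (K ⊗[A] H)) := by
        rw [map_sub, μ_tmul, ← comul_β]
        exact step_iff_range.1 hstep _ hy
      obtain ⟨z, hz⟩ := mem_range_of_μ β_injective (F i) h1
      show CoalgebraStruct.comul (R := κ) (β A κ H y) - β A κ H y ⊗ₜ[κ] β A κ H g₀ ∈ _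
      rw [comul_β, ← μ_tmul, ← map_sub, ← hz]
      clear hz
      induction z with
      | zero => simp
      | add p q hp hq => rw [map_add, map_add]; exact add_mem hp hq
      | tmul w c =>
        exact ⟨(⟨β A κ H w, Submodule.subset_span ⟨w, w.2, rfl⟩⟩ : G) ⊗ₜ[κ] β A κ H c, rfl⟩

theorem unipotent (hK : HopfRep.IsUnipotent K (K ⊗[A] H)) : HopfRep.IsUnipotent κ (κ ⊗[A] H) :=
  isUnipotent_of_hasFlag fun b => hasFlag_special (P := fun g => g = 1) (Q := fun g => g = 1)
    (fun g hg => ⟨1, hg ▸ β_one A K H, β_one A κ H⟩) (hasFlag_of_isUnipotent hK) b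

theorem β_smul_eq (a : A) (h : H) : β A κ H (a • h) = IsLocalRing.residue A a • β A κ H h := by
  show (1 : κ) ⊗ₜ[A] (a • h) = _
  rw [tmul_smul, ← IsScalarTower.algebraMap_smul κ a ((1 : κ) ⊗ₜ[A] h)]
  rfl

/-- A group-like element of the generic fibre is integral. -/
theorem exists_grouplike {g : K ⊗[A] H} (hg : IsGroupLikeElem K g) :
    ∃ g₀, β A K H g₀ = g := by
  obtain ⟨π, hπ⟩ := IsDiscreteValuationRing.exists_irreducible A
  have hex : ∃ (n : ℕ) (h : H), algebraMap A K π ^ n • g = β A K H h := by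
    clear hg
    induction g using TensorProduct.induction_on with
    | zero => exact ⟨0, 0, by simp⟩
    | tmul c h =>
      obtain ⟨x, s, hs⟩ := IsLocalization.exists_mk'_eq (nonZeroDivisors A) c
      obtain ⟨n, u, hu⟩ := IsDiscreteValuationRing.eq_unit_mul_pow_irreducible
        (nonZeroDivisors.ne_zero s.2) hπ
      refine ⟨n, (↑u⁻¹ * x) • h, ?_⟩
      show _ = (1 : K) ⊗ₜ[A] ((↑u⁻¹ * x) • h)
      rw [tmul_smul, smul_tmul', smul_tmul']
      congr 1
      rw [smul_eq_mul, Algebra.smul_def (↑u⁻¹ * x : A) (1 : K), mul_one]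
      have h1 : c * algebraMap A K s = algebraMap A K x := by rw [← hs, IsLocalization.mk'_spec]
      rw [map_mul, ← h1, hu, map_mul, map_pow, ← mul_assoc, ← mul_assoc,
        mul_comm (algebraMap A K ↑u⁻¹) c, mul_assoc c, ← map_mul, Units.inv_mul, map_one, mul_one,
        mul_comm]
    | add x y hx hy =>
      obtain ⟨n, a, ha⟩ := hx
      obtain ⟨m, b, hb⟩ := hy
      refine ⟨n + m, π ^ m • a + π ^ n • b, ?_⟩
      rw [smul_add, map_add, map_smul, map_smul, ← ha, ← hb,
        ← IsScalarTower.algebraMap_smul K (π ^ m), ← IsScalarTower.algebraMap_smul K (π ^ n), map_pow,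
        map_pow, smul_smul, smul_smul, ← pow_add, ← pow_add, add_comm m n]
  classical
  obtain ⟨h, hh⟩ := Nat.find_spec hex
  rcases hn : Nat.find hex with _ | n
  · exact ⟨h, by rw [hn] at hh; simpa using hh.symm⟩
  exfalso
  rw [hn] at hh
  have e1 : CoalgebraStruct.comul (R := A) (π ^ (n + 1) • h) = h ⊗ₜ[A] h := by
    refine μ_injective (L := K) β_injective ?_
    rw [← comul_β, μ_tmul, map_smul, ← IsScalarTower.algebraMap_smul K (π ^ (n + 1)), map_pow, map_smul,
      ← hh, map_smul, hg.comul_eq_tmul_self, TensorProduct.smul_tmul']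
    rw [TensorProduct.tmul_smul, TensorProduct.smul_tmul']
  have e2 : β A κ H h ⊗ₜ[κ] β A κ H h = 0 := by
    rw [← μ_tmul, ← e1, ← comul_β, β_smul_eq, map_pow,
      (IsLocalRing.residue_eq_zero_iff π).2 ((IsLocalRing.mem_maximalIdeal π).2 hπ.not_isUnit),
      zero_pow n.succ_ne_zero, zero_smul, map_zero]
  have e3 : β A κ H h = 0 := by
    by_contra hne
    obtain ⟨θ, hθ⟩ : ∃ θ : Module.Dual κ (κ ⊗[A] H), θ (β A κ H h) ≠ 0 := by
      by_contra! h0
      exact hne ((Module.forall_dual_apply_eq_zero_iff κ _).1 h0)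
    exact hθ (mul_self_eq_zero.1 (by simpa using congrArg (fun t => TensorProduct.lid κ κ (TensorProduct.map θ θ t)) e2))
  have e4 : (1 : κ) ⊗ₜ[A] h = 0 := e3
  have h5 : h ∈ IsLocalRing.maximalIdeal A • (⊤ : Submodule A H) := by
    have h6 : TensorProduct.quotTensorEquivQuotSMul H (IsLocalRing.maximalIdeal A)
        ((1 : A ⧸ IsLocalRing.maximalIdeal A) ⊗ₜ[A] h) = 0 := by
      rw [show ((1 : A ⧸ IsLocalRing.maximalIdeal A) ⊗ₜ[A] h) = 0 from e4]
      exact map_zero _
    exact (Submodule.Quotient.mk_eq_zero _).1 (by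
      simpa using! (TensorProduct.quotTensorEquivQuotSMul_mk_tmul (M := H)
        (IsLocalRing.maximalIdeal A) 1 h).symm.trans h6)
  rw [hπ.maximalIdeal_eq, Submodule.ideal_span_singleton_smul] at h5
  obtain ⟨h', -, rfl⟩ := h5
  refine Nat.find_min hex (m := n) (by omega) ⟨h', ?_⟩
  have h7 : algebraMap A K π • (algebraMap A K π ^ n • g) = algebraMap A K π • β A K H h' := by
    rw [smul_smul, ← pow_succ', hh, IsScalarTower.algebraMap_smul, ← map_smul]
    rfl
  exact smul_right_injective (K ⊗[A] H)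
    (fun e => hπ.ne_zero (IsFractionRing.injective A K (e.trans (map_zero _).symm))) h7

end DVR

section Trig

variable {k : Type u} [Field k] {B : Type u} [CommRing B] [Bialgebra k B]

theorem coact_eq_of_fAct {V : Type u} [AddCommGroup V] [Module k V] [HopfRep.Comod k B V] {v : V} {g : B}
    (h : ∀ φ : B →ₗ[k] k, fAct V φ v = φ g • v) :
    HopfRep.Comod.coact (k := k) (A := B) v = v ⊗ₜ[k] g := by
  classical
  let b := Module.Basis.ofVectorSpace k B
  refine (TensorProduct.equivFinsuppOfBasisRight b).injective (Finsupp.ext fun i => ?_)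
  rw [TensorProduct.equivFinsuppOfBasisRight_apply, TensorProduct.equivFinsuppOfBasisRight_apply,
    ← fAct_apply, h]
  simp

theorem isGroupLike_of_scalar {V : Type u} [AddCommGroup V] [Module k V] [HopfRep.Comod k B V] {v : V}
    (hv : v ≠ 0) {g : B} (h : ∀ φ : B →ₗ[k] k, fAct V φ v = φ g • v) : IsGroupLikeElem k g := by
  have e := coact_eq_of_fAct h
  obtain ⟨θ, hθ⟩ : ∃ θ : Module.Dual k V, θ v ≠ 0 := by
    by_contra! h0
    exact hv ((Module.forall_dual_apply_eq_zero_iff k v).1 h0)
  constructor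
  · have h1 := LinearMap.congr_fun (HopfRep.Comod.counit_comp (k := k) (A := B) (V := V)) v
    rw [LinearMap.comp_apply, e, LinearMap.lTensor_tmul, LinearMap.flip_apply, TensorProduct.mk_apply] at h1
    have h2 := congrArg (fun t => TensorProduct.lid k k (θ.rTensor k t)) h1
    simp only [LinearMap.rTensor_tmul, TensorProduct.lid_tmul, smul_eq_mul] at h2
    exact mul_left_cancel₀ hθ h2
  · have h1 := LinearMap.congr_fun (HopfRep.Comod.coassoc (k := k) (A := B) (V := V)) v
    rw [LinearMap.comp_apply, LinearMap.comp_apply, e, LinearMap.rTensor_tmul, e,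
      LinearMap.comp_apply, e, LinearMap.lTensor_tmul, LinearEquiv.coe_coe, TensorProduct.assoc_tmul] at h1
    have h2 := congrArg (fun t => TensorProduct.lid k (B ⊗[k] B) (θ.rTensor (B ⊗[k] B) t)) h1
    simp only [LinearMap.rTensor_tmul, TensorProduct.lid_tmul] at h2
    exact (smul_right_injective (B ⊗[k] B) hθ h2).symm

theorem exists_flag_grouplike (h : HopfRep.IsTrigonalizable k B) (a : B) :
    HasFlag k B (fun g => IsGroupLikeElem k g) a := by
  obtain ⟨C, h1, h2, h3⟩ := exists_finite_subcomod (k := k) (A := B) a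
  letI := ComodSub.Comod.restr (HopfRep.Comod.regular k B) C h3
  obtain ⟨F, -, h0, htop, -, hs⟩ := exists_flag_of_rule (k := k) (A := B) (V := C)
    (P := fun g => IsGroupLikeElem k g) ⟨1, IsGroupLikeElem.one⟩ fun W hW hne => by
    letI := ComodSub.Comod.quot (inferInstance : HopfRep.Comod k B C) W hW
    haveI : Nontrivial (C ⧸ W) := Submodule.Quotient.nontrivial_iff.2 hne
    obtain ⟨g, q, hq0, hq⟩ := exists_scalar_of_isTrigonalizable h (C ⧸ W)
    refine ⟨g, (Submodule.span k {q}).comap W.mkQ, isGroupLike_of_scalar hq0 hq, ?_, fun x hx φ => ?_⟩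
    · refine lt_of_le_of_ne (fun x hx => ?_) fun e => hq0 ?_
      · rw [Submodule.mem_comap, Submodule.mkQ_apply, (Submodule.Quotient.mk_eq_zero W).2 hx]
        exact zero_mem _
      · obtain ⟨v, hv⟩ := W.mkQ_surjective q
        have hmem : v ∈ (Submodule.span k {q}).comap W.mkQ := by
          rw [Submodule.mem_comap, hv]; exact Submodule.mem_span_singleton_self q
        rw [← e] at hmem
        exact hv.symm.trans ((Submodule.Quotient.mk_eq_zero W).2 hmem)
    · obtain ⟨c, hc⟩ := Submodule.mem_span_singleton.1 hx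
      rw [← Submodule.Quotient.mk_eq_zero, ← Submodule.mkQ_apply, map_sub, map_smul,
        fAct_comm_of_isComodHom (ComodSub.isComodHom_mkQ _ W hW) φ x, ← hc, map_smul, hq,
        smul_comm, sub_self]
  have : HasFlag k B (fun g => IsGroupLikeElem k g) (⟨a, h2⟩ : C) :=
    ⟨_, F, h0, htop ▸ Submodule.mem_top, hs⟩
  exact this.map (ComodSub.isComodHom_subtype _ C h3)

end Trig

theorem trigonalizable {A : Type u} [CommRing A] [IsDomain A] [IsDiscreteValuationRing A]
    {K : Type u} [Field K] [Algebra A K] [IsFractionRing A K]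
    {H : Type u} [CommRing H] [HopfAlgebra A H] [Module.Flat A H]
    (hK : HopfRep.IsTrigonalizable K (K ⊗[A] H)) :
    HopfRep.IsTrigonalizable (IsLocalRing.ResidueField A) (IsLocalRing.ResidueField A ⊗[A] H) :=
  isTrigonalizable_of_hasFlag fun b => hasFlag_special (P := fun g => IsGroupLikeElem K g) (Q := fun _ => True)
    (fun g hg => (exists_grouplike hg).imp fun g₀ h => ⟨h, trivial⟩) (exists_flag_grouplike hK) b

end Groth.L08.SpecialFibre
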