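import Groth.Agent.L22.Gamma.Universal
import Mathlib.Algebra.MonoidAlgebra.Module
import Mathlib.Algebra.MonoidAlgebra.Basic
import Mathlib.LinearAlgebra.Finsupp.VectorSpace

/-!
Symmetric tensors of flat modules: lifting, flatness, and generation by elementary symmetric
tensors in the flat algebra case.
-/

set_option autoImplicit false
universe u

open scoped TensorProduct
open Module Groth.L22.Gamma

namespace Groth.L08.SymTenFlat

variable {A : Type u} [CommRing A] {d : ℕ}

/-- Symmetric tensors lift along surjections from free modules onto flat modules. -/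
theorem exists_lift {P B : Type u} [AddCommGroup P] [Module A P] [AddCommGroup B] [Module A B]
    [Module.Flat A B] {ι : Type u} (e : Basis ι A P) {π : P →ₗ[A] B} (hπ : Function.Surjective π)
    {y : TP A B d} (hy : y ∈ symT A B d) : ∃ u ∈ symT A P d, tmapL d π u = y := by
  classical
  obtain ⟨z, rfl⟩ := tmapL_surjective (d := d) hπ y
  obtain ⟨ι', F', _, _, e', g, π', hg, hker⟩ := exists_free_killing e hπ
    (fun σ : Equiv.Perm (Fin d) => PiTensorProduct.reindex A (fun _ : Fin d => P) σ z - z)
    (fun σ => by rw [map_sub, tmapL_reindex, sub_eq_zero]; exact hy σ)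
  have hmem : tmapL d g z ∈ symT A F' d := fun σ => by
    rw [← tmapL_reindex, ← sub_eq_zero, ← map_sub]; exact hker σ
  choose w hw using fun i => hπ (π' (e' i))
  have key : Submodule.span A (Set.range (sym A d e')) ≤
      ((symT A P d).map (tmapL d π)).comap (tmapL d π') := by
    rw [Submodule.span_le]
    rintro _ ⟨ν, rfl⟩
    refine ⟨sym A d w ν, sym_mem _ _, ?_⟩
    simp [tmapL_sym, hw]
  obtain ⟨u, hu, hu'⟩ := key (symT_le_span e' hmem)
  exact ⟨u, hu, by rw [hu', ← LinearMap.comp_apply, ← tmapL_comp, hg]⟩

/-- The canonical presentation of a module by a free module. -/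
theorem pres_surjective {M : Type u} [AddCommGroup M] [Module A M] :
    Function.Surjective (Finsupp.linearCombination A (id : M → M)) := fun m =>
  ⟨Finsupp.single m 1, by simp⟩

/-- The symmetric tensors of a flat module are flat. -/
theorem flat_symT {M : Type u} [AddCommGroup M] [Module A M] [Module.Flat A M] (d : ℕ) :
    Module.Flat A (symT A M d) := by
  classical
  let e : Basis M A (M →₀ A) := Finsupp.basisSingleOne
  let π : (M →₀ A) →ₗ[A] M := Finsupp.linearCombination A id
  refine Module.Flat.of_forall_isTrivialRelation fun {l} {a} {x} hrel => ?_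
  choose z hz hz' using fun i => exists_lift e pres_surjective (x i).2
  let t : TP A (M →₀ A) d := ∑ i, a i • z i
  have ht : tmapL d π t = 0 := by
    have := congrArg Subtype.val hrel
    simpa [t, map_sum, π, hz'] using this
  obtain ⟨ι', F', _, _, e', g, π', hg, hker⟩ := exists_free_killing e (π := π) pres_surjective
    (fun _ : Fin 1 => t) (fun _ => ht)
  let z' : Fin l → symT A F' d := fun i => ⟨tmapL d g (z i), tmapL_mem g (hz i)⟩
  haveI : Module.Free A (TP A F' d) := Module.Free.of_basis (tbasis d e')
  haveI : Module.Flat A (symT A F' d) := Module.Flat.of_retract (symT A F' d).subtype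
    ((symLift d e' (sym A d e')).codRestrict (symT A F' d) fun t =>
      symLift_mem e' _ _ (fun ν => sym_mem _ ν) t)
    (LinearMap.ext fun y => Subtype.ext (symLift_self e' y.2))
  have hrel' : ∑ i, a i • z' i = 0 := by
    apply Subtype.val_injective
    simpa [z', t, map_sum] using hker 0
  obtain ⟨k, c, y, hy, hc⟩ := Module.Flat.iff_forall_isTrivialRelation.mp inferInstance hrel'
  refine ⟨k, c, fun j => ⟨tmapL d π' (y j), tmapL_mem π' (y j).2⟩,
    fun i => Subtype.val_injective ?_, hc⟩
  have := congrArg (fun w : symT A F' d => tmapL d π' (w : TP A F' d)) (hy i)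
  simp only [z', ← LinearMap.comp_apply, ← tmapL_comp, hg] at this
  rw [← hz' i]
  refine this.trans ?_
  simp [map_sum]

section ElemSym

variable {P : Type u} [CommRing P] [Algebra A P] {ι : Type u} [CommMonoid ι] (e : Basis ι A P)

/-- elementary symmetric tensor -/
noncomputable def esym (d : ℕ) (a : P) (j : ℕ) : TP A P d :=
  ∑ I ∈ (Finset.univ : Finset (Fin d)).powersetCard j,
    PiTensorProduct.tprod A (fun i : Fin d => if i ∈ I then a else (1 : P))

theorem esym_mem (a : P) (j : ℕ) : esym (A := A) d a j ∈ symT A P d := by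
  classical
  intro σ
  simp only [esym, map_sum, PiTensorProduct.reindex_tprod]
  refine Finset.sum_nbij' (fun I => I.map σ.toEmbedding) (fun I => I.map σ.symm.toEmbedding)
    ?_ ?_ ?_ ?_ ?_
  · exact fun I hI => by simpa [Finset.mem_powersetCard] using hI
  · exact fun I hI => by simpa [Finset.mem_powersetCard] using hI
  · exact fun I _ => by ext k; simp
  · exact fun I _ => by ext k; simp
  · intro I _
    simp only [Finset.mem_map_equiv]

variable {e} (hmul : ∀ i j, e (i * j) = e i * e j)

include hmul in
theorem sym_mem_adjoin (hone : e 1 = 1) (c : Fin d → ι) :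
    sym A d e (cnt c) ∈ Algebra.adjoin A {t : TP A P d | ∃ (a : ι) (j : ℕ), t = esym d (e a) j} := by
  classical
  set G := Algebra.adjoin A {t : TP A P d | ∃ (a : ι) (j : ℕ), t = esym d (e a) j}
  induction hD : d - cnt c 1 using Nat.strong_induction_on generalizing c with
  | _ D ih =>
  have hle : ∀ (c : Fin d → ι) i, cnt c i ≤ d := fun c i => by
    rw [cnt_apply]; exact (Finset.card_le_univ _).trans_eq (Fintype.card_fin d)
  by_cases hall : ∀ k, c k = 1
  · have h1 : sym A d e (cnt c) = 1 := by
      have hidx : symIdx d (cnt c) = {c} := by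
        ext c'
        rw [mem_symIdx, Finset.mem_singleton]
        refine ⟨fun h => ?_, fun h => h ▸ rfl⟩
        obtain ⟨σ, rfl⟩ := exists_perm_of_cnt_eq h.symm
        funext k; simp [hall]
      rw [sym, hidx, Finset.sum_singleton, PiTensorProduct.one_def]
      congr 1; funext k; simp [hall, hone]
    rw [h1]; exact G.one_mem
  push Not at hall
  obtain ⟨k₀, hk₀⟩ := hall
  set a := c k₀ with ha
  set c₀ : Fin d → ι := fun k => if c k = a then 1 else c k with hc₀
  set m := cnt c a with hm
  have hm0 : 0 < m := by
    rw [hm, cnt_apply, Finset.card_pos]; exact ⟨k₀, by simp [ha]⟩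
  have h01 : cnt c₀ 1 = cnt c 1 + m := by
    rw [hm, cnt_apply, cnt_apply, cnt_apply, ← Finset.card_union_of_disjoint]
    · congr 1; ext k; simp only [hc₀, Finset.mem_filter, Finset.mem_univ, true_and, Finset.mem_union]
      by_cases h : c k = a <;> simp [h]
    · rw [Finset.disjoint_filter]; intro k _ h1 h2; exact hk₀ (h2.symm.trans h1)
  have h0a : cnt c₀ a = 0 := by
    rw [cnt_apply, Finset.card_eq_zero, Finset.filter_eq_empty_iff]
    intro k _
    simp only [hc₀]
    by_cases h : c k = a <;> simp [h, Ne.symm hk₀]
  have h0o : ∀ i, i ≠ a → i ≠ 1 → cnt c₀ i = cnt c i := by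
    intro i hia hi1
    rw [cnt_apply, cnt_apply]; congr 1; ext k
    simp only [hc₀, Finset.mem_filter, Finset.mem_univ, true_and]
    by_cases h : c k = a <;> simp [h, Ne.symm hi1, Ne.symm hia]
  set q : (Fin d → ι) × Finset (Fin d) → (Fin d → ι) :=
    fun x k => if k ∈ x.2 then x.1 k * a else x.1 k with hq
  set X := symIdx d (cnt c₀) ×ˢ (Finset.univ : Finset (Fin d)).powersetCard m with hX
  set good : (Fin d → ι) × Finset (Fin d) → Prop := fun x => ∀ k ∈ x.2, x.1 k = 1 with hgood
  have hprod : sym A d e (cnt c₀) * esym d (e a) m = ∑ x ∈ X, tbasis d e (q x) := by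
    rw [sym, esym, Finset.sum_mul_sum, hX, Finset.sum_product]
    refine Finset.sum_congr rfl fun c' _ => Finset.sum_congr rfl fun I _ => ?_
    rw [PiTensorProduct.tprod_mul_tprod, tbasis_apply]
    congr 1; funext k
    simp only [hq, Pi.mul_apply]
    split_ifs
    · rw [hmul]
    · rw [mul_one]
  have hmemX : ∀ x ∈ X, (∀ i, cnt x.1 i = cnt c₀ i) ∧ x.2.card = m := by
    intro x hx
    rw [hX, Finset.mem_product, mem_symIdx, Finset.mem_powersetCard] at hx
    exact ⟨fun i => by rw [hx.1], hx.2.2⟩
  have hgoodsum : (∑ x ∈ X with good x, tbasis d e (q x)) = sym A d e (cnt c) := by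
    simp only [sym, ← tbasis_apply]
    refine Finset.sum_nbij' (fun x => q x)
      (fun c'' => (fun k => if c'' k = a then 1 else c'' k, Finset.univ.filter fun k => c'' k = a))
      ?_ ?_ ?_ ?_ ?_
    · intro x hx
      rw [Finset.mem_filter] at hx
      obtain ⟨hx, hg⟩ := hx
      obtain ⟨hc', hI⟩ := hmemX x hx
      have hxa : ∀ k, x.1 k ≠ a := fun k hk => by
        have := hc' a
        rw [h0a, cnt_apply, Finset.card_eq_zero, Finset.filter_eq_empty_iff] at this
        exact this (Finset.mem_univ k) hk
      rw [mem_symIdx]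
      refine Finsupp.ext fun i => ?_
      have hqk : ∀ k, q x k = if k ∈ x.2 then a else x.1 k := fun k => by
        simp only [hq]
        split_ifs with h
        · rw [hg k h, one_mul]
        · rfl
      rw [cnt_apply]
      simp only [hqk]
      by_cases hia : i = a
      · subst hia
        rw [← hm, ← hI]
        congr 1; ext k
        by_cases h : k ∈ x.2 <;> simp [h, hxa]
      · by_cases hi1 : i = 1
        · subst hi1
          have e1 : (Finset.univ.filter fun k => (if k ∈ x.2 then a else x.1 k) = 1) =
              (Finset.univ.filter fun k => x.1 k = 1) \ x.2 := by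
            ext k; by_cases h : k ∈ x.2 <;> simp [h, hk₀]
          rw [e1, Finset.card_sdiff_of_subset (fun k hk => by simp [hg k hk]), hI]
          have e2 : (Finset.univ.filter fun k => x.1 k = 1).card = cnt c₀ 1 := by
            rw [← hc', cnt_apply]
          omega
        · rw [← h0o i hia hi1, ← hc', cnt_apply]
          congr 1; ext k
          by_cases h : k ∈ x.2
          · simp [h, hg k h, Ne.symm hia, Ne.symm hi1]
          · simp [h]
    · intro c'' hc''
      rw [mem_symIdx] at hc''
      obtain ⟨σ, rfl⟩ := exists_perm_of_cnt_eq hc''.symm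
      rw [Finset.mem_filter, hX, Finset.mem_product, mem_symIdx, Finset.mem_powersetCard]
      refine ⟨⟨?_, Finset.subset_univ _, ?_⟩, fun k hk => ?_⟩
      · exact cnt_comp_perm c₀ σ
      · rw [hm, ← cnt_comp_perm c σ, cnt_apply]
      · simp only [Finset.mem_filter, Finset.mem_univ, true_and] at hk
        exact if_pos hk
    · intro x hx
      rw [Finset.mem_filter] at hx
      obtain ⟨hx, hg⟩ := hx
      obtain ⟨hc', hI⟩ := hmemX x hx
      have hxa : ∀ k, x.1 k ≠ a := fun k hk => by
        have := hc' a
        rw [h0a, cnt_apply, Finset.card_eq_zero, Finset.filter_eq_empty_iff] at this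
        exact this (Finset.mem_univ k) hk
      refine Prod.ext (funext fun k => ?_) (Finset.ext fun k => ?_)
      · simp only [hq]
        by_cases h : k ∈ x.2
        · simp [h, hg k h]
        · simp [h, hxa k]
      · simp only [hq, Finset.mem_filter, Finset.mem_univ, true_and]
        by_cases h : k ∈ x.2
        · simp [h, hg k h]
        · simp [h, hxa k]
    · intro c'' _
      funext k
      simp only [hq, Finset.mem_filter, Finset.mem_univ, true_and]
      by_cases h : c'' k = a <;> simp [h]
    · exact fun x _ => rfl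
  set T := ∑ x ∈ X with ¬ good x, tbasis d e (q x) with hT
  have hsplit : sym A d e (cnt c₀) * esym d (e a) m = sym A d e (cnt c) + T := by
    rw [hprod, ← hgoodsum, hT, Finset.sum_filter_add_sum_filter_not]
  have hTmem : T ∈ symT A P d := by
    have : sym A d e (cnt c₀) * esym d (e a) m ∈ symT A P d :=
      mem_TS_iff.mp (mul_mem (mem_TS_iff.mpr (sym_mem _ _)) (mem_TS_iff.mpr (esym_mem _ _)))
    rw [hsplit] at this
    simpa using Submodule.sub_mem _ this (sym_mem (fun i => e i) (cnt c))
  have hTG : T ∈ G := by
    have hsub : ∀ c' ∈ ((tbasis d e).repr T).support, sym A d e (cnt c') ∈ G := by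
      intro c' hc'
      rw [hT, map_sum] at hc'
      obtain ⟨x, hx, hx'⟩ := Finset.mem_biUnion.1 (Finsupp.support_finsetSum hc')
      rw [Basis.repr_self] at hx'
      obtain rfl : c' = q x := Finset.mem_singleton.1 (Finsupp.support_single_subset hx')
      rw [Finset.mem_filter] at hx
      obtain ⟨hx, hg⟩ := hx
      obtain ⟨hc1, hI⟩ := hmemX x hx
      simp only [hgood, not_forall] at hg
      obtain ⟨k₁, hk₁, hk₁'⟩ := hg
      refine ih _ ?_ _ rfl
      have hlt : cnt c 1 < cnt (q x) 1 := by
        have h1 : (Finset.univ.filter fun k => x.1 k = 1) \ x.2 ⊆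
            Finset.univ.filter fun k => q x k = 1 := by
          intro k hk
          simp only [Finset.mem_sdiff, Finset.mem_filter, Finset.mem_univ, true_and] at hk ⊢
          simp [hq, hk.2, hk.1]
        have h2 := Finset.card_le_card h1
        rw [Finset.card_sdiff] at h2
        have e2 : (Finset.univ.filter fun k => x.1 k = 1).card = cnt c₀ 1 := by
          rw [← hc1, cnt_apply]
        have e3 : (Finset.univ.filter fun k => q x k = 1).card = cnt (q x) 1 := by
          rw [cnt_apply]
        have h3 : (x.2 ∩ Finset.univ.filter fun k => x.1 k = 1).card < m := by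
          rw [← hI]
          refine Finset.card_lt_card (Finset.ssubset_iff_of_subset Finset.inter_subset_left |>.2
            ⟨k₁, hk₁, ?_⟩)
          simp [hk₁']
        omega
      have := hle (q x) 1
      omega
    refine (Submodule.span_le.2 ?_ : _ ≤ G.toSubmodule) (mem_span_sym e hTmem)
    rintro _ ⟨c', hc', rfl⟩
    exact hsub c' hc'
  have h0 : sym A d e (cnt c₀) ∈ G := by
    refine ih _ ?_ _ rfl
    have := hle c₀ 1
    omega
  rw [eq_sub_of_add_eq hsplit.symm]
  exact G.sub_mem (G.mul_mem h0 (Algebra.subset_adjoin ⟨a, m, rfl⟩)) hTG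

end ElemSym

/-- The symmetric tensors of a flat algebra are generated by the elementary symmetric tensors. -/
theorem symT_le_adjoin {B : Type u} [CommRing B] [Algebra A B] [Module.Flat A B] {y : TP A B d}
    (hy : y ∈ symT A B d) : y ∈ Algebra.adjoin A {t : TP A B d | ∃ (b : B) (j : ℕ), t = esym d b j} := by
  classical
  let e : Basis B A (MonoidAlgebra A B) := MonoidAlgebra.basis B A
  let π : MonoidAlgebra A B →ₐ[A] B := MonoidAlgebra.lift A B B (MonoidHom.id B)
  have hπ1 : ∀ b, π (e b) = b := fun b => by simp [e, π]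
  obtain ⟨u, hu, rfl⟩ := exists_lift e (π := π.toLinearMap) (fun b => ⟨e b, hπ1 b⟩) hy
  rw [← tmap_eq_tmapL]
  have hu' : u ∈ (Algebra.adjoin A
      {t : TP A (MonoidAlgebra A B) d | ∃ (a : B) (j : ℕ), t = esym d (e a) j}).toSubmodule := by
    refine (Submodule.span_le.2 ?_) (mem_span_sym e hu)
    rintro _ ⟨c, -, rfl⟩
    exact sym_mem_adjoin (e := e) (fun i j => by simp [e, MonoidAlgebra.single_mul_single])
      (by simp [e, MonoidAlgebra.one_def]) c
  have hmap := (Subalgebra.mem_map (f := SymTen.tmap A d π)).2 ⟨u, hu', rfl⟩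
  suffices h : (Algebra.adjoin A {t : TP A (MonoidAlgebra A B) d | ∃ (a : B) (j : ℕ), t = esym d (e a) j}).map
      (SymTen.tmap A d π) ≤ Algebra.adjoin A {t : TP A B d | ∃ (b : B) (j : ℕ), t = esym d b j} from h hmap
  rw [AlgHom.map_adjoin]
  refine Algebra.adjoin_mono ?_
  rintro _ ⟨_, ⟨a, j, rfl⟩, rfl⟩
  refine ⟨a, j, ?_⟩
  simp only [esym, map_sum, SymTen.tmap_tprod, apply_ite π, map_one, hπ1]

end Groth.L08.SymTenFlat
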