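import Groth.Agent.L25.GrpDeriv
import Groth.Agent.L08.EtalePoint

/-!
# Tangent vectors at the identity of a group scheme over a field

Point derivations of an affine chart at the identity are the points in dual numbers over the
identity, addition being the group law.
-/

set_option autoImplicit false

noncomputable section

universe u

open CategoryTheory AlgebraicGeometry Limits MonObj CartesianMonoidalCategory TrivSqZeroExt

namespace Groth.L08.TangentUnit

open Groth.L25.GrpDeriv Groth.L08.EtalePoint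

variable {K : Type u} [Field K] {G : Over (Spec (CommRingCat.of K))}
  {A : Type u} [CommRing A] [Algebra K A] {u' : sp (K := K) A ⟶ G}

theorem spMap_left {B : Type u} [CommRing B] [Algebra K B] (φ : A →ₐ[K] B) :
    (spMap φ).left = Spec.map (CommRingCat.ofHom φ.toRingHom) := rfl

theorem spMap_inj [IsOpenImmersion u'.left] {B : Type u} [CommRing B] [Algebra K B]
    (φ ψ : A →ₐ[K] B) (h : spMap φ ≫ u' = spMap ψ ≫ u') : φ = ψ := by
  have h' : (spMap φ).left ≫ u'.left = (spMap ψ).left ≫ u'.left := congrArg (fun f => f.left) h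
  have := (cancel_mono u'.left).1 h'
  rw [spMap_left, spMap_left] at this
  exact AlgHom.ext fun a => congr(($(Spec.map_injective this)).hom a)

/-- Points landing in a chart factor through it. -/
theorem exists_lift [IsOpenImmersion u'.left] {B : Type u} [CommRing B] [Algebra K B]
    (v : sp (K := K) B ⟶ G) (hv : Set.range v.left ⊆ Set.range u'.left) :
    ∃ ψ : A →ₐ[K] B, spMap ψ ≫ u' = v := by
  let ψ' : CommRingCat.of A ⟶ CommRingCat.of B :=
    Spec.preimage (@IsOpenImmersion.lift _ _ _ u'.left v.left ‹_› hv)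
  have hψ : Spec.map ψ' ≫ u'.left = v.left := by
    exact (congrArg (· ≫ u'.left) (Spec.map_preimage _)).trans (IsOpenImmersion.lift_fac _ _ _)
  have e0 : CommRingCat.ofHom (algebraMap K A) ≫ ψ' = CommRingCat.ofHom (algebraMap K B) := by
    apply Spec.map_injective
    have h1 : u'.left ≫ G.hom = Spec.map (CommRingCat.ofHom (algebraMap K A)) := Over.w u'
    have h2 : v.left ≫ G.hom = Spec.map (CommRingCat.ofHom (algebraMap K B)) := Over.w v
    rw [Spec.map_comp, ← h1, ← h2]
    exact (Category.assoc _ _ _).symm.trans (congrArg (· ≫ G.hom) hψ)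
  exact ⟨{ ψ'.hom with commutes' := fun r => ConcreteCategory.congr_hom e0 r }, Over.OverMorphism.ext hψ⟩

/-- The augmentation of a trivial square-zero extension is surjective on spectra. -/
theorem surjective_spMap_fst (M : Type u) [AddCommGroup M] [Module K M] [Module Kᵐᵒᵖ M]
    [IsCentralScalar K M] :
    Function.Surjective (spMap (fstHom K K M)).left := by
  intro P
  refine ⟨PrimeSpectrum.comap (TrivSqZeroExt.inlHom K M) P,
    PrimeSpectrum.ext (Ideal.ext fun x => ?_)⟩
  change inl (fst x) ∈ P.asIdeal ↔ x ∈ P.asIdeal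
  have hn : inr (snd x) ∈ P.asIdeal := by
    refine P.2.mem_of_pow_mem 2 ?_
    rw [pow_two, inr_mul_inr]
    exact Ideal.zero_mem _
  conv_rhs => rw [← inl_fst_add_inr_snd_eq x]
  exact (Ideal.add_mem_iff_left _ hn).symm

variable [GrpObj G] (χ : A →ₐ[K] K)

/-- The dual-number valued character of a point derivation. -/
def omega (w : A →ₗ[K] K) (hw : IsPtDer χ w) : A →ₐ[K] DualNumber K :=
  have hw1 : w 1 = 0 := by
    have h := hw 1 1
    simp only [map_one, _root_.one_mul] at h
    exact left_eq_add.mp h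
  { toFun := fun a => inl (χ a) + inr (w a)
    map_one' := by ext <;> simp [hw1]
    map_mul' := fun a b => by ext <;> simp [hw a b]; ring
    map_zero' := by ext <;> simp
    map_add' := fun a b => by ext <;> simp
    commutes' := fun r => by
      have : w (algebraMap K A r) = 0 := by
        rw [Algebra.algebraMap_eq_smul_one, map_smul, hw1, smul_zero]
      ext <;> simp [algebraMap_eq_inl', this] }

theorem fst_omega (w : A →ₗ[K] K) (hw : IsPtDer χ w) (a : A) : fst (omega χ w hw a) = χ a := by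
  simp [omega]

theorem snd_omega (w : A →ₗ[K] K) (hw : IsPtDer χ w) (a : A) : snd (omega χ w hw a) = w a := by
  simp [omega]

theorem fstHom_omega (w : A →ₗ[K] K) (hw : IsPtDer χ w) :
    (fstHom K K K).comp (omega χ w hw) = χ :=
  AlgHom.ext fun a => fst_omega χ w hw a

variable (u') in
/-- The tangent vector of a point derivation. -/
def pt (w : A →ₗ[K] K) (hw : IsPtDer χ w) : sp (K := K) (DualNumber K) ⟶ G :=
  spMap (omega χ w hw) ≫ u'

variable (hχ : spMap χ ≫ u' = 1)
include hχ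

theorem pt_zero (hw : IsPtDer χ (0 : A →ₗ[K] K)) : pt u' χ 0 hw = 1 := by
  have : omega χ 0 hw = (inlAlgHom K K K).comp χ := AlgHom.ext fun a => by
    ext <;> simp [omega]
  rw [pt, this, ← spMap_comp, Category.assoc, hχ, MonObj.comp_one]

theorem spMap_fst_pt (w : A →ₗ[K] K) (hw : IsPtDer χ w) :
    spMap (fstHom K K K) ≫ pt u' χ w hw = 1 := by
  rw [pt, ← Category.assoc, spMap_comp, fstHom_omega, hχ]

variable [IsOpenImmersion u'.left]

omit hχ in
theorem pt_inj {w w' : A →ₗ[K] K} (hw : IsPtDer χ w) (hw' : IsPtDer χ w')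
    (h : pt u' χ w hw = pt u' χ w' hw') : w = w' := by
  have h1 := spMap_inj _ _ h
  exact LinearMap.ext fun a => by rw [← snd_omega χ w hw, h1, snd_omega]

/-- A point in a trivial square-zero extension over the identity lies in the chart. -/
theorem exists_lift_of_fst {M : Type u} [AddCommGroup M] [Module K M] [Module Kᵐᵒᵖ M]
    [IsCentralScalar K M] (v : sp (K := K) (TrivSqZeroExt K M) ⟶ G)
    (hv : spMap (fstHom K K M) ≫ v = 1) :
    ∃ ψ : A →ₐ[K] TrivSqZeroExt K M, spMap ψ ≫ u' = v ∧ (fstHom K K M).comp ψ = χ := by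
  obtain ⟨ψ, hψ⟩ := exists_lift (u' := u') v (by
    rintro _ ⟨P, rfl⟩
    obtain ⟨Q, rfl⟩ := surjective_spMap_fst M P
    exact ⟨(spMap χ).left Q,
      congrArg (fun f : sp (K := K) K ⟶ G => f.left Q) (hχ.trans hv.symm)⟩)
  refine ⟨ψ, hψ, spMap_inj (u' := u') _ _ ?_⟩
  rw [← spMap_comp, Category.assoc, hψ, hv, hχ]

theorem exists_pt (v : sp (K := K) (DualNumber K) ⟶ G) (hv : spMap (fstHom K K K) ≫ v = 1) :
    ∃ (w : A →ₗ[K] K) (hw : IsPtDer χ w), pt u' χ w hw = v := by
  obtain ⟨ψ, hψ, hfst⟩ := exists_lift_of_fst χ hχ v hv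
  have hf : ∀ a, fst (ψ a) = χ a := fun a => DFunLike.congr_fun hfst a
  refine ⟨(sndHom K K).comp ψ.toLinearMap, fun a b => ?_, ?_⟩
  · change snd (ψ (a * b)) = χ a * snd (ψ b) + χ b * snd (ψ a)
    rw [map_mul, snd_mul, hf, hf]
    simp [mul_comm]
  · rw [← hψ]
    change spMap _ ≫ u' = _
    congr 2
    exact AlgHom.ext fun a => TrivSqZeroExt.ext (by simp [omega, hf]) (by simp [omega])

theorem pt_add (w₁ w₂ : A →ₗ[K] K) (h₁ : IsPtDer χ w₁) (h₂ : IsPtDer χ w₂)
    (h : IsPtDer χ (w₁ + w₂)) :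
    pt u' χ (w₁ + w₂) h = pt u' χ w₁ h₁ * pt u' χ w₂ h₂ := by
  let i₁ : DualNumber K →ₐ[K] TrivSqZeroExt K (K × K) := map (LinearMap.inl K K K)
  let i₂ : DualNumber K →ₐ[K] TrivSqZeroExt K (K × K) := map (LinearMap.inr K K K)
  let P : sp (K := K) (TrivSqZeroExt K (K × K)) ⟶ G :=
    (spMap i₁ ≫ pt u' χ w₁ h₁) * (spMap i₂ ≫ pt u' χ w₂ h₂)
  have h0 : map (0 : K →ₗ[K] K) = (inlAlgHom K K K).comp (fstHom K K K) :=
    AlgHom.ext fun x => by ext <;> simp
  have hc : ∀ {X : Type u} [CommRing X] [Algebra K X] (f : TrivSqZeroExt K (K × K) →ₐ[K] X),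
      spMap f ≫ P = (spMap (f.comp i₁) ≫ pt u' χ w₁ h₁) * (spMap (f.comp i₂) ≫ pt u' χ w₂ h₂) := by
    intro X _ _ f
    rw [MonObj.comp_mul, ← Category.assoc, spMap_comp, ← Category.assoc, spMap_comp]
  have hP : spMap (fstHom K K (K × K)) ≫ P = 1 := by
    rw [hc, show (fstHom K K (K × K)).comp i₁ = fstHom K K K from AlgHom.ext fun x => by simp [i₁],
      show (fstHom K K (K × K)).comp i₂ = fstHom K K K from AlgHom.ext fun x => by simp [i₂],
      spMap_fst_pt χ hχ, spMap_fst_pt χ hχ, _root_.mul_one]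
  obtain ⟨θ, hθ, hfst⟩ := exists_lift_of_fst χ hχ P hP
  have hz : spMap (map (0 : K →ₗ[K] K)) ≫ pt u' χ w₁ h₁ = 1 ∧
      spMap (map (0 : K →ₗ[K] K)) ≫ pt u' χ w₂ h₂ = 1 := by
    constructor <;> rw [h0, ← spMap_comp, Category.assoc, spMap_fst_pt χ hχ, MonObj.comp_one]
  have hax₁ : (map (LinearMap.fst K K K)).comp θ = omega χ w₁ h₁ := by
    refine spMap_inj (u' := u') _ _ ?_
    rw [← spMap_comp, Category.assoc, hθ, hc]
    simp only [i₁, i₂, ← map_comp_map]
    rw [LinearMap.fst_comp_inl, LinearMap.fst_comp_inr, map_id, spMap_id, Category.id_comp, hz.2,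
      _root_.mul_one]
    rfl
  have hax₂ : (map (LinearMap.snd K K K)).comp θ = omega χ w₂ h₂ := by
    refine spMap_inj (u' := u') _ _ ?_
    rw [← spMap_comp, Category.assoc, hθ, hc]
    simp only [i₁, i₂, ← map_comp_map]
    rw [LinearMap.snd_comp_inl, LinearMap.snd_comp_inr, map_id, spMap_id, Category.id_comp, hz.1,
      _root_.one_mul]
    rfl
  have hsum : (map (LinearMap.coprod LinearMap.id LinearMap.id : K × K →ₗ[K] K)).comp θ =
      omega χ (w₁ + w₂) h := AlgHom.ext fun a => by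
    have e1 := congrArg snd (DFunLike.congr_fun hax₁ a)
    have e2 := congrArg snd (DFunLike.congr_fun hax₂ a)
    simp only [AlgHom.comp_apply, snd_map, LinearMap.fst_apply, LinearMap.snd_apply, snd_omega] at e1 e2
    refine TrivSqZeroExt.ext ?_ ?_
    · rw [AlgHom.comp_apply, fst_map, fst_omega]
      exact DFunLike.congr_fun hfst a
    · rw [AlgHom.comp_apply, snd_map, snd_omega]
      simp [e1, e2]
  change spMap (omega χ (w₁ + w₂) h) ≫ u' = _
  rw [← hsum, ← spMap_comp, Category.assoc, hθ, hc]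
  simp only [i₁, i₂, ← map_comp_map, LinearMap.coprod_inl, LinearMap.coprod_inr, map_id, spMap_id,
    Category.id_comp]

omit hχ in
theorem isPtDer_zero : IsPtDer χ (0 : A →ₗ[K] K) := fun a b => by simp

omit hχ in
theorem isPtDer_add {w₁ w₂ : A →ₗ[K] K} (h₁ : IsPtDer χ w₁) (h₂ : IsPtDer χ w₂) :
    IsPtDer χ (w₁ + w₂) := fun a b => by
  simp only [LinearMap.add_apply, h₁ a b, h₂ a b]; ring

omit hχ in
theorem isPtDer_smul {w : A →ₗ[K] K} (c : K) (hw : IsPtDer χ w) : IsPtDer χ (c • w) := fun a b => by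
  simp only [LinearMap.smul_apply, hw a b, smul_eq_mul]; ring

theorem pt_zsmul (w : A →ₗ[K] K) (hw : IsPtDer χ w) (d : ℤ) :
    pt u' χ ((d : K) • w) (isPtDer_smul χ _ hw) = pt u' χ w hw ^ d := by
  have congr_pt : ∀ {a b : A →ₗ[K] K} (ha : IsPtDer χ a) (hb : IsPtDer χ b), a = b →
      pt u' χ a ha = pt u' χ b hb := by
    rintro a _ ha hb rfl; rfl
  induction d using Int.induction_on with
  | zero =>
    rw [congr_pt (isPtDer_smul χ _ hw) (isPtDer_zero χ) (by simp), pt_zero χ hχ, zpow_zero]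
  | succ i ih =>
    rw [congr_pt (isPtDer_smul χ _ hw) (isPtDer_add χ (isPtDer_smul χ ((i : ℤ) : K) hw) hw)
        (by push_cast; rw [add_smul, one_smul]),
      pt_add χ hχ _ _ (isPtDer_smul χ _ hw) hw, ih, zpow_add_one]
  | pred i ih =>
    have h := congr_pt (isPtDer_smul χ _ hw)
      (isPtDer_add χ (isPtDer_smul χ ((-(i : ℤ) - 1 : ℤ) : K) hw) hw)
      (show ((-(i : ℤ) : ℤ) : K) • w = ((-(i : ℤ) - 1 : ℤ) : K) • w + w by
        push_cast; module)
    rw [h, pt_add χ hχ _ _ (isPtDer_smul χ _ hw) hw] at ih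
    rw [zpow_sub_one, ← ih, mul_inv_cancel_right]

end Groth.L08.TangentUnit
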