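import Groth.Agent.S18812
import Mathlib.LinearAlgebra.Trace
import Mathlib.RingTheory.TensorProduct.Maps
import Mathlib.LinearAlgebra.Dimension.Free

/-!
# The trace form of a finite commutative Hopf algebra is an integral
-/

universe u v w

open TensorProduct

noncomputable section

namespace Groth.L08

section

variable (k : Type u) [CommRing k] (A : Type v) [CommRing A] [HopfAlgebra k A]

/-- `y ⊗ x ↦ Σ y x₂ ⊗ x₁`. -/
def shearHom : A ⊗[k] A →ₐ[A] A ⊗[k] A :=
  Algebra.TensorProduct.lift (Algebra.TensorProduct.includeLeft)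
    ((Algebra.TensorProduct.comm k A A).toAlgHom.comp (Bialgebra.comulAlgHom k A))
    fun _ _ => Commute.all _ _

/-- `y ⊗ x ↦ Σ y S(x₂) ⊗ x₁`. -/
def shearInv : A ⊗[k] A →ₐ[A] A ⊗[k] A :=
  Algebra.TensorProduct.lift (Algebra.TensorProduct.includeLeft)
    ((Algebra.TensorProduct.map (HopfAlgebra.antipodeAlgHom k A) (AlgHom.id k A)).comp
      ((Algebra.TensorProduct.comm k A A).toAlgHom.comp (Bialgebra.comulAlgHom k A)))
    fun _ _ => Commute.all _ _

theorem shearHom_tmul (y x : A) :
    shearHom k A (y ⊗ₜ x) = (y ⊗ₜ 1) * TensorProduct.comm k A A (Coalgebra.comul (R := k) x) := rfl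

theorem shearInv_tmul (y x : A) :
    shearInv k A (y ⊗ₜ x) = (y ⊗ₜ 1) * (HopfAlgebraStruct.antipode (R := k)).rTensor A
      (TensorProduct.comm k A A (Coalgebra.comul (R := k) x)) := rfl

variable {k A}

theorem shear_one_tmul_aux (T : A ⊗[k] (A ⊗[k] A) →ₗ[k] A ⊗[k] A) (φ : A ⊗[k] A →ₗ[k] A)
    (hT : ∀ (u : A) (z : A ⊗[k] A), T (u ⊗ₜ z) = φ z ⊗ₜ u)
    (hφ : φ ∘ₗ Coalgebra.comul = Algebra.linearMap k A ∘ₗ Coalgebra.counit) (x : A) :
    T (TensorProduct.assoc k A A A ((Coalgebra.comul (R := k) (A := A)).rTensor A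
      (Coalgebra.comul (R := k) x))) = (1 : A) ⊗ₜ x := by
  rw [Coalgebra.coassoc_apply]
  have h : ∀ y : A ⊗[k] A, T ((Coalgebra.comul (R := k) (A := A)).lTensor A y) =
      (1 : A) ⊗ₜ TensorProduct.rid k A ((Coalgebra.counit (R := k) (A := A)).lTensor A y) := by
    intro y
    induction y with
    | zero => simp
    | add a b ha hb => simp only [map_add, tmul_add, ha, hb]
    | tmul u v =>
      simp only [LinearMap.lTensor_tmul, hT, TensorProduct.rid_tmul]
      have := LinearMap.congr_fun hφ v
      simp only [LinearMap.comp_apply, Algebra.linearMap_apply] at this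
      rw [this, Algebra.algebraMap_eq_smul_one, TensorProduct.smul_tmul]
  rw [h, Coalgebra.lTensor_counit_comul]
  simp

theorem shearHom_shearInv (z : A ⊗[k] A) : shearHom k A (shearInv k A z) = z := by
  induction z with
  | zero => simp
  | add a b ha hb => simp only [map_add, ha, hb]
  | tmul y x =>
    rw [shearInv_tmul, map_mul]
    have h1 : shearHom k A (y ⊗ₜ 1) = y ⊗ₜ 1 := by
      rw [shearHom_tmul, Bialgebra.comul_one]
      simp [Algebra.TensorProduct.one_def]
    rw [h1]
    let φ : A ⊗[k] A →ₗ[k] A :=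
      LinearMap.mul' k A ∘ₗ (HopfAlgebraStruct.antipode (R := k) (A := A)).lTensor A
    let T : A ⊗[k] (A ⊗[k] A) →ₗ[k] A ⊗[k] A :=
      φ.rTensor A ∘ₗ (TensorProduct.comm k A (A ⊗[k] A)).toLinearMap
    have key : ∀ w : A ⊗[k] A, shearHom k A ((HopfAlgebraStruct.antipode (R := k)).rTensor A
        (TensorProduct.comm k A A w)) =
        T (TensorProduct.assoc k A A A ((Coalgebra.comul (R := k) (A := A)).rTensor A w)) := by
      intro w
      induction w with
      | zero => simp
      | add a b ha hb => simp only [map_add, ha, hb]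
      | tmul u v =>
        simp only [TensorProduct.comm_tmul, LinearMap.rTensor_tmul, shearHom_tmul]
        induction Coalgebra.comul (R := k) u with
        | zero => simp
        | add a b ha hb => simp only [map_add, add_tmul, mul_add, ha, hb]
        | tmul a b => simp [T, φ, mul_comm]
    rw [key, shear_one_tmul_aux T φ (fun u z => by simp [T])
      (LinearMap.ext fun v => by simp [φ, HopfAlgebra.mul_antipode_lTensor_comul_apply])]
    simp

theorem shearInv_shearHom (z : A ⊗[k] A) : shearInv k A (shearHom k A z) = z := by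
  induction z with
  | zero => simp
  | add a b ha hb => simp only [map_add, ha, hb]
  | tmul y x =>
    rw [shearHom_tmul, map_mul]
    have h1 : shearInv k A (y ⊗ₜ 1) = y ⊗ₜ 1 := by
      rw [shearInv_tmul, Bialgebra.comul_one]
      simp [Algebra.TensorProduct.one_def]
    rw [h1]
    let φ : A ⊗[k] A →ₗ[k] A :=
      LinearMap.mul' k A ∘ₗ (HopfAlgebraStruct.antipode (R := k) (A := A)).rTensor A
    let T : A ⊗[k] (A ⊗[k] A) →ₗ[k] A ⊗[k] A :=
      φ.rTensor A ∘ₗ (TensorProduct.comm k A (A ⊗[k] A)).toLinearMap
    have key : ∀ w : A ⊗[k] A, shearInv k A (TensorProduct.comm k A A w) =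
        T (TensorProduct.assoc k A A A ((Coalgebra.comul (R := k) (A := A)).rTensor A w)) := by
      intro w
      induction w with
      | zero => simp
      | add a b ha hb => simp only [map_add, ha, hb]
      | tmul u v =>
        simp only [TensorProduct.comm_tmul, LinearMap.rTensor_tmul, shearInv_tmul]
        induction Coalgebra.comul (R := k) u with
        | zero => simp
        | add a b ha hb => simp only [map_add, add_tmul, mul_add, ha, hb]
        | tmul a b => simp [T, φ, mul_comm]
    rw [key, shear_one_tmul_aux T φ (fun u z => by simp [T])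
      (LinearMap.ext fun v => by simp [φ, HopfAlgebra.mul_antipode_rTensor_comul_apply])]
    simp

variable (k A) in
/-- The shear automorphism of `A ⊗ A` over the left factor. -/
def shearEquiv : A ⊗[k] A ≃ₐ[A] A ⊗[k] A :=
  AlgEquiv.ofAlgHom (shearHom k A) (shearInv k A) (AlgHom.ext shearHom_shearInv)
    (AlgHom.ext shearInv_shearHom)

/-- Invariance of the trace form. -/
theorem trace_mulLeft_invariant [Module.Finite k A] [Module.Free k A] (a : A) :
    LinearMap.rTensor A (LinearMap.trace k A ∘ₗ LinearMap.mul k A) (Coalgebra.comul (R := k) a) =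
      LinearMap.trace k A (LinearMap.mul k A a) ⊗ₜ[k] (1 : A) := by
  have hbc : ∀ z : A, LinearMap.mul A (A ⊗[k] A) ((1 : A) ⊗ₜ z) =
      (LinearMap.mul k A z).baseChange A := by
    intro z
    ext w
    simp
  have h2 : (shearEquiv k A).toLinearEquiv.conj (LinearMap.mul A (A ⊗[k] A) ((1 : A) ⊗ₜ a)) =
      LinearMap.mul A (A ⊗[k] A) (TensorProduct.comm k A A (Coalgebra.comul (R := k) a)) := by
    refine LinearMap.ext fun z => ?_
    rw [LinearEquiv.conj_apply_apply]
    simp only [LinearMap.mul_apply_apply, AlgEquiv.toLinearEquiv_apply, map_mul]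
    congr 1
    · change shearHom k A ((1 : A) ⊗ₜ a) = _
      rw [shearHom_tmul, ← Algebra.TensorProduct.one_def, one_mul]
    · exact (shearEquiv k A).apply_symm_apply z
  have htr : ∀ z : A, LinearMap.trace A (A ⊗[k] A) (LinearMap.mul A (A ⊗[k] A) ((1 : A) ⊗ₜ z)) =
      algebraMap k A (LinearMap.trace k A (LinearMap.mul k A z)) := fun z => by
    rw [hbc, LinearMap.trace_baseChange]
  have h3 : ∀ w : A ⊗[k] A,
      LinearMap.trace A (A ⊗[k] A) (LinearMap.mul A (A ⊗[k] A) (TensorProduct.comm k A A w)) =
        TensorProduct.lid k A (LinearMap.rTensor A (LinearMap.trace k A ∘ₗ LinearMap.mul k A) w) := by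
    intro w
    induction w with
    | zero => simp
    | add x y hx hy => simp only [map_add, hx, hy]
    | tmul x y =>
      have : (TensorProduct.comm k A A) (x ⊗ₜ y) = y • ((1 : A) ⊗ₜ[k] x) := by
        simp [TensorProduct.smul_tmul']
      rw [this, map_smul, map_smul, htr]
      simp [Algebra.smul_def, mul_comm]
  apply (TensorProduct.lid k A).injective
  rw [← h3, ← h2, LinearMap.trace_conj', htr]
  simp [Algebra.algebraMap_eq_smul_one]

end

/-- A finite commutative Hopf algebra of dimension invertible in the field has only semisimple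
comodules. -/
theorem isSemisimpleComod_of_finrank_ne_zero {k : Type u} [Field k] {A : Type v} [CommRing A]
    [HopfAlgebra k A] [Module.Finite k A] (h : (Module.finrank k A : k) ≠ 0)
    (V : Type w) [AddCommGroup V] [Module k V] [HopfRep.Comod k A V] :
    HopfRep.IsSemisimpleComod k A V := by
  refine Groth.Agent.S18812.result k A
    ((Module.finrank k A : k)⁻¹ • (LinearMap.trace k A ∘ₗ LinearMap.mul k A))
    (LinearMap.ext fun a => ?_) ?_ V
  · change _ = LinearMap.rTensor A _ (Coalgebra.comul (R := k) a)
    rw [LinearMap.rTensor_smul, LinearMap.smul_apply, trace_mulLeft_invariant]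
    change (_ : k) ⊗ₜ[k] (1 : A) = _
    simp [TensorProduct.smul_tmul']
  · have : LinearMap.mul k A (1 : A) = LinearMap.id := by ext; simp
    simp only [LinearMap.smul_apply, LinearMap.comp_apply, this, LinearMap.trace_id, smul_eq_mul]
    exact inv_mul_cancel₀ h

end Groth.L08
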