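import Groth.Agent.L08.HopfImage

/-!
# A faithfully flat homomorphism with trivial kernel is an isomorphism
-/

set_option autoImplicit false

universe u v w

open TensorProduct WithConv

namespace Groth.L08.TrivialKernel

theorem surjective_of_ker {R : Type u} [CommRing R] {B : Type v} {A : Type w} [CommRing B] [CommRing A]
    [HopfAlgebra R B] [HopfAlgebra R A] (f : B →ₐc[R] A) (hff : (f : B →+* A).FaithfullyFlat)
    (hker : RingHom.ker (Bialgebra.counitAlgHom R A) ≤
      Ideal.map (f : B →+* A) (RingHom.ker (Bialgebra.counitAlgHom R B))) :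
    Function.Surjective f := by
  letI : Algebra B A := (f : B →+* A).toAlgebra
  haveI : IsScalarTower R B A := IsScalarTower.of_algebraMap_eq fun r => (AlgHomClass.commutes f r).symm
  haveI : Module.FaithfullyFlat B A := hff
  let g0 : A →ₐ[R] A ⊗[B] A := Algebra.TensorProduct.includeLeft
  let g2 : A →ₐ[R] A ⊗[B] A := (Algebra.TensorProduct.includeRight : A →ₐ[B] A ⊗[B] A).restrictScalars R
  have hg : g2.comp (f : B →ₐ[R] A) = g0.comp (f : B →ₐ[R] A) := by
    refine AlgHom.ext fun b => ?_
    show (1 : A) ⊗ₜ[B] algebraMap B A b = algebraMap B A b ⊗ₜ[B] (1 : A)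
    rw [Algebra.algebraMap_eq_smul_one, TensorProduct.smul_tmul]
  have hS : toConv (g0.comp (HopfAlgebra.antipodeAlgHom R A)) * toConv g0 = 1 := by
    have h := AlgHom.comp_convMul_distrib g0 (toConv (HopfAlgebra.antipodeAlgHom R A)) (toConv (AlgHom.id R A))
    rw [AlgHom.antipode_id_cancel] at h
    refine WithConv.ext (AlgHom.ext fun x => ?_)
    have h2 := DFunLike.congr_fun h x
    simp only [AlgHom.comp_apply, AlgHom.convOne_apply, WithConv.ofConv_toConv, AlgHom.comp_id] at h2
    rw [← h2, AlgHom.convOne_apply, AlgHom.commutes]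
  let Φ : WithConv (A →ₐ[R] A ⊗[B] A) := toConv (g0.comp (HopfAlgebra.antipodeAlgHom R A)) * toConv g2
  have hΦf : Φ.ofConv.comp (f : B →ₐ[R] A) = (Algebra.ofId R _).comp (Bialgebra.counitAlgHom R B) := by
    have h := AlgHom.convMul_comp_bialgHom_distrib (toConv (g0.comp (HopfAlgebra.antipodeAlgHom R A))) (toConv g2) f
    have h' := AlgHom.convMul_comp_bialgHom_distrib (toConv (g0.comp (HopfAlgebra.antipodeAlgHom R A))) (toConv g0) f
    simp only [WithConv.ofConv_toConv] at h h'
    rw [show Φ.ofConv.comp (f : B →ₐ[R] A) = _ from h, hg, ← h', hS]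
    refine AlgHom.ext fun b => ?_
    simp [AlgHom.convOne_apply]
  have hΦ : Φ = 1 := by
    refine WithConv.ext (AlgHom.ext fun a => ?_)
    have h1 : RingHom.ker (Bialgebra.counitAlgHom R A) ≤ RingHom.ker Φ.ofConv := by
      refine hker.trans (Ideal.map_le_iff_le_comap.2 fun b hb => ?_)
      rw [Ideal.mem_comap, RingHom.mem_ker]
      refine (DFunLike.congr_fun hΦf b).trans ?_
      simp only [AlgHom.comp_apply, RingHom.mem_ker.1 hb, map_zero]
    have h2 : a - algebraMap R A (Coalgebra.counit (R := R) a) ∈ RingHom.ker (Bialgebra.counitAlgHom R A) := by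
      simp [RingHom.mem_ker]
    have h3 := RingHom.mem_ker.1 (h1 h2)
    rw [map_sub, sub_eq_zero, AlgHom.commutes] at h3
    rw [AlgHom.convOne_apply]
    exact h3
  have heq : toConv g2 = toConv g0 := by
    have hid : toConv (AlgHom.id R A) * toConv (HopfAlgebra.antipodeAlgHom R A) = 1 :=
      mul_inv_cancel (toConv (AlgHom.id R A) : WithConv (A →ₐ[R] A))
    have h1 : toConv g0 * toConv (g0.comp (HopfAlgebra.antipodeAlgHom R A)) = 1 := by
      have h := AlgHom.comp_convMul_distrib g0 (toConv (AlgHom.id R A)) (toConv (HopfAlgebra.antipodeAlgHom R A))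
      rw [hid] at h
      refine WithConv.ext (AlgHom.ext fun x => ?_)
      have h2 := DFunLike.congr_fun h x
      simp only [AlgHom.comp_apply, AlgHom.convOne_apply, WithConv.ofConv_toConv, AlgHom.comp_id] at h2
      rw [← h2, AlgHom.convOne_apply, AlgHom.commutes]
    calc toConv g2 = (toConv g0 * toConv (g0.comp (HopfAlgebra.antipodeAlgHom R A))) * toConv g2 := by rw [h1, one_mul]
      _ = toConv g0 * Φ := mul_assoc _ _ _
      _ = toConv g0 := by rw [hΦ, mul_one]
  have hsurj : Function.Surjective ((Algebra.linearMap B A).lTensor A) := by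
    intro z
    induction z with
    | zero => exact ⟨0, map_zero _⟩
    | add x y hx hy =>
      obtain ⟨a, rfl⟩ := hx
      obtain ⟨c, rfl⟩ := hy
      exact ⟨a + c, map_add _ _ _⟩
    | tmul x y =>
      refine ⟨(x * y) ⊗ₜ 1, ?_⟩
      have h : (1 : A) ⊗ₜ[B] y = y ⊗ₜ[B] (1 : A) := DFunLike.congr_fun (congrArg WithConv.ofConv heq) y
      have h2 := congrArg (fun t : A ⊗[B] A => (x ⊗ₜ[B] (1 : A)) * t) h
      simp only [Algebra.TensorProduct.tmul_mul_tmul, mul_one, one_mul] at h2
      simp [h2]
  exact (Module.FaithfullyFlat.lTensor_surjective_iff_surjective B A (Algebra.linearMap B A)).1 hsurj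

end Groth.L08.TrivialKernel
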