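import Groth.Agent.L08.KilledByLie
import Groth.Prelude.Def_Lie2
import Groth.Prelude.Def_GLin

/-!
# Infinitesimal criteria for actions of unipotent groups
-/

universe u

open TensorProduct

noncomputable section

namespace Groth.L08.UnipotentLie

variable {k : Type u} [Field k] [CharZero k] {A : Type u} [CommRing A] [HopfAlgebra k A] [Algebra.FiniteType k A]

omit [CharZero k] [Algebra.FiniteType k A] in
theorem exists_lie (w : A →ₗ[k] k) (hw : AugGraded.IsTangent k A w) :
    ∃ ξ : LieHopf.Lie k A, ∀ a, ξ a = w a := by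
  refine ⟨Derivation.mk' (w : A →ₗ[k] LieHopf.K k A) fun a b => hw a b, fun a => rfl⟩

omit [CharZero k] [Algebra.FiniteType k A] in
theorem isTangent_lie (ξ : LieHopf.Lie k A) :
    AugGraded.IsTangent k A (ξ.toLinearMap.restrictScalars k : A →ₗ[k] k) := fun a b => ξ.leibniz a b

variable (hU : HopfRep.IsUnipotent k A)
variable {R : Type u} [AddCommGroup R] [Module k R] [HopfRep.Comod k A R]

omit [CharZero k] [Algebra.FiniteType k A] in
theorem fAct_of_lie {f : R} (ξ : LieHopf.Lie k A) :
    fAct R (ξ.toLinearMap.restrictScalars k : A →ₗ[k] k) f =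
      TensorProduct.rid k R (LinearMap.lTensor R (ξ.toLinearMap.restrictScalars k) (HopfRep.Comod.coact (k := k) (A := A) f)) :=
  rfl

omit [CharZero k] [Algebra.FiniteType k A] in
theorem killed_of_forall_lie {f : R} {v : R} (w : A →ₗ[k] k) (hw : AugGraded.IsTangent k A w)
    (h : ∀ ξ : LieHopf.Lie k A, fAct R (ξ.toLinearMap.restrictScalars k : A →ₗ[k] k) f = v) : fAct R w f = v := by
  obtain ⟨ξ, hξ⟩ := exists_lie w hw
  rw [← h ξ]
  exact congrArg (fun φ : A →ₗ[k] k => fAct R φ f) (LinearMap.ext fun a => (hξ a).symm)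

include hU in
theorem mem_fixed_iff (f : R) :
    f ∈ HopfRep.fixedPts k A R ↔
      ∀ ξ : LieHopf.Lie k A,
        LinearMap.lTensor R (ξ.toLinearMap.restrictScalars k) (HopfRep.Comod.coact (k := k) (A := A) f) = 0 := by
  constructor
  · intro hf ξ
    rw [show HopfRep.Comod.coact (k := k) (A := A) f = f ⊗ₜ[k] (1 : A) from hf, LinearMap.lTensor_tmul]
    simp
  · intro h
    refine mem_fixedPts_iff_fAct.2 fun φ => KilledByLie.fAct_eq_of_killed' hU (fun w hw => ?_) φ
    refine killed_of_forall_lie w hw fun ξ => ?_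
    rw [fAct_of_lie, h ξ]
    exact map_zero _

include hU in
theorem isSubcomod_iff_stable (V : Submodule k R) :
    HopfRep.IsSubcomod (k := k) (A := A) V ↔
      ∀ (ξ : LieHopf.Lie k A) (v : R), v ∈ V →
        LinearMap.lTensor R (ξ.toLinearMap.restrictScalars k) (HopfRep.Comod.coact (k := k) (A := A) v) ∈
          LinearMap.range (LinearMap.rTensor (LieHopf.K k A) V.subtype) := by
  constructor
  · intro hV ξ v hv
    obtain ⟨y, hy⟩ := hV v hv
    refine ⟨LinearMap.lTensor _ (ξ.toLinearMap.restrictScalars k) y, ?_⟩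
    rw [← hy, LinearMap.lTensor_def, LinearMap.rTensor_def, LinearMap.rTensor_def, LinearMap.lTensor_def,
      ← LinearMap.comp_apply, ← LinearMap.comp_apply, ← TensorProduct.map_comp, ← TensorProduct.map_comp]
    simp
  · intro h
    have hst : ∀ w : A →ₗ[k] k, AugGraded.IsTangent k A w → ∀ v ∈ V, fAct R w v ∈ V := by
      intro w hw v hv
      obtain ⟨ξ, hξ⟩ := exists_lie w hw
      rw [show w = (ξ.toLinearMap.restrictScalars k : A →ₗ[k] k) from LinearMap.ext fun a => (hξ a).symm, fAct_of_lie]
      obtain ⟨y, hy⟩ := h ξ v hv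
      rw [← hy]
      clear hy
      induction y using TensorProduct.induction_on with
      | zero => rw [map_zero]; exact (map_zero (TensorProduct.rid k R)).symm ▸ zero_mem V
      | add a b ha hb => rw [map_add]; exact (map_add (TensorProduct.rid k R) _ _).symm ▸ add_mem ha hb
      | tmul a b => exact V.smul_mem _ a.2
    refine Groth.L08.isSubcomod_iff.2 fun φ v hv => ?_
    by_contra hn
    obtain ⟨ψ, hψ, hψV⟩ := Submodule.exists_dual_map_eq_bot_of_notMem hn inferInstance
    have hψ0 : ∀ u ∈ V, ψ u = 0 := fun u hu => by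
      have : ψ u ∈ V.map ψ := Submodule.mem_map_of_mem hu
      rw [hψV] at this
      simpa using this
    have hT : V.map (cf (A := A) ψ) = ⊥ := by
      refine KilledByLie.eq_bot_of_stable hU ?_ ?_
      · rintro _ ⟨u, hu, rfl⟩
        have : Bialgebra.counitAlgHom k A (cf (A := A) ψ u) = ψ (fAct R (Coalgebra.counit (R := k)) u) :=
          apply_cf _ ψ u
        rw [this, fAct_counit]
        exact hψ0 u hu
      · rintro w hw _ ⟨u, hu, rfl⟩
        exact ⟨fAct R w u, hst w hw u hu, fAct_comm_of_isComodHom (isComodHom_cf (A := A) ψ) w u⟩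
    have h0 : cf (A := A) ψ v = 0 := (Submodule.mem_bot k).1 (hT ▸ Submodule.mem_map_of_mem hv)
    exact hψ (by rw [← apply_cf, h0, map_zero])

include hU in
theorem intertwine {R₂ : Type u} [AddCommGroup R₂] [Module k R₂] [HopfRep.Comod k A R₂] (e : R →ₗ[k] R₂)
    (h : ∀ (ξ : LieHopf.Lie k A) (f : R),
      LinearMap.lTensor R₂ (ξ.toLinearMap.restrictScalars k) (HopfRep.Comod.coact (k := k) (A := A) (e f)) =
        LinearMap.rTensor (LieHopf.K k A) e
          (LinearMap.lTensor R (ξ.toLinearMap.restrictScalars k) (HopfRep.Comod.coact (k := k) (A := A) f)))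
    (f : R) : HopfRep.Comod.coact (k := k) (A := A) (e f) =
      LinearMap.rTensor A e (HopfRep.Comod.coact (k := k) (A := A) f) := by
  have hw : ∀ w : A →ₗ[k] k, AugGraded.IsTangent k A w → ∀ f, fAct R₂ w (e f) = e (fAct R w f) := by
    intro w hw f
    obtain ⟨ξ, hξ⟩ := exists_lie w hw
    rw [show w = (ξ.toLinearMap.restrictScalars k : A →ₗ[k] k) from LinearMap.ext fun a => (hξ a).symm,
      fAct_of_lie, fAct_of_lie, h ξ f]
    generalize LinearMap.lTensor R (ξ.toLinearMap.restrictScalars k) (HopfRep.Comod.coact (k := k) (A := A) f) = y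
    let r1 : R ⊗[k] LieHopf.K k A →ₗ[k] R := (TensorProduct.rid k R).toLinearMap
    let r2 : R₂ ⊗[k] LieHopf.K k A →ₗ[k] R₂ := (TensorProduct.rid k R₂).toLinearMap
    change r2 (LinearMap.rTensor (LieHopf.K k A) e y) = e (r1 y)
    induction y using TensorProduct.induction_on with
    | zero => simp only [map_zero]
    | add a b ha hb => simp only [map_add, ha, hb]
    | tmul a b => exact (map_smul e (show k from b) a).symm
  have hfin : ∀ ψ : Module.Dual k R₂, (cf (A := A) ψ ∘ₗ e - cf (A := A) (ψ ∘ₗ e)) f = 0 := by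
    intro ψ
    have hT := KilledByLie.eq_bot_of_stable hU (T := LinearMap.range (cf (A := A) ψ ∘ₗ e - cf (A := A) (ψ ∘ₗ e))) ?_ ?_
    · exact (Submodule.mem_bot k).1 (hT ▸ LinearMap.mem_range_self _ f)
    · rintro _ ⟨u, rfl⟩
      rw [LinearMap.sub_apply, map_sub, LinearMap.comp_apply]
      rw [show Bialgebra.counitAlgHom k A (cf (A := A) ψ (e u)) = ψ (fAct R₂ (Coalgebra.counit (R := k)) (e u)) from
          apply_cf _ ψ _,
        show Bialgebra.counitAlgHom k A (cf (A := A) (ψ ∘ₗ e) u) = (ψ ∘ₗ e) (fAct R (Coalgebra.counit (R := k)) u) from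
          apply_cf _ _ _, fAct_counit, fAct_counit]
      exact sub_self _
    · rintro w hw' _ ⟨u, rfl⟩
      refine ⟨fAct R w u, ?_⟩
      rw [LinearMap.sub_apply, LinearMap.sub_apply, map_sub, LinearMap.comp_apply, LinearMap.comp_apply,
        ← fAct_comm_of_isComodHom (isComodHom_cf (A := A) ψ), ← fAct_comm_of_isComodHom (isComodHom_cf (A := A) (ψ ∘ₗ e)),
        hw w hw']
  classical
  let b := Module.Basis.ofVectorSpace k A
  refine (TensorProduct.equivFinsuppOfBasisRight b).injective (Finsupp.ext fun i => ?_)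
  rw [TensorProduct.equivFinsuppOfBasisRight_apply, TensorProduct.equivFinsuppOfBasisRight_apply]
  refine sub_eq_zero.1 ((Module.forall_dual_apply_eq_zero_iff k _).1 fun ψ => ?_)
  have h1 := congrArg (b.coord i) (hfin ψ)
  rw [map_zero, LinearMap.sub_apply, map_sub, LinearMap.comp_apply, apply_cf, apply_cf, LinearMap.comp_apply] at h1
  rw [map_sub, sub_eq_zero]
  refine (sub_eq_zero.1 h1).trans (congrArg ψ ?_)
  rw [fAct_apply]
  generalize HopfRep.Comod.coact (k := k) (A := A) f = y
  induction y using TensorProduct.induction_on with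
  | zero => simp
  | add a c ha hc => simp only [map_add, ha, hc]
  | tmul a c => simp

end Groth.L08.UnipotentLie
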