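import Groth.Agent.L21.Units.Affine
import Mathlib.RingTheory.DedekindDomain.Ideal.Lemmas
import Mathlib.FieldTheory.IsAlgClosed.Basic
import Mathlib.RingTheory.Filtration

/-!
# Units in a finite dimensional space of functions lie on finitely many lines
-/

set_option autoImplicit false

universe u v w

open MvPolynomial Groth.L21.Units

namespace Groth.L08.UnitsLines

/-- In a semilocal principal ideal domain, elements of a finite dimensional space generate finitely
many ideals. -/
theorem finite_span_singleton {k : Type u} [Field k] (B : Type v) [CommRing B] [IsDomain B]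
    [IsPrincipalIdealRing B] [Algebra k B] (hfin : {I : Ideal B | I.IsPrime}.Finite)
    (W : Submodule k B) [FiniteDimensional k W] :
    ((fun x : B => Ideal.span {x}) '' {x | x ∈ W ∧ x ≠ 0}).Finite := by
  classical
  let S := hfin.toFinset
  -- a uniform bound on the multiplicities
  have hN : ∃ N : ℕ, ∀ P ∈ S, P ≠ ⊤ → ∀ x ∈ W, x ∈ P ^ N → x = 0 := by
    have h1 : ∀ P : Ideal B, ∃ N : ℕ, P ≠ ⊤ → ∀ x ∈ W, x ∈ P ^ N → x = 0 := by
      intro P
      by_cases hP : P = ⊤
      · exact ⟨0, fun h => absurd hP h⟩
      obtain ⟨N, hN⟩ := IsArtinian.monotone_stabilizes (R := k) (M := W)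
        ⟨fun n => ((P ^ n).restrictScalars k).comap W.subtype,
          fun a b hab => Submodule.comap_mono fun x hx => Ideal.pow_le_pow_right hab hx⟩
      refine ⟨N, fun _ x hxW hx => ?_⟩
      have hall : ∀ n, x ∈ P ^ n := fun n => by
        rcases le_total N n with h | h
        · have he : ((P ^ N).restrictScalars k).comap W.subtype = ((P ^ n).restrictScalars k).comap W.subtype := hN n h
          exact (SetLike.ext_iff.1 he ⟨x, hxW⟩).1 hx
        · exact Ideal.pow_le_pow_right h hx
      have := Ideal.iInf_pow_eq_bot_of_isDomain P hP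
      exact (Submodule.mem_bot B).1 (this ▸ Submodule.mem_iInf _ |>.2 hall)
    choose N hN using h1
    exact ⟨S.sup N, fun P hP hne x hxW hx =>
      hN P hne x hxW (Ideal.pow_le_pow_right (Finset.le_sup hP) hx)⟩
  obtain ⟨N, hN⟩ := hN
  refine Set.Finite.subset (((N • S.val).powerset.toFinset.image Multiset.prod).finite_toSet) ?_
  rintro _ ⟨x, ⟨hxW, hx0⟩, rfl⟩
  have hI0 : Ideal.span ({x} : Set B) ≠ ⊥ := by simpa using hx0
  refine Finset.mem_coe.2 (Finset.mem_image.2
    ⟨UniqueFactorizationMonoid.normalizedFactors (Ideal.span ({x} : Set B)), ?_,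
      Ideal.prod_normalizedFactors_eq_self hI0⟩)
  rw [Multiset.mem_toFinset, Multiset.mem_powerset, Multiset.le_iff_count]
  intro P
  by_cases hP : P ∈ UniqueFactorizationMonoid.normalizedFactors (Ideal.span ({x} : Set B))
  · have hprime := UniqueFactorizationMonoid.prime_of_normalized_factor P hP
    have hPprime : P.IsPrime := Ideal.isPrime_of_prime hprime
    have hPS : P ∈ S := hfin.mem_toFinset.2 hPprime
    rw [Multiset.count_nsmul, Multiset.count_eq_one_of_mem S.nodup hPS, mul_one]
    by_contra hlt
    have h1 : Multiset.replicate N P ≤ UniqueFactorizationMonoid.normalizedFactors (Ideal.span ({x} : Set B)) :=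
      Multiset.le_count_iff_replicate_le.1 (by omega)
    have h2 := Multiset.prod_dvd_prod_of_le h1
    rw [Multiset.prod_replicate, Ideal.prod_normalizedFactors_eq_self hI0] at h2
    exact hx0 (hN P hPS hPprime.ne_top x hxW
      (Ideal.dvd_iff_le.1 h2 (Ideal.mem_span_singleton_self x)))
  · rw [Multiset.count_eq_zero.2 hP]
    exact Nat.zero_le _

/-- Nonzero elements of a finite dimensional subspace of the fraction field fall into finitely many
classes modulo units. -/
theorem exists_finset_classes {k : Type u} [Field k] (B : Type v) [CommRing B] [IsDomain B]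
    [IsPrincipalIdealRing B] [Algebra k B] (hfin : {I : Ideal B | I.IsPrime}.Finite)
    (K : Type w) [Field K] [Algebra B K] [IsFractionRing B K] [Algebra k K] [IsScalarTower k B K]
    (V : Submodule k K) [FiniteDimensional k V] :
    ∃ s : Finset K, ∀ x ∈ V, x ≠ 0 → ∃ w ∈ s, ∃ u : Bˣ, x = algebraMap B K u * w := by
  classical
  obtain ⟨t, ht⟩ := (Module.Finite.iff_fg.1 ‹FiniteDimensional k V› : V.FG)
  obtain ⟨d, hd⟩ := IsLocalization.exist_integer_multiples_of_finset (nonZeroDivisors B) t
  let ι : B →ₗ[k] K := (IsScalarTower.toAlgHom k B K).toLinearMap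
  have hι : Function.Injective ι := IsFractionRing.injective B K
  let μ : K →ₗ[k] K := LinearMap.mulLeft k (algebraMap B K d)
  let W : Submodule k B := (V.map μ).comap ι
  haveI : FiniteDimensional k W :=
    Module.Finite.of_injective (R := k) ((ι.domRestrict W).codRestrict (V.map μ) fun x => x.2)
      fun a b h => Subtype.ext (hι (congrArg Subtype.val h))
  have hW : ∀ x ∈ V, ∃ b ∈ W, algebraMap B K b = algebraMap B K d * x := by
    intro x hx
    have h1 : ∀ y ∈ V, algebraMap B K d * y ∈ LinearMap.range ι := by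
      rw [← ht]
      intro y hy
      refine Submodule.span_induction (fun z hz => ?_) ?_ (fun a b _ _ ha hb => ?_) (fun c a _ ha => ?_) hy
      · obtain ⟨b, hb⟩ := hd z hz
        exact ⟨b, hb.trans (Algebra.smul_def _ _)⟩
      · simp
      · rw [mul_add]; exact add_mem ha hb
      · rw [mul_smul_comm]; exact Submodule.smul_mem _ _ ha
    obtain ⟨b, hb⟩ := h1 x hx
    exact ⟨b, ⟨x, hx, hb.symm⟩, hb⟩
  have hF := finite_span_singleton B hfin W
  have hd0 : algebraMap B K d ≠ 0 := fun h =>
    nonZeroDivisors.coe_ne_zero d (IsFractionRing.injective B K (h.trans (map_zero _).symm))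
  refine ⟨hF.toFinset.image fun I => algebraMap B K (Submodule.IsPrincipal.generator I) / algebraMap B K d,
    fun x hx hx0 => ?_⟩
  obtain ⟨b, hbW, hb⟩ := hW x hx
  have hb0 : b ≠ 0 := fun h => by
    rw [h, map_zero] at hb
    exact (mul_ne_zero hd0 hx0) hb.symm
  obtain ⟨u, hu⟩ := Ideal.span_singleton_eq_span_singleton.mp (Ideal.span_singleton_generator (Ideal.span {b}))
  refine ⟨_, Finset.mem_image.2 ⟨Ideal.span {b}, hF.mem_toFinset.2 ⟨b, ⟨hbW, hb0⟩, rfl⟩, rfl⟩, u, ?_⟩
  rw [← mul_div_assoc, ← map_mul, mul_comm (u : B), hu, hb, mul_div_cancel_left₀ _ hd0]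

theorem exists_algebraMap_eq {k : Type u} [Field k] [IsAlgClosed k] {A : Type v} [CommRing A] [IsDomain A]
    [Algebra k A] {a : A} (h : IsIntegral k a) : ∃ c : k, algebraMap k A c = a := by
  haveI : Algebra.IsIntegral k (Algebra.adjoin k ({a} : Set A)) :=
    Algebra.IsIntegral.adjoin (by rintro _ rfl; exact h)
  obtain ⟨c, hc⟩ := (IsAlgClosed.algebraMap_bijective_of_isIntegral (k := k)
    (K := Algebra.adjoin k ({a} : Set A))).2 ⟨a, Algebra.subset_adjoin rfl⟩
  exact ⟨c, congrArg Subtype.val hc⟩

/-- **Units in a finite dimensional space lie on finitely many lines.** -/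
theorem exists_finset_lines {k : Type u} [Field k] [IsAlgClosed k] (A : Type u) [CommRing A] [IsDomain A]
    [Algebra k A] [Algebra.FiniteType k A] (V : Submodule k A) [FiniteDimensional k V] :
    ∃ s : Finset A, ∀ a ∈ V, IsUnit a → ∃ w ∈ s, ∃ c : k, a = c • w := by
  classical
  obtain ⟨n, g, hg, hint⟩ := exists_integral_inj_algHom_of_fg k A
  rcases Nat.eq_zero_or_pos n with rfl | hn
  · refine ⟨{1}, fun a _ _ => ?_⟩
    have : IsIntegral k a := by
      obtain ⟨p, hp, hpa⟩ := hint a
      refine ⟨p.map (MvPolynomial.isEmptyAlgEquiv k (Fin 0)).toRingEquiv.toRingHom, hp.map _, ?_⟩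
      rw [Polynomial.eval₂_map]
      have he : (algebraMap k A).comp (MvPolynomial.isEmptyAlgEquiv k (Fin 0)).toRingEquiv.toRingHom =
          g.toRingHom := by
        refine RingHom.ext fun q => ?_
        obtain ⟨c, rfl⟩ := MvPolynomial.C_surjective (Fin 0) q
        show algebraMap k A (MvPolynomial.isEmptyAlgEquiv k (Fin 0) (algebraMap k _ c)) = g (algebraMap k _ c)
        rw [AlgEquiv.commutes, AlgHom.commutes]
        rfl
      rw [he]; exact hpa
    obtain ⟨c, hc⟩ := exists_algebraMap_eq this
    exact ⟨1, Finset.mem_singleton_self _, c, by rw [← hc, Algebra.algebraMap_eq_smul_one]⟩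
  haveI : Nonempty (Fin n) := ⟨⟨0, hn⟩⟩
  set P := MvPolynomial (Fin n) k
  algebraize [g.toRingHom]
  haveI : IsScalarTower k P A := IsScalarTower.of_algebraMap_eq fun r => (g.commutes r).symm
  haveI : FaithfulSMul P A := (faithfulSMul_iff_algebraMap_injective P A).mpr hg
  haveI : Algebra.IsIntegral P A := ⟨hint⟩
  haveI : Algebra.FiniteType P A := Algebra.FiniteType.of_restrictScalars_finiteType k P A
  haveI : Module.Finite P A := Algebra.IsIntegral.finite
  let F := FractionRing P
  let K := FractionRing A
  letI : Algebra F K := FractionRing.liftAlgebra P K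
  haveI : IsLocalization (Algebra.algebraMapSubmonoid A (nonZeroDivisors P)) K := inferInstance
  haveI : FiniteDimensional F K := Module.Finite.of_isLocalization P A (nonZeroDivisors P)
  obtain ⟨hB1, hB2, hB3⟩ := integralClosure_infVal (k := k) (Fin n) F K
  set O := (infVal (Fin n) k F).valuationSubring
  haveI : IsDiscreteValuationRing O := isDiscreteValuationRing_infVal (Fin n) k F
  set B := integralClosure O K
  haveI := hB1
  haveI := hB3
  -- constants lie in `B`
  have hk : ∀ c : k, IsIntegral O (algebraMap k K c) := by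
    intro c
    have hc : algebraMap P F (C c) ∈ O := by
      rw [Valuation.mem_valuationSubring_iff, infVal_algebraMap]
      rcases eq_or_ne c 0 with rfl | hc0
      · simp
      · rw [degVal_apply (Fin n) k (C_ne_zero.2 hc0), totalDegree_C, Nat.cast_zero, WithZero.exp_zero]
    have h2 : algebraMap k K c = algebraMap O K ⟨_, hc⟩ := by
      show _ = algebraMap F K (algebraMap P F (C c))
      rw [← IsScalarTower.algebraMap_apply P F K, IsScalarTower.algebraMap_apply k P K]
      rfl
    rw [h2]
    exact isIntegral_algebraMap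
  letI : Algebra k B := ((algebraMap k K).codRestrict B hk).toAlgebra
  haveI : IsScalarTower k B K := IsScalarTower.of_algebraMap_eq fun c => rfl
  obtain ⟨s, hs⟩ := exists_finset_classes (k := k) B hB2 K (V.map (IsScalarTower.toAlgHom k A K).toLinearMap)
  -- one unit for each class
  let rep : K → A := fun w =>
    if h : ∃ a : A, IsUnit a ∧ ∃ u : Bˣ, algebraMap A K a = algebraMap B K u * w then h.choose else 0
  refine ⟨s.image rep, fun a haV ha => ?_⟩
  have haK : algebraMap A K a ≠ 0 := fun h => ha.ne_zero (IsFractionRing.injective A K (h.trans (map_zero _).symm))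
  obtain ⟨w, hw, u, hu⟩ := hs _ (Submodule.mem_map_of_mem (f := (IsScalarTower.toAlgHom k A K).toLinearMap) haV) haK
  have hex : ∃ a : A, IsUnit a ∧ ∃ u : Bˣ, algebraMap A K a = algebraMap B K u * w := ⟨a, ha, u, hu⟩
  obtain ⟨ha₀, u₀, hu₀⟩ := hex.choose_spec
  have hrep : rep w = hex.choose := dif_pos hex
  refine ⟨rep w, Finset.mem_image_of_mem _ hw, ?_⟩
  -- the quotient is integral over `k`
  let q : A := a * (ha₀.unit⁻¹ : Aˣ)
  have hq : q * hex.choose = a := by
    rw [mul_assoc, IsUnit.val_inv_mul, mul_one]
  have hqK : algebraMap A K q = algebraMap B K ((u * u₀⁻¹ : Bˣ) : B) := by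
    have hne : algebraMap A K hex.choose ≠ 0 := fun h =>
      ha₀.ne_zero (IsFractionRing.injective A K (h.trans (map_zero _).symm))
    refine mul_right_cancel₀ hne ?_
    rw [← map_mul, hq]
    refine hu.trans ?_
    rw [hu₀, ← mul_assoc, ← map_mul, ← Units.val_mul, inv_mul_cancel_right]
  have hint' : IsIntegral k q := by
    have hO : IsIntegral O (algebraMap A K q) := hqK ▸ ((u * u₀⁻¹ : Bˣ) : B).2
    have hPA : IsIntegral P (algebraMap A K q) := (Algebra.IsIntegral.isIntegral q).algebraMap
    have h1 := minpoly.isIntegrallyClosed_eq_field_fractions' F hPA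
    have h2 := minpoly.isIntegrallyClosed_eq_field_fractions' F hO
    have hcoef : ∀ i, ∃ c : k, (minpoly P (algebraMap A K q)).coeff i = C c := fun i => by
      apply eq_C_of_infVal_le_one (Fin n) k F
      have := congrArg (fun q : Polynomial F => q.coeff i) (h1.symm.trans h2)
      simp only [Polynomial.coeff_map] at this
      rw [this]
      exact ((minpoly O (algebraMap A K q)).coeff i).2
    have hlift : minpoly P (algebraMap A K q) ∈ Polynomial.lifts (algebraMap k P) :=
      (Polynomial.lifts_iff_coeff_lifts _).mpr fun i => by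
        obtain ⟨c, hc⟩ := hcoef i
        exact ⟨c, hc.symm⟩
    obtain ⟨p, hp, -, hpm⟩ := Polynomial.lifts_and_degree_eq_and_monic hlift (minpoly.monic hPA)
    refine ⟨p, hpm, IsFractionRing.injective A K ?_⟩
    rw [map_zero, ← Polynomial.aeval_def, ← Polynomial.aeval_algebraMap_apply,
      ← Polynomial.aeval_map_algebraMap P, hp, minpoly.aeval]
  obtain ⟨c, hc⟩ := exists_algebraMap_eq hint'
  exact ⟨c, by rw [Algebra.smul_def, hc, hrep, hq]⟩

end Groth.L08.UnitsLines
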