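import Groth.Prelude.Def_W4c1liftfrobW2
import Mathlib.RingTheory.Flat.Basic
import Mathlib.RingTheory.Flat.Tensor
import Mathlib.RingTheory.WittVector.InitTail
import Mathlib.RingTheory.WittVector.Teichmuller
import Mathlib.LinearAlgebra.TensorProduct.RightExactness
import Mathlib.RingTheory.Ideal.Operations

/-!
# Witt vectors of length two over a perfect field and their flat modules
-/

universe u v

open TensorProduct

noncomputable section

namespace Groth.L08.W2

variable (p : ℕ) [hp : Fact p.Prime]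

theorem ext {R : Type u} [CommRing R] {x y : FrobAlg.W2 p R} (h0 : FrobAlg.res p R x = FrobAlg.res p R y)
    (h1 : x.coeff 1 = y.coeff 1) : x = y := by
  refine TruncatedWittVector.ext fun i => ?_
  fin_cases i
  · simpa using h0
  · exact h1

theorem coeff_zero (R : Type u) [CommRing R] (i : Fin 2) : (0 : FrobAlg.W2 p R).coeff i = 0 :=
  TruncatedWittVector.coeff_zero p 2 R i

section CharP

variable {R : Type u} [CommRing R] [CharP R p]

theorem res_p_mul (x : FrobAlg.W2 p R) : FrobAlg.res p R ((p : FrobAlg.W2 p R) * x) = 0 := by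
  rw [map_mul, map_natCast, CharP.cast_eq_zero, zero_mul]

theorem coeff_one_p_mul (x : FrobAlg.W2 p R) :
    ((p : FrobAlg.W2 p R) * x).coeff 1 = FrobAlg.res p R x ^ p := by
  obtain ⟨X, rfl⟩ := WittVector.truncate_surjective p 2 R x
  rw [← map_natCast (WittVector.truncate (p := p) (R := R) 2), ← map_mul, WittVector.coeff_truncate,
    FrobAlg.res_truncate, mul_comm]
  exact WittVector.mul_charP_coeff_succ X 0

theorem p_mul_p : (p : FrobAlg.W2 p R) * (p : FrobAlg.W2 p R) = 0 := by
  refine ext p ?_ ?_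
  · rw [res_p_mul, map_zero]
  · rw [coeff_one_p_mul, map_natCast, CharP.cast_eq_zero, zero_pow hp.out.ne_zero, coeff_zero]

/-- Vectors supported in the top component add componentwise. -/
theorem coeff_one_add {x y : FrobAlg.W2 p R} (hy : FrobAlg.res p R y = 0) :
    (x + y).coeff 1 = x.coeff 1 + y.coeff 1 := by
  obtain ⟨X, rfl⟩ := WittVector.truncate_surjective p 2 R x
  obtain ⟨Y, rfl⟩ := WittVector.truncate_surjective p 2 R y
  rw [FrobAlg.res_truncate] at hy
  let X0 : WittVector p R := WittVector.teichmuller p (X.coeff 0)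
  let X1 : WittVector p R := WittVector.mk p fun n => if n = 0 then 0 else X.coeff n
  have hX : X = X0 + X1 := by
    refine WittVector.ext fun n => ?_
    rw [WittVector.coeff_add_of_disjoint]
    · rcases n with _ | n
      · simp [X0, X1]
      · simp [X0, X1]
    · intro n
      rcases n with _ | n
      · exact Or.inr (by simp [X1])
      · exact Or.inl (by simp [X0])
  rw [← map_add, WittVector.coeff_truncate, WittVector.coeff_truncate, WittVector.coeff_truncate]
  change (X + Y).coeff 1 = X.coeff 1 + Y.coeff 1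
  let X1' : WittVector p R := WittVector.mk p fun n => X.coeff (n + 1)
  let Y' : WittVector p R := WittVector.mk p fun n => Y.coeff (n + 1)
  have hX1 : X1 = WittVector.verschiebung X1' := WittVector.ext fun n => by
    rcases n with _ | n <;> simp [X1, X1']
  have hY : Y = WittVector.verschiebung Y' := WittVector.ext fun n => by
    rcases n with _ | n <;> simp [Y', hy]
  have hsum : X + Y = X0 + WittVector.verschiebung (X1' + Y') := by
    rw [map_add, ← hX1, ← hY, hX, add_assoc]
  rw [hsum, WittVector.coeff_add_of_disjoint, WittVector.verschiebung_coeff_succ, WittVector.add_coeff_zero]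
  · simp [X0, X1', Y']
  · intro n
    rcases n with _ | n
    · exact Or.inr (WittVector.verschiebung_coeff_zero _)
    · exact Or.inl (by simp [X0])

theorem res_surjective : Function.Surjective (FrobAlg.res p R) := fun a =>
  ⟨WittVector.truncate 2 (WittVector.teichmuller p a), by rw [FrobAlg.res_truncate, WittVector.teichmuller_coeff_zero]⟩

section Perfect

variable [PerfectRing R p]

theorem exists_eq_p_mul {x : FrobAlg.W2 p R} (hx : FrobAlg.res p R x = 0) :
    ∃ y, x = (p : FrobAlg.W2 p R) * y := by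
  obtain ⟨b, hb⟩ := (frobeniusEquiv R p).surjective (x.coeff 1)
  obtain ⟨y, hy⟩ := res_surjective (p := p) b
  refine ⟨y, ext p (by rw [res_p_mul, hx]) ?_⟩
  rw [coeff_one_p_mul, hy, ← hb]
  rfl

theorem ker_res : RingHom.ker (FrobAlg.res p R) = Ideal.span {(p : FrobAlg.W2 p R)} := by
  refine le_antisymm (fun x hx => ?_) ((Ideal.span_singleton_le_iff_mem _).2 ?_)
  · obtain ⟨y, rfl⟩ := exists_eq_p_mul p hx
    exact Ideal.mem_span_singleton.2 (dvd_mul_right _ _)
  · rw [RingHom.mem_ker, map_natCast, CharP.cast_eq_zero]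

end Perfect

end CharP

section Field

variable {k : Type u} [Field k] [CharP k p] [PerfectRing k p]

theorem isUnit_or_eq_p_mul (x : FrobAlg.W2 p k) : IsUnit x ∨ ∃ y, x = (p : FrobAlg.W2 p k) * y := by
  by_cases hx : FrobAlg.res p k x = 0
  · exact Or.inr (exists_eq_p_mul p hx)
  · obtain ⟨y, hy⟩ := res_surjective (p := p) (FrobAlg.res p k x)⁻¹
    obtain ⟨z, hz⟩ := exists_eq_p_mul p (x := x * y - 1) (by rw [map_sub, map_mul, hy, mul_inv_cancel₀ hx, map_one, sub_self])
    have hn : (p : FrobAlg.W2 p k) * z * ((p : FrobAlg.W2 p k) * z) = 0 := by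
      rw [mul_mul_mul_comm, p_mul_p, zero_mul]
    exact Or.inl (IsUnit.of_mul_eq_one (y * (1 - (p : FrobAlg.W2 p k) * z))
      (by rw [← mul_assoc, sub_eq_iff_eq_add.1 hz]; linear_combination -hn))

theorem ideal_cases (I : Ideal (FrobAlg.W2 p k)) :
    I = ⊥ ∨ I = ⊤ ∨ I = Ideal.span {(p : FrobAlg.W2 p k)} := by
  by_cases htop : I = ⊤
  · exact Or.inr (Or.inl htop)
  have hle : I ≤ Ideal.span {(p : FrobAlg.W2 p k)} := fun x hx => by
    rcases isUnit_or_eq_p_mul p x with hu | ⟨y, rfl⟩
    · exact absurd (Ideal.eq_top_of_isUnit_mem _ hx hu) htop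
    · exact Ideal.mem_span_singleton.2 (dvd_mul_right _ _)
  by_cases hpI : (p : FrobAlg.W2 p k) ∈ I
  · exact Or.inr (Or.inr (le_antisymm hle ((Ideal.span_singleton_le_iff_mem _).2 hpI)))
  refine Or.inl (eq_bot_iff.2 fun x hx => ?_)
  obtain ⟨y, rfl⟩ := Ideal.mem_span_singleton'.1 (hle hx)
  rcases isUnit_or_eq_p_mul p y with hu | ⟨z, rfl⟩
  · exact absurd ((Ideal.unit_mul_mem_iff_mem I hu).1 hx) hpI
  · rw [Submodule.mem_bot, mul_right_comm, p_mul_p, zero_mul]

variable {M : Type v} [AddCommGroup M] [Module (FrobAlg.W2 p k) M]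

theorem p_smul_p_smul (m : M) : (p : FrobAlg.W2 p k) • (p : FrobAlg.W2 p k) • m = 0 := by
  rw [smul_smul, p_mul_p, zero_smul]

theorem flat_of_torsion
    (h : ∀ m : M, (p : FrobAlg.W2 p k) • m = 0 → ∃ m' : M, m = (p : FrobAlg.W2 p k) • m') :
    Module.Flat (FrobAlg.W2 p k) M := by
  rw [Module.Flat.iff_lift_lsmul_comp_subtype_injective]
  intro I _
  let q : FrobAlg.W2 p k := (p : FrobAlg.W2 p k)
  rcases ideal_cases p I with rfl | rfl | rfl
  · rw [← LinearMap.ker_eq_bot, eq_bot_iff]
    intro x hx
    rw [Submodule.mem_bot]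
    clear hx
    induction x with
    | zero => rfl
    | add a b ha hb => rw [ha, hb, add_zero]
    | tmul a m => rw [show a = 0 from Subtype.ext ((Submodule.mem_bot _).1 a.2), zero_tmul]
  · have hx : ∀ x : (⊤ : Ideal (FrobAlg.W2 p k)) ⊗[FrobAlg.W2 p k] M,
        ((⟨1, trivial⟩ : (⊤ : Ideal (FrobAlg.W2 p k))) ⊗ₜ[FrobAlg.W2 p k]
          TensorProduct.lift ((LinearMap.lsmul (FrobAlg.W2 p k) M).comp (⊤ : Ideal (FrobAlg.W2 p k)).subtype) x) = x := by
      intro x
      induction x with
      | zero => simp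
      | add a b ha hb => rw [map_add, tmul_add, ha, hb]
      | tmul a m =>
        simp only [TensorProduct.lift.tmul, LinearMap.comp_apply, Submodule.subtype_apply, LinearMap.lsmul_apply]
        rw [← smul_tmul]
        congr 1
        exact Subtype.ext (mul_one _)
    exact Function.LeftInverse.injective hx
  · let e : Ideal.span {q} := ⟨q, Ideal.mem_span_singleton_self q⟩
    rw [← LinearMap.ker_eq_bot, eq_bot_iff]
    intro x hx
    have hrep : ∃ m : M, x = e ⊗ₜ[FrobAlg.W2 p k] m := by
      clear hx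
      induction x with
      | zero => exact ⟨0, by simp⟩
      | add a b ha hb =>
        obtain ⟨m, rfl⟩ := ha; obtain ⟨n, rfl⟩ := hb
        exact ⟨m + n, (tmul_add _ _ _).symm⟩
      | tmul a m =>
        obtain ⟨c, hc⟩ := Ideal.mem_span_singleton'.1 a.2
        exact ⟨c • m, by rw [← smul_tmul]; congr 1; exact Subtype.ext hc.symm⟩
    obtain ⟨m, rfl⟩ := hrep
    obtain ⟨m', rfl⟩ := h m hx
    rw [Submodule.mem_bot, ← smul_tmul]
    rw [show q • e = 0 from Subtype.ext (p_mul_p p), zero_tmul]

theorem torsion_of_flat [Module.Flat (FrobAlg.W2 p k) M] {m : M} (hm : (p : FrobAlg.W2 p k) • m = 0) :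
    ∃ m' : M, m = (p : FrobAlg.W2 p k) • m' := by
  let W := FrobAlg.W2 p k
  let d : W →ₗ[W] W := LinearMap.lsmul W W (p : W)
  have hd : Function.Exact d d := fun x => by
    constructor
    · intro hx
      change (p : W) * x = 0 at hx
      rcases isUnit_or_eq_p_mul p x with hu | ⟨y, hy⟩
      · have h0 : (p : W) = 0 := hu.mul_left_eq_zero.1 hx
        have h1 := coeff_one_p_mul p (1 : W)
        rw [h0, zero_mul, coeff_zero, map_one, one_pow] at h1
        exact absurd h1 zero_ne_one
      · exact ⟨y, hy.symm⟩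
    · rintro ⟨y, rfl⟩
      exact (mul_assoc _ _ _).symm.trans (by rw [p_mul_p, zero_mul])
  have he := Module.Flat.lTensor_exact M hd
  have hr : ∀ z : M ⊗[W] W, TensorProduct.rid W M (d.lTensor M z) = (p : W) • TensorProduct.rid W M z := by
    intro z
    induction z with
    | zero => simp
    | add a b ha hb => simp only [map_add, smul_add, ha, hb]
    | tmul a b => simp [d, mul_smul]
  obtain ⟨z, hz⟩ := (he ((TensorProduct.rid W M).symm m)).1 ((TensorProduct.rid W M).injective (by
    rw [hr, LinearEquiv.apply_symm_apply, hm, map_zero]))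
  exact ⟨TensorProduct.rid W M z, by rw [← hr, hz, LinearEquiv.apply_symm_apply]⟩

end Field

end Groth.L08.W2
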