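import Groth.Agent.L08.W2Lift
import Mathlib.RingTheory.EssentialFiniteness
import Mathlib.RingTheory.Flat.FaithfullyFlat.Basic
import Mathlib.RingTheory.Flat.Stability
import Mathlib.RingTheory.Flat.Localization
import Mathlib.RingTheory.Polynomial.Basic
import Mathlib.RingTheory.Localization.Submodule
import Mathlib.RingTheory.TensorProduct.Free

/-!
# Descent of liftability over Witt vectors of length two along faithfully flat maps
-/

universe u

noncomputable section

open TensorProduct

namespace Groth.L08.W2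

/-- A finite system of linear equations solvable after a faithfully flat extension is solvable. -/
theorem exists_solution_of_faithfullyFlat {A B : Type u} [CommRing A] [CommRing B] [Algebra A B]
    [Module.FaithfullyFlat A B] {r m : Type*} [Fintype r] [Fintype m] (M : m → r → A) (v : m → A) (c : r → B)
    (hc : ∀ j, ∑ i, algebraMap A B (M j i) * c i = algebraMap A B (v j)) :
    ∃ a : r → A, ∀ j, ∑ i, M j i * a i = v j := by
  classical
  let col : r → (m → A) := fun i j => M j i
  let L : (r → A) →ₗ[A] (m → A) := Fintype.linearCombination A col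
  let q : (m → A) →ₗ[A] (m → A) ⧸ LinearMap.range L := (LinearMap.range L).mkQ
  have hcol : ∀ i, q (col i) = 0 := fun i => (Submodule.Quotient.mk_eq_zero _).2
    ⟨Pi.single i 1, by simp [L, Fintype.linearCombination_apply_single]⟩
  have hdec : ∀ w : m → A, w = ∑ j, w j • (Pi.single j 1 : m → A) := fun w => by
    ext j; simp [Finset.sum_apply, Pi.single_apply]
  have hzero : (1 : B) ⊗ₜ[A] q v = 0 := by
    calc (1 : B) ⊗ₜ[A] q v = ∑ j, algebraMap A B (v j) ⊗ₜ[A] q (Pi.single j 1) := by
          conv_lhs => rw [hdec v]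
          rw [map_sum, tmul_sum]
          refine Finset.sum_congr rfl fun j _ => ?_
          rw [map_smul, tmul_smul, smul_tmul', Algebra.smul_def, mul_one]
      _ = ∑ j, ∑ i, c i ⊗ₜ[A] q (M j i • Pi.single j 1) := by
          refine Finset.sum_congr rfl fun j _ => ?_
          rw [← hc j, sum_tmul]
          refine Finset.sum_congr rfl fun i _ => ?_
          rw [map_smul, ← Algebra.smul_def, smul_tmul]
      _ = ∑ i, c i ⊗ₜ[A] q (col i) := by
          rw [Finset.sum_comm]
          refine Finset.sum_congr rfl fun i _ => ?_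
          conv_rhs => rw [hdec (col i), map_sum, tmul_sum]
      _ = 0 := by simp [hcol]
  have h0 : q v = 0 := Module.FaithfullyFlat.tensorProduct_mk_injective (A := A) (B := B) _ (by
    simpa [TensorProduct.mk_apply] using hzero)
  obtain ⟨a, ha⟩ := (Submodule.Quotient.mk_eq_zero _).1 h0
  refine ⟨a, fun j => ?_⟩
  have := congrFun ha j
  rw [← this]
  simp [L, col, Fintype.linearCombination_apply, mul_comm]

variable {p : ℕ} [hp : Fact p.Prime] {k : Type u} [Field k] [CharP k p] [PerfectRing k p]

omit hp in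
theorem isNoetherianRing_W2 [Fact p.Prime] : IsNoetherianRing (FrobAlg.W2 p k) :=
  isNoetherianRing_iff_ideal_fg _ |>.2 fun I => by
    rcases ideal_cases p I with rfl | rfl | rfl
    · exact Submodule.fg_bot
    · exact ⟨{1}, by simp⟩
    · exact ⟨{(p : FrobAlg.W2 p k)}, by simp⟩

/-- A presentation of an essentially finite type algebra by a flat Noetherian algebra over `W₂(k)`. -/
theorem exists_presentation (A : Type u) [CommRing A] [Algebra k A] [Algebra.EssFiniteType k A] :
    ∃ (P : Type u) (_ : CommRing P) (ιP : FrobAlg.W2 p k →+* P) (ψ : P →+* A),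
      IsNoetherianRing P ∧ Function.Surjective ψ ∧ ψ.comp ιP = (algebraMap k A).comp (FrobAlg.res p k) ∧
      (∀ x : P, (p : P) * x = 0 → ∃ y, x = (p : P) * y) ∧
      ∀ (B : Type u) (_ : CommRing B) (B' : Type u) (_ : CommRing B') (ι : FrobAlg.W2 p k →+* B')
        (π : B' →+* B) (g : A →+* B), Function.Surjective π → (∀ b, π b = 0 → b * b = 0) →
        π.comp ι = (g.comp (algebraMap k A)).comp (FrobAlg.res p k) →
        ∃ Θ : P →+* B', π.comp Θ = g.comp ψ := by
  classical
  haveI := isNoetherianRing_W2 (p := p) (k := k)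
  let s := Algebra.EssFiniteType.finset k A
  let R' := MvPolynomial s (FrobAlg.W2 p k)
  let φ : R' →+* A := MvPolynomial.eval₂Hom ((algebraMap k A).comp (FrobAlg.res p k)) (fun i => (i : A))
  let T : Submonoid R' := (IsUnit.submonoid A).comap φ
  let ψ : Localization T →+* A := IsLocalization.lift (M := T) (g := φ) fun y => y.2
  refine ⟨Localization T, inferInstance, (algebraMap R' (Localization T)).comp MvPolynomial.C, ψ,
    IsLocalization.isNoetherianRing T _ inferInstance, ?_, ?_, ?_, ?_⟩
  · have hmem : ∀ x : Algebra.EssFiniteType.subalgebra k A, (x : A) ∈ φ.range := by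
      intro x
      let S : Subalgebra k A :=
        { φ.range.toSubsemiring with
          algebraMap_mem' := fun c => by
            obtain ⟨w, hw⟩ := res_surjective (p := p) c
            exact ⟨MvPolynomial.C w, by rw [← hw]; exact MvPolynomial.eval₂Hom_C _ _ w⟩ }
      have hle : Algebra.EssFiniteType.subalgebra k A ≤ S :=
        Algebra.adjoin_le fun a ha => ⟨MvPolynomial.X ⟨a, ha⟩, MvPolynomial.eval₂Hom_X' _ _ _⟩
      exact hle x.2
    intro a
    obtain ⟨⟨x, y⟩, hxy⟩ := IsLocalization.surj (Algebra.EssFiniteType.submonoid k A) a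
    obtain ⟨X, hX⟩ := hmem x
    obtain ⟨Y, hY⟩ := hmem y
    have hYT : Y ∈ T := by
      change IsUnit (φ Y)
      rw [hY]
      exact y.2
    refine ⟨IsLocalization.mk' _ X ⟨Y, hYT⟩, ?_⟩
    rw [IsLocalization.lift_mk'_spec]
    change φ X = φ Y * a
    rw [hX, hY, mul_comm]
    exact hxy.symm
  · refine RingHom.ext fun w => ?_
    change ψ (algebraMap R' (Localization T) (MvPolynomial.C w)) = _
    rw [IsLocalization.lift_eq]
    exact MvPolynomial.eval₂Hom_C _ _ w
  · intro x hx
    haveI : Module.Flat R' (Localization T) := IsLocalization.flat _ T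
    haveI : Module.Flat (FrobAlg.W2 p k) (Localization T) := Module.Flat.trans (FrobAlg.W2 p k) R' (Localization T)
    have hsm : ∀ z : Localization T, (p : FrobAlg.W2 p k) • z = (p : Localization T) * z := fun z => by
      rw [Algebra.smul_def, map_natCast]
    obtain ⟨y, hy⟩ := torsion_of_flat p (k := k) (M := Localization T) (m := x) (by rw [hsm, hx])
    exact ⟨y, by rw [hy, hsm]⟩
  · intro B _ B' _ ι π g hπ hsq hcomm
    let Θ₀ : R' →+* B' := MvPolynomial.eval₂Hom ι fun i => Function.surjInv hπ (g i)
    have hΘ₀ : π.comp Θ₀ = g.comp φ := by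
      refine MvPolynomial.ringHom_ext (fun w => ?_) (fun i => ?_)
      · have := RingHom.congr_fun hcomm w
        simpa [Θ₀, φ] using this
      · simp [Θ₀, φ, Function.surjInv_eq hπ]
    have hu : ∀ y : T, IsUnit (Θ₀ y) := fun y => by
      have h1 : IsUnit (π (Θ₀ y)) := by
        rw [← RingHom.comp_apply, hΘ₀]
        exact y.2.map g
      obtain ⟨c, hc⟩ := h1.exists_right_inv
      obtain ⟨d, rfl⟩ := hπ c
      have h2 := hsq (Θ₀ y * d - 1) (by rw [map_sub, map_mul, hc, map_one, sub_self])
      exact IsUnit.of_mul_eq_one (d * (2 - Θ₀ y * d)) (by linear_combination -h2)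
    refine ⟨IsLocalization.lift hu, IsLocalization.ringHom_ext T ?_⟩
    refine RingHom.ext fun x => ?_
    simp only [RingHom.comp_apply, IsLocalization.lift_eq, ψ]
    exact RingHom.congr_fun hΘ₀ x

/-- Liftability over `W₂(k)` descends along faithfully flat maps of essentially finite type algebras. -/
theorem isW2Liftable_of_faithfullyFlat {A B : Type u} [CommRing A] [CommRing B] [Algebra k A]
    [Algebra.EssFiniteType k A] [Algebra A B] [Module.FaithfullyFlat A B] [Algebra k B] [IsScalarTower k A B]
    (hB : FrobAlg.IsW2Liftable p k B) : FrobAlg.IsW2Liftable p k A := by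
  classical
  obtain ⟨B', _, ι, π, h⟩ := hB
  obtain ⟨P, _, ιP, ψ, hP, hψ, hψι, htor, hlift⟩ := exists_presentation (p := p) (k := k) A
  obtain ⟨Θ, hΘ⟩ := hlift B inferInstance B' inferInstance ι π (algebraMap A B) h.surj
    (fun b hb => by
      obtain ⟨c, rfl⟩ := lift_exists_mul h hb
      rw [mul_mul_mul_comm, lift_pp h, zero_mul])
    (by rw [h.comm, IsScalarTower.algebraMap_eq k A B])
  have hΘ' : ∀ x, π (Θ x) = algebraMap A B (ψ x) := RingHom.congr_fun hΘ
  have hψp : ψ (p : P) = 0 := by rw [map_natCast, cast_p_eq_zero k A]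
  obtain ⟨r, f, hf⟩ := Submodule.fg_iff_exists_fin_generating_family.1 (IsNoetherian.noetherian (RingHom.ker ψ))
  have hfk : ∀ i, ψ (f i) = 0 := fun i => by
    have : f i ∈ RingHom.ker ψ := hf ▸ Submodule.subset_span ⟨i, rfl⟩
    exact this
  choose c hc using fun i => lift_exists_mul h (b := Θ (f i)) (by rw [hΘ', hfk, map_zero])
  let Rel : Submodule P (Fin r → P) :=
    Submodule.comap (Fintype.linearCombination P f) (Ideal.span {(p : P)})
  obtain ⟨m, R, hR⟩ := Submodule.fg_iff_exists_fin_generating_family.1 (IsNoetherian.noetherian Rel)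
  have hRmem : ∀ j, ∃ g : P, ∑ i, R j i * f i = (p : P) * g := fun j => by
    have : R j ∈ Rel := hR ▸ Submodule.subset_span ⟨j, rfl⟩
    obtain ⟨g, hg⟩ := Ideal.mem_span_singleton.1 (Submodule.mem_comap.1 this)
    exact ⟨g, by rw [← hg, Fintype.linearCombination_apply]; rfl⟩
  choose g hg using hRmem
  obtain ⟨a, ha⟩ := exists_solution_of_faithfullyFlat (A := A) (B := B) (fun j i => ψ (R j i)) (fun j => ψ (g j))
    (fun i => π (c i)) (fun j => by
      have h1 : (p : B') * (∑ i, Θ (R j i) * c i) = (p : B') * Θ (g j) := by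
        rw [← map_natCast Θ, ← map_mul, ← hg j, map_sum, map_natCast, Finset.mul_sum]
        refine Finset.sum_congr rfl fun i _ => ?_
        rw [map_mul, hc i, mul_left_comm]
      have h2 := lift_torsion h (b := ∑ i, Θ (R j i) * c i - Θ (g j)) (by rw [mul_sub, h1, sub_self])
      rw [map_sub, map_sum, sub_eq_zero, hΘ'] at h2
      rw [← h2]
      exact Finset.sum_congr rfl fun i _ => by rw [map_mul, hΘ'])
  choose a' ha' using fun i => hψ (a i)
  let f' : Fin r → P := fun i => f i - (p : P) * a' i
  let J : Ideal P := Ideal.span (Set.range f')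
  have hJ : J ≤ RingHom.ker ψ := Ideal.span_le.2 (by
    rintro _ ⟨i, rfl⟩
    simp [f', RingHom.mem_ker, hfk, hψp])
  let π' : P ⧸ J →+* A := Ideal.Quotient.lift J ψ hJ
  have hker : ∀ x : P, ψ x = 0 → ∃ d, Ideal.Quotient.mk J x = (p : P ⧸ J) * d := by
    intro x hx
    have hx' : x ∈ Submodule.span P (Set.range f) := hf.symm ▸ hx
    obtain ⟨t, ht⟩ := (Submodule.mem_span_range_iff_exists_fun P).1 hx'
    refine ⟨Ideal.Quotient.mk J (∑ i, t i * a' i), ?_⟩
    rw [← map_natCast (Ideal.Quotient.mk J), ← map_mul, Ideal.Quotient.eq, ← ht, Finset.mul_sum,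
      ← Finset.sum_sub_distrib]
    refine sum_mem fun i _ => ?_
    rw [smul_eq_mul, mul_left_comm, ← mul_sub]
    exact J.mul_mem_left _ (Ideal.subset_span ⟨i, rfl⟩)
  refine ⟨P ⧸ J, inferInstance, (Ideal.Quotient.mk J).comp ιP, π', isLift_of ?_ ?_ ?_ ?_⟩
  · exact Ideal.Quotient.lift_surjective_of_surjective J hJ hψ
  · refine le_antisymm (fun y hy => ?_) ((Ideal.span_singleton_le_iff_mem _).2 ?_)
    · obtain ⟨x, rfl⟩ := Ideal.Quotient.mk_surjective y
      obtain ⟨d, hd⟩ := hker x hy
      rw [hd]
      exact Ideal.mem_span_singleton.2 (dvd_mul_right _ _)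
    · rw [RingHom.mem_ker, map_natCast, cast_p_eq_zero k A]
  · rw [← hψι]; rfl
  · intro y hy
    obtain ⟨u, rfl⟩ := Ideal.Quotient.mk_surjective y
    rw [← map_natCast (Ideal.Quotient.mk J), ← map_mul, Ideal.Quotient.eq_zero_iff_mem] at hy
    obtain ⟨t, ht⟩ := (Submodule.mem_span_range_iff_exists_fun P).1 hy
    have htR : t ∈ Rel := by
      refine Submodule.mem_comap.2 (Ideal.mem_span_singleton.2 ⟨u + ∑ i, t i * a' i, ?_⟩)
      rw [mul_add, ← ht, Finset.mul_sum, ← Finset.sum_add_distrib, Fintype.linearCombination_apply]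
      refine Finset.sum_congr rfl fun i _ => ?_
      simp only [f', smul_eq_mul]
      ring
    obtain ⟨s, hs⟩ := (Submodule.mem_span_range_iff_exists_fun P).1 (hR.symm ▸ htR)
    let w : P := ∑ j, s j * (g j - ∑ i, R j i * a' i)
    have hpw : (p : P) * u = (p : P) * w := by
      rw [← ht, Finset.mul_sum]
      have : ∀ i, t i = ∑ j, s j * R j i := fun i => by
        rw [← congrFun hs i]; simp [Finset.sum_apply]
      simp only [this, smul_eq_mul, f', Finset.sum_mul, mul_sub, Finset.mul_sum, Finset.sum_sub_distrib]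
      congr 1
      · rw [Finset.sum_comm]
        refine Finset.sum_congr rfl fun j _ => ?_
        rw [← mul_assoc, mul_comm (p : P), mul_assoc, ← hg j, Finset.mul_sum]
        exact Finset.sum_congr rfl fun i _ => by ring
      · rw [Finset.sum_comm]
        exact Finset.sum_congr rfl fun j _ => Finset.sum_congr rfl fun i _ => by ring
    have hw : ψ w = 0 := by
      simp only [w, map_sum, map_mul, map_sub, ha']
      refine Finset.sum_eq_zero fun j _ => ?_
      rw [ha j, sub_self, mul_zero]
    obtain ⟨z, hz⟩ := htor (u - w) (by rw [mul_sub, hpw, sub_self])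
    change ψ u = 0
    rw [sub_eq_iff_eq_add.1 hz, map_add, map_mul, hψp, zero_mul, zero_add, hw]

end Groth.L08.W2
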