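import Groth.Agent.L08.W2
import Mathlib.Algebra.CharP.Algebra

/-!
# Flat lifts over Witt vectors of length two
-/

universe u v

open TensorProduct

noncomputable section

namespace Groth.L08.W2

variable {p : ℕ} [hp : Fact p.Prime] {k : Type u} [Field k] [CharP k p] [PerfectRing k p]

section Basic

variable {A : Type v} [CommRing A] [Algebra k A] {B : Type v} [CommRing B]
  {ι : FrobAlg.W2 p k →+* B} {π : B →+* A}

omit [PerfectRing k p] hp in
theorem cast_p_eq_zero (k : Type u) [Field k] [CharP k p] (A : Type v) [CommRing A] [Algebra k A] :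
    (p : A) = 0 := by
  rw [← map_natCast (algebraMap k A) p, CharP.cast_eq_zero, map_zero]

theorem isLift_of (hsurj : Function.Surjective π) (hker : RingHom.ker π = Ideal.span {(p : B)})
    (hcomm : π.comp ι = (algebraMap k A).comp (FrobAlg.res p k))
    (htor : ∀ b : B, (p : B) * b = 0 → π b = 0) : FrobAlg.IsLift p k A B ι π := by
  refine ⟨?_, hsurj, ?_, hcomm⟩
  · letI := ι.toAlgebra
    change Module.Flat (FrobAlg.W2 p k) B
    refine flat_of_torsion p fun b hb => ?_
    change ι (p : FrobAlg.W2 p k) * b = 0 at hb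
    rw [map_natCast] at hb
    have hb' : b ∈ Ideal.span {(p : B)} := hker ▸ RingHom.mem_ker.2 (htor b hb)
    obtain ⟨c, hc⟩ := Ideal.mem_span_singleton.1 hb'
    exact ⟨c, by change b = ι (p : FrobAlg.W2 p k) * c; rw [map_natCast, hc]⟩
  · rw [hker, ker_res p, Ideal.map_span, Set.image_singleton, map_natCast]

variable (h : FrobAlg.IsLift p k A B ι π)

include h

theorem lift_ker : RingHom.ker π = Ideal.span {(p : B)} := by
  rw [h.ker_eq, ker_res p, Ideal.map_span, Set.image_singleton, map_natCast]

theorem lift_pp : (p : B) * (p : B) = 0 := by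
  have := congrArg ι (p_mul_p (R := k) p)
  simpa using this

theorem lift_pi_p : π (p : B) = 0 := by rw [map_natCast, cast_p_eq_zero k A]

theorem lift_exists_mul {b : B} (hb : π b = 0) : ∃ c, b = (p : B) * c :=
  Ideal.mem_span_singleton.1 (lift_ker h ▸ RingHom.mem_ker.2 hb)

theorem lift_torsion {b : B} (hb : (p : B) * b = 0) : π b = 0 := by
  letI := ι.toAlgebra
  haveI : Module.Flat (FrobAlg.W2 p k) B := h.flat
  obtain ⟨c, hc⟩ := torsion_of_flat p (k := k) (M := B) (m := b) (by
    change ι (p : FrobAlg.W2 p k) * b = 0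
    rw [map_natCast]; exact hb)
  rw [hc]
  change π (ι (p : FrobAlg.W2 p k) * c) = 0
  rw [map_natCast, map_mul, lift_pi_p h, zero_mul]

theorem lift_p_mul_congr {b c : B} (hbc : π b = π c) : (p : B) * b = (p : B) * c := by
  obtain ⟨d, hd⟩ := lift_exists_mul h (b := b - c) (by rw [map_sub, hbc, sub_self])
  rw [sub_eq_iff_eq_add.1 hd, mul_add, ← mul_assoc, lift_pp h, zero_mul, zero_add]

/-- Multiplication by `p` from the reduction into the lift. -/
def jj : A →+ B :=
  AddMonoidHom.mk' (fun a => (p : B) * Function.surjInv h.surj a) fun a a' => by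
    rw [← mul_add]
    exact lift_p_mul_congr h (by rw [map_add, Function.surjInv_eq h.surj, Function.surjInv_eq h.surj, Function.surjInv_eq h.surj])

theorem jj_pi (b : B) : jj h (π b) = (p : B) * b :=
  lift_p_mul_congr h (Function.surjInv_eq h.surj _)

theorem pi_jj (a : A) : π (jj h a) = 0 := by
  change π ((p : B) * _) = 0
  rw [map_mul, lift_pi_p h, zero_mul]

theorem jj_injective : Function.Injective (jj h) := by
  rw [injective_iff_map_eq_zero]
  intro a ha
  obtain ⟨b, rfl⟩ := h.surj a
  rw [jj_pi h] at ha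
  exact lift_torsion h ha

theorem exists_jj {b : B} (hb : π b = 0) : ∃ a, b = jj h a := by
  obtain ⟨c, rfl⟩ := lift_exists_mul h hb
  exact ⟨π c, (jj_pi h c).symm⟩

theorem mul_jj (b : B) (a : A) : b * jj h a = jj h (π b * a) := by
  obtain ⟨c, rfl⟩ := h.surj a
  rw [← map_mul, jj_pi h, jj_pi h, mul_left_comm]

theorem jj_mul_jj (a a' : A) : jj h a * jj h a' = 0 := by
  rw [mul_jj h, pi_jj h, zero_mul, map_zero]

end Basic

section Ghost

variable {A : Type v} [CommRing A] [Algebra k A] {B : Type v} [CommRing B]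
  {ι : FrobAlg.W2 p k →+* B} {π : B →+* A} (h : FrobAlg.IsLift p k A B ι π)

/-- The ghost map `(a₀, a₁) ↦ ã₀ ^ p + p ã₁`. -/
def ghost : FrobAlg.W2 p A →+* B :=
  RingHom.liftOfSurjective ((WittVector.truncate (p := p) 2).comp (WittVector.map π))
    ((WittVector.truncate_surjective p 2 A).comp (WittVector.map_surjective π h.surj) :)
    ⟨WittVector.ghostComponent 1, fun X hX => by
      rw [RingHom.mem_ker] at hX ⊢
      have hc : ∀ i : Fin 2, π (X.coeff i) = 0 := fun i => by
        have := congrArg (fun t : FrobAlg.W2 p A => t.coeff i) hX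
        simpa [TruncatedWittVector.coeff_zero] using this
      obtain ⟨c, hc0⟩ := lift_exists_mul h (hc 0)
      obtain ⟨d, hd⟩ := lift_exists_mul h (hc 1)
      rw [WittVector.ghostComponent_apply, wittPolynomial_one]
      simp only [map_add, map_mul, map_pow, MvPolynomial.aeval_X, MvPolynomial.aeval_C, map_natCast]
      have hpp : (p : B) ^ p = 0 := pow_eq_zero_of_le hp.out.two_le (by rw [pow_two, lift_pp h])
      rw [show X.coeff 0 = (p : B) * c from hc0, show X.coeff 1 = (p : B) * d from hd, mul_pow,
        ← mul_assoc, lift_pp h, zero_mul, zero_add, hpp, zero_mul]⟩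

theorem ghost_apply (x : FrobAlg.W2 p A) (b : B) (hb : π b = FrobAlg.res p A x) :
    ghost h x = b ^ p + jj h (x.coeff 1) := by
  obtain ⟨c, hc⟩ := h.surj (x.coeff 1)
  let X : WittVector p B := WittVector.mk p fun n => if n = 0 then b else if n = 1 then c else 0
  have hX : (WittVector.truncate (p := p) 2).comp (WittVector.map π) X = x := by
    refine ext p ?_ ?_
    · rw [RingHom.comp_apply, FrobAlg.res_truncate, WittVector.map_coeff, ← hb]
      simp [X]
    · rw [RingHom.comp_apply, WittVector.coeff_truncate, WittVector.map_coeff]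
      simp [X, hc]
  conv_lhs => rw [← hX]
  rw [ghost, RingHom.liftOfRightInverse_comp_apply, ← hc, jj_pi h]
  simp only [WittVector.ghostComponent_apply, wittPolynomial_one, map_add, map_mul, map_pow,
    MvPolynomial.aeval_X, MvPolynomial.aeval_C, map_natCast]
  simp [X, add_comm]

theorem res_ghost_injective {x y : FrobAlg.W2 p A} (h0 : FrobAlg.res p A x = FrobAlg.res p A y)
    (h1 : ghost h x = ghost h y) : x = y := by
  obtain ⟨b, hb⟩ := h.surj (FrobAlg.res p A x)
  rw [ghost_apply h x b hb, ghost_apply h y b (hb.trans h0)] at h1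
  exact ext p h0 (jj_injective h (add_left_cancel h1))

/-- The ghost map on the image of the Witt vectors of `k` is the Frobenius. -/
theorem ghost_truncMap (w : FrobAlg.W2 p k) :
    ghost h (WittGrp.truncMap p 2 (algebraMap k A) w) = ι (FrobAlg.sigma p k w) := by
  let x : FrobAlg.W2 p k := WittVector.truncate 2 (WittVector.teichmuller p (FrobAlg.res p k w))
  have hx0 : FrobAlg.res p k x = FrobAlg.res p k w := by
    rw [FrobAlg.res_truncate, WittVector.teichmuller_coeff_zero]
  obtain ⟨y, hy⟩ := exists_eq_p_mul p (x := w - x) (by rw [map_sub, hx0, sub_self])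
  have hw : w = x + (p : FrobAlg.W2 p k) * y := by rw [← hy, add_sub_cancel]
  have hw1 : w.coeff 1 = FrobAlg.res p k y ^ p := by
    rw [hw, coeff_one_add p (res_p_mul p y), coeff_one_p_mul,
      show x.coeff 1 = 0 by rw [WittVector.coeff_truncate]; exact WittVector.teichmuller_coeff_pos p _ 1 one_pos, zero_add]
  have hσx : FrobAlg.sigma p k x = x ^ p := by
    rw [← map_pow (WittVector.truncate (p := p) 2)]
    refine TruncatedWittVector.ext fun i => ?_
    rw [WittGrp.coeff_frob, WittVector.coeff_truncate, WittVector.coeff_truncate]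
    fin_cases i
    · simp [← map_pow, WittVector.teichmuller_coeff_zero]
    · simp [← map_pow, zero_pow hp.out.ne_zero]
  have hres : π (ι x) = FrobAlg.res p A (WittGrp.truncMap p 2 (algebraMap k A) w) := by
    rw [show π (ι x) = algebraMap k A (FrobAlg.res p k x) from RingHom.congr_fun h.comm x, hx0,
      FrobAlg.res_apply, FrobAlg.res_apply, WittGrp.coeff_truncMap]
  rw [ghost_apply h _ _ hres, WittGrp.coeff_truncMap, hw1]
  rw [show FrobAlg.sigma p k w = FrobAlg.sigma p k x + (p : FrobAlg.W2 p k) * FrobAlg.sigma p k y by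
    rw [hw, map_add, map_mul, map_natCast]]
  rw [map_add, map_mul, map_natCast, hσx, ← jj_pi h]
  simp only [map_pow]
  congr 2
  rw [show π (ι (FrobAlg.sigma p k y)) = algebraMap k A (FrobAlg.res p k (FrobAlg.sigma p k y)) from
    RingHom.congr_fun h.comm _]
  simp [WittGrp.coeff_frob]

end Ghost

end Groth.L08.W2
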