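import Groth.Agent.L08.W2Lift
import Mathlib.Algebra.MvPolynomial.PDeriv
import Mathlib.Algebra.MvPolynomial.Expand
import Mathlib.RingTheory.Polynomial.Basic
import Mathlib.RingTheory.MvPolynomial.Basic
import Mathlib.RingTheory.Regular.RegularSequence

/-!
# Frobenius lifts of quotients of polynomial rings over Witt vectors of length two
-/

universe u

noncomputable section

namespace Groth.L08.W2

open MvPolynomial

variable {p : ℕ} [hp : Fact p.Prime] {k : Type u} [Field k] [CharP k p] [PerfectRing k p] {n : ℕ}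

local notation "R'" => MvPolynomial (Fin n) (FrobAlg.W2 p k)

/-- Coefficientwise reduction. -/
abbrev red : R' →+* MvPolynomial (Fin n) k := MvPolynomial.map (FrobAlg.res p k)

theorem red_surjective : Function.Surjective (red : R' →+* MvPolynomial (Fin n) k) :=
  MvPolynomial.map_surjective _ (res_surjective p)

theorem ker_red : RingHom.ker (red : R' →+* MvPolynomial (Fin n) k) = Ideal.span {(p : R')} := by
  rw [MvPolynomial.ker_map, ker_res p, Ideal.map_span, Set.image_singleton, map_natCast]

theorem red_p : red (p : R') = 0 := by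
  rw [map_natCast, CharP.cast_eq_zero]

theorem exists_eq_p_mul_poly {x : R'} (hx : red x = 0) : ∃ y, x = (p : R') * y :=
  Ideal.mem_span_singleton.1 (ker_red (p := p) (k := k) (n := n) ▸ RingHom.mem_ker.2 hx)

omit [PerfectRing k p] in
theorem red_eq_zero_of_p_mul {x : R'} (hx : (p : R') * x = 0) : red x = 0 := by
  ext m
  have h1 : (p : FrobAlg.W2 p k) * x.coeff m = 0 := by
    rw [← MvPolynomial.coeff_C_mul, map_natCast, hx, MvPolynomial.coeff_zero]
  have h2 := coeff_one_p_mul p (x.coeff m)
  rw [h1, coeff_zero] at h2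
  rw [MvPolynomial.coeff_map, MvPolynomial.coeff_zero]
  exact eq_zero_of_pow_eq_zero h2.symm

theorem p_mul_p_poly : (p : R') * (p : R') = 0 := by
  rw [← map_natCast (MvPolynomial.C : FrobAlg.W2 p k →+* R'), ← map_mul, p_mul_p, map_zero]

theorem p_mul_congr {x y : R'} (h : red x = red y) : (p : R') * x = (p : R') * y := by
  obtain ⟨z, hz⟩ := exists_eq_p_mul_poly (x := x - y) (by rw [map_sub, h, sub_self])
  rw [sub_eq_iff_eq_add.1 hz, mul_add, ← mul_assoc, p_mul_p_poly, zero_mul, zero_add]

omit [PerfectRing k p] in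
theorem red_polyFrob (f : R') : red (FrobAlg.polyFrob p k (Fin n) f) = red f ^ p := by
  induction f using MvPolynomial.induction_on with
  | C a => simp [FrobAlg.polyFrob, red, WittGrp.coeff_frob]
  | add a b ha hb => rw [map_add, map_add, ha, hb, map_add, add_pow_char]
  | mul_X a j ha =>
    rw [map_mul, map_mul, ha, map_mul, mul_pow]
    simp [FrobAlg.polyFrob, red]

/-- The Frobenius lift `x ↦ x ^ p + p g`. -/
def twist (g : Fin n → R') : R' →+* R' :=
  MvPolynomial.eval₂Hom (MvPolynomial.C.comp (FrobAlg.sigma p k)) fun j => MvPolynomial.X j ^ p + (p : R') * g j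

theorem twist_eq (g : Fin n → R') (f : R') :
    twist g f = FrobAlg.polyFrob p k (Fin n) f + (p : R') * ∑ j, MvPolynomial.pderiv j f ^ p * g j := by
  induction f using MvPolynomial.induction_on with
  | C a => simp [twist, FrobAlg.polyFrob, zero_pow hp.out.ne_zero]
  | add a b ha hb =>
    have hc : (p : R') * ∑ j, MvPolynomial.pderiv j (a + b) ^ p * g j =
        (p : R') * ((∑ j, MvPolynomial.pderiv j a ^ p * g j) + ∑ j, MvPolynomial.pderiv j b ^ p * g j) := by
      refine p_mul_congr ?_
      simp only [map_add, map_sum, map_mul, map_pow, add_pow_char, add_mul, Finset.sum_add_distrib]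
    rw [map_add, map_add, ha, hb, hc]
    ring
  | mul_X a i ha =>
    have hX : twist g (MvPolynomial.X i) = MvPolynomial.X i ^ p + (p : R') * g i := by simp [twist]
    have hFX : FrobAlg.polyFrob p k (Fin n) (MvPolynomial.X i) = MvPolynomial.X i ^ p := by
      simp [FrobAlg.polyFrob]
    have hc : (p : R') * ∑ j, MvPolynomial.pderiv j (a * MvPolynomial.X i) ^ p * g j =
        (p : R') * ((∑ j, MvPolynomial.pderiv j a ^ p * g j) * MvPolynomial.X i ^ p +
          FrobAlg.polyFrob p k (Fin n) a * g i) := by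
      refine p_mul_congr ?_
      have h1 : ∀ j, red (MvPolynomial.pderiv j (a * MvPolynomial.X i) ^ p * g j) =
          red (MvPolynomial.pderiv j a) ^ p * red (g j) * red (MvPolynomial.X i : R') ^ p +
            red a ^ p * red (MvPolynomial.pderiv j (MvPolynomial.X i : R')) ^ p * red (g j) := by
        intro j
        rw [MvPolynomial.pderiv_mul, map_mul, map_pow, map_add, map_mul, map_mul, add_pow_char, mul_pow, mul_pow]
        ring
      rw [map_sum, Finset.sum_congr rfl fun j _ => h1 j, Finset.sum_add_distrib, ← Finset.sum_mul, map_add,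
        map_mul, map_mul, map_sum, red_polyFrob, map_pow]
      congr 1
      · congr 1
        exact Finset.sum_congr rfl fun j _ => by rw [map_mul, map_pow]
      · rw [Finset.sum_eq_single i]
        · rw [MvPolynomial.pderiv_X_self, map_one, one_pow, mul_one]
        · intro j _ hj
          rw [MvPolynomial.pderiv_X_of_ne (Ne.symm hj), map_zero, zero_pow hp.out.ne_zero, mul_zero, zero_mul]
        · exact fun hi => absurd (Finset.mem_univ i) hi
    rw [map_mul, map_mul, ha, hX, hFX, hc]
    have hpp := p_mul_p_poly (p := p) (k := k) (n := n)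
    linear_combination ((∑ j, MvPolynomial.pderiv j a ^ p * g j) * g i) * hpp

theorem red_twist (g : Fin n → R') (f : R') : red (twist g f) = red f ^ p := by
  rw [twist_eq, map_add, map_mul, red_p, zero_mul, add_zero, red_polyFrob]

theorem mem_p_mul_of_flat (J : Ideal R')
    (hflat : ((Ideal.Quotient.mk J).comp (MvPolynomial.C : FrobAlg.W2 p k →+* R')).Flat)
    {x : R'} (hx : red x = 0) (hxJ : x ∈ J) : x ∈ Ideal.span {(p : R')} * J := by
  haveI : Module.Flat (FrobAlg.W2 p k) (R' ⧸ J) := RingHom.flat_algebraMap_iff.1 hflat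
  have hsm : ∀ u : R', (p : FrobAlg.W2 p k) • Ideal.Quotient.mk J u = Ideal.Quotient.mk J ((p : R') * u) := fun u => by
    rw [Nat.cast_smul_eq_nsmul, nsmul_eq_mul, map_mul, map_natCast]
  obtain ⟨u, rfl⟩ := exists_eq_p_mul_poly hx
  obtain ⟨c, hc⟩ := torsion_of_flat p (k := k) (M := R' ⧸ J) (m := Ideal.Quotient.mk J u) (by
    rw [hsm,
      Ideal.Quotient.eq_zero_iff_mem]
    exact hxJ)
  obtain ⟨w, rfl⟩ := Ideal.Quotient.mk_surjective c
  rw [hsm, Ideal.Quotient.eq] at hc
  rw [show (p : R') * u = (p : R') * (u - (p : R') * w) by rw [mul_sub, ← mul_assoc, p_mul_p_poly, zero_mul, sub_zero]]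
  exact Ideal.mul_mem_mul (Ideal.mem_span_singleton_self _) hc

theorem flat_of_mem_p_mul (J : Ideal R')
    (h : ∀ x ∈ J, red x = 0 → x ∈ Ideal.span {(p : R')} * J) :
    ((Ideal.Quotient.mk J).comp (MvPolynomial.C : FrobAlg.W2 p k →+* R')).Flat := by
  have hsm : ∀ u : R', (p : FrobAlg.W2 p k) • Ideal.Quotient.mk J u = Ideal.Quotient.mk J ((p : R') * u) := fun u => by
    rw [Nat.cast_smul_eq_nsmul, nsmul_eq_mul, map_mul, map_natCast]
  refine RingHom.flat_algebraMap_iff.2 (flat_of_torsion p fun m hm => ?_)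
  obtain ⟨u, rfl⟩ := Ideal.Quotient.mk_surjective m
  rw [hsm,
    Ideal.Quotient.eq_zero_iff_mem] at hm
  obtain ⟨j, hj, hju⟩ := Ideal.mem_span_singleton_mul.1 (h _ hm (by rw [map_mul, red_p, zero_mul]))
  obtain ⟨c, hc⟩ := exists_eq_p_mul_poly (x := u - j)
    (red_eq_zero_of_p_mul (by rw [mul_sub, hju, sub_self]))
  refine ⟨Ideal.Quotient.mk J c, ?_⟩
  rw [hsm, Ideal.Quotient.eq, ← hc,
    sub_sub_cancel]
  exact hj

/-- Lifts of Frobenius to `R'/(f')` and the Frobenius residues of the `f'_i`. -/
theorem frobLift_iff {m : ℕ} (f' : Fin m → R')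
    (hflat : ((Ideal.Quotient.mk (Ideal.span (Set.range f'))).comp
      (MvPolynomial.C : FrobAlg.W2 p k →+* R')).Flat) :
    (∃ Φ : (R' ⧸ Ideal.span (Set.range f')) →+* (R' ⧸ Ideal.span (Set.range f')),
      Φ.comp ((Ideal.Quotient.mk (Ideal.span (Set.range f'))).comp MvPolynomial.C) =
        ((Ideal.Quotient.mk (Ideal.span (Set.range f'))).comp MvPolynomial.C).comp (FrobAlg.sigma p k) ∧
      ∀ r s, Φ (Ideal.Quotient.mk _ r) = Ideal.Quotient.mk _ s →
        red s - red r ^ p ∈ (Ideal.span (Set.range f')).map red) ↔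
    ∃ h : Fin n → R', ∀ i,
      FrobAlg.polyFrob p k (Fin n) (f' i) - f' i ^ p
        - (p : R') * ∑ j, MvPolynomial.pderiv j (f' i) ^ p * h j
        ∈ Ideal.span {(p : R')} * Ideal.span (Set.range f') := by
  set J := Ideal.span (Set.range f')
  have hpow : ∀ i, f' i ^ p ∈ J := fun i => J.pow_mem_of_mem (Ideal.subset_span ⟨i, rfl⟩) p hp.out.pos
  constructor
  · rintro ⟨Φ, hC, hr⟩
    have hex : ∀ j, ∃ g : R', Φ (Ideal.Quotient.mk J (MvPolynomial.X j)) =
        Ideal.Quotient.mk J (MvPolynomial.X j ^ p + (p : R') * g) := by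
      intro j
      obtain ⟨s, hs⟩ := Ideal.Quotient.mk_surjective (Φ (Ideal.Quotient.mk J (MvPolynomial.X j)))
      obtain ⟨a, ha, haj⟩ := (Ideal.mem_map_iff_of_surjective _ red_surjective).1 (hr _ s hs.symm)
      obtain ⟨g, hg⟩ := exists_eq_p_mul_poly (x := s - MvPolynomial.X j ^ p - a)
        (by rw [map_sub, map_sub, map_pow, haj, sub_self])
      refine ⟨g, ?_⟩
      rw [← hs, Ideal.Quotient.eq, show s - (MvPolynomial.X j ^ p + (p : R') * g) = a by rw [← hg]; ring]
      exact ha
    choose g hg using hex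
    have htw : Φ.comp (Ideal.Quotient.mk J) = (Ideal.Quotient.mk J).comp (twist g) := by
      refine MvPolynomial.ringHom_ext (fun a => ?_) fun j => ?_
      · refine (RingHom.congr_fun hC a).trans ?_
        simp [twist]
      · simp [twist, hg]
    refine ⟨fun j => - g j, fun i => ?_⟩
    have h0 : twist g (f' i) ∈ J := by
      rw [← Ideal.Quotient.eq_zero_iff_mem, ← RingHom.comp_apply, ← htw, RingHom.comp_apply,
        Ideal.Quotient.eq_zero_iff_mem.2 (show f' i ∈ J from Ideal.subset_span ⟨i, rfl⟩), map_zero]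
    have he : FrobAlg.polyFrob p k (Fin n) (f' i) - f' i ^ p
        - (p : R') * ∑ j, MvPolynomial.pderiv j (f' i) ^ p * (- g j) = twist g (f' i) - f' i ^ p := by
      rw [twist_eq]
      simp only [mul_neg, Finset.sum_neg_distrib, sub_neg_eq_add]
      ring
    rw [he]
    exact mem_p_mul_of_flat J hflat (by rw [map_sub, red_twist, map_pow, sub_self]) (sub_mem h0 (hpow i))
  · rintro ⟨h, hh⟩
    let g : Fin n → R' := fun j => - h j
    have hle : J ≤ J.comap (twist g) := by
      rw [Ideal.span_le]
      rintro _ ⟨i, rfl⟩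
      have he : twist g (f' i) = (FrobAlg.polyFrob p k (Fin n) (f' i) - f' i ^ p
          - (p : R') * ∑ j, MvPolynomial.pderiv j (f' i) ^ p * h j) + f' i ^ p := by
        rw [twist_eq]
        simp only [g, mul_neg, Finset.sum_neg_distrib]
        ring
      rw [SetLike.mem_coe, Ideal.mem_comap, he]
      exact add_mem (Ideal.mul_le_right (hh i)) (hpow i)
    refine ⟨Ideal.quotientMap J (twist g) hle, ?_, fun r s hs => ?_⟩
    · refine RingHom.ext fun a => ?_
      simp [twist]
    · rw [Ideal.quotientMap_mk, Ideal.Quotient.eq] at hs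
      have := Ideal.mem_map_of_mem red hs
      rw [map_sub, red_twist, ← Ideal.neg_mem_iff, neg_sub] at this
      exact this

/-- Lifts of a regular sequence generate an ideal with flat quotient. -/
theorem flat_of_regular {m : ℕ} (f' : Fin m → R') (f : Fin m → MvPolynomial (Fin n) k)
    (hf : ∀ i, red (f' i) = f i) (hreg : RingTheory.Sequence.IsRegular (MvPolynomial (Fin n) k) (List.ofFn f)) :
    ((Ideal.Quotient.mk (Ideal.span (Set.range f'))).comp (MvPolynomial.C : FrobAlg.W2 p k →+* R')).Flat := by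
  refine flat_of_mem_p_mul _ ?_
  suffices h : ∀ i ≤ m, ∀ x ∈ Ideal.span (f' '' {l | (l : ℕ) < i}), red x = 0 →
      x ∈ Ideal.span {(p : R')} * Ideal.span (f' '' {l | (l : ℕ) < i}) by
    intro x hx h0
    have hu : f' '' {l | (l : ℕ) < m} = Set.range f' := by
      rw [show {l : Fin m | (l : ℕ) < m} = Set.univ from Set.eq_univ_of_forall fun l => l.2, Set.image_univ]
    exact hu ▸ h m le_rfl x (hu.symm ▸ hx) h0
  intro i hi
  induction i with
  | zero =>
    intro x hx _
    simp only [Nat.not_lt_zero, Set.setOf_false, Set.image_empty, Ideal.span_empty, Submodule.mem_bot] at hx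
    rw [hx]
    exact zero_mem _
  | succ i ih =>
    intro x hx h0
    let li : Fin m := ⟨i, hi⟩
    let S := f' '' {l | (l : ℕ) < i}
    have hS : f' '' {l | (l : ℕ) < i + 1} = insert (f' li) S := by
      rw [← Set.image_insert_eq]
      congr 1
      ext l
      simp [li, Fin.ext_iff]
      omega
    rw [hS] at hx ⊢
    obtain ⟨a, y, hy, rfl⟩ := Ideal.mem_span_insert.1 hx
    rw [map_add, map_mul, hf] at h0
    have hmap : (Ideal.span S).map red = Ideal.span (f '' {l | (l : ℕ) < i}) := by
      rw [Ideal.map_span, Set.image_image]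
      congr 1
      exact Set.image_congr fun l _ => hf l
    have hlist : Ideal.ofList ((List.ofFn f).take i) = Ideal.span (f '' {l | (l : ℕ) < i}) := by
      refine congrArg Ideal.span ?_
      ext z
      simp only [Set.mem_setOf_eq, List.mem_take_iff_getElem, List.getElem_ofFn, List.length_ofFn, Set.mem_image]
      constructor
      · rintro ⟨l, hl, rfl⟩
        exact ⟨⟨l, by omega⟩, show l < i by omega, rfl⟩
      · rintro ⟨l, hl, rfl⟩
        exact ⟨l, by omega, rfl⟩
    have hal : red a ∈ Ideal.span (f '' {l | (l : ℕ) < i}) := by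
      have hr := hreg.regular_mod_prev i (by rw [List.length_ofFn]; exact hi)
      rw [List.getElem_ofFn, hlist] at hr
      rw [← Ideal.Quotient.eq_zero_iff_mem]
      have hy' : red y ∈ Ideal.span (f '' {l | (l : ℕ) < i}) := hmap ▸ Ideal.mem_map_of_mem red hy
      have hm : f li * red a ∈ Ideal.span (f '' {l | (l : ℕ) < i}) := by
        rw [mul_comm, eq_neg_of_add_eq_zero_left h0]
        exact neg_mem hy'
      rw [Ideal.Quotient.eq_zero_iff_mem]
      have := hr.right_eq_zero_of_smul (x := Submodule.Quotient.mk (red a)) (by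
        rw [← Submodule.Quotient.mk_smul, Submodule.Quotient.mk_eq_zero, smul_eq_mul]
        simpa [li] using hm)
      rw [Submodule.Quotient.mk_eq_zero] at this
      simpa using this
    rw [← hmap, Ideal.mem_map_iff_of_surjective _ red_surjective] at hal
    obtain ⟨w, hw, hwa⟩ := hal
    obtain ⟨z, hz⟩ := exists_eq_p_mul_poly (x := a - w) (by rw [map_sub, hwa, sub_self])
    rw [show a * f' li + y = (w * f' li + y) + (p : R') * (z * f' li) by
      rw [← mul_assoc, ← hz]; ring]
    refine add_mem (Ideal.mul_mono_right (Ideal.span_mono (Set.subset_insert _ _)) ?_)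
      (Ideal.mul_mem_mul (Ideal.mem_span_singleton_self _) (Ideal.mul_mem_left _ _ (Ideal.subset_span (Set.mem_insert _ _))))
    refine ih (by omega) _ (add_mem (Ideal.mul_mem_right _ _ hw) hy) ?_
    rw [map_add, map_mul, hf, hwa, h0]

end Groth.L08.W2
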