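import Groth.Agent.L08.W2Lift
import Mathlib.FieldTheory.Finite.Polynomial
import Mathlib.Algebra.CharP.Lemmas
import Mathlib.RingTheory.MvPolynomial.Ideal
import Mathlib.RingTheory.MvPolynomial.Basic
import Mathlib.Data.Nat.Choose.Sum

/-!
# The Frobenius neighbourhood of a split quadric does not lift over Witt vectors of length two
-/

universe u

noncomputable section

open MvPolynomial

namespace Groth.L08.W2

variable (p : ℕ) [hp : Fact p.Prime]

/-- `(∑ Xᵢ) ^ p - ∑ Xᵢ ^ p` is divisible by `p` over the integers. -/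
theorem exists_phi (n : ℕ) : ∃ Φ : MvPolynomial (Fin n) ℤ,
    (∑ i, X i) ^ p = ∑ i, X i ^ p + (p : MvPolynomial (Fin n) ℤ) * Φ := by
  have h : C (p : ℤ) ∣ (∑ i, X i : MvPolynomial (Fin n) ℤ) ^ p - ∑ i, X i ^ p := by
    rw [C_dvd_iff_zmod, map_sub, map_pow, map_sum, map_sum, sum_pow_char]
    simp
  obtain ⟨Φ, hΦ⟩ := h
  exact ⟨Φ, by rw [← map_natCast (C : ℤ →+* MvPolynomial (Fin n) ℤ) p]; exact sub_eq_iff_eq_add'.1 hΦ⟩

/-- Images of the products `xᵢ yᵢ`. -/
def quadT (n : ℕ) : Fin n → MvPolynomial (Fin 2) ℤ := fun i =>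
  if i.val = 0 then X 0 else if i.val = 1 then X 1 else if i.val = 2 then -(X 0 + X 1) else 0

theorem sum_quadT {n : ℕ} (hn : 3 ≤ n) {S : Type*} [CommRing S] (F : MvPolynomial (Fin 2) ℤ → S) (hF : F 0 = 0) :
    ∑ i, F (quadT n i) = F (X 0) + F (X 1) + F (-(X 0 + X 1)) := by
  obtain ⟨m, rfl⟩ : ∃ m, n = m + 3 := ⟨n - 3, by omega⟩
  rw [Fin.sum_univ_succ, Fin.sum_univ_succ, Fin.sum_univ_succ]
  have h2 : 2 % (m + 3) = 2 := Nat.mod_eq_of_lt (by omega)
  simp [quadT, hF, add_assoc, h2]

theorem coeff_phi {n : ℕ} (hn : 3 ≤ n) {Φ : MvPolynomial (Fin n) ℤ}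
    (hΦ : (∑ i, X i) ^ p = ∑ i, X i ^ p + (p : MvPolynomial (Fin n) ℤ) * Φ) :
    (aeval (quadT n) Φ).coeff (Finsupp.single 0 1 + Finsupp.single 1 (p - 1)) = -(-1) ^ p := by
  have hp2 := hp.out.two_le
  have h1 := congrArg (aeval (quadT n)) hΦ
  simp only [map_pow, map_add, map_sum, map_mul, map_natCast, aeval_X] at h1
  rw [sum_quadT hn (fun x => x) rfl, add_neg_cancel, zero_pow hp.out.ne_zero,
    sum_quadT hn (fun x => x ^ p) (zero_pow hp.out.ne_zero)] at h1
  set d : Fin 2 →₀ ℕ := Finsupp.single 0 1 + Finsupp.single 1 (p - 1) with hd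
  have hA : ((X 0 + X 1 : MvPolynomial (Fin 2) ℤ) ^ p).coeff d = (p : ℤ) := by
    rw [add_pow, coeff_sum, Finset.sum_eq_single 1]
    · rw [Nat.choose_one_right, X_pow_eq_monomial, X_pow_eq_monomial, monomial_mul, mul_comm,
        ← map_natCast (C : ℤ →+* MvPolynomial (Fin 2) ℤ), coeff_C_mul, coeff_monomial, if_pos rfl]
      simp
    · intro j _ hj
      rw [X_pow_eq_monomial, X_pow_eq_monomial, monomial_mul, mul_comm,
        ← map_natCast (C : ℤ →+* MvPolynomial (Fin 2) ℤ), coeff_C_mul, coeff_monomial, if_neg, mul_zero]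
      intro he
      apply hj
      simpa [hd] using congrArg (fun f : Fin 2 →₀ ℕ => f 0) he
    · intro hh
      exact absurd (Finset.mem_range.2 (by omega)) hh
  have hB : ∀ i : Fin 2, ((X i : MvPolynomial (Fin 2) ℤ) ^ p).coeff d = 0 := fun i => by
    rw [X_pow_eq_monomial, coeff_monomial, if_neg]
    intro he
    have e0 := congrArg (fun f : Fin 2 →₀ ℕ => f 0) he
    have e1 := congrArg (fun f : Fin 2 →₀ ℕ => f 1) he
    fin_cases i <;> simp [hd] at e0 e1 <;> omega
  have h2 := congrArg (fun x : MvPolynomial (Fin 2) ℤ => x.coeff d) h1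
  simp only [coeff_add, MvPolynomial.coeff_zero, hB] at h2
  rw [neg_pow, ← map_natCast (C : ℤ →+* MvPolynomial (Fin 2) ℤ), coeff_C_mul,
    show ((-1 : MvPolynomial (Fin 2) ℤ)) ^ p = C ((-1) ^ p) by simp, coeff_C_mul, hA] at h2
  have hp0 : (p : ℤ) ≠ 0 := by exact_mod_cast hp.out.ne_zero
  refine mul_left_cancel₀ hp0 ?_
  linear_combination -h2

variable {k : Type u} [Field k] [CharP k p]

theorem phi_notMem {n : ℕ} (hn : 3 ≤ n) {Φ : MvPolynomial (Fin n) ℤ}
    (hΦ : (∑ i, X i) ^ p = ∑ i, X i ^ p + (p : MvPolynomial (Fin n) ℤ) * Φ) :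
    MvPolynomial.map (Int.castRingHom k) (aeval (quadT n) Φ) ∉
      Ideal.span ((fun s : Fin 2 →₀ ℕ => monomial s (1 : k)) '' Set.range fun i => Finsupp.single i p) := by
  rw [mem_ideal_span_monomial_image]
  intro h
  have hp2 := hp.out.two_le
  obtain ⟨si, ⟨i, rfl⟩, hle⟩ := h (Finsupp.single 0 1 + Finsupp.single 1 (p - 1)) (by
    rw [mem_support_iff, coeff_map, coeff_phi p hn hΦ]
    simp)
  have := hle i
  fin_cases i <;> simp at this <;> omega

/-- In the algebra of the Frobenius neighbourhood of the split quadric, `Φ(x₁y₁, …, xₙyₙ)` is nonzero. -/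
theorem aeval_phi_notMem {n : ℕ} (hn : 3 ≤ n) {Φ : MvPolynomial (Fin n) ℤ}
    (hΦ : (∑ i, X i) ^ p = ∑ i, X i ^ p + (p : MvPolynomial (Fin n) ℤ) * Φ) :
    aeval (fun i : Fin n => (X (i, 0) * X (i, 1) : MvPolynomial (Fin n × Fin 2) k)) Φ ∉
      Ideal.span (insert (∑ i : Fin n, X (i, (0 : Fin 2)) * X (i, (1 : Fin 2)))
          (Set.range fun v : Fin n × Fin 2 => (X v : MvPolynomial (Fin n × Fin 2) k) ^ p)) := by
  classical
  let I : Ideal (MvPolynomial (Fin 2) k) :=
    Ideal.span ((fun s : Fin 2 →₀ ℕ => monomial s (1 : k)) '' Set.range fun i => Finsupp.single i p)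
  let t : Fin n → MvPolynomial (Fin 2) k ⧸ I := fun i =>
    Ideal.Quotient.mk I (MvPolynomial.map (Int.castRingHom k) (quadT n i))
  have hX : ∀ i, (Ideal.Quotient.mk I (X i)) ^ p = 0 := fun i => by
    rw [← map_pow, Ideal.Quotient.eq_zero_iff_mem, X_pow_eq_monomial]
    exact Ideal.subset_span ⟨_, ⟨i, rfl⟩, rfl⟩
  have htp : ∀ i, t i ^ p = 0 := fun i => by
    simp only [t, quadT]
    split_ifs
    · simpa using hX 0
    · simpa using hX 1
    · rw [← map_pow, ← map_pow, neg_pow, map_mul, map_pow (MvPolynomial.map _) (X 0 + X 1)]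
      rw [map_add, map_X, map_X, add_pow_char]
      simp [hX]
    · simp [zero_pow hp.out.ne_zero]
  have hts : ∑ i, t i = 0 := by
    have := sum_quadT hn (fun x => Ideal.Quotient.mk I (MvPolynomial.map (Int.castRingHom k) x)) (by simp)
    rw [this]
    simp
  let val : (Fin n × Fin 2 →₀ ℕ) → MvPolynomial (Fin 2) k ⧸ I := fun m =>
    if ∀ i, m (i, 0) = m (i, 1) then ∏ i, t i ^ m (i, 0) else 0
  let L : MvPolynomial (Fin n × Fin 2) k →ₗ[k] MvPolynomial (Fin 2) k ⧸ I :=
    (MvPolynomial.basisMonomials (Fin n × Fin 2) k).constr k val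
  have hL : ∀ m (c : k), L (monomial m c) = c • val m := fun m c => by
    have : monomial m c = c • MvPolynomial.basisMonomials (Fin n × Fin 2) k m := by
      rw [coe_basisMonomials, smul_monomial, smul_eq_mul, mul_one]
    rw [this, map_smul, Module.Basis.constr_basis]
  have hz : ∀ i f, L (X (i, 0) * X (i, 1) * f) = t i * L f := by
    intro i f
    induction f using MvPolynomial.induction_on' with
    | add a b ha hb => rw [mul_add, map_add, ha, hb, map_add, mul_add]
    | monomial m c =>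
      rw [X, X, monomial_mul, monomial_mul, hL, hL, one_mul, one_mul, mul_smul_comm]
      congr 1
      set m' := Finsupp.single (i, (0 : Fin 2)) 1 + Finsupp.single (i, (1 : Fin 2)) 1 + m with hm'
      have h0 : ∀ j, m' (j, 0) = (if j = i then 1 else 0) + m (j, 0) := fun j => by
        simp [hm', Finsupp.single_apply, eq_comm]
      have h1 : ∀ j, m' (j, 1) = (if j = i then 1 else 0) + m (j, 1) := fun j => by
        simp [hm', Finsupp.single_apply, eq_comm]
      by_cases hb : ∀ j, m (j, 0) = m (j, 1)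
      · simp only [val]
        rw [if_pos hb, if_pos (fun j => by rw [h0, h1, hb])]
        simp only [h0, pow_add, Finset.prod_mul_distrib]
        simp [Finset.prod_ite_eq', pow_ite]
      · simp only [val]
        rw [if_neg hb, if_neg (fun hh => hb fun j => by simpa [h0, h1] using hh j), mul_zero]
  have hpow : ∀ v f, L (X v ^ p * f) = 0 := by
    intro v f
    induction f using MvPolynomial.induction_on' with
    | add a b ha hb => rw [mul_add, map_add, ha, hb, add_zero]
    | monomial m c =>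
      rw [X_pow_eq_monomial, monomial_mul, hL]
      simp only [val]
      split_ifs with hb
      · obtain ⟨j, b⟩ := v
        have hge : p ≤ (Finsupp.single (j, b) p + m) (j, 0) := by
          have hb' := hb j
          fin_cases b
          · simp
          · rw [hb']; simp
        obtain ⟨e, he⟩ := Nat.exists_eq_add_of_le hge
        rw [Finset.prod_eq_zero (Finset.mem_univ j) (by rw [he, pow_add, htp, zero_mul]), smul_zero]
      · rw [smul_zero]
  have hker : ∀ f ∈ Ideal.span (insert (∑ i : Fin n, X (i, (0 : Fin 2)) * X (i, (1 : Fin 2)))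
      (Set.range fun v : Fin n × Fin 2 => (X v : MvPolynomial (Fin n × Fin 2) k) ^ p)), L f = 0 := by
    intro f hf
    suffices ∀ g, L (f * g) = 0 by simpa using this 1
    induction hf using Submodule.span_induction with
    | mem x hx =>
      intro g
      rcases hx with rfl | ⟨v, rfl⟩
      · rw [Finset.sum_mul, map_sum]
        simp only [hz]
        rw [← Finset.sum_mul, hts, zero_mul]
      · exact hpow v g
    | zero => simp
    | add x y _ _ hx hy => intro g; rw [add_mul, map_add, hx, hy, add_zero]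
    | smul a x _ hx => intro g; rw [smul_eq_mul, mul_assoc, mul_left_comm]; exact hx _
  intro hmem
  have hev : ∀ (F : MvPolynomial (Fin n) ℤ) g,
      L (aeval (fun i : Fin n => (X (i, 0) * X (i, 1) : MvPolynomial (Fin n × Fin 2) k)) F * g) =
        aeval t F * L g := by
    intro F
    induction F using MvPolynomial.induction_on with
    | C z =>
      intro g
      simp only [eq_intCast, map_intCast, ← zsmul_eq_mul, map_zsmul]
    | add a b ha hb => intro g; rw [map_add, map_add, add_mul, map_add, ha, hb, add_mul]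
    | mul_X a i ha =>
      intro g
      simp only [map_mul, aeval_X]
      rw [mul_assoc, ha, hz, mul_assoc]
  have h1 : L 1 = 1 := by
    change L (monomial 0 1) = 1
    rw [hL, one_smul]
    simp [val]
  have h := hker _ hmem
  rw [← mul_one (aeval (fun i : Fin n => (X (i, 0) * X (i, 1) : MvPolynomial (Fin n × Fin 2) k)) Φ), hev, h1,
    mul_one] at h
  refine phi_notMem p hn hΦ ((Ideal.Quotient.eq_zero_iff_mem (I := I)).1 ?_)
  rw [← h]
  let φ : MvPolynomial (Fin 2) ℤ →+* MvPolynomial (Fin 2) k ⧸ I :=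
    (Ideal.Quotient.mk I).comp (MvPolynomial.map (Int.castRingHom k))
  change φ (aeval (quadT n) Φ) = aeval t Φ
  rw [aeval_def, eval₂_comp_left φ, aeval_def]
  congr 1
  exact RingHom.ext_int _ _

/-- The split quadric's Frobenius neighbourhood in an even number `≥ 6` of variables is not liftable. -/
theorem not_isW2Liftable_quadric [PerfectRing k p] {n : ℕ} (hn : 3 ≤ n) :
    ¬ FrobAlg.IsW2Liftable p k
      (MvPolynomial (Fin n × Fin 2) k ⧸ Ideal.span
        (insert (∑ i : Fin n, X (i, (0 : Fin 2)) * X (i, (1 : Fin 2)))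
          (Set.range fun v : Fin n × Fin 2 => (X v : MvPolynomial (Fin n × Fin 2) k) ^ p))) := by
  rintro ⟨B, _, ι, π, h⟩
  obtain ⟨Φ, hΦ⟩ := exists_phi p n
  let I := Ideal.span (insert (∑ i : Fin n, X (i, (0 : Fin 2)) * X (i, (1 : Fin 2)))
          (Set.range fun v : Fin n × Fin 2 => (X v : MvPolynomial (Fin n × Fin 2) k) ^ p))
  refine aeval_phi_notMem (k := k) p hn hΦ ((Ideal.Quotient.eq_zero_iff_mem (I := I)).1 ?_)
  choose Y hY using fun v => h.surj (Ideal.Quotient.mk I (X v))
  choose a ha using fun v => lift_exists_mul h (b := Y v ^ p) (by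
    rw [map_pow, hY, ← map_pow, Ideal.Quotient.eq_zero_iff_mem]
    exact Ideal.subset_span (Or.inr ⟨v, rfl⟩))
  let z : Fin n → B := fun i => Y (i, 0) * Y (i, 1)
  obtain ⟨c, hc⟩ := lift_exists_mul h (b := ∑ i, z i) (by
    refine (show π (∑ i, z i) = Ideal.Quotient.mk I (∑ i, X (i, 0) * X (i, 1)) by simp [z, hY]).trans ?_
    exact Ideal.Quotient.eq_zero_iff_mem.2 (Ideal.subset_span (Set.mem_insert _ _)))
  have hzp : ∀ i, z i ^ p = 0 := fun i => by
    rw [mul_pow, ha, ha, mul_mul_mul_comm, lift_pp h, zero_mul]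
  have h1 := congrArg (aeval z) hΦ
  simp only [map_pow, map_add, map_sum, map_mul, map_natCast, aeval_X, hzp, Finset.sum_const_zero, zero_add] at h1
  obtain ⟨e, he⟩ : ∃ e, p = e + 2 := ⟨p - 2, by have := hp.out.two_le; omega⟩
  rw [hc, mul_pow, show ((p : B)) ^ p = 0 from (pow_eq_zero_of_le hp.out.two_le (by rw [pow_two, lift_pp h])), zero_mul] at h1
  have h2 := lift_torsion h h1.symm
  rw [← h2, aeval_def, aeval_def, eval₂_comp_left π, eval₂_comp_left (Ideal.Quotient.mk I)]
  congr 1
  · exact RingHom.ext_int _ _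
  · funext i
    simp [z, hY]

end Groth.L08.W2
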